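import Cfsg.Agent.JThreeUniq.Cert0.CoverDefs

/-! Generated by tools/dcoset/emit.py: forests and chains. -/

set_option Elab.async false
set_option maxRecDepth 100000

namespace Cfsg.Agent.JThreeUniq.Cert0

open Cfsg.Agent.DCoset Cfsg.Agent.CosetCert

theorem point_72 : allFrom (Cover.checkPoint cover steps rules tab 72) 0 10 = true := by
  decide +kernel

theorem gen_72 : allFrom (fun l => allFrom (QModel.checkGen tab (chainOf 72) l) 0 ((chainOf 72).nGen l)) 0 4 = true := by
  decide +kernel

theorem pt_72 : allFrom (fun l => allFrom (QModel.checkPt tab (chainOf 72) l) 0 ((chainOf 72).size l)) 0 4 = true := by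
  decide +kernel

theorem point_73 : allFrom (Cover.checkPoint cover steps rules tab 73) 0 10 = true := by
  decide +kernel

theorem gen_73 : allFrom (fun l => allFrom (QModel.checkGen tab (chainOf 73) l) 0 ((chainOf 73).nGen l)) 0 4 = true := by
  decide +kernel

theorem pt_73 : allFrom (fun l => allFrom (QModel.checkPt tab (chainOf 73) l) 0 ((chainOf 73).size l)) 0 4 = true := by
  decide +kernel

theorem point_74 : allFrom (Cover.checkPoint cover steps rules tab 74) 0 10 = true := by
  decide +kernel

theorem gen_74 : allFrom (fun l => allFrom (QModel.checkGen tab (chainOf 74) l) 0 ((chainOf 74).nGen l)) 0 4 = true := by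
  decide +kernel

theorem pt_74 : allFrom (fun l => allFrom (QModel.checkPt tab (chainOf 74) l) 0 ((chainOf 74).size l)) 0 4 = true := by
  decide +kernel


end Cfsg.Agent.JThreeUniq.Cert0
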