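import Cfsg.Agent.JThreeUniq.Cert0.CoverDefs

/-! Generated by tools/dcoset/emit.py: forests and chains. -/

set_option Elab.async false
set_option maxRecDepth 100000

namespace Cfsg.Agent.JThreeUniq.Cert0

open Cfsg.Agent.DCoset Cfsg.Agent.CosetCert

theorem point_75 : allFrom (Cover.checkPoint cover steps rules tab 75) 0 10 = true := by
  decide +kernel

theorem gen_75 : allFrom (fun l => allFrom (QModel.checkGen tab (chainOf 75) l) 0 ((chainOf 75).nGen l)) 0 4 = true := by
  decide +kernel

theorem pt_75 : allFrom (fun l => allFrom (QModel.checkPt tab (chainOf 75) l) 0 ((chainOf 75).size l)) 0 4 = true := by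
  decide +kernel

theorem point_76 : allFrom (Cover.checkPoint cover steps rules tab 76) 0 10 = true := by
  decide +kernel

theorem gen_76 : allFrom (fun l => allFrom (QModel.checkGen tab (chainOf 76) l) 0 ((chainOf 76).nGen l)) 0 4 = true := by
  decide +kernel

theorem pt_76 : allFrom (fun l => allFrom (QModel.checkPt tab (chainOf 76) l) 0 ((chainOf 76).size l)) 0 4 = true := by
  decide +kernel

theorem point_77 : allFrom (Cover.checkPoint cover steps rules tab 77) 0 10 = true := by
  decide +kernel

theorem gen_77 : allFrom (fun l => allFrom (QModel.checkGen tab (chainOf 77) l) 0 ((chainOf 77).nGen l)) 0 4 = true := by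
  decide +kernel

theorem pt_77 : allFrom (fun l => allFrom (QModel.checkPt tab (chainOf 77) l) 0 ((chainOf 77).size l)) 0 4 = true := by
  decide +kernel


end Cfsg.Agent.JThreeUniq.Cert0
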