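import Cfsg.Agent.JThreeUniq.Cert0.CoverDefs

/-! Generated by tools/dcoset/emit.py: forests and chains. -/

set_option Elab.async false
set_option maxRecDepth 100000

namespace Cfsg.Agent.JThreeUniq.Cert0

open Cfsg.Agent.DCoset Cfsg.Agent.CosetCert

theorem point_78 : allFrom (Cover.checkPoint cover steps rules tab 78) 0 10 = true := by
  decide +kernel

theorem gen_78 : allFrom (fun l => allFrom (QModel.checkGen tab (chainOf 78) l) 0 ((chainOf 78).nGen l)) 0 4 = true := by
  decide +kernel

theorem pt_78 : allFrom (fun l => allFrom (QModel.checkPt tab (chainOf 78) l) 0 ((chainOf 78).size l)) 0 4 = true := by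
  decide +kernel

theorem point_79 : allFrom (Cover.checkPoint cover steps rules tab 79) 0 10 = true := by
  decide +kernel

theorem gen_79 : allFrom (fun l => allFrom (QModel.checkGen tab (chainOf 79) l) 0 ((chainOf 79).nGen l)) 0 4 = true := by
  decide +kernel

theorem pt_79 : allFrom (fun l => allFrom (QModel.checkPt tab (chainOf 79) l) 0 ((chainOf 79).size l)) 0 4 = true := by
  decide +kernel

theorem point_80 : allFrom (Cover.checkPoint cover steps rules tab 80) 0 10 = true := by
  decide +kernel

theorem gen_80 : allFrom (fun l => allFrom (QModel.checkGen tab (chainOf 80) l) 0 ((chainOf 80).nGen l)) 0 4 = true := by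
  decide +kernel

theorem pt_80 : allFrom (fun l => allFrom (QModel.checkPt tab (chainOf 80) l) 0 ((chainOf 80).size l)) 0 4 = true := by
  decide +kernel


end Cfsg.Agent.JThreeUniq.Cert0
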