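import Cfsg.Agent.JThreeUniq.Cert0.CoverDefs

/-! Generated by tools/dcoset/emit.py: forests and chains. -/

set_option Elab.async false
set_option maxRecDepth 100000

namespace Cfsg.Agent.JThreeUniq.Cert0

open Cfsg.Agent.DCoset Cfsg.Agent.CosetCert

theorem point_15 : allFrom (Cover.checkPoint cover steps rules tab 15) 0 10 = true := by
  decide +kernel

theorem gen_15 : allFrom (fun l => allFrom (QModel.checkGen tab (chainOf 15) l) 0 ((chainOf 15).nGen l)) 0 4 = true := by
  decide +kernel

theorem pt_15 : allFrom (fun l => allFrom (QModel.checkPt tab (chainOf 15) l) 0 ((chainOf 15).size l)) 0 4 = true := by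
  decide +kernel

theorem point_16 : allFrom (Cover.checkPoint cover steps rules tab 16) 0 10 = true := by
  decide +kernel

theorem gen_16 : allFrom (fun l => allFrom (QModel.checkGen tab (chainOf 16) l) 0 ((chainOf 16).nGen l)) 0 4 = true := by
  decide +kernel

theorem pt_16 : allFrom (fun l => allFrom (QModel.checkPt tab (chainOf 16) l) 0 ((chainOf 16).size l)) 0 4 = true := by
  decide +kernel

theorem point_17 : allFrom (Cover.checkPoint cover steps rules tab 17) 0 10 = true := by
  decide +kernel

theorem gen_17 : allFrom (fun l => allFrom (QModel.checkGen tab (chainOf 17) l) 0 ((chainOf 17).nGen l)) 0 4 = true := by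
  decide +kernel

theorem pt_17 : allFrom (fun l => allFrom (QModel.checkPt tab (chainOf 17) l) 0 ((chainOf 17).size l)) 0 4 = true := by
  decide +kernel


end Cfsg.Agent.JThreeUniq.Cert0
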