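import Cfsg.Agent.JThreeUniq.Cert0.CheckSteps0
import Cfsg.Agent.JThreeUniq.Cert0.CheckSteps1
import Cfsg.Agent.JThreeUniq.Cert0.CheckSteps2
import Cfsg.Agent.JThreeUniq.Cert0.CheckSteps3
import Cfsg.Agent.JThreeUniq.Cert0.CheckSteps4
import Cfsg.Agent.JThreeUniq.Cert0.CheckSteps5
import Cfsg.Agent.JThreeUniq.Cert0.CheckSteps6
import Cfsg.Agent.JThreeUniq.Cert0.CheckSteps7
import Cfsg.Agent.JThreeUniq.Cert0.CheckSteps8
import Cfsg.Agent.JThreeUniq.Cert0.CheckSteps9
import Cfsg.Agent.JThreeUniq.Cert0.CheckSteps10
import Cfsg.Agent.JThreeUniq.Cert0.CheckSteps11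
import Cfsg.Agent.JThreeUniq.Cert0.CheckSteps12
import Cfsg.Agent.JThreeUniq.Cert0.CheckSteps13
import Cfsg.Agent.JThreeUniq.Cert0.CheckCover
import Cfsg.Agent.JThreeUniq.Cert0.CheckNodes0
import Cfsg.Agent.JThreeUniq.Cert0.CheckNodes1
import Cfsg.Agent.JThreeUniq.Cert0.CheckNodes2
import Cfsg.Agent.JThreeUniq.Cert0.CheckNodes3
import Cfsg.Agent.JThreeUniq.Cert0.CheckNodes4
import Cfsg.Agent.JThreeUniq.Cert0.CheckNodes5
import Cfsg.Agent.JThreeUniq.Cert0.CheckNodes6
import Cfsg.Agent.JThreeUniq.Cert0.CheckNodes7
import Cfsg.Agent.JThreeUniq.Cert0.CheckNodes8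
import Cfsg.Agent.JThreeUniq.Cert0.CheckNodes9
import Cfsg.Agent.JThreeUniq.Cert0.CheckNodes10
import Cfsg.Agent.JThreeUniq.Cert0.CheckNodes11
import Cfsg.Agent.JThreeUniq.Cert0.CheckNodes12
import Cfsg.Agent.JThreeUniq.Cert0.CheckNodes13
import Cfsg.Agent.JThreeUniq.Cert0.CheckNodes14
import Cfsg.Agent.JThreeUniq.Cert0.CheckNodes15
import Cfsg.Agent.JThreeUniq.Cert0.CheckNodes16
import Cfsg.Agent.JThreeUniq.Cert0.CheckNodes17
import Cfsg.Agent.JThreeUniq.Cert0.CheckNodes18
import Cfsg.Agent.JThreeUniq.Cert0.CheckNodes19
import Cfsg.Agent.JThreeUniq.Cert0.CheckNodes20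
import Cfsg.Agent.JThreeUniq.Cert0.CheckNodes21
import Cfsg.Agent.JThreeUniq.Cert0.CheckNodes22
import Cfsg.Agent.JThreeUniq.Cert0.CheckNodes23
import Cfsg.Agent.JThreeUniq.Cert0.CheckNodes24
import Cfsg.Agent.JThreeUniq.Cert0.CheckNodes25
import Cfsg.Agent.JThreeUniq.Cert0.CheckNodes26

/-! Generated by tools/dcoset/emit.py: assembled certificate. -/

set_option Elab.async false
set_option maxRecDepth 100000

namespace Cfsg.Agent.JThreeUniq.Cert0

open Cfsg.Agent.DCoset Cfsg.Agent.CosetCert

theorem steps_ok : ∀ s, s < steps.len → Steps.check steps rules tab s = true := by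
  intro s hs
  have h : allFrom (Steps.check steps rules tab) 0 20857 = true :=
    (allFrom_append 20750 (allFrom_append 20500 (allFrom_append 20250 (allFrom_append 20000 (allFrom_append 19750 (allFrom_append 19500 (allFrom_append 19250 (allFrom_append 19000 (allFrom_append 18750 (allFrom_append 18500 (allFrom_append 18250 (allFrom_append 18000 (allFrom_append 17750 (allFrom_append 17500 (allFrom_append 17250 (allFrom_append 17000 (allFrom_append 16750 (allFrom_append 16500 (allFrom_append 16250 (allFrom_append 16000 (allFrom_append 15750 (allFrom_append 15500 (allFrom_append 15250 (allFrom_append 15000 (allFrom_append 14750 (allFrom_append 14500 (allFrom_append 14250 (allFrom_append 14000 (allFrom_append 13750 (allFrom_append 13500 (allFrom_append 13250 (allFrom_append 13000 (allFrom_append 12750 (allFrom_append 12500 (allFrom_append 12250 (allFrom_append 12000 (allFrom_append 11750 (allFrom_append 11500 (allFrom_append 11250 (allFrom_append 11000 (allFrom_append 10750 (allFrom_append 10500 (allFrom_append 10250 (allFrom_append 10000 (allFrom_append 9750 (allFrom_append 9500 (allFrom_append 9250 (allFrom_append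 9000 (allFrom_append 8750 (allFrom_append 8500 (allFrom_append 8250 (allFrom_append 8000 (allFrom_append 7750 (allFrom_append 7500 (allFrom_append 7250 (allFrom_append 7000 (allFrom_append 6750 (allFrom_append 6500 (allFrom_append 6250 (allFrom_append 6000 (allFrom_append 5750 (allFrom_append 5500 (allFrom_append 5250 (allFrom_append 5000 (allFrom_append 4750 (allFrom_append 4500 (allFrom_append 4250 (allFrom_append 4000 (allFrom_append 3750 (allFrom_append 3500 (allFrom_append 3250 (allFrom_append 3000 (allFrom_append 2750 (allFrom_append 2500 (allFrom_append 2250 (allFrom_append 2000 (allFrom_append 1750 (allFrom_append 1500 (allFrom_append 1250 (allFrom_append 1000 (allFrom_append 750 (allFrom_append 500 (allFrom_append 250 steps_0 steps_1) steps_2) steps_3) steps_4) steps_5) steps_6) steps_7) steps_8) steps_9) steps_10) steps_11) steps_12) steps_13) steps_14) steps_15) steps_16) steps_17) steps_18) steps_19) steps_20) steps_21) steps_22) steps_23) steps_24) steps_25) steps_26) steps_27) steps_28) steps_29) steps_30) steps_31) steps_32) steps_33) steps_34) steps_35) steps_36) steps_37) steps_38) steps_39)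 steps_40) steps_41) steps_42) steps_43) steps_44) steps_45) steps_46) steps_47) steps_48) steps_49) steps_50) steps_51) steps_52) steps_53) steps_54) steps_55) steps_56) steps_57) steps_58) steps_59) steps_60) steps_61) steps_62) steps_63) steps_64) steps_65) steps_66) steps_67) steps_68) steps_69) steps_70) steps_71) steps_72) steps_73) steps_74) steps_75) steps_76) steps_77) steps_78) steps_79) steps_80) steps_81) steps_82) steps_83)
  exact allFrom_all h hs

theorem node_src : ∀ j, 1 ≤ j → j < steps.nNode → steps.nodeSrc j < j := fun j h1 h2 =>
  Nat.ble_eq.mp ((allFrom_iff _ _ _).1 src_all j h1 (by change j < 1228 at h2; omega))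

/-- The sum of the suborbit lengths. -/
theorem idx_sum : ((List.range cover.nLive).map cover.idx).sum = 78489 := by
  decide +kernel

theorem valid : cover.Valid steps rules tab 1920 where
  nP_pos := by decide
  live_zero := ⟨by decide, by decide +kernel⟩
  u_ok l hl := allFrom_all u_all hl
  tr_ok c hc := allFrom_all tr_all hc
  stab_ok m a hm ha := allFrom_all (allFrom_all stab_all hm : allFrom _ 0 (nStab m) = true) ha
  point_ok m c hm hc := by
    change m < 81 at hm
    interval_cases m
    · exact allFrom_all point_0 hc
    · exact allFrom_all point_1 hc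
    · exact allFrom_all point_2 hc
    · exact allFrom_all point_3 hc
    · exact allFrom_all point_4 hc
    · exact allFrom_all point_5 hc
    · exact allFrom_all point_6 hc
    · exact allFrom_all point_7 hc
    · exact allFrom_all point_8 hc
    · exact allFrom_all point_9 hc
    · exact allFrom_all point_10 hc
    · exact allFrom_all point_11 hc
    · exact allFrom_all point_12 hc
    · exact allFrom_all point_13 hc
    · exact allFrom_all point_14 hc
    · exact allFrom_all point_15 hc
    · exact allFrom_all point_16 hc
    · exact allFrom_all point_17 hc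
    · exact allFrom_all point_18 hc
    · exact allFrom_all point_19 hc
    · exact allFrom_all point_20 hc
    · exact allFrom_all point_21 hc
    · exact allFrom_all point_22 hc
    · exact allFrom_all point_23 hc
    · exact allFrom_all point_24 hc
    · exact allFrom_all point_25 hc
    · exact allFrom_all point_26 hc
    · exact allFrom_all point_27 hc
    · exact allFrom_all point_28 hc
    · exact allFrom_all point_29 hc
    · exact allFrom_all point_30 hc
    · exact allFrom_all point_31 hc
    · exact allFrom_all point_32 hc
    · exact allFrom_all point_33 hc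
    · exact allFrom_all point_34 hc
    · exact allFrom_all point_35 hc
    · exact allFrom_all point_36 hc
    · exact allFrom_all point_37 hc
    · exact allFrom_all point_38 hc
    · exact allFrom_all point_39 hc
    · exact allFrom_all point_40 hc
    · exact allFrom_all point_41 hc
    · exact allFrom_all point_42 hc
    · exact allFrom_all point_43 hc
    · exact allFrom_all point_44 hc
    · exact allFrom_all point_45 hc
    · exact allFrom_all point_46 hc
    · exact allFrom_all point_47 hc
    · exact allFrom_all point_48 hc
    · exact allFrom_all point_49 hc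
    · exact allFrom_all point_50 hc
    · exact allFrom_all point_51 hc
    · exact allFrom_all point_52 hc
    · exact allFrom_all point_53 hc
    · exact allFrom_all point_54 hc
    · exact allFrom_all point_55 hc
    · exact allFrom_all point_56 hc
    · exact allFrom_all point_57 hc
    · exact allFrom_all point_58 hc
    · exact allFrom_all point_59 hc
    · exact allFrom_all point_60 hc
    · exact allFrom_all point_61 hc
    · exact allFrom_all point_62 hc
    · exact allFrom_all point_63 hc
    · exact allFrom_all point_64 hc
    · exact allFrom_all point_65 hc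
    · exact allFrom_all point_66 hc
    · exact allFrom_all point_67 hc
    · exact allFrom_all point_68 hc
    · exact allFrom_all point_69 hc
    · exact allFrom_all point_70 hc
    · exact allFrom_all point_71 hc
    · exact allFrom_all point_72 hc
    · exact allFrom_all point_73 hc
    · exact allFrom_all point_74 hc
    · exact allFrom_all point_75 hc
    · exact allFrom_all point_76 hc
    · exact allFrom_all point_77 hc
    · exact allFrom_all point_78 hc
    · exact allFrom_all point_79 hc
    · exact allFrom_all point_80 hc
  chain_gen m l a hm hl ha := by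
    change m < 81 at hm
    interval_cases m
    · exact allFrom_all (allFrom_all gen_0 hl : _) ha
    · exact allFrom_all (allFrom_all gen_1 hl : _) ha
    · exact allFrom_all (allFrom_all gen_2 hl : _) ha
    · exact allFrom_all (allFrom_all gen_3 hl : _) ha
    · exact allFrom_all (allFrom_all gen_4 hl : _) ha
    · exact allFrom_all (allFrom_all gen_5 hl : _) ha
    · exact allFrom_all (allFrom_all gen_6 hl : _) ha
    · exact allFrom_all (allFrom_all gen_7 hl : _) ha
    · exact allFrom_all (allFrom_all gen_8 hl : _) ha
    · exact allFrom_all (allFrom_all gen_9 hl : _) ha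
    · exact allFrom_all (allFrom_all gen_10 hl : _) ha
    · exact allFrom_all (allFrom_all gen_11 hl : _) ha
    · exact allFrom_all (allFrom_all gen_12 hl : _) ha
    · exact allFrom_all (allFrom_all gen_13 hl : _) ha
    · exact allFrom_all (allFrom_all gen_14 hl : _) ha
    · exact allFrom_all (allFrom_all gen_15 hl : _) ha
    · exact allFrom_all (allFrom_all gen_16 hl : _) ha
    · exact allFrom_all (allFrom_all gen_17 hl : _) ha
    · exact allFrom_all (allFrom_all gen_18 hl : _) ha
    · exact allFrom_all (allFrom_all gen_19 hl : _) ha
    · exact allFrom_all (allFrom_all gen_20 hl : _) ha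
    · exact allFrom_all (allFrom_all gen_21 hl : _) ha
    · exact allFrom_all (allFrom_all gen_22 hl : _) ha
    · exact allFrom_all (allFrom_all gen_23 hl : _) ha
    · exact allFrom_all (allFrom_all gen_24 hl : _) ha
    · exact allFrom_all (allFrom_all gen_25 hl : _) ha
    · exact allFrom_all (allFrom_all gen_26 hl : _) ha
    · exact allFrom_all (allFrom_all gen_27 hl : _) ha
    · exact allFrom_all (allFrom_all gen_28 hl : _) ha
    · exact allFrom_all (allFrom_all gen_29 hl : _) ha
    · exact allFrom_all (allFrom_all gen_30 hl : _) ha
    · exact allFrom_all (allFrom_all gen_31 hl : _) ha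
    · exact allFrom_all (allFrom_all gen_32 hl : _) ha
    · exact allFrom_all (allFrom_all gen_33 hl : _) ha
    · exact allFrom_all (allFrom_all gen_34 hl : _) ha
    · exact allFrom_all (allFrom_all gen_35 hl : _) ha
    · exact allFrom_all (allFrom_all gen_36 hl : _) ha
    · exact allFrom_all (allFrom_all gen_37 hl : _) ha
    · exact allFrom_all (allFrom_all gen_38 hl : _) ha
    · exact allFrom_all (allFrom_all gen_39 hl : _) ha
    · exact allFrom_all (allFrom_all gen_40 hl : _) ha
    · exact allFrom_all (allFrom_all gen_41 hl : _) ha
    · exact allFrom_all (allFrom_all gen_42 hl : _) ha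
    · exact allFrom_all (allFrom_all gen_43 hl : _) ha
    · exact allFrom_all (allFrom_all gen_44 hl : _) ha
    · exact allFrom_all (allFrom_all gen_45 hl : _) ha
    · exact allFrom_all (allFrom_all gen_46 hl : _) ha
    · exact allFrom_all (allFrom_all gen_47 hl : _) ha
    · exact allFrom_all (allFrom_all gen_48 hl : _) ha
    · exact allFrom_all (allFrom_all gen_49 hl : _) ha
    · exact allFrom_all (allFrom_all gen_50 hl : _) ha
    · exact allFrom_all (allFrom_all gen_51 hl : _) ha
    · exact allFrom_all (allFrom_all gen_52 hl : _) ha
    · exact allFrom_all (allFrom_all gen_53 hl : _) ha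
    · exact allFrom_all (allFrom_all gen_54 hl : _) ha
    · exact allFrom_all (allFrom_all gen_55 hl : _) ha
    · exact allFrom_all (allFrom_all gen_56 hl : _) ha
    · exact allFrom_all (allFrom_all gen_57 hl : _) ha
    · exact allFrom_all (allFrom_all gen_58 hl : _) ha
    · exact allFrom_all (allFrom_all gen_59 hl : _) ha
    · exact allFrom_all (allFrom_all gen_60 hl : _) ha
    · exact allFrom_all (allFrom_all gen_61 hl : _) ha
    · exact allFrom_all (allFrom_all gen_62 hl : _) ha
    · exact allFrom_all (allFrom_all gen_63 hl : _) ha
    · exact allFrom_all (allFrom_all gen_64 hl : _) ha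
    · exact allFrom_all (allFrom_all gen_65 hl : _) ha
    · exact allFrom_all (allFrom_all gen_66 hl : _) ha
    · exact allFrom_all (allFrom_all gen_67 hl : _) ha
    · exact allFrom_all (allFrom_all gen_68 hl : _) ha
    · exact allFrom_all (allFrom_all gen_69 hl : _) ha
    · exact allFrom_all (allFrom_all gen_70 hl : _) ha
    · exact allFrom_all (allFrom_all gen_71 hl : _) ha
    · exact allFrom_all (allFrom_all gen_72 hl : _) ha
    · exact allFrom_all (allFrom_all gen_73 hl : _) ha
    · exact allFrom_all (allFrom_all gen_74 hl : _) ha
    · exact allFrom_all (allFrom_all gen_75 hl : _) ha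
    · exact allFrom_all (allFrom_all gen_76 hl : _) ha
    · exact allFrom_all (allFrom_all gen_77 hl : _) ha
    · exact allFrom_all (allFrom_all gen_78 hl : _) ha
    · exact allFrom_all (allFrom_all gen_79 hl : _) ha
    · exact allFrom_all (allFrom_all gen_80 hl : _) ha
  chain_pt m l j hm hl hj := by
    change m < 81 at hm
    interval_cases m
    · exact allFrom_all (allFrom_all pt_0 hl : _) hj
    · exact allFrom_all (allFrom_all pt_1 hl : _) hj
    · exact allFrom_all (allFrom_all pt_2 hl : _) hj
    · exact allFrom_all (allFrom_all pt_3 hl : _) hj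
    · exact allFrom_all (allFrom_all pt_4 hl : _) hj
    · exact allFrom_all (allFrom_all pt_5 hl : _) hj
    · exact allFrom_all (allFrom_all pt_6 hl : _) hj
    · exact allFrom_all (allFrom_all pt_7 hl : _) hj
    · exact allFrom_all (allFrom_all pt_8 hl : _) hj
    · exact allFrom_all (allFrom_all pt_9 hl : _) hj
    · exact allFrom_all (allFrom_all pt_10 hl : _) hj
    · exact allFrom_all (allFrom_all pt_11 hl : _) hj
    · exact allFrom_all (allFrom_all pt_12 hl : _) hj
    · exact allFrom_all (allFrom_all pt_13 hl : _) hj
    · exact allFrom_all (allFrom_all pt_14 hl : _) hj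
    · exact allFrom_all (allFrom_all pt_15 hl : _) hj
    · exact allFrom_all (allFrom_all pt_16 hl : _) hj
    · exact allFrom_all (allFrom_all pt_17 hl : _) hj
    · exact allFrom_all (allFrom_all pt_18 hl : _) hj
    · exact allFrom_all (allFrom_all pt_19 hl : _) hj
    · exact allFrom_all (allFrom_all pt_20 hl : _) hj
    · exact allFrom_all (allFrom_all pt_21 hl : _) hj
    · exact allFrom_all (allFrom_all pt_22 hl : _) hj
    · exact allFrom_all (allFrom_all pt_23 hl : _) hj
    · exact allFrom_all (allFrom_all pt_24 hl : _) hj
    · exact allFrom_all (allFrom_all pt_25 hl : _) hj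
    · exact allFrom_all (allFrom_all pt_26 hl : _) hj
    · exact allFrom_all (allFrom_all pt_27 hl : _) hj
    · exact allFrom_all (allFrom_all pt_28 hl : _) hj
    · exact allFrom_all (allFrom_all pt_29 hl : _) hj
    · exact allFrom_all (allFrom_all pt_30 hl : _) hj
    · exact allFrom_all (allFrom_all pt_31 hl : _) hj
    · exact allFrom_all (allFrom_all pt_32 hl : _) hj
    · exact allFrom_all (allFrom_all pt_33 hl : _) hj
    · exact allFrom_all (allFrom_all pt_34 hl : _) hj
    · exact allFrom_all (allFrom_all pt_35 hl : _) hj
    · exact allFrom_all (allFrom_all pt_36 hl : _) hj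
    · exact allFrom_all (allFrom_all pt_37 hl : _) hj
    · exact allFrom_all (allFrom_all pt_38 hl : _) hj
    · exact allFrom_all (allFrom_all pt_39 hl : _) hj
    · exact allFrom_all (allFrom_all pt_40 hl : _) hj
    · exact allFrom_all (allFrom_all pt_41 hl : _) hj
    · exact allFrom_all (allFrom_all pt_42 hl : _) hj
    · exact allFrom_all (allFrom_all pt_43 hl : _) hj
    · exact allFrom_all (allFrom_all pt_44 hl : _) hj
    · exact allFrom_all (allFrom_all pt_45 hl : _) hj
    · exact allFrom_all (allFrom_all pt_46 hl : _) hj
    · exact allFrom_all (allFrom_all pt_47 hl : _) hj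
    · exact allFrom_all (allFrom_all pt_48 hl : _) hj
    · exact allFrom_all (allFrom_all pt_49 hl : _) hj
    · exact allFrom_all (allFrom_all pt_50 hl : _) hj
    · exact allFrom_all (allFrom_all pt_51 hl : _) hj
    · exact allFrom_all (allFrom_all pt_52 hl : _) hj
    · exact allFrom_all (allFrom_all pt_53 hl : _) hj
    · exact allFrom_all (allFrom_all pt_54 hl : _) hj
    · exact allFrom_all (allFrom_all pt_55 hl : _) hj
    · exact allFrom_all (allFrom_all pt_56 hl : _) hj
    · exact allFrom_all (allFrom_all pt_57 hl : _) hj
    · exact allFrom_all (allFrom_all pt_58 hl : _) hj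
    · exact allFrom_all (allFrom_all pt_59 hl : _) hj
    · exact allFrom_all (allFrom_all pt_60 hl : _) hj
    · exact allFrom_all (allFrom_all pt_61 hl : _) hj
    · exact allFrom_all (allFrom_all pt_62 hl : _) hj
    · exact allFrom_all (allFrom_all pt_63 hl : _) hj
    · exact allFrom_all (allFrom_all pt_64 hl : _) hj
    · exact allFrom_all (allFrom_all pt_65 hl : _) hj
    · exact allFrom_all (allFrom_all pt_66 hl : _) hj
    · exact allFrom_all (allFrom_all pt_67 hl : _) hj
    · exact allFrom_all (allFrom_all pt_68 hl : _) hj
    · exact allFrom_all (allFrom_all pt_69 hl : _) hj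
    · exact allFrom_all (allFrom_all pt_70 hl : _) hj
    · exact allFrom_all (allFrom_all pt_71 hl : _) hj
    · exact allFrom_all (allFrom_all pt_72 hl : _) hj
    · exact allFrom_all (allFrom_all pt_73 hl : _) hj
    · exact allFrom_all (allFrom_all pt_74 hl : _) hj
    · exact allFrom_all (allFrom_all pt_75 hl : _) hj
    · exact allFrom_all (allFrom_all pt_76 hl : _) hj
    · exact allFrom_all (allFrom_all pt_77 hl : _) hj
    · exact allFrom_all (allFrom_all pt_78 hl : _) hj
    · exact allFrom_all (allFrom_all pt_79 hl : _) hj
    · exact allFrom_all (allFrom_all pt_80 hl : _) hj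
  chain_mem m l a hm hl ha := by
    refine ⟨chOff (m * 4 + l) + a, ?_, rfl⟩
    have h := Nat.ble_eq.mp (allFrom_all (allFrom_all bounds_all hm : allFrom _ 0 4 = true) hl)
    change a < chCnt (m * 4 + l) at ha
    change chOff (m * 4 + l) + chCnt (m * 4 + l) ≤ nStab m at h
    change chOff (m * 4 + l) + a < nStab m
    omega
  idx_eq := by
    intro m hm
    change m < 81 at hm
    interval_cases m
    · decide +kernel
    · decide +kernel
    · decide +kernel
    · decide +kernel
    · decide +kernel
    · decide +kernel
    · decide +kernel
    · decide +kernel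
    · decide +kernel
    · decide +kernel
    · decide +kernel
    · decide +kernel
    · decide +kernel
    · decide +kernel
    · decide +kernel
    · decide +kernel
    · decide +kernel
    · decide +kernel
    · decide +kernel
    · decide +kernel
    · decide +kernel
    · decide +kernel
    · decide +kernel
    · decide +kernel
    · decide +kernel
    · decide +kernel
    · decide +kernel
    · decide +kernel
    · decide +kernel
    · decide +kernel
    · decide +kernel
    · decide +kernel
    · decide +kernel
    · decide +kernel
    · decide +kernel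
    · decide +kernel
    · decide +kernel
    · decide +kernel
    · decide +kernel
    · decide +kernel
    · decide +kernel
    · decide +kernel
    · decide +kernel
    · decide +kernel
    · decide +kernel
    · decide +kernel
    · decide +kernel
    · decide +kernel
    · decide +kernel
    · decide +kernel
    · decide +kernel
    · decide +kernel
    · decide +kernel
    · decide +kernel
    · decide +kernel
    · decide +kernel
    · decide +kernel
    · decide +kernel
    · decide +kernel
    · decide +kernel
    · decide +kernel
    · decide +kernel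
    · decide +kernel
    · decide +kernel
    · decide +kernel
    · decide +kernel
    · decide +kernel
    · decide +kernel
    · decide +kernel
    · decide +kernel
    · decide +kernel
    · decide +kernel
    · decide +kernel
    · decide +kernel
    · decide +kernel
    · decide +kernel
    · decide +kernel
    · decide +kernel
    · decide +kernel
    · decide +kernel
    · decide +kernel

end Cfsg.Agent.JThreeUniq.Cert0
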