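import Cfsg.Agent.JThreeUniq.Cert0.CoverDefs

/-! Generated by tools/dcoset/emit.py: forests and chains. -/

set_option Elab.async false
set_option maxRecDepth 100000

namespace Cfsg.Agent.JThreeUniq.Cert0

open Cfsg.Agent.DCoset Cfsg.Agent.CosetCert

theorem point_24 : allFrom (Cover.checkPoint cover steps rules tab 24) 0 10 = true := by
  decide +kernel

theorem gen_24 : allFrom (fun l => allFrom (QModel.checkGen tab (chainOf 24) l) 0 ((chainOf 24).nGen l)) 0 4 = true := by
  decide +kernel

theorem pt_24 : allFrom (fun l => allFrom (QModel.checkPt tab (chainOf 24) l) 0 ((chainOf 24).size l)) 0 4 = true := by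
  decide +kernel

theorem point_25 : allFrom (Cover.checkPoint cover steps rules tab 25) 0 10 = true := by
  decide +kernel

theorem gen_25 : allFrom (fun l => allFrom (QModel.checkGen tab (chainOf 25) l) 0 ((chainOf 25).nGen l)) 0 4 = true := by
  decide +kernel

theorem pt_25 : allFrom (fun l => allFrom (QModel.checkPt tab (chainOf 25) l) 0 ((chainOf 25).size l)) 0 4 = true := by
  decide +kernel

theorem point_26 : allFrom (Cover.checkPoint cover steps rules tab 26) 0 10 = true := by
  decide +kernel

theorem gen_26 : allFrom (fun l => allFrom (QModel.checkGen tab (chainOf 26) l) 0 ((chainOf 26).nGen l)) 0 4 = true := by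
  decide +kernel

theorem pt_26 : allFrom (fun l => allFrom (QModel.checkPt tab (chainOf 26) l) 0 ((chainOf 26).size l)) 0 4 = true := by
  decide +kernel


end Cfsg.Agent.JThreeUniq.Cert0
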