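import Cfsg.Agent.JThreeUniq.Cert0.RuleData

/-! Generated by tools/dcoset/emit.py: step words. -/

set_option Elab.async false

namespace Cfsg.Agent.JThreeUniq.Cert0

open Cfsg.Agent.DCoset Cfsg.Agent.CosetCert

def argWS_1 : Store := (.node 10 (.node 5 (.node 2 (.node 1 (.leaf 0x1) (.leaf 0x10001)) (.node 3 (.leaf 0x20001) (.node 4 (.leaf 0x30001) (.leaf 0x40001)))) (.node 7 (.node 6 (.leaf 0x50001) (.leaf 0x50001)) (.node 8 (.leaf 0x0) (.node 9 (.leaf 0x70001) (.leaf 0x20001))))) (.node 15 (.node 12 (.node 11 (.leaf 0x0) (.leaf 0x70001)) (.node 13 (.leaf 0x0) (.node 14 (.leaf 0x10001) (.leaf 0x0)))) (.node 17 (.node 16 (.leaf 0x1040002) (.leaf 0x0)) (.node 18 (.leaf 0x10001) (.node 19 (.leaf 0x0) (.leaf 0x20001))))))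

def argWS_2 : Store := (.node 30 (.node 25 (.node 22 (.node 21 (.leaf 0x0) (.leaf 0x2010002)) (.node 23 (.leaf 0x0) (.node 24 (.leaf 0x20001) (.leaf 0x0)))) (.node 27 (.node 26 (.leaf 0x2030002) (.leaf 0x0)) (.node 28 (.leaf 0x40001) (.node 29 (.leaf 0x0) (.leaf 0x4020002))))) (.node 35 (.node 32 (.node 31 (.leaf 0x0) (.leaf 0x20001)) (.node 33 (.leaf 0x0) (.node 34 (.leaf 0x0) (.leaf 0x20001)))) (.node 37 (.node 36 (.leaf 0x0) (.leaf 0x2050002)) (.node 38 (.leaf 0x0) (.node 39 (.leaf 0x70001) (.leaf 0x0))))))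

def argWS_3 : Store := (.node 20 argWS_1 argWS_2)

def argWS_4 : Store := (.node 50 (.node 45 (.node 42 (.node 41 (.leaf 0x7050002) (.leaf 0x0)) (.node 43 (.leaf 0x7050002) (.node 44 (.leaf 0x0) (.leaf 0x7050003)))) (.node 47 (.node 46 (.leaf 0x0) (.leaf 0x4020002)) (.node 48 (.leaf 0x0) (.node 49 (.leaf 0x2000002) (.leaf 0x0))))) (.node 55 (.node 52 (.node 51 (.leaf 0x2030002) (.leaf 0x0)) (.node 53 (.leaf 0x30207050004) (.node 54 (.leaf 0x0) (.leaf 0x7050003)))) (.node 57 (.node 56 (.leaf 0x0) (.leaf 0x20007050004)) (.node 58 (.leaf 0x0) (.node 59 (.leaf 0x1) (.leaf 0x0))))))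

def argWS_5 : Store := (.node 70 (.node 65 (.node 62 (.node 61 (.leaf 0x20001) (.leaf 0x0)) (.node 63 (.leaf 0x50001) (.node 64 (.leaf 0x0) (.leaf 0x4050002)))) (.node 67 (.node 66 (.leaf 0x0) (.leaf 0x70001)) (.node 68 (.leaf 0x0) (.node 69 (.leaf 0x1070002) (.leaf 0x0))))) (.node 75 (.node 72 (.node 71 (.leaf 0x70001) (.leaf 0x0)) (.node 73 (.leaf 0x701070003) (.node 74 (.leaf 0x0) (.leaf 0x2050002)))) (.node 78 (.node 76 (.leaf 0x0) (.node 77 (.leaf 0x204060003) (.leaf 0x0))) (.node 79 (.leaf 0x7050003) (.node 80 (.leaf 0x0) (.leaf 0x10007050004))))))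

def argWS_6 : Store := (.node 60 argWS_4 argWS_5)

def argWS_7 : Store := (.node 40 argWS_3 argWS_6)

def argWS_8 : Store := (.node 91 (.node 86 (.node 83 (.node 82 (.leaf 0x0) (.leaf 0x204060003)) (.node 84 (.leaf 0x0) (.node 85 (.leaf 0x70102080004) (.leaf 0x0)))) (.node 88 (.node 87 (.leaf 0x701070003) (.leaf 0x0)) (.node 89 (.leaf 0x5070705080006) (.node 90 (.leaf 0x0) (.leaf 0x2010002))))) (.node 96 (.node 93 (.node 92 (.leaf 0x0) (.leaf 0x10205070705080007)) (.node 94 (.leaf 0x0) (.node 95 (.leaf 0x5070705080006) (.leaf 0x0)))) (.node 98 (.node 97 (.leaf 0x20005070705080007) (.leaf 0x0)) (.node 99 (.leaf 0x701070003) (.node 100 (.leaf 0x0) (.leaf 0x70107050004))))))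

def argWS_9 : Store := (.node 111 (.node 106 (.node 103 (.node 102 (.leaf 0x0) (.leaf 0x70001)) (.node 104 (.leaf 0x0) (.node 105 (.leaf 0x40607060607090007) (.leaf 0x0)))) (.node 108 (.node 107 (.leaf 0x70107050004) (.leaf 0x0)) (.node 109 (.leaf 0x701060707090006) (.node 110 (.leaf 0x0) (.leaf 0x30001))))) (.node 116 (.node 113 (.node 112 (.leaf 0x0) (.leaf 0x20307050004)) (.node 114 (.leaf 0x0) (.node 115 (.leaf 0x2050002) (.leaf 0x0)))) (.node 118 (.node 117 (.leaf 0x20006070705080007) (.leaf 0x0)) (.node 119 (.leaf 0x70102080004) (.node 120 (.leaf 0x0) (.leaf 0x407050003))))))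

def argWS_10 : Store := (.node 101 argWS_8 argWS_9)

def argWS_11 : Store := (.node 131 (.node 126 (.node 123 (.node 122 (.leaf 0x0) (.leaf 0x407050003)) (.node 124 (.leaf 0x0) (.node 125 (.leaf 0x80001) (.leaf 0x0)))) (.node 128 (.node 127 (.leaf 0x20005070705080007) (.leaf 0x0)) (.node 129 (.leaf 0x40301060004) (.node 130 (.leaf 0x0) (.leaf 0x0))))) (.node 136 (.node 133 (.node 132 (.leaf 0x1020002) (.leaf 0x1020002)) (.node 134 (.leaf 0x0) (.node 135 (.leaf 0x0) (.leaf 0x607060607090006)))) (.node 138 (.node 137 (.leaf 0x607060607090006) (.leaf 0x0)) (.node 139 (.leaf 0x0) (.node 140 (.leaf 0x50001) (.leaf 0x50001))))))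

def argWS_12 : Store := (.node 151 (.node 146 (.node 143 (.node 142 (.leaf 0x0) (.leaf 0x10001)) (.node 144 (.leaf 0x0) (.node 145 (.leaf 0x1070002) (.leaf 0x0)))) (.node 148 (.node 147 (.leaf 0x105070705080006) (.leaf 0x0)) (.node 149 (.leaf 0x10507060607090007) (.node 150 (.leaf 0x0) (.leaf 0x70001))))) (.node 156 (.node 153 (.node 152 (.leaf 0x0) (.leaf 0x5070705080005)) (.node 154 (.leaf 0x0) (.node 155 (.leaf 0x507060607090006) (.leaf 0x0)))) (.node 159 (.node 157 (.leaf 0x0) (.node 158 (.leaf 0x0) (.leaf 0x10001))) (.node 160 (.leaf 0x0) (.node 161 (.leaf 0x0) (.leaf 0x10001))))))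

def argWS_13 : Store := (.node 141 argWS_11 argWS_12)

def argWS_14 : Store := (.node 121 argWS_10 argWS_13)

def argWS_15 : Store := (.node 81 argWS_7 argWS_14)

def argWS_16 : Store := (.node 172 (.node 167 (.node 164 (.node 163 (.leaf 0x1000002) (.leaf 0x0)) (.node 165 (.leaf 0xa0001) (.node 166 (.leaf 0x0) (.leaf 0x0)))) (.node 169 (.node 168 (.leaf 0x10507060607090007) (.leaf 0x0)) (.node 170 (.leaf 0x0) (.node 171 (.leaf 0x10507060607090007) (.leaf 0x1040507060607090008))))) (.node 177 (.node 174 (.node 173 (.leaf 0x0) (.leaf 0xb0a0002)) (.node 175 (.leaf 0x0) (.node 176 (.leaf 0x0) (.leaf 0x1070002)))) (.node 179 (.node 178 (.leaf 0x0) (.leaf 0x0)) (.node 180 (.leaf 0x2080002) (.node 181 (.leaf 0x107050003) (.leaf 0x0))))))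

def argWS_17 : Store := (.node 192 (.node 187 (.node 184 (.node 183 (.leaf 0xe110f0f0c0005) (.leaf 0x0)) (.node 185 (.leaf 0x0) (.node 186 (.leaf 0x70001) (.leaf 0x0)))) (.node 189 (.node 188 (.leaf 0x0) (.leaf 0x2080002)) (.node 190 (.leaf 0x3070002) (.node 191 (.leaf 0x0) (.leaf 0xf100e0003))))) (.node 197 (.node 194 (.node 193 (.leaf 0x0) (.leaf 0x0)) (.node 195 (.leaf 0x50709080004) (.node 196 (.leaf 0x0) (.leaf 0xd0d0e0003)))) (.node 199 (.node 198 (.leaf 0x0) (.leaf 0x0)) (.node 200 (.leaf 0x0) (.node 201 (.leaf 0x0) (.leaf 0x40001))))))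

def argWS_18 : Store := (.node 182 argWS_16 argWS_17)

def argWS_19 : Store := (.node 212 (.node 207 (.node 204 (.node 203 (.leaf 0x0) (.leaf 0x0)) (.node 205 (.leaf 0x4000002) (.node 206 (.leaf 0x0) (.leaf 0x0)))) (.node 209 (.node 208 (.leaf 0x302050003) (.leaf 0x4000002)) (.node 210 (.leaf 0x0) (.node 211 (.leaf 0x302050003) (.leaf 0x0))))) (.node 217 (.node 214 (.node 213 (.leaf 0x0) (.leaf 0x0)) (.node 215 (.leaf 0x203060607090006) (.node 216 (.leaf 0x0) (.leaf 0x103060003)))) (.node 219 (.node 218 (.leaf 0x103060003) (.leaf 0x0)) (.node 220 (.leaf 0x302050003) (.node 221 (.leaf 0x0) (.leaf 0x0))))))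

def argWS_20 : Store := (.node 232 (.node 227 (.node 224 (.node 223 (.leaf 0x0) (.leaf 0x7010208050705080008)) (.node 225 (.leaf 0x0) (.node 226 (.leaf 0x40301060004) (.leaf 0x40301060004)))) (.node 229 (.node 228 (.leaf 0x0) (.leaf 0x40001)) (.node 230 (.leaf 0x0) (.node 231 (.leaf 0x110d0f0c0004) (.leaf 0x0))))) (.node 237 (.node 234 (.node 233 (.leaf 0x10001) (.leaf 0x302010607090006)) (.node 235 (.leaf 0x0) (.node 236 (.leaf 0xc100d0d0e0005) (.leaf 0x0)))) (.node 240 (.node 238 (.leaf 0xec) (.node 239 (.leaf 0xb0a0f0c0004) (.leaf 0x40001))) (.node 241 (.leaf 0x0) (.node 242 (.leaf 0x0) (.leaf 0x0))))))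

def argWS_21 : Store := (.node 222 argWS_19 argWS_20)

def argWS_22 : Store := (.node 202 argWS_18 argWS_21)

def argWS_23 : Store := (.node 253 (.node 248 (.node 245 (.node 244 (.leaf 0x40001) (.leaf 0x0)) (.node 246 (.leaf 0xa0001) (.node 247 (.leaf 0x80001) (.leaf 0x0)))) (.node 250 (.node 249 (.leaf 0x0) (.leaf 0x302050705080006)) (.node 251 (.leaf 0x0) (.node 252 (.leaf 0xd0001) (.leaf 0x80001))))) (.node 258 (.node 255 (.node 254 (.leaf 0x0) (.leaf 0x0)) (.node 256 (.leaf 0x7010208050005) (.node 257 (.leaf 0x0) (.leaf 0xc100c0003)))) (.node 260 (.node 259 (.leaf 0x80001) (.leaf 0x0)) (.node 261 (.leaf 0x0) (.node 262 (.leaf 0x0) (.leaf 0x0))))))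

def argWS_24 : Store := (.node 273 (.node 268 (.node 265 (.node 264 (.leaf 0x40001) (.leaf 0x0)) (.node 266 (.leaf 0x0) (.node 267 (.leaf 0x50001) (.leaf 0x0)))) (.node 270 (.node 269 (.leaf 0x0) (.leaf 0x204010607090006)) (.node 271 (.leaf 0x40001) (.node 272 (.leaf 0x0) (.leaf 0x4050002))))) (.node 278 (.node 275 (.node 274 (.leaf 0x0) (.leaf 0x4050002)) (.node 276 (.leaf 0x0) (.node 277 (.leaf 0x50001) (.leaf 0x0)))) (.node 281 (.node 279 (.leaf 0xf100b0e0004) (.node 280 (.leaf 0x0) (.leaf 0x40001))) (.node 282 (.leaf 0x1050709080005) (.node 283 (.leaf 0x0) (.leaf 0x110d0d0e0004))))))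

def argWS_25 : Store := (.node 263 argWS_23 argWS_24)

def argWS_26 : Store := (.node 294 (.node 289 (.node 286 (.node 285 (.leaf 0x0) (.leaf 0x11c)) (.node 287 (.leaf 0xd0d0e0003) (.node 288 (.leaf 0x0) (.leaf 0x0)))) (.node 291 (.node 290 (.leaf 0x40001) (.leaf 0x0)) (.node 292 (.leaf 0xd110002) (.node 293 (.leaf 0x80001) (.leaf 0x0))))) (.node 299 (.node 296 (.node 295 (.leaf 0x0) (.leaf 0x0)) (.node 297 (.leaf 0x0) (.node 298 (.leaf 0x301060705080006) (.leaf 0x301060705080006)))) (.node 301 (.node 300 (.leaf 0x0) (.leaf 0xd100f0c0004)) (.node 302 (.leaf 0x0) (.node 303 (.leaf 0x40001) (.leaf 0x1040709080607090008))))))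

def argWS_27 : Store := (.node 314 (.node 309 (.node 306 (.node 305 (.leaf 0x0) (.leaf 0xf100b0d0d0e0006)) (.node 307 (.leaf 0x0) (.node 308 (.leaf 0x132) (.leaf 0xb0d0002)))) (.node 311 (.node 310 (.leaf 0x301060705080006) (.leaf 0x0)) (.node 312 (.leaf 0x0) (.node 313 (.leaf 0x0) (.leaf 0x0))))) (.node 319 (.node 316 (.node 315 (.leaf 0x0) (.leaf 0x110b0e0003)) (.node 317 (.leaf 0x0) (.node 318 (.leaf 0x2040109080607090008) (.leaf 0x2030108060705080008)))) (.node 322 (.node 320 (.leaf 0x0) (.node 321 (.leaf 0xf100b0e0004) (.leaf 0x0))) (.node 323 (.leaf 0x141) (.node 324 (.leaf 0xc100e0003) (.leaf 0x0))))))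

def argWS_28 : Store := (.node 304 argWS_26 argWS_27)

def argWS_29 : Store := (.node 284 argWS_25 argWS_28)

def argWS_30 : Store := (.node 243 argWS_22 argWS_29)

def argWS_31 : Store := (.node 162 argWS_15 argWS_30)

def argWS_32 : Store := (.node 335 (.node 330 (.node 327 (.node 326 (.leaf 0xe110f0c0004) (.leaf 0x0)) (.node 328 (.leaf 0x0) (.node 329 (.leaf 0xd110002) (.leaf 0x8060002)))) (.node 332 (.node 331 (.leaf 0x0) (.leaf 0x0)) (.node 333 (.leaf 0x0) (.node 334 (.leaf 0x0) (.leaf 0x301060705080006))))) (.node 340 (.node 337 (.node 336 (.leaf 0x0) (.leaf 0x0)) (.node 338 (.leaf 0xf100d0f0c0005) (.node 339 (.leaf 0x108060003) (.leaf 0x0)))) (.node 342 (.node 341 (.leaf 0x0) (.leaf 0x0)) (.node 343 (.leaf 0x0) (.node 344 (.leaf 0x1020607090005) (.leaf 0xa0001))))))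

def argWS_33 : Store := (.node 355 (.node 350 (.node 347 (.node 346 (.leaf 0xd110c0003) (.leaf 0x159)) (.node 348 (.leaf 0x100c0f0c0004) (.node 349 (.leaf 0x0) (.leaf 0x0)))) (.node 352 (.node 351 (.leaf 0x0) (.leaf 0x0)) (.node 353 (.leaf 0x0) (.node 354 (.leaf 0x0) (.leaf 0x0))))) (.node 360 (.node 357 (.node 356 (.leaf 0xf100f0003) (.leaf 0xe110d0d0e0005)) (.node 358 (.leaf 0x164) (.node 359 (.leaf 0xd0f0c0003) (.leaf 0x0)))) (.node 362 (.node 361 (.leaf 0x0) (.leaf 0x0)) (.node 363 (.leaf 0x110c0f0c0004) (.node 364 (.leaf 0xb0a0002) (.leaf 0x16b))))))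

def argWS_34 : Store := (.node 345 argWS_32 argWS_33)

def argWS_35 : Store := (.node 375 (.node 370 (.node 367 (.node 366 (.leaf 0xd110c0003) (.leaf 0x0)) (.node 368 (.leaf 0x0) (.node 369 (.leaf 0x0) (.leaf 0x0)))) (.node 372 (.node 371 (.leaf 0x0) (.leaf 0x0)) (.node 373 (.leaf 0xd110d0e0004) (.node 374 (.leaf 0x110b0002) (.leaf 0x175))))) (.node 380 (.node 377 (.node 376 (.leaf 0xf0f0c0003) (.leaf 0x0)) (.node 378 (.leaf 0x0) (.node 379 (.leaf 0x0) (.leaf 0xd110e0003)))) (.node 382 (.node 381 (.leaf 0xd100f0d0e0005) (.leaf 0x17c)) (.node 383 (.leaf 0xc100c0003) (.node 384 (.leaf 0x0) (.leaf 0x0))))))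

def argWS_36 : Store := (.node 395 (.node 390 (.node 387 (.node 386 (.leaf 0x0) (.leaf 0x0)) (.node 388 (.leaf 0x0) (.node 389 (.leaf 0x0) (.leaf 0x0)))) (.node 392 (.node 391 (.leaf 0x110e0002) (.leaf 0x100f0d0e0004)) (.node 393 (.leaf 0x187) (.node 394 (.leaf 0xc100002) (.leaf 0x0))))) (.node 400 (.node 397 (.node 396 (.leaf 0xc100b0f0d0e0006) (.leaf 0xe110d0f0c0005)) (.node 398 (.leaf 0xd110f0d0e0005) (.node 399 (.leaf 0xd110f0003) (.leaf 0x0)))) (.node 403 (.node 401 (.leaf 0x302050705080006) (.node 402 (.leaf 0x20407060607090007) (.leaf 0x0))) (.node 404 (.leaf 0xc100b0f0d0e0006) (.node 405 (.leaf 0x0) (.leaf 0x0))))))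

def argWS_37 : Store := (.node 385 argWS_35 argWS_36)

def argWS_38 : Store := (.node 365 argWS_34 argWS_37)

def argWS_39 : Store := (.node 416 (.node 411 (.node 408 (.node 407 (.leaf 0x702010809080006) (.leaf 0x304090003)) (.node 409 (.leaf 0x0) (.node 410 (.leaf 0xd110c0003) (.leaf 0x0)))) (.node 413 (.node 412 (.leaf 0x0) (.leaf 0x301060705080006)) (.node 414 (.leaf 0x4030809080607090008) (.node 415 (.leaf 0x0) (.leaf 0xf100e0003))))) (.node 421 (.node 418 (.node 417 (.leaf 0x0) (.leaf 0x1a000019a00019400018e00018d00018c)) (.node 419 (.leaf 0x110b0002) (.node 420 (.leaf 0x0) (.leaf 0x0)))) (.node 423 (.node 422 (.leaf 0x30107060004) (.leaf 0x0)) (.node 424 (.leaf 0x0) (.node 425 (.leaf 0x100f0d0e0004) (.leaf 0x110d0002))))))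

def argWS_40 : Store := (.node 436 (.node 431 (.node 428 (.node 427 (.leaf 0x1a9) (.leaf 0xf100002)) (.node 429 (.leaf 0x0) (.node 430 (.leaf 0x0) (.leaf 0x0)))) (.node 433 (.node 432 (.leaf 0xe100e0003) (.leaf 0xf100b0f0004)) (.node 434 (.leaf 0x110f0d0e0004) (.node 435 (.leaf 0xf100d0e0004) (.leaf 0x0))))) (.node 441 (.node 438 (.node 437 (.leaf 0x207060607090006) (.leaf 0x104080607090006)) (.node 439 (.leaf 0x0) (.node 440 (.leaf 0xb0a0e0003) (.leaf 0x0)))) (.node 444 (.node 442 (.leaf 0x0) (.node 443 (.leaf 0x40301060004) (.leaf 0x30208050004))) (.node 445 (.leaf 0x0) (.node 446 (.leaf 0xf100e0003) (.leaf 0x0))))))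

def argWS_41 : Store := (.node 426 argWS_39 argWS_40)

def argWS_42 : Store := (.node 457 (.node 452 (.node 449 (.node 448 (.leaf 0x0) (.leaf 0x4050002)) (.node 450 (.leaf 0x40208060004) (.node 451 (.leaf 0x0) (.leaf 0xf100e0003)))) (.node 454 (.node 453 (.leaf 0x0) (.leaf 0x1c40001be0001b80001b20001b10001b0)) (.node 455 (.leaf 0x110b0002) (.node 456 (.leaf 0x0) (.leaf 0x0))))) (.node 462 (.node 459 (.node 458 (.leaf 0x301070003) (.leaf 0x1020607090005)) (.node 460 (.leaf 0x0) (.node 461 (.leaf 0x1020607090005) (.leaf 0x0)))) (.node 464 (.node 463 (.leaf 0x0) (.leaf 0x0)) (.node 465 (.leaf 0x0) (.node 466 (.leaf 0x0) (.leaf 0x110d0002))))))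

def argWS_43 : Store := (.node 477 (.node 472 (.node 469 (.node 468 (.leaf 0x110e0002) (.leaf 0x1d3)) (.node 470 (.leaf 0xc100b0c0f0c0006) (.node 471 (.leaf 0x0) (.leaf 0xc100e0003)))) (.node 474 (.node 473 (.leaf 0x0) (.leaf 0x403070905080006)) (.node 475 (.leaf 0x10005080004) (.node 476 (.leaf 0x0) (.leaf 0xd100f0d0e0005))))) (.node 482 (.node 479 (.node 478 (.leaf 0x0) (.leaf 0xf100b0f0004)) (.node 480 (.leaf 0x100f0d0e0004) (.node 481 (.leaf 0xe100c0f0c0005) (.leaf 0x0)))) (.node 485 (.node 483 (.leaf 0x40301060004) (.node 484 (.leaf 0x408050003) (.leaf 0x0))) (.node 486 (.leaf 0x100b0002) (.node 487 (.leaf 0x0) (.leaf 0xd100d0003))))))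

def argWS_44 : Store := (.node 467 argWS_42 argWS_43)

def argWS_45 : Store := (.node 447 argWS_41 argWS_44)

def argWS_46 : Store := (.node 406 argWS_38 argWS_45)

def argWS_47 : Store := (.node 498 (.node 493 (.node 490 (.node 489 (.leaf 0x1e70001e60001e00001df0001de0001dd) (.leaf 0x100d0002)) (.node 491 (.leaf 0x0) (.node 492 (.leaf 0x0) (.leaf 0x30005070004)))) (.node 495 (.node 494 (.leaf 0x301060705080006) (.leaf 0x0)) (.node 496 (.leaf 0x301060705080006) (.node 497 (.leaf 0x0) (.leaf 0x0))))) (.node 503 (.node 500 (.node 499 (.leaf 0x0) (.leaf 0xd100c0003)) (.node 501 (.leaf 0x110c0f0c0004) (.node 502 (.leaf 0x1f4) (.leaf 0xb0a0002)))) (.node 505 (.node 504 (.leaf 0x0) (.leaf 0x0)) (.node 506 (.leaf 0x0) (.node 507 (.leaf 0x110b0f0f0c0005) (.leaf 0x80001))))))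

def argWS_48 : Store := (.node 518 (.node 513 (.node 510 (.node 509 (.leaf 0x0) (.leaf 0x0)) (.node 511 (.leaf 0x0) (.node 512 (.leaf 0x0) (.leaf 0x4050705080005)))) (.node 515 (.node 514 (.leaf 0x0) (.leaf 0x0)) (.node 516 (.leaf 0x301060705080006) (.node 517 (.leaf 0x0) (.leaf 0xb0d0d0e0004))))) (.node 523 (.node 520 (.node 519 (.leaf 0x70001) (.leaf 0x0)) (.node 521 (.leaf 0x0) (.node 522 (.leaf 0x0) (.leaf 0x0)))) (.node 525 (.node 524 (.leaf 0x7020108050705080008) (.leaf 0x100f0002)) (.node 526 (.leaf 0x0) (.node 527 (.leaf 0x2040109080607090008) (.leaf 0x304090003))))))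

def argWS_49 : Store := (.node 508 argWS_47 argWS_48)

def argWS_50 : Store := (.node 538 (.node 533 (.node 530 (.node 529 (.leaf 0x0) (.leaf 0xa0d0002)) (.node 531 (.leaf 0x0) (.node 532 (.leaf 0x212) (.leaf 0xd100d0003)))) (.node 535 (.node 534 (.leaf 0x0) (.leaf 0xe110f0c0004)) (.node 536 (.leaf 0x0) (.node 537 (.leaf 0x0) (.leaf 0x1020607090005))))) (.node 543 (.node 540 (.node 539 (.leaf 0x0) (.leaf 0xb0a0c0f0c0005)) (.node 541 (.leaf 0x70001) (.node 542 (.leaf 0x0) (.leaf 0x0)))) (.node 545 (.node 544 (.leaf 0x0) (.leaf 0x0)) (.node 546 (.leaf 0x1020905080005) (.node 547 (.leaf 0x0) (.leaf 0x0))))))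

def argWS_51 : Store := (.node 558 (.node 553 (.node 550 (.node 549 (.leaf 0x1020607090005) (.leaf 0x0)) (.node 551 (.leaf 0xd110d0f0c0005) (.node 552 (.leaf 0x1070002) (.leaf 0x0)))) (.node 555 (.node 554 (.leaf 0x0) (.leaf 0x0)) (.node 556 (.leaf 0x0) (.node 557 (.leaf 0x400060607090006) (.leaf 0x110c0f0c0004))))) (.node 563 (.node 560 (.node 559 (.leaf 0xb0a0002) (.leaf 0x22e)) (.node 561 (.leaf 0xd110c0003) (.node 562 (.leaf 0x0) (.leaf 0x0)))) (.node 566 (.node 564 (.leaf 0x0) (.node 565 (.leaf 0x0) (.leaf 0x0))) (.node 567 (.leaf 0x0) (.node 568 (.leaf 0x0) (.leaf 0xe100f0d0e0005))))))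

def argWS_52 : Store := (.node 548 argWS_50 argWS_51)

def argWS_53 : Store := (.node 528 argWS_49 argWS_52)

def argWS_54 : Store := (.node 579 (.node 574 (.node 571 (.node 570 (.leaf 0xe100e0003) (.leaf 0x239)) (.node 572 (.leaf 0xf100d0f0c0005) (.node 573 (.leaf 0x0) (.leaf 0xb0a0c0003)))) (.node 576 (.node 575 (.leaf 0x110b0e0003) (.leaf 0xf100b0d0f0c0006)) (.node 577 (.leaf 0x0) (.node 578 (.leaf 0x2040109080607090008) (.leaf 0x2030108060705080008))))) (.node 584 (.node 581 (.node 580 (.leaf 0x0) (.leaf 0xf100b0e0004)) (.node 582 (.leaf 0x0) (.node 583 (.leaf 0x110b0002) (.leaf 0x0)))) (.node 586 (.node 585 (.leaf 0x7010009080607090008) (.leaf 0x40105080004)) (.node 587 (.leaf 0x0) (.node 588 (.leaf 0xf100b0f0c0005) (.leaf 0x0))))))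

def argWS_55 : Store := (.node 599 (.node 594 (.node 591 (.node 590 (.leaf 0xc100e0003) (.leaf 0x24d00024c00024600024500023f00023e)) (.node 592 (.leaf 0xa0c0002) (.node 593 (.leaf 0x0) (.leaf 0x0)))) (.node 596 (.node 595 (.leaf 0x4080905080005) (.leaf 0x0)) (.node 597 (.leaf 0x0) (.node 598 (.leaf 0xe110d0003) (.leaf 0xe100d0003))))) (.node 604 (.node 601 (.node 600 (.leaf 0x256) (.leaf 0xc100b0f0004)) (.node 602 (.leaf 0x0) (.node 603 (.leaf 0x0) (.leaf 0x0)))) (.node 607 (.node 605 (.leaf 0x0) (.node 606 (.leaf 0x0) (.leaf 0x0))) (.node 608 (.leaf 0x0) (.node 609 (.leaf 0x0) (.leaf 0x100b0002))))))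

def argWS_56 : Store := (.node 589 argWS_54 argWS_55)

def argWS_57 : Store := (.node 620 (.node 615 (.node 612 (.node 611 (.leaf 0xb0a0f0f0c0005) (.leaf 0x262)) (.node 613 (.leaf 0xd110d0e0004) (.node 614 (.leaf 0xf100d0f0c0005) (.leaf 0xe100f0f0c0005)))) (.node 617 (.node 616 (.leaf 0x266) (.leaf 0xa0c0002)) (.node 618 (.leaf 0x0) (.node 619 (.leaf 0x0) (.leaf 0x0))))) (.node 625 (.node 622 (.node 621 (.leaf 0x0) (.leaf 0x0)) (.node 623 (.leaf 0x0) (.node 624 (.leaf 0xd0d0e0003) (.leaf 0xe110d0e0004)))) (.node 627 (.node 626 (.leaf 0x270) (.leaf 0x100b0d0d0e0005)) (.node 628 (.leaf 0x0) (.node 629 (.leaf 0x0) (.leaf 0x0))))))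

def argWS_58 : Store := (.node 640 (.node 635 (.node 632 (.node 631 (.leaf 0xd110f0c0004) (.leaf 0xe110d0003)) (.node 633 (.leaf 0x277) (.node 634 (.leaf 0xf100d0e0004) (.leaf 0x0)))) (.node 637 (.node 636 (.leaf 0x0) (.leaf 0x0)) (.node 638 (.leaf 0x0) (.node 639 (.leaf 0x0) (.leaf 0x0))))) (.node 645 (.node 642 (.node 641 (.leaf 0x0) (.leaf 0xe110f0d0e0005)) (.node 643 (.leaf 0xd110f0d0e0005) (.node 644 (.leaf 0x282) (.leaf 0xf100b0d0f0c0006)))) (.node 648 (.node 646 (.leaf 0x0) (.node 647 (.leaf 0x0) (.leaf 0x0))) (.node 649 (.leaf 0x0) (.node 650 (.leaf 0xd100f0f0c0005) (.leaf 0xa0f0c0003))))))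

def argWS_59 : Store := (.node 630 argWS_57 argWS_58)

def argWS_60 : Store := (.node 610 argWS_56 argWS_59)

def argWS_61 : Store := (.node 569 argWS_53 argWS_60)

def argWS_62 : Store := (.node 488 argWS_46 argWS_61)

def argWS_63 : Store := (.node 325 argWS_31 argWS_62)

def argWS_64 : Store := (.node 661 (.node 656 (.node 653 (.node 652 (.leaf 0x28a) (.leaf 0xd100f0c0004)) (.node 654 (.leaf 0x0) (.node 655 (.leaf 0x0) (.leaf 0x0)))) (.node 658 (.node 657 (.leaf 0x0) (.leaf 0x0)) (.node 659 (.leaf 0xb0a0f0c0004) (.node 660 (.leaf 0xc100b0f0004) (.leaf 0x293))))) (.node 666 (.node 663 (.node 662 (.leaf 0x110b0d0f0c0005) (.leaf 0xa0c0002)) (.node 664 (.leaf 0x110c0002) (.node 665 (.leaf 0x297) (.leaf 0x100f0d0e0004)))) (.node 668 (.node 667 (.leaf 0x0) (.leaf 0x0)) (.node 669 (.leaf 0x0) (.node 670 (.leaf 0x0) (.leaf 0x0))))))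

def argWS_65 : Store := (.node 681 (.node 676 (.node 673 (.node 672 (.leaf 0x0) (.leaf 0x0)) (.node 674 (.leaf 0xc0f0c0003) (.node 675 (.leaf 0xd100f0003) (.leaf 0x2a2)))) (.node 678 (.node 677 (.leaf 0x100b0f0f0c0005) (.leaf 0x0)) (.node 679 (.leaf 0x0) (.node 680 (.leaf 0xf100f0c0004) (.leaf 0xc100b0d0004))))) (.node 686 (.node 683 (.node 682 (.leaf 0x2a8) (.leaf 0xf100b0d0004)) (.node 684 (.leaf 0x0) (.node 685 (.leaf 0x0) (.leaf 0x0)))) (.node 688 (.node 687 (.leaf 0x0) (.leaf 0x0)) (.node 689 (.leaf 0x0) (.node 690 (.leaf 0x0) (.leaf 0xf100f0003))))))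

def argWS_66 : Store := (.node 671 argWS_64 argWS_65)

def argWS_67 : Store := (.node 701 (.node 696 (.node 693 (.node 692 (.leaf 0xe110d0d0e0005) (.leaf 0x2b3)) (.node 694 (.leaf 0xd0f0c0003) (.node 695 (.leaf 0x0) (.leaf 0x0)))) (.node 698 (.node 697 (.leaf 0x0) (.leaf 0x0)) (.node 699 (.leaf 0x0) (.node 700 (.leaf 0x0) (.leaf 0x0))))) (.node 706 (.node 703 (.node 702 (.leaf 0xb0a0d0f0c0005) (.leaf 0x100b0f0003)) (.node 704 (.leaf 0x2be) (.node 705 (.leaf 0x110b0e0003) (.leaf 0x0)))) (.node 708 (.node 707 (.leaf 0x0) (.leaf 0x0)) (.node 709 (.leaf 0x0) (.node 710 (.leaf 0xf100b0f0c0005) (.leaf 0xf100b0e0004))))))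

def argWS_68 : Store := (.node 721 (.node 716 (.node 713 (.node 712 (.leaf 0x2c6) (.leaf 0xc100e0003)) (.node 714 (.leaf 0x0) (.node 715 (.leaf 0x0) (.leaf 0x0)))) (.node 718 (.node 717 (.leaf 0x0) (.leaf 0xd0001)) (.node 719 (.leaf 0xc0f0c0003) (.node 720 (.leaf 0xc100b0003) (.leaf 0xf100c0f0c0005))))) (.node 726 (.node 723 (.node 722 (.leaf 0x0) (.leaf 0x204050707090006)) (.node 724 (.leaf 0x10408050705080007) (.node 725 (.leaf 0x0) (.leaf 0xe110f0d0e0005)))) (.node 729 (.node 727 (.leaf 0x0) (.node 728 (.leaf 0x0) (.leaf 0x301060705080006))) (.node 730 (.leaf 0x701050709080006) (.node 731 (.leaf 0x0) (.leaf 0x100f0d0e0004))))))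

def argWS_69 : Store := (.node 711 argWS_67 argWS_68)

def argWS_70 : Store := (.node 691 argWS_66 argWS_69)

def argWS_71 : Store := (.node 742 (.node 737 (.node 734 (.node 733 (.leaf 0x0) (.leaf 0xe100c0f0c0005)) (.node 735 (.leaf 0x2dd0002dc0002d60002d00002cf0002ce) (.node 736 (.leaf 0x0) (.leaf 0x0)))) (.node 739 (.node 738 (.leaf 0x8060705080006) (.leaf 0xe100e0003)) (.node 740 (.leaf 0xf100b0f0004) (.node 741 (.leaf 0x110f0d0e0004) (.leaf 0xf100d0e0004))))) (.node 747 (.node 744 (.node 743 (.leaf 0x0) (.leaf 0x4050002)) (.node 745 (.leaf 0x1040507060607090008) (.node 746 (.leaf 0x0) (.leaf 0x100b0d0d0e0005)))) (.node 749 (.node 748 (.leaf 0x0) (.leaf 0x100001)) (.node 750 (.leaf 0xd110d0003) (.node 751 (.leaf 0x2ed0002ec0002eb0002e50002e40002e3) (.leaf 0x0))))))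

def argWS_72 : Store := (.node 762 (.node 757 (.node 754 (.node 753 (.leaf 0x4050705080005) (.leaf 0x30408050705080007)) (.node 755 (.leaf 0x0) (.node 756 (.leaf 0x0) (.leaf 0x0)))) (.node 759 (.node 758 (.leaf 0x110001) (.leaf 0x0)) (.node 760 (.leaf 0xe100c0003) (.node 761 (.leaf 0x0) (.leaf 0x0))))) (.node 767 (.node 764 (.node 763 (.leaf 0x0) (.leaf 0x0)) (.node 765 (.leaf 0x110b0d0e0004) (.node 766 (.leaf 0xc100b0003) (.leaf 0x2fd)))) (.node 770 (.node 768 (.leaf 0xb0a0e0003) (.node 769 (.leaf 0x0) (.leaf 0x0))) (.node 771 (.leaf 0x0) (.node 772 (.leaf 0x0) (.leaf 0xc100e0003))))))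

def argWS_73 : Store := (.node 752 argWS_71 argWS_72)

def argWS_74 : Store := (.node 783 (.node 778 (.node 775 (.node 774 (.leaf 0xf100b0f0c0005) (.leaf 0x305)) (.node 776 (.leaf 0xc100b0d0004) (.node 777 (.leaf 0x0) (.leaf 0x0)))) (.node 780 (.node 779 (.leaf 0x0) (.leaf 0x0)) (.node 781 (.leaf 0xd100c0f0c0005) (.node 782 (.leaf 0xd0001) (.leaf 0x30d))))) (.node 788 (.node 785 (.node 784 (.leaf 0xe110f0c0004) (.leaf 0x0)) (.node 786 (.leaf 0x0) (.node 787 (.leaf 0x0) (.leaf 0x0)))) (.node 790 (.node 789 (.leaf 0xa0f0002) (.leaf 0x100b0d0e0004)) (.node 791 (.leaf 0x315) (.node 792 (.leaf 0x100d0002) (.leaf 0x0))))))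

def argWS_75 : Store := (.node 803 (.node 798 (.node 795 (.node 794 (.leaf 0x0) (.leaf 0xc100b0d0d0e0006)) (.node 796 (.leaf 0xb0d0e0003) (.node 797 (.leaf 0x31b) (.leaf 0xe100c0f0c0005)))) (.node 800 (.node 799 (.leaf 0x0) (.leaf 0x0)) (.node 801 (.leaf 0x0) (.node 802 (.leaf 0x0) (.leaf 0x0))))) (.node 808 (.node 805 (.node 804 (.leaf 0x0) (.leaf 0x0)) (.node 806 (.leaf 0x0) (.node 807 (.leaf 0x0) (.leaf 0x100b0f0c0004)))) (.node 811 (.node 809 (.leaf 0x110f0c0003) (.node 810 (.leaf 0x328) (.leaf 0xc100d0d0e0005))) (.node 812 (.leaf 0x0) (.node 813 (.leaf 0x0) (.leaf 0x0))))))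

def argWS_76 : Store := (.node 793 argWS_74 argWS_75)

def argWS_77 : Store := (.node 773 argWS_73 argWS_76)

def argWS_78 : Store := (.node 732 argWS_70 argWS_77)

def argWS_79 : Store := (.node 824 (.node 819 (.node 816 (.node 815 (.leaf 0xb0a0c0f0c0005) (.leaf 0x70001)) (.node 817 (.leaf 0x0) (.node 818 (.leaf 0x0) (.leaf 0x0)))) (.node 821 (.node 820 (.leaf 0x0) (.leaf 0x1020905080005)) (.node 822 (.leaf 0x0) (.node 823 (.leaf 0x0) (.leaf 0xd110d0f0c0005))))) (.node 829 (.node 826 (.node 825 (.leaf 0x1070002) (.leaf 0x0)) (.node 827 (.leaf 0x0) (.node 828 (.leaf 0x0) (.leaf 0x0)))) (.node 831 (.node 830 (.leaf 0x400060607090006) (.leaf 0xe100f0f0c0005)) (.node 832 (.leaf 0xf100b0d0e0005) (.node 833 (.leaf 0x0) (.leaf 0x4050002))))))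

def argWS_80 : Store := (.node 844 (.node 839 (.node 836 (.node 835 (.leaf 0x203010809080006) (.leaf 0x0)) (.node 837 (.leaf 0xb0a0c0003) (.node 838 (.leaf 0x0) (.leaf 0x0)))) (.node 841 (.node 840 (.leaf 0x2040109080607090008) (.leaf 0x701000607050705080009)) (.node 842 (.leaf 0x0) (.node 843 (.leaf 0xd110d0003) (.leaf 0x0))))) (.node 849 (.node 846 (.node 845 (.leaf 0xe100d0d0e0005) (.leaf 0x0)) (.node 847 (.leaf 0x7010009080607090008) (.node 848 (.leaf 0x102080607090006) (.leaf 0x0)))) (.node 851 (.node 850 (.leaf 0xa0f0002) (.leaf 0x0)) (.node 852 (.leaf 0xd110002) (.node 853 (.leaf 0x35300035200034c00034b00034500033f) (.leaf 0x100b0c0003))))))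

def argWS_81 : Store := (.node 834 argWS_79 argWS_80)

def argWS_82 : Store := (.node 864 (.node 859 (.node 856 (.node 855 (.leaf 0x0) (.leaf 0x0)) (.node 857 (.leaf 0x301060705080006) (.node 858 (.leaf 0x70100050705080007) (.leaf 0x0)))) (.node 861 (.node 860 (.leaf 0xd110d0d0e0005) (.leaf 0x0)) (.node 862 (.leaf 0x0) (.node 863 (.leaf 0x0) (.leaf 0x0))))) (.node 869 (.node 866 (.node 865 (.leaf 0x7010002) (.leaf 0x0)) (.node 867 (.leaf 0x0) (.node 868 (.leaf 0xb0a0f0f0c0005) (.leaf 0x0)))) (.node 871 (.node 870 (.leaf 0x10001) (.leaf 0x0)) (.node 872 (.leaf 0x0) (.node 873 (.leaf 0x110b0f0f0c0005) (.leaf 0x0))))))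

def argWS_83 : Store := (.node 884 (.node 879 (.node 876 (.node 875 (.leaf 0x1080002) (.leaf 0x0)) (.node 877 (.leaf 0x0) (.node 878 (.leaf 0x110f0002) (.leaf 0x0)))) (.node 881 (.node 880 (.leaf 0x0) (.leaf 0x0)) (.node 882 (.leaf 0x0) (.node 883 (.leaf 0x0) (.leaf 0x0))))) (.node 889 (.node 886 (.node 885 (.leaf 0x104050705080006) (.leaf 0x0)) (.node 887 (.leaf 0x1000507060607090008) (.node 888 (.leaf 0x1000507060607090008) (.leaf 0x0)))) (.node 892 (.node 890 (.leaf 0x0) (.node 891 (.leaf 0x0) (.leaf 0x30201050705080007))) (.node 893 (.leaf 0x0) (.node 894 (.leaf 0x0) (.leaf 0x0))))))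

def argWS_84 : Store := (.node 874 argWS_82 argWS_83)

def argWS_85 : Store := (.node 854 argWS_81 argWS_84)

def argWS_86 : Store := (.node 905 (.node 900 (.node 897 (.node 896 (.leaf 0x0) (.leaf 0xd100d0f0c0005)) (.node 898 (.leaf 0x0) (.node 899 (.leaf 0x0) (.leaf 0x0)))) (.node 902 (.node 901 (.leaf 0x1000507060607090008) (.leaf 0x1080002)) (.node 903 (.leaf 0x0) (.node 904 (.leaf 0x100f0c0003) (.leaf 0x0))))) (.node 910 (.node 907 (.node 906 (.leaf 0x0) (.leaf 0x0)) (.node 908 (.leaf 0x0) (.node 909 (.leaf 0xb0a0d0d0e0005) (.leaf 0x8050002)))) (.node 912 (.node 911 (.leaf 0x0) (.leaf 0x0)) (.node 913 (.leaf 0xc100b0e0004) (.node 914 (.leaf 0x108050003) (.leaf 0x0))))))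

def argWS_87 : Store := (.node 925 (.node 920 (.node 917 (.node 916 (.leaf 0x0) (.leaf 0x10001)) (.node 918 (.leaf 0x0) (.node 919 (.leaf 0x0) (.leaf 0xe100f0d0e0005)))) (.node 922 (.node 921 (.leaf 0x0) (.leaf 0x0)) (.node 923 (.leaf 0x203050705080006) (.node 924 (.leaf 0x0) (.leaf 0x0))))) (.node 930 (.node 927 (.node 926 (.leaf 0x905080003) (.leaf 0x0)) (.node 928 (.leaf 0x0) (.node 929 (.leaf 0x0) (.leaf 0xd100f0c0004)))) (.node 933 (.node 931 (.leaf 0xd100f0c0004) (.node 932 (.leaf 0x3a2) (.leaf 0xf100b0d0e0005))) (.node 934 (.leaf 0x0) (.node 935 (.leaf 0xc100b0d0f0c0006) (.leaf 0xe100002))))))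

def argWS_88 : Store := (.node 915 argWS_86 argWS_87)

def argWS_89 : Store := (.node 946 (.node 941 (.node 938 (.node 937 (.leaf 0x3a7) (.leaf 0xb0f0002)) (.node 939 (.leaf 0x0) (.node 940 (.leaf 0x0) (.leaf 0x0)))) (.node 943 (.node 942 (.leaf 0x0) (.leaf 0x0)) (.node 944 (.leaf 0x0) (.node 945 (.leaf 0x0) (.leaf 0xb0d0f0c0004))))) (.node 951 (.node 948 (.node 947 (.leaf 0x100b0002) (.leaf 0xd100d0003)) (.node 949 (.leaf 0x0) (.node 950 (.leaf 0x60001) (.leaf 0x2010507060705080008)))) (.node 953 (.node 952 (.leaf 0x0) (.leaf 0x100f0002)) (.node 954 (.leaf 0x0) (.node 955 (.leaf 0x100001) (.leaf 0xd100d0003))))))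

def argWS_90 : Store := (.node 966 (.node 961 (.node 958 (.node 957 (.leaf 0x110d0002) (.leaf 0x3bc0003bb0003ba0003b90003b30003b2)) (.node 959 (.leaf 0x100b0d0003) (.node 960 (.leaf 0x0) (.leaf 0x100f0f0c0004)))) (.node 963 (.node 962 (.leaf 0x0) (.leaf 0x0)) (.node 964 (.leaf 0xd100f0003) (.node 965 (.leaf 0x100b0f0f0c0005) (.leaf 0x3c4))))) (.node 971 (.node 968 (.node 967 (.leaf 0xc0f0c0003) (.leaf 0x0)) (.node 969 (.leaf 0xb0f0d0e0004) (.node 970 (.leaf 0xe110f0c0004) (.leaf 0xe110d0d0e0005)))) (.node 974 (.node 972 (.leaf 0xb0a0c0f0c0005) (.node 973 (.leaf 0xd100d0003) (.leaf 0xf100b0e0004))) (.node 975 (.leaf 0x110b0002) (.node 976 (.leaf 0x3ce0003cd0003cc0003cb0003ca0003c9) (.leaf 0x110b0d0003))))))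

def argWS_91 : Store := (.node 956 argWS_89 argWS_90)

def argWS_92 : Store := (.node 936 argWS_88 argWS_91)

def argWS_93 : Store := (.node 895 argWS_85 argWS_92)

def argWS_94 : Store := (.node 814 argWS_78 argWS_93)

def argWS_95 : Store := (.node 987 (.node 982 (.node 979 (.node 978 (.leaf 0x0) (.leaf 0x100b0d0f0c0005)) (.node 980 (.leaf 0x0) (.node 981 (.leaf 0x0) (.leaf 0x0)))) (.node 984 (.node 983 (.leaf 0x7010002) (.leaf 0x0)) (.node 985 (.leaf 0x0) (.node 986 (.leaf 0xf0d0e0003) (.leaf 0x10001))))) (.node 992 (.node 989 (.node 988 (.leaf 0x0) (.leaf 0x0)) (.node 990 (.leaf 0xc100f0003) (.node 991 (.leaf 0x1080002) (.leaf 0x0)))) (.node 994 (.node 993 (.leaf 0x0) (.leaf 0xf0c0002)) (.node 995 (.leaf 0xa0f0c0003) (.node 996 (.leaf 0x0) (.leaf 0x7010009080607090008))))))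

def argWS_96 : Store := (.node 1007 (.node 1002 (.node 999 (.node 998 (.leaf 0x1040607060705080008) (.leaf 0x0)) (.node 1000 (.leaf 0xc100b0003) (.node 1001 (.leaf 0x0) (.leaf 0x3e8)))) (.node 1004 (.node 1003 (.leaf 0xb0a0e0003) (.leaf 0x0)) (.node 1005 (.leaf 0x110b0f0c0004) (.node 1006 (.leaf 0x0) (.leaf 0x0))))) (.node 1012 (.node 1009 (.node 1008 (.leaf 0x0) (.leaf 0x0)) (.node 1010 (.leaf 0xe0001) (.node 1011 (.leaf 0xf100b0c0004) (.leaf 0x3f2)))) (.node 1014 (.node 1013 (.leaf 0x100b0f0003) (.leaf 0x0)) (.node 1015 (.leaf 0x0) (.node 1016 (.leaf 0x0) (.leaf 0x0))))))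

def argWS_97 : Store := (.node 997 argWS_95 argWS_96)

def argWS_98 : Store := (.node 1027 (.node 1022 (.node 1019 (.node 1018 (.leaf 0x110d0f0c0004) (.leaf 0xc100d0d0e0005)) (.node 1020 (.leaf 0x3fa) (.node 1021 (.leaf 0xb0a0f0c0004) (.leaf 0x0)))) (.node 1024 (.node 1023 (.leaf 0x0) (.leaf 0x0)) (.node 1025 (.leaf 0x0) (.node 1026 (.leaf 0x0) (.leaf 0x0))))) (.node 1032 (.node 1029 (.node 1028 (.leaf 0x0) (.leaf 0x0)) (.node 1030 (.leaf 0x0) (.node 1031 (.leaf 0xf0001) (.leaf 0x110d0e0003)))) (.node 1034 (.node 1033 (.leaf 0x407) (.leaf 0x100b0d0003)) (.node 1035 (.leaf 0x0) (.node 1036 (.leaf 0x100b0f0d0e0005) (.leaf 0x110b0f0d0e0005))))))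

def argWS_99 : Store := (.node 1047 (.node 1042 (.node 1039 (.node 1038 (.leaf 0xf100d0e0004) (.leaf 0x110b0d0003)) (.node 1040 (.leaf 0xe100d0d0e0005) (.node 1041 (.leaf 0x110d0002) (.leaf 0xc100b0003)))) (.node 1044 (.node 1043 (.leaf 0x41100041000040f00040e00040d00040c) (.leaf 0xc100d0003)) (.node 1045 (.leaf 0x0) (.node 1046 (.leaf 0xd0e0002) (.leaf 0x0))))) (.node 1052 (.node 1049 (.node 1048 (.leaf 0x4050705080005) (.leaf 0x40108050705080007)) (.node 1050 (.leaf 0x0) (.node 1051 (.leaf 0xd110c0003) (.leaf 0x0)))) (.node 1055 (.node 1053 (.leaf 0xd100d0e0004) (.node 1054 (.leaf 0x41c) (.leaf 0xe110f0d0e0005))) (.node 1056 (.leaf 0x0) (.node 1057 (.leaf 0x0) (.leaf 0x4050705080005))))))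

def argWS_100 : Store := (.node 1037 argWS_98 argWS_99)

def argWS_101 : Store := (.node 1017 argWS_97 argWS_100)

def argWS_102 : Store := (.node 1068 (.node 1063 (.node 1060 (.node 1059 (.leaf 0x1020507060607090008) (.leaf 0x0)) (.node 1061 (.leaf 0x0) (.node 1062 (.leaf 0x0) (.leaf 0xe0001)))) (.node 1065 (.node 1064 (.leaf 0xd110d0e0004) (.leaf 0xc100f0f0c0005)) (.node 1066 (.leaf 0xb0c0002) (.node 1067 (.leaf 0x0) (.leaf 0x8060705080006))))) (.node 1073 (.node 1070 (.node 1069 (.leaf 0x80905080005) (.leaf 0x0)) (.node 1071 (.leaf 0xc0001) (.node 1072 (.leaf 0x0) (.leaf 0xa0d0f0c0004)))) (.node 1075 (.node 1074 (.leaf 0xc100d0003) (.leaf 0xf100e0003)) (.node 1076 (.leaf 0x43200043100043000042f000429000428) (.node 1077 (.leaf 0x100b0002) (.leaf 0x0))))))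

def argWS_103 : Store := (.node 1088 (.node 1083 (.node 1080 (.node 1079 (.leaf 0xb0a0f0f0c0005) (.leaf 0x0)) (.node 1081 (.leaf 0x0) (.node 1082 (.leaf 0x0) (.leaf 0x0)))) (.node 1085 (.node 1084 (.leaf 0xc100b0d0d0e0006) (.leaf 0xb0d0e0003)) (.node 1086 (.leaf 0x43c) (.node 1087 (.leaf 0xe100c0f0c0005) (.leaf 0x0))))) (.node 1093 (.node 1090 (.node 1089 (.leaf 0x0) (.leaf 0x0)) (.node 1091 (.leaf 0x0) (.node 1092 (.leaf 0x0) (.leaf 0x0)))) (.node 1096 (.node 1094 (.leaf 0x0) (.node 1095 (.leaf 0xd110d0f0c0005) (.leaf 0x100d0d0e0004))) (.node 1097 (.leaf 0x447) (.node 1098 (.leaf 0xb0a0d0d0e0005) (.leaf 0x0))))))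

def argWS_104 : Store := (.node 1078 argWS_102 argWS_103)

def argWS_105 : Store := (.node 1109 (.node 1104 (.node 1101 (.node 1100 (.leaf 0xf100b0c0004) (.leaf 0x0)) (.node 1102 (.leaf 0x403070905080006) (.node 1103 (.leaf 0x7010507060705080008) (.leaf 0x0)))) (.node 1106 (.node 1105 (.leaf 0xd100d0e0004) (.leaf 0x0)) (.node 1107 (.leaf 0x100b0d0d0e0005) (.node 1108 (.leaf 0x0) (.leaf 0x60001))))) (.node 1114 (.node 1111 (.node 1110 (.leaf 0x2010607060705080008) (.leaf 0x0)) (.node 1112 (.leaf 0x100f0d0e0004) (.node 1113 (.leaf 0x0) (.leaf 0x0)))) (.node 1116 (.node 1115 (.leaf 0x2040109080607090008) (.leaf 0x20408060705080007)) (.node 1117 (.leaf 0x0) (.node 1118 (.leaf 0xa0001) (.leaf 0x0))))))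

def argWS_106 : Store := (.node 1129 (.node 1124 (.node 1121 (.node 1120 (.leaf 0xe100e0003) (.leaf 0x110b0f0f0c0005)) (.node 1122 (.leaf 0x46000045f00045e000458000452000451) (.node 1123 (.leaf 0xe110f0c0004) (.leaf 0x0)))) (.node 1126 (.node 1125 (.leaf 0x0) (.leaf 0x1020905080005)) (.node 1127 (.leaf 0x10006070705080007) (.node 1128 (.leaf 0x0) (.leaf 0x0))))) (.node 1134 (.node 1131 (.node 1130 (.leaf 0x0) (.leaf 0x110d0f0c0004)) (.node 1132 (.leaf 0x0) (.node 1133 (.leaf 0x0) (.leaf 0x110b0e0003)))) (.node 1137 (.node 1135 (.leaf 0x110f0d0e0004) (.node 1136 (.leaf 0x46e) (.leaf 0xf100b0f0f0c0006))) (.node 1138 (.leaf 0x0) (.node 1139 (.leaf 0x0) (.leaf 0x0))))))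

def argWS_107 : Store := (.node 1119 argWS_105 argWS_106)

def argWS_108 : Store := (.node 1099 argWS_104 argWS_107)

def argWS_109 : Store := (.node 1058 argWS_101 argWS_108)

def argWS_110 : Store := (.node 1150 (.node 1145 (.node 1142 (.node 1141 (.leaf 0x0) (.leaf 0x0)) (.node 1143 (.leaf 0x100b0d0d0e0005) (.node 1144 (.leaf 0xb0d0d0e0004) (.leaf 0x477)))) (.node 1147 (.node 1146 (.leaf 0xe100d0e0004) (.leaf 0x0)) (.node 1148 (.leaf 0x0) (.node 1149 (.leaf 0xa0d0d0e0004) (.leaf 0xd100d0f0c0005))))) (.node 1155 (.node 1152 (.node 1151 (.leaf 0x47d) (.leaf 0x100d0d0e0004)) (.node 1153 (.leaf 0x0) (.node 1154 (.leaf 0x0) (.leaf 0x0)))) (.node 1157 (.node 1156 (.leaf 0x0) (.leaf 0x0)) (.node 1158 (.leaf 0x0) (.node 1159 (.leaf 0x0) (.leaf 0xf100c0f0c0005))))))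

def argWS_111 : Store := (.node 1170 (.node 1165 (.node 1162 (.node 1161 (.leaf 0xd0e0002) (.leaf 0x488)) (.node 1163 (.leaf 0xe110c0f0c0005) (.node 1164 (.leaf 0x0) (.leaf 0x0)))) (.node 1167 (.node 1166 (.leaf 0xf100f0f0c0005) (.leaf 0x110f0d0e0004)) (.node 1168 (.leaf 0xd110e0003) (.node 1169 (.leaf 0xf100b0e0004) (.leaf 0x110b0002))))) (.node 1175 (.node 1172 (.node 1171 (.leaf 0xd110e0003) (.leaf 0xc100b0d0004)) (.node 1173 (.leaf 0x49300049200049100049000048f00048e) (.node 1174 (.leaf 0xc100d0003) (.leaf 0x0)))) (.node 1177 (.node 1176 (.leaf 0xd110d0f0c0005) (.leaf 0x0)) (.node 1178 (.leaf 0x0) (.node 1179 (.leaf 0x0) (.leaf 0x0))))))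

def argWS_112 : Store := (.node 1160 argWS_110 argWS_111)

def argWS_113 : Store := (.node 1190 (.node 1185 (.node 1182 (.node 1181 (.leaf 0x401060607090006) (.leaf 0x10001)) (.node 1183 (.leaf 0x0) (.node 1184 (.leaf 0x0) (.leaf 0xb0a0d0d0e0005)))) (.node 1187 (.node 1186 (.leaf 0xd100f0d0e0005) (.leaf 0xd110d0003)) (.node 1188 (.leaf 0x4a2) (.node 1189 (.leaf 0xf100c0003) (.leaf 0x0))))) (.node 1195 (.node 1192 (.node 1191 (.leaf 0x0) (.leaf 0x0)) (.node 1193 (.leaf 0x0) (.node 1194 (.leaf 0xf100b0d0d0e0006) (.leaf 0x100e0002)))) (.node 1197 (.node 1196 (.leaf 0xd0001) (.leaf 0xf0d0e0003)) (.node 1198 (.leaf 0x0) (.node 1199 (.leaf 0x301060003) (.leaf 0x30407060705080007))))))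

def argWS_114 : Store := (.node 1210 (.node 1205 (.node 1202 (.node 1201 (.leaf 0x0) (.leaf 0x100b0f0f0c0005)) (.node 1203 (.leaf 0x0) (.node 1204 (.leaf 0x0) (.leaf 0x60001)))) (.node 1207 (.node 1206 (.leaf 0x809080607090006) (.leaf 0x0)) (.node 1208 (.leaf 0xd0001) (.node 1209 (.leaf 0x0) (.leaf 0xa0f0d0e0004))))) (.node 1215 (.node 1212 (.node 1211 (.leaf 0x4b90004b80004b20004ac0004ab0004aa) (.leaf 0x110c0002)) (.node 1213 (.leaf 0x0) (.node 1214 (.leaf 0x0) (.leaf 0x2010607060005)))) (.node 1218 (.node 1216 (.leaf 0x0) (.node 1217 (.leaf 0x0) (.leaf 0x0))) (.node 1219 (.leaf 0x0) (.node 1220 (.leaf 0x0) (.leaf 0x0))))))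

def argWS_115 : Store := (.node 1200 argWS_113 argWS_114)

def argWS_116 : Store := (.node 1180 argWS_112 argWS_115)

def argWS_117 : Store := (.node 1231 (.node 1226 (.node 1223 (.node 1222 (.leaf 0x0) (.leaf 0x0)) (.node 1224 (.leaf 0xf0d0e0003) (.node 1225 (.leaf 0xf100f0003) (.leaf 0x4c8)))) (.node 1228 (.node 1227 (.leaf 0x100b0c0003) (.leaf 0xc100d0003)) (.node 1229 (.leaf 0xc100b0e0004) (.node 1230 (.leaf 0x4cc) (.leaf 0xc100f0d0e0005))))) (.node 1236 (.node 1233 (.node 1232 (.leaf 0x100b0d0d0e0005) (.leaf 0x0)) (.node 1234 (.leaf 0x403070905080006) (.node 1235 (.leaf 0x3020105070908060709000a) (.leaf 0x0)))) (.node 1238 (.node 1237 (.leaf 0xc100b0d0e0005) (.leaf 0x0)) (.node 1239 (.leaf 0xf100b0c0f0c0006) (.node 1240 (.leaf 0x0) (.leaf 0x4060002))))))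

def argWS_118 : Store := (.node 1251 (.node 1246 (.node 1243 (.node 1242 (.leaf 0x1040507060705080008) (.leaf 0x0)) (.node 1244 (.leaf 0x100b0f0003) (.node 1245 (.leaf 0x0) (.leaf 0x110001)))) (.node 1248 (.node 1247 (.leaf 0xf100b0f0f0c0006) (.leaf 0x110b0002)) (.node 1249 (.leaf 0x4df0004de0004dd0004dc0004d60004d5) (.node 1250 (.leaf 0x110b0d0003) (.leaf 0x0))))) (.node 1256 (.node 1253 (.node 1252 (.leaf 0x0) (.leaf 0x400060607090006)) (.node 1254 (.leaf 0x2030107060607090008) (.node 1255 (.leaf 0x0) (.leaf 0x0)))) (.node 1259 (.node 1257 (.leaf 0x0) (.node 1258 (.leaf 0x110001) (.leaf 0x0))) (.node 1260 (.leaf 0x0) (.node 1261 (.leaf 0x0) (.leaf 0xf100d0f0c0005))))))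

def argWS_119 : Store := (.node 1241 argWS_117 argWS_118)

def argWS_120 : Store := (.node 1272 (.node 1267 (.node 1264 (.node 1263 (.leaf 0xe100f0f0c0005) (.leaf 0x4ee)) (.node 1265 (.leaf 0xa0c0002) (.node 1266 (.leaf 0x0) (.leaf 0xd100f0f0c0005)))) (.node 1269 (.node 1268 (.leaf 0xa0f0c0003) (.leaf 0x4f3)) (.node 1270 (.leaf 0xd100f0c0004) (.node 1271 (.leaf 0x0) (.leaf 0x0))))) (.node 1277 (.node 1274 (.node 1273 (.leaf 0x0) (.leaf 0x0)) (.node 1275 (.leaf 0x0) (.node 1276 (.leaf 0x0) (.leaf 0x0)))) (.node 1279 (.node 1278 (.leaf 0x0) (.leaf 0xd100c0003)) (.node 1280 (.leaf 0x110c0f0c0004) (.node 1281 (.leaf 0x4ff) (.leaf 0xb0a0002))))))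

def argWS_121 : Store := (.node 1292 (.node 1287 (.node 1284 (.node 1283 (.leaf 0xf100d0f0c0005) (.leaf 0xe100f0f0c0005)) (.node 1285 (.leaf 0x503) (.node 1286 (.leaf 0xa0c0002) (.leaf 0x0)))) (.node 1289 (.node 1288 (.leaf 0x0) (.leaf 0x0)) (.node 1290 (.leaf 0x0) (.node 1291 (.leaf 0x0) (.leaf 0x0))))) (.node 1297 (.node 1294 (.node 1293 (.leaf 0x0) (.leaf 0xe100c0003)) (.node 1295 (.leaf 0xc100002) (.node 1296 (.leaf 0xf100e0003) (.leaf 0x0)))) (.node 1300 (.node 1298 (.leaf 0x4060002) (.node 1299 (.leaf 0x2040607060705080008) (.leaf 0x0))) (.node 1301 (.leaf 0x110b0f0d0e0005) (.node 1302 (.leaf 0x0) (.leaf 0xf100d0e0004))))))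

def argWS_122 : Store := (.node 1282 argWS_120 argWS_121)

def argWS_123 : Store := (.node 1262 argWS_119 argWS_122)

def argWS_124 : Store := (.node 1221 argWS_116 argWS_123)

def argWS_125 : Store := (.node 1140 argWS_109 argWS_124)

def argWS_126 : Store := (.node 977 argWS_94 argWS_125)

def argWS_127 : Store := (.node 651 argWS_63 argWS_126)

def argWS_128 : Store := (.node 1313 (.node 1308 (.node 1305 (.node 1304 (.leaf 0x110b0d0003) (.leaf 0xf100b0f0f0c0006)) (.node 1306 (.leaf 0x51800051700051600051500050f00050e) (.node 1307 (.leaf 0x110b0002) (.leaf 0x0)))) (.node 1310 (.node 1309 (.leaf 0x110b0d0f0c0005) (.leaf 0x0)) (.node 1311 (.leaf 0x0) (.node 1312 (.leaf 0x0) (.leaf 0x7010002))))) (.node 1318 (.node 1315 (.node 1314 (.leaf 0x0) (.leaf 0x0)) (.node 1316 (.leaf 0xe100c0f0c0005) (.node 1317 (.leaf 0x1080002) (.leaf 0x0)))) (.node 1320 (.node 1319 (.leaf 0x0) (.leaf 0xb0f0c0003)) (.node 1321 (.leaf 0x0) (.node 1322 (.leaf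 0x0) (.leaf 0x0))))))

def argWS_129 : Store := (.node 1333 (.node 1328 (.node 1325 (.node 1324 (.leaf 0x0) (.leaf 0xb0a0f0f0c0005)) (.node 1326 (.leaf 0x70001) (.node 1327 (.leaf 0x0) (.leaf 0x0)))) (.node 1330 (.node 1329 (.leaf 0x0) (.leaf 0x0)) (.node 1331 (.leaf 0x301060607090006) (.node 1332 (.leaf 0x0) (.leaf 0x0))))) (.node 1338 (.node 1335 (.node 1334 (.leaf 0x100f0d0e0004) (.leaf 0x100b0f0d0e0005)) (.node 1336 (.leaf 0x100b0f0d0e0005) (.node 1337 (.leaf 0x100b0d0f0c0005) (.leaf 0x0)))) (.node 1340 (.node 1339 (.leaf 0x301060705080006) (.leaf 0x30201080004)) (.node 1341 (.leaf 0x0) (.node 1342 (.leaf 0xf100b0d0e0005) (.leaf 0x0))))))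

def argWS_130 : Store := (.node 1323 argWS_128 argWS_129)

def argWS_131 : Store := (.node 1353 (.node 1348 (.node 1345 (.node 1344 (.leaf 0x100b0d0003) (.leaf 0xd100d0003)) (.node 1346 (.leaf 0x54000053f00053e000538000537000536) (.node 1347 (.leaf 0xf100f0f0c0005) (.leaf 0x0)))) (.node 1350 (.node 1349 (.leaf 0x110d0d0e0004) (.leaf 0xc100f0d0e0005)) (.node 1351 (.leaf 0xe100d0f0c0005) (.node 1352 (.leaf 0x110b0f0003) (.leaf 0xf100d0e0004))))) (.node 1358 (.node 1355 (.node 1354 (.leaf 0x0) (.leaf 0x403070905080006)) (.node 1356 (.leaf 0x104080607090006) (.node 1357 (.leaf 0x0) (.leaf 0xe100c0f0c0005)))) (.node 1360 (.node 1359 (.leaf 0x0) (.leaf 0xb0d0f0c0004)) (.node 1361 (.leaf 0xb0001) (.node 1362 (.leaf 0x55000054f00054e000548000547000546) (.leaf 0xa0f0002))))))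

def argWS_132 : Store := (.node 1373 (.node 1368 (.node 1365 (.node 1364 (.leaf 0x0) (.leaf 0x0)) (.node 1366 (.leaf 0x0) (.node 1367 (.leaf 0x0) (.leaf 0x1030705080005)))) (.node 1370 (.node 1369 (.leaf 0x0) (.leaf 0x0)) (.node 1371 (.leaf 0xd0d0e0003) (.node 1372 (.leaf 0x0) (.leaf 0x0))))) (.node 1378 (.node 1375 (.node 1374 (.leaf 0x0) (.leaf 0x0)) (.node 1376 (.leaf 0x0) (.node 1377 (.leaf 0x0) (.leaf 0x0)))) (.node 1381 (.node 1379 (.leaf 0x0) (.node 1380 (.leaf 0xb0c0f0c0004) (.leaf 0xd110f0003))) (.node 1382 (.leaf 0x564) (.node 1383 (.leaf 0x110f0f0c0004) (.leaf 0x0))))))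

def argWS_133 : Store := (.node 1363 argWS_131 argWS_132)

def argWS_134 : Store := (.node 1343 argWS_130 argWS_133)

def argWS_135 : Store := (.node 1394 (.node 1389 (.node 1386 (.node 1385 (.leaf 0xb0d0f0c0004) (.leaf 0xc0001)) (.node 1387 (.leaf 0x569) (.node 1388 (.leaf 0xf0c0002) (.leaf 0x0)))) (.node 1391 (.node 1390 (.leaf 0xd100c0003) (.leaf 0xc100f0c0004)) (.node 1392 (.leaf 0xc100f0c0004) (.node 1393 (.leaf 0x56f) (.leaf 0xf100b0f0d0e0006))))) (.node 1399 (.node 1396 (.node 1395 (.leaf 0x0) (.leaf 0xf0c0002)) (.node 1397 (.leaf 0xe100d0d0e0005) (.node 1398 (.leaf 0x110d0002) (.leaf 0x0)))) (.node 1401 (.node 1400 (.leaf 0x4060002) (.leaf 0x40107060705080007)) (.node 1402 (.leaf 0x0) (.node 1403 (.leaf 0xc100b0f0d0e0006) (.leaf 0x0))))))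

def argWS_136 : Store := (.node 1414 (.node 1409 (.node 1406 (.node 1405 (.leaf 0x0) (.leaf 0x2040109080607090008)) (.node 1407 (.leaf 0x304090003) (.node 1408 (.leaf 0x0) (.leaf 0xa0d0002)))) (.node 1411 (.node 1410 (.leaf 0x0) (.leaf 0x110b0f0d0e0005)) (.node 1412 (.leaf 0x58200058100057b000575000574000573) (.node 1413 (.leaf 0xc100f0003) (.leaf 0x0))))) (.node 1419 (.node 1416 (.node 1415 (.leaf 0x0) (.leaf 0x0)) (.node 1417 (.leaf 0x90002) (.node 1418 (.leaf 0xc100d0e0004) (.leaf 0xf100b0d0e0005)))) (.node 1422 (.node 1420 (.leaf 0x100b0f0d0e0005) (.node 1421 (.leaf 0x110b0f0d0e0005) (.leaf 0xf0d0e0003))) (.node 1423 (.leaf 0xb0c0002) (.node 1424 (.leaf 0xf0f0c0003) (.leaf 0x58f00058e00058d00058c00058b00058a))))))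

def argWS_137 : Store := (.node 1404 argWS_135 argWS_136)

def argWS_138 : Store := (.node 1435 (.node 1430 (.node 1427 (.node 1426 (.leaf 0xb0001) (.leaf 0x0)) (.node 1428 (.leaf 0x0) (.node 1429 (.leaf 0x1020905080005) (.leaf 0x3000809080005)))) (.node 1432 (.node 1431 (.leaf 0x0) (.leaf 0x0)) (.node 1433 (.leaf 0x0) (.node 1434 (.leaf 0xe100f0003) (.leaf 0xe110002))))) (.node 1440 (.node 1437 (.node 1436 (.leaf 0xc0f0c0003) (.leaf 0x59b)) (.node 1438 (.leaf 0x100b0d0d0e0005) (.node 1439 (.leaf 0x0) (.leaf 0xc100b0c0f0c0006)))) (.node 1442 (.node 1441 (.leaf 0x0) (.leaf 0x0)) (.node 1443 (.leaf 0xd110d0003) (.node 1444 (.leaf 0xd110e0003) (.leaf 0x5a3))))))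

def argWS_139 : Store := (.node 1455 (.node 1450 (.node 1447 (.node 1446 (.leaf 0xc100b0d0e0005) (.leaf 0x0)) (.node 1448 (.leaf 0x0) (.node 1449 (.leaf 0x0) (.leaf 0x0)))) (.node 1452 (.node 1451 (.leaf 0x0) (.leaf 0x100d0002)) (.node 1453 (.leaf 0xc0001) (.node 1454 (.leaf 0x110d0e0003) (.leaf 0x100f0f0c0004))))) (.node 1460 (.node 1457 (.node 1456 (.leaf 0xe100d0f0c0005) (.leaf 0xf100b0d0004)) (.node 1458 (.leaf 0xe110f0c0004) (.node 1459 (.leaf 0x402010607090006) (.leaf 0x0)))) (.node 1463 (.node 1461 (.leaf 0x5b30005b00005af0005ae0005ad0005ac) (.node 1462 (.leaf 0x110e0002) (.leaf 0x0))) (.node 1464 (.leaf 0x0) (.node 1465 (.leaf 0x0) (.leaf 0x308060705080006))))))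

def argWS_140 : Store := (.node 1445 argWS_138 argWS_139)

def argWS_141 : Store := (.node 1425 argWS_137 argWS_140)

def argWS_142 : Store := (.node 1384 argWS_134 argWS_141)

def argWS_143 : Store := (.node 1476 (.node 1471 (.node 1468 (.node 1467 (.leaf 0x0) (.leaf 0x0)) (.node 1469 (.leaf 0x0) (.node 1470 (.leaf 0x0) (.leaf 0x0)))) (.node 1473 (.node 1472 (.leaf 0xd110f0003) (.leaf 0x110f0f0c0004)) (.node 1474 (.leaf 0x5c0) (.node 1475 (.leaf 0xb0c0f0c0004) (.leaf 0x0))))) (.node 1481 (.node 1478 (.node 1477 (.leaf 0x0) (.leaf 0x0)) (.node 1479 (.leaf 0x0) (.node 1480 (.leaf 0xe100d0e0004) (.leaf 0x8050002)))) (.node 1483 (.node 1482 (.leaf 0x0) (.leaf 0x0)) (.node 1484 (.leaf 0x0) (.node 1485 (.leaf 0x0) (.leaf 0x60607090004))))))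

def argWS_144 : Store := (.node 1496 (.node 1491 (.node 1488 (.node 1487 (.leaf 0x0) (.leaf 0x0)) (.node 1489 (.leaf 0xa0c0f0c0004) (.node 1490 (.leaf 0x108050003) (.leaf 0x0)))) (.node 1493 (.node 1492 (.leaf 0x0) (.leaf 0x0)) (.node 1494 (.leaf 0x0) (.node 1495 (.leaf 0x2010905080005) (.leaf 0xb0a0c0f0c0005))))) (.node 1501 (.node 1498 (.node 1497 (.leaf 0xe100c0003) (.leaf 0x5d8)) (.node 1499 (.leaf 0x110b0f0f0c0005) (.node 1500 (.leaf 0xd110d0e0004) (.leaf 0xc100f0f0c0005)))) (.node 1503 (.node 1502 (.leaf 0xc0001) (.leaf 0x100b0d0e0004)) (.node 1504 (.leaf 0x402050003) (.node 1505 (.leaf 0x0) (.leaf 0xf100f0c0004))))))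

def argWS_145 : Store := (.node 1486 argWS_143 argWS_144)

def argWS_146 : Store := (.node 1516 (.node 1511 (.node 1508 (.node 1507 (.leaf 0xf0001) (.leaf 0x110b0d0003)) (.node 1509 (.leaf 0x5e30005e20005e10005e00005dd0005dc) (.node 1510 (.leaf 0x110b0d0003) (.leaf 0x0)))) (.node 1513 (.node 1512 (.leaf 0xf100b0f0004) (.leaf 0x0)) (.node 1514 (.leaf 0x0) (.node 1515 (.leaf 0x0) (.leaf 0x701070607090006))))) (.node 1521 (.node 1518 (.node 1517 (.leaf 0x0) (.leaf 0x0)) (.node 1519 (.leaf 0xe110e0003) (.node 1520 (.leaf 0x10001) (.leaf 0x10001)))) (.node 1523 (.node 1522 (.leaf 0x0) (.leaf 0x0)) (.node 1524 (.leaf 0x0) (.node 1525 (.leaf 0xe100e0003) (.leaf 0x108060003))))))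

def argWS_147 : Store := (.node 1536 (.node 1531 (.node 1528 (.node 1527 (.leaf 0x0) (.leaf 0x0)) (.node 1529 (.leaf 0xc100002) (.node 1530 (.leaf 0x0) (.leaf 0x0)))) (.node 1533 (.node 1532 (.leaf 0x0) (.leaf 0x0)) (.node 1534 (.leaf 0x0) (.node 1535 (.leaf 0x0) (.leaf 0xb0c0f0c0004))))) (.node 1541 (.node 1538 (.node 1537 (.leaf 0xd110f0003) (.leaf 0x600)) (.node 1539 (.leaf 0x110f0f0c0004) (.node 1540 (.leaf 0x0) (.leaf 0x0)))) (.node 1544 (.node 1542 (.leaf 0x0) (.node 1543 (.leaf 0x0) (.leaf 0x0))) (.node 1545 (.leaf 0xc100b0c0004) (.node 1546 (.leaf 0xd110f0f0c0005) (.leaf 0x609))))))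

def argWS_148 : Store := (.node 1526 argWS_146 argWS_147)

def argWS_149 : Store := (.node 1506 argWS_145 argWS_148)

def argWS_150 : Store := (.node 1557 (.node 1552 (.node 1549 (.node 1548 (.leaf 0xb0d0e0003) (.leaf 0x0)) (.node 1550 (.leaf 0x110b0f0f0c0005) (.node 1551 (.leaf 0xf100b0c0f0c0006) (.leaf 0xa0d0e0003)))) (.node 1554 (.node 1553 (.leaf 0x60f) (.leaf 0xd100f0f0c0005)) (.node 1555 (.leaf 0x0) (.node 1556 (.leaf 0xe100f0d0e0005) (.leaf 0xe100e0003))))) (.node 1562 (.node 1559 (.node 1558 (.leaf 0x614) (.leaf 0xf100d0f0c0005)) (.node 1560 (.leaf 0x0) (.node 1561 (.leaf 0x0) (.leaf 0x0)))) (.node 1564 (.node 1563 (.leaf 0x0) (.leaf 0x0)) (.node 1565 (.leaf 0x0) (.node 1566 (.leaf 0x0) (.leaf 0xc100b0e0004))))))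

def argWS_151 : Store := (.node 1577 (.node 1572 (.node 1569 (.node 1568 (.leaf 0xc0001) (.leaf 0xa0e0002)) (.node 1570 (.leaf 0x0) (.node 1571 (.leaf 0x20309080004) (.leaf 0x2030607060005)))) (.node 1574 (.node 1573 (.leaf 0x0) (.leaf 0xf100b0d0e0005)) (.node 1575 (.leaf 0x0) (.node 1576 (.leaf 0x0) (.leaf 0x301060705080006))))) (.node 1582 (.node 1579 (.node 1578 (.leaf 0x401080607090006) (.leaf 0x0)) (.node 1580 (.leaf 0xf100002) (.node 1581 (.leaf 0x0) (.leaf 0x110b0c0003)))) (.node 1585 (.node 1583 (.leaf 0xf100b0f0f0c0006) (.node 1584 (.leaf 0x62e00062d00062c00062600062000061f) (.leaf 0x110b0002))) (.node 1586 (.leaf 0x0) (.node 1587 (.leaf 0x0) (.leaf 0x7020108050705080008))))))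

def argWS_152 : Store := (.node 1567 argWS_150 argWS_151)

def argWS_153 : Store := (.node 1598 (.node 1593 (.node 1590 (.node 1589 (.leaf 0x203010707090006) (.leaf 0x0)) (.node 1591 (.leaf 0x0) (.node 1592 (.leaf 0x0) (.leaf 0x100b0f0d0e0005)))) (.node 1595 (.node 1594 (.leaf 0x0) (.leaf 0x0)) (.node 1596 (.leaf 0x0) (.node 1597 (.leaf 0x0) (.leaf 0xe100c0f0c0005))))) (.node 1603 (.node 1600 (.node 1599 (.leaf 0xf0c0002) (.leaf 0x63e)) (.node 1601 (.leaf 0xe110d0003) (.node 1602 (.leaf 0x0) (.leaf 0xf0001)))) (.node 1605 (.node 1604 (.leaf 0x110d0e0003) (.leaf 0x643)) (.node 1606 (.leaf 0x100b0d0003) (.node 1607 (.leaf 0x0) (.leaf 0x0))))))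

def argWS_154 : Store := (.node 1618 (.node 1613 (.node 1610 (.node 1609 (.leaf 0x0) (.leaf 0x0)) (.node 1611 (.leaf 0x0) (.node 1612 (.leaf 0x0) (.leaf 0x0)))) (.node 1615 (.node 1614 (.leaf 0x100f0c0003) (.leaf 0x100f0c0003)) (.node 1616 (.leaf 0x64e) (.node 1617 (.leaf 0xf100b0c0f0c0006) (.leaf 0x0))))) (.node 1623 (.node 1620 (.node 1619 (.leaf 0xd110c0f0c0005) (.leaf 0x0)) (.node 1621 (.leaf 0x7020108050705080008) (.node 1622 (.leaf 0x30401060707090007) (.leaf 0x0)))) (.node 1626 (.node 1624 (.leaf 0xd100d0f0c0005) (.node 1625 (.leaf 0x0) (.leaf 0x658))) (.node 1627 (.leaf 0x100d0d0e0004) (.node 1628 (.leaf 0x0) (.leaf 0xe110f0c0004))))))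

def argWS_155 : Store := (.node 1608 argWS_153 argWS_154)

def argWS_156 : Store := (.node 1588 argWS_152 argWS_155)

def argWS_157 : Store := (.node 1547 argWS_149 argWS_156)

def argWS_158 : Store := (.node 1466 argWS_142 argWS_157)

def argWS_159 : Store := (.node 1639 (.node 1634 (.node 1631 (.node 1630 (.leaf 0xc100b0d0e0005) (.leaf 0x0)) (.node 1632 (.leaf 0x4050705080005) (.node 1633 (.leaf 0x20008060004) (.leaf 0x0)))) (.node 1636 (.node 1635 (.leaf 0xc100b0003) (.leaf 0x0)) (.node 1637 (.leaf 0xf100b0f0c0005) (.node 1638 (.leaf 0xf100d0003) (.leaf 0xe100f0c0004))))) (.node 1644 (.node 1641 (.node 1640 (.leaf 0x110d0002) (.leaf 0x4030607090005)) (.node 1642 (.leaf 0x0) (.node 1643 (.leaf 0x110b0c0003) (.leaf 0x66a000669000666000665000664000663)))) (.node 1646 (.node 1645 (.leaf 0x100d0002) (.leaf 0x0)) (.node 1647 (.leaf 0x0) (.node 1648 (.leaf 0x7020108050705080008) (.leaf 0x2010707090005))))))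

def argWS_160 : Store := (.node 1659 (.node 1654 (.node 1651 (.node 1650 (.leaf 0x0) (.leaf 0xe110d0003)) (.node 1652 (.leaf 0x0) (.node 1653 (.leaf 0x0) (.leaf 0x0)))) (.node 1656 (.node 1655 (.leaf 0x0) (.leaf 0x0)) (.node 1657 (.leaf 0x10309080607090007) (.node 1658 (.leaf 0x0) (.leaf 0x0))))) (.node 1664 (.node 1661 (.node 1660 (.leaf 0xe110d0003) (.leaf 0x10001)) (.node 1662 (.leaf 0x0) (.node 1663 (.leaf 0x0) (.leaf 0xd0f0c0003)))) (.node 1666 (.node 1665 (.leaf 0x0) (.leaf 0x0)) (.node 1667 (.leaf 0x0) (.node 1668 (.leaf 0x0) (.leaf 0x0))))))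

def argWS_161 : Store := (.node 1649 argWS_159 argWS_160)

def argWS_162 : Store := (.node 1679 (.node 1674 (.node 1671 (.node 1670 (.leaf 0x0) (.leaf 0xc100b0c0f0c0006)) (.node 1672 (.leaf 0xa0c0002) (.node 1673 (.leaf 0x687) (.leaf 0xd100002)))) (.node 1676 (.node 1675 (.leaf 0x0) (.leaf 0xf100b0d0004)) (.node 1677 (.leaf 0xe100f0c0004) (.node 1678 (.leaf 0xa0001) (.leaf 0xc100b0f0f0c0006))))) (.node 1684 (.node 1681 (.node 1680 (.leaf 0xa0f0c0003) (.leaf 0xf100d0f0c0005)) (.node 1682 (.leaf 0x0) (.node 1683 (.leaf 0x4050705080005) (.leaf 0x40208050004)))) (.node 1686 (.node 1685 (.leaf 0x0) (.leaf 0xf100d0e0004)) (.node 1687 (.leaf 0x0) (.node 1688 (.leaf 0x69600069000068f00068e00068d00068c) (.leaf 0xc100b0003))))))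

def argWS_163 : Store := (.node 1699 (.node 1694 (.node 1691 (.node 1690 (.leaf 0x0) (.leaf 0xe0001)) (.node 1692 (.leaf 0x0) (.node 1693 (.leaf 0x0) (.leaf 0x0)))) (.node 1696 (.node 1695 (.leaf 0x0) (.leaf 0x0)) (.node 1697 (.leaf 0x0) (.node 1698 (.leaf 0xb0a0f0003) (.leaf 0x110b0d0e0004))))) (.node 1704 (.node 1701 (.node 1700 (.leaf 0x6a2) (.leaf 0x110b0d0003)) (.node 1702 (.leaf 0x0) (.node 1703 (.leaf 0x0) (.leaf 0xb0d0002)))) (.node 1707 (.node 1705 (.leaf 0xf100b0d0f0c0006) (.node 1706 (.leaf 0x6a8) (.leaf 0x110d0e0003))) (.node 1708 (.leaf 0x0) (.node 1709 (.leaf 0xd110f0d0e0005) (.leaf 0xd110f0003))))))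

def argWS_164 : Store := (.node 1689 argWS_162 argWS_163)

def argWS_165 : Store := (.node 1669 argWS_161 argWS_164)

def argWS_166 : Store := (.node 1720 (.node 1715 (.node 1712 (.node 1711 (.leaf 0xe100f0c0004) (.leaf 0xc100b0d0004)) (.node 1713 (.leaf 0xc100d0003) (.node 1714 (.leaf 0x203060607090006) (.leaf 0x0)))) (.node 1717 (.node 1716 (.leaf 0xc100c0003) (.leaf 0xf100b0e0004)) (.node 1718 (.leaf 0x6b40006b30006b20006af0006ae0006ad) (.node 1719 (.leaf 0xb0a0f0003) (.leaf 0x0))))) (.node 1725 (.node 1722 (.node 1721 (.leaf 0x0) (.leaf 0x0)) (.node 1723 (.leaf 0x0) (.node 1724 (.leaf 0x3000705080005) (.leaf 0x0)))) (.node 1727 (.node 1726 (.leaf 0x0) (.leaf 0xa0d0e0003)) (.node 1728 (.leaf 0x0) (.node 1729 (.leaf 0x0) (.leaf 0x0))))))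

def argWS_167 : Store := (.node 1740 (.node 1735 (.node 1732 (.node 1731 (.leaf 0x0) (.leaf 0x0)) (.node 1733 (.leaf 0x0) (.node 1734 (.leaf 0x100b0d0e0004) (.leaf 0xf100f0f0c0005)))) (.node 1737 (.node 1736 (.leaf 0x6c6) (.leaf 0xa0e0002)) (.node 1738 (.leaf 0x0) (.node 1739 (.leaf 0xb0f0d0e0004) (.leaf 0xc100d0e0004))))) (.node 1745 (.node 1742 (.node 1741 (.leaf 0x6cb) (.leaf 0x110c0002)) (.node 1743 (.leaf 0x0) (.node 1744 (.leaf 0x0) (.leaf 0x0)))) (.node 1748 (.node 1746 (.leaf 0x0) (.node 1747 (.leaf 0x0) (.leaf 0x0))) (.node 1749 (.leaf 0xb0a0f0d0e0005) (.node 1750 (.leaf 0xf100f0f0c0005) (.leaf 0xc100d0e0004))))))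

def argWS_168 : Store := (.node 1730 argWS_166 argWS_167)

def argWS_169 : Store := (.node 1761 (.node 1756 (.node 1753 (.node 1752 (.leaf 0xf100b0d0e0005) (.leaf 0x110b0d0003)) (.node 1754 (.leaf 0xc100b0003) (.node 1755 (.leaf 0xc100d0003) (.leaf 0x6da0006d90006d80006d70006d60006d5)))) (.node 1758 (.node 1757 (.leaf 0xf100e0003) (.leaf 0x0)) (.node 1759 (.leaf 0xc100b0d0f0c0006) (.node 1760 (.leaf 0x0) (.leaf 0x0))))) (.node 1766 (.node 1763 (.node 1762 (.leaf 0x5070002) (.leaf 0x0)) (.node 1764 (.leaf 0x0) (.node 1765 (.leaf 0x0) (.leaf 0xd110f0f0c0005)))) (.node 1768 (.node 1767 (.leaf 0xb0f0c0003) (.leaf 0x6e6)) (.node 1769 (.leaf 0xe100d0003) (.node 1770 (.leaf 0x0) (.leaf 0x0))))))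

def argWS_170 : Store := (.node 1781 (.node 1776 (.node 1773 (.node 1772 (.leaf 0x0) (.leaf 0xf100b0c0f0c0006)) (.node 1774 (.leaf 0xa0d0e0003) (.node 1775 (.leaf 0x6ed) (.leaf 0xd100f0f0c0005)))) (.node 1778 (.node 1777 (.leaf 0x0) (.leaf 0x0)) (.node 1779 (.leaf 0xd100f0003) (.node 1780 (.leaf 0xf100f0f0c0005) (.leaf 0x100b0002))))) (.node 1786 (.node 1783 (.node 1782 (.leaf 0x0) (.leaf 0x403070905080006)) (.node 1784 (.leaf 0x2030105080005) (.node 1785 (.leaf 0x0) (.leaf 0xa0f0002)))) (.node 1789 (.node 1787 (.leaf 0x0) (.node 1788 (.leaf 0x0) (.leaf 0x301060705080006))) (.node 1790 (.leaf 0x30005070905080007) (.node 1791 (.leaf 0x0) (.leaf 0xb0c0f0c0004))))))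

def argWS_171 : Store := (.node 1771 argWS_169 argWS_170)

def argWS_172 : Store := (.node 1751 argWS_168 argWS_171)

def argWS_173 : Store := (.node 1710 argWS_165 argWS_172)

def argWS_174 : Store := (.node 1802 (.node 1797 (.node 1794 (.node 1793 (.leaf 0x0) (.leaf 0xb0a0c0003)) (.node 1795 (.leaf 0xc100b0f0d0e0006) (.node 1796 (.leaf 0x7020007010007000006fa0006f40006f3) (.leaf 0x100b0e0003)))) (.node 1799 (.node 1798 (.leaf 0x0) (.leaf 0x110c0f0c0004)) (.node 1800 (.leaf 0x0) (.node 1801 (.leaf 0x0) (.leaf 0xd110f0003))))) (.node 1807 (.node 1804 (.node 1803 (.leaf 0x110f0f0c0004) (.leaf 0x70a)) (.node 1805 (.leaf 0xb0c0f0c0004) (.node 1806 (.leaf 0x0) (.leaf 0x0)))) (.node 1809 (.node 1808 (.leaf 0x0) (.leaf 0x0)) (.node 1810 (.leaf 0x0) (.node 1811 (.leaf 0x0) (.leaf 0x0))))))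

def argWS_175 : Store := (.node 1822 (.node 1817 (.node 1814 (.node 1813 (.leaf 0x0) (.leaf 0x0)) (.node 1815 (.leaf 0x0) (.node 1816 (.leaf 0x0) (.leaf 0xe100f0c0004)))) (.node 1819 (.node 1818 (.leaf 0xe110f0d0e0005) (.leaf 0x719)) (.node 1820 (.leaf 0xf100b0f0004) (.node 1821 (.leaf 0x0) (.leaf 0x0))))) (.node 1827 (.node 1824 (.node 1823 (.leaf 0x0) (.leaf 0x0)) (.node 1825 (.leaf 0x0) (.node 1826 (.leaf 0xd100d0f0c0005) (.leaf 0x110b0d0d0e0005)))) (.node 1829 (.node 1828 (.leaf 0x722) (.leaf 0xa0d0d0e0004)) (.node 1830 (.leaf 0x0) (.node 1831 (.leaf 0x0) (.leaf 0x0))))))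

def argWS_176 : Store := (.node 1812 argWS_174 argWS_175)

def argWS_177 : Store := (.node 1842 (.node 1837 (.node 1834 (.node 1833 (.leaf 0xb0a0d0e0004) (.leaf 0x110d0f0c0004)) (.node 1835 (.leaf 0x729) (.node 1836 (.leaf 0x110b0f0c0004) (.leaf 0x0)))) (.node 1839 (.node 1838 (.leaf 0x0) (.leaf 0x0)) (.node 1840 (.leaf 0x0) (.node 1841 (.leaf 0x0) (.leaf 0x0))))) (.node 1847 (.node 1844 (.node 1843 (.leaf 0x0) (.leaf 0x0)) (.node 1845 (.leaf 0xb0c0f0c0004) (.node 1846 (.leaf 0xd110f0003) (.leaf 0x735)))) (.node 1849 (.node 1848 (.leaf 0x110f0f0c0004) (.leaf 0x0)) (.node 1850 (.leaf 0x0) (.node 1851 (.leaf 0x0) (.leaf 0x0))))))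

def argWS_178 : Store := (.node 1862 (.node 1857 (.node 1854 (.node 1853 (.leaf 0x100b0002) (.leaf 0xb0a0f0f0c0005)) (.node 1855 (.leaf 0x73d) (.node 1856 (.leaf 0xd110d0e0004) (.leaf 0x0)))) (.node 1859 (.node 1858 (.leaf 0x0) (.leaf 0x0)) (.node 1860 (.leaf 0x0) (.node 1861 (.leaf 0x0) (.leaf 0x0))))) (.node 1867 (.node 1864 (.node 1863 (.leaf 0x0) (.leaf 0x0)) (.node 1865 (.leaf 0x0) (.node 1866 (.leaf 0x0) (.leaf 0xd100f0f0c0005)))) (.node 1870 (.node 1868 (.leaf 0xa0f0c0003) (.node 1869 (.leaf 0x74b) (.leaf 0xd100f0c0004))) (.node 1871 (.leaf 0x0) (.node 1872 (.leaf 0x0) (.leaf 0x110b0c0003))))))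

def argWS_179 : Store := (.node 1852 argWS_177 argWS_178)

def argWS_180 : Store := (.node 1832 argWS_176 argWS_179)

def argWS_181 : Store := (.node 1883 (.node 1878 (.node 1875 (.node 1874 (.leaf 0xf100b0d0d0e0006) (.leaf 0x751)) (.node 1876 (.leaf 0xb0d0002) (.node 1877 (.leaf 0x0) (.leaf 0x0)))) (.node 1880 (.node 1879 (.leaf 0x0) (.leaf 0x0)) (.node 1881 (.leaf 0xe110d0e0004) (.node 1882 (.leaf 0x110d0d0e0004) (.leaf 0x759))))) (.node 1888 (.node 1885 (.node 1884 (.leaf 0xd0d0e0003) (.leaf 0xc100f0d0e0005)) (.node 1886 (.leaf 0xf100e0003) (.node 1887 (.leaf 0x75d) (.leaf 0xf100d0003)))) (.node 1890 (.node 1889 (.leaf 0x0) (.leaf 0xf100b0f0004)) (.node 1891 (.leaf 0x100c0f0c0004) (.node 1892 (.leaf 0x110b0f0003) (.leaf 0x110d0002))))))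

def argWS_182 : Store := (.node 1903 (.node 1898 (.node 1895 (.node 1894 (.leaf 0xc100b0003) (.leaf 0xf100e0003)) (.node 1896 (.leaf 0x100b0c0003) (.node 1897 (.leaf 0x767000766000765000764000763000762) (.leaf 0xe110f0c0004)))) (.node 1900 (.node 1899 (.leaf 0x0) (.leaf 0x0)) (.node 1901 (.leaf 0x3020507060005) (.node 1902 (.leaf 0x0) (.leaf 0x0))))) (.node 1908 (.node 1905 (.node 1904 (.leaf 0x0) (.leaf 0x0)) (.node 1906 (.leaf 0x0) (.node 1907 (.leaf 0x100b0c0f0c0005) (.leaf 0x0)))) (.node 1911 (.node 1909 (.leaf 0x8060705080006) (.node 1910 (.leaf 0x400090003) (.leaf 0x0))) (.node 1912 (.leaf 0xb0d0002) (.node 1913 (.leaf 0x0) (.leaf 0xc0f0c0003))))))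

def argWS_183 : Store := (.node 1893 argWS_181 argWS_182)

def argWS_184 : Store := (.node 1924 (.node 1919 (.node 1916 (.node 1915 (.leaf 0xf100b0f0f0c0006) (.leaf 0x100f0d0e0004)) (.node 1917 (.leaf 0xe110c0f0c0005) (.node 1918 (.leaf 0x0) (.leaf 0x400060607090006)))) (.node 1921 (.node 1920 (.leaf 0x70100060709080007) (.leaf 0x0)) (.node 1922 (.leaf 0xd0001) (.node 1923 (.leaf 0x0) (.leaf 0x78200077c00077b00077a000779000778))))) (.node 1929 (.node 1926 (.node 1925 (.leaf 0xd0f0c0003) (.leaf 0x100b0d0003)) (.node 1927 (.leaf 0x110b0e0003) (.node 1928 (.leaf 0x786) (.leaf 0xf100b0d0d0e0006)))) (.node 1931 (.node 1930 (.leaf 0x0) (.leaf 0x0)) (.node 1932 (.leaf 0xe100d0f0c0005) (.node 1933 (.leaf 0x100b0f0003) (.leaf 0x110001))))))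

def argWS_185 : Store := (.node 1944 (.node 1939 (.node 1936 (.node 1935 (.leaf 0x0) (.leaf 0x2040109080607090008)) (.node 1937 (.leaf 0x400070705080006) (.node 1938 (.leaf 0x0) (.leaf 0x110b0f0c0004)))) (.node 1941 (.node 1940 (.leaf 0x0) (.leaf 0xf100b0e0004)) (.node 1942 (.leaf 0x100b0002) (.node 1943 (.leaf 0xc100b0e0004) (.leaf 0x79600079500079400079300078d00078c))))) (.node 1949 (.node 1946 (.node 1945 (.leaf 0x110d0002) (.leaf 0x0)) (.node 1947 (.leaf 0xf100b0003) (.node 1948 (.leaf 0x0) (.leaf 0x0)))) (.node 1952 (.node 1950 (.leaf 0x0) (.node 1951 (.leaf 0x0) (.leaf 0x0))) (.node 1953 (.leaf 0x0) (.node 1954 (.leaf 0x0) (.leaf 0x0))))))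

def argWS_186 : Store := (.node 1934 argWS_184 argWS_185)

def argWS_187 : Store := (.node 1914 argWS_183 argWS_186)

def argWS_188 : Store := (.node 1873 argWS_180 argWS_187)

def argWS_189 : Store := (.node 1792 argWS_173 argWS_188)

def argWS_190 : Store := (.node 1629 argWS_158 argWS_189)

def argWS_191 : Store := (.node 1965 (.node 1960 (.node 1957 (.node 1956 (.leaf 0x0) (.leaf 0xf100f0003)) (.node 1958 (.leaf 0x110f0d0e0004) (.node 1959 (.leaf 0xa0f0d0e0004) (.leaf 0xc100002)))) (.node 1962 (.node 1961 (.leaf 0xf100e0003) (.leaf 0x110b0c0003)) (.node 1963 (.leaf 0xc100002) (.node 1964 (.leaf 0x7aa0007a90007a80007a70007a60007a5) (.leaf 0xf100e0003))))) (.node 1970 (.node 1967 (.node 1966 (.leaf 0x0) (.leaf 0xe0001)) (.node 1968 (.leaf 0x0) (.node 1969 (.leaf 0x0) (.leaf 0xa0c0f0c0004)))) (.node 1972 (.node 1971 (.leaf 0xe110c0003) (.leaf 0x7b2)) (.node 1973 (.leaf 0x100f0f0c0004) (.node 1974 (.leaf 0x0) (.leaf 0x0))))))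

def argWS_192 : Store := (.node 1985 (.node 1980 (.node 1977 (.node 1976 (.leaf 0x100b0f0003) (.leaf 0xf100b0003)) (.node 1978 (.leaf 0x7b8) (.node 1979 (.leaf 0xb0a0f0d0e0005) (.leaf 0x0)))) (.node 1982 (.node 1981 (.leaf 0xd0f0c0003) (.leaf 0x110b0002)) (.node 1983 (.leaf 0x0) (.node 1984 (.leaf 0x204050707090006) (.leaf 0x10407060607090007))))) (.node 1990 (.node 1987 (.node 1986 (.leaf 0x0) (.leaf 0xc100f0f0c0005)) (.node 1988 (.leaf 0x0) (.node 1989 (.leaf 0xa0f0c0003) (.leaf 0xc100c0003)))) (.node 1992 (.node 1991 (.leaf 0xc100d0003) (.leaf 0x0)) (.node 1993 (.leaf 0x1000507060607090008) (.node 1994 (.leaf 0x30108060004) (.leaf 0x0))))))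

def argWS_193 : Store := (.node 1975 argWS_191 argWS_192)

def argWS_194 : Store := (.node 2005 (.node 2000 (.node 1997 (.node 1996 (.leaf 0xc100e0003) (.leaf 0x0)) (.node 1998 (.leaf 0x7cc0007c60007c50007c40007c30007bd) (.node 1999 (.leaf 0x100d0002) (.leaf 0x0)))) (.node 2002 (.node 2001 (.leaf 0x0) (.leaf 0x0)) (.node 2003 (.leaf 0x110b0f0f0c0005) (.node 2004 (.leaf 0xb0a0c0f0c0005) (.leaf 0x7d3))))) (.node 2010 (.node 2007 (.node 2006 (.leaf 0xd110f0003) (.leaf 0x0)) (.node 2008 (.leaf 0x0) (.node 2009 (.leaf 0xc100b0d0d0e0006) (.leaf 0xc100d0003)))) (.node 2012 (.node 2011 (.leaf 0x7d9) (.leaf 0x100b0c0f0c0005)) (.node 2013 (.leaf 0x0) (.node 2014 (.leaf 0xf100b0c0004) (.leaf 0x0))))))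

def argWS_195 : Store := (.node 2025 (.node 2020 (.node 2017 (.node 2016 (.leaf 0x0) (.leaf 0x0)) (.node 2018 (.leaf 0xc100b0d0e0005) (.node 2019 (.leaf 0xc100b0f0c0005) (.leaf 0xd110d0f0c0005)))) (.node 2022 (.node 2021 (.leaf 0x100b0d0d0e0005) (.leaf 0x110f0d0e0004)) (.node 2023 (.leaf 0xf100d0e0004) (.node 2024 (.leaf 0x100b0d0003) (.leaf 0x7e70007e60007e50007e40007e30007e2))))) (.node 2030 (.node 2027 (.node 2026 (.leaf 0xc100c0003) (.leaf 0x0)) (.node 2028 (.leaf 0xf100d0003) (.node 2029 (.leaf 0x0) (.leaf 0xf100b0d0d0e0006)))) (.node 2033 (.node 2031 (.leaf 0x100e0002) (.node 2032 (.leaf 0xd0001) (.leaf 0xf0d0e0003))) (.node 2034 (.leaf 0x0) (.node 2035 (.leaf 0x2040109080607090008) (.leaf 0x100070003))))))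

def argWS_196 : Store := (.node 2015 argWS_194 argWS_195)

def argWS_197 : Store := (.node 1995 argWS_193 argWS_196)

def argWS_198 : Store := (.node 2046 (.node 2041 (.node 2038 (.node 2037 (.leaf 0x0) (.leaf 0x100b0d0f0c0005)) (.node 2039 (.leaf 0x0) (.node 2040 (.leaf 0xd0001) (.leaf 0x0)))) (.node 2043 (.node 2042 (.leaf 0x1000507060607090008) (.leaf 0x1070905080005)) (.node 2044 (.leaf 0x0) (.node 2045 (.leaf 0xa0f0d0e0004) (.leaf 0x0))))) (.node 2051 (.node 2048 (.node 2047 (.leaf 0x7fd0007f70007f60007f00007ef0007ee) (.leaf 0xd100002)) (.node 2049 (.leaf 0x0) (.node 2050 (.leaf 0xa0c0f0c0004) (.leaf 0xf100c0f0c0005)))) (.node 2053 (.node 2052 (.leaf 0xd0e0002) (.leaf 0x803)) (.node 2054 (.leaf 0xe110c0f0c0005) (.node 2055 (.leaf 0x0) (.leaf 0xf0c0002))))))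

def argWS_199 : Store := (.node 2066 (.node 2061 (.node 2058 (.node 2057 (.leaf 0xe100d0d0e0005) (.leaf 0x110d0d0e0004)) (.node 2059 (.leaf 0xb0d0d0e0004) (.node 2060 (.leaf 0xc100f0c0004) (.leaf 0xd100002)))) (.node 2063 (.node 2062 (.leaf 0x80c00080b00080a000809000808000807) (.leaf 0xf100f0f0c0005)) (.node 2064 (.leaf 0x0) (.node 2065 (.leaf 0x110f0002) (.leaf 0xf100b0f0004))))) (.node 2071 (.node 2068 (.node 2067 (.leaf 0x100d0e0003) (.leaf 0xe100d0003)) (.node 2069 (.leaf 0xc100d0f0c0005) (.node 2070 (.leaf 0x0) (.leaf 0x204050707090006)))) (.node 2074 (.node 2072 (.leaf 0x809080003) (.node 2073 (.leaf 0x0) (.leaf 0x100d0d0e0004))) (.node 2075 (.leaf 0x0) (.node 2076 (.leaf 0x0) (.leaf 0x7020105080005))))))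

def argWS_200 : Store := (.node 2056 argWS_198 argWS_199)

def argWS_201 : Store := (.node 2087 (.node 2082 (.node 2079 (.node 2078 (.leaf 0x2030108060005) (.leaf 0x0)) (.node 2080 (.leaf 0xd100f0f0c0005) (.node 2081 (.leaf 0x0) (.leaf 0x0)))) (.node 2084 (.node 2083 (.leaf 0x400060607090006) (.leaf 0x8050002)) (.node 2085 (.leaf 0x0) (.node 2086 (.leaf 0xf100b0d0f0c0006) (.leaf 0x0))))) (.node 2092 (.node 2089 (.node 2088 (.leaf 0x82600082000081a000814000813000812) (.leaf 0x110b0002)) (.node 2090 (.leaf 0x0) (.node 2091 (.leaf 0xb0f0d0e0004) (.leaf 0x0)))) (.node 2094 (.node 2093 (.leaf 0x0) (.leaf 0x0)) (.node 2095 (.leaf 0x0) (.node 2096 (.leaf 0x0) (.leaf 0xb0a0d0003))))))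

def argWS_202 : Store := (.node 2107 (.node 2102 (.node 2099 (.node 2098 (.leaf 0xe110c0f0c0005) (.leaf 0xb0d0f0c0004)) (.node 2100 (.leaf 0x203010607090006) (.node 2101 (.leaf 0x0) (.leaf 0x0)))) (.node 2104 (.node 2103 (.leaf 0x7010009080607090008) (.leaf 0x104080003)) (.node 2105 (.leaf 0x0) (.node 2106 (.leaf 0xb0f0d0e0004) (.leaf 0x0))))) (.node 2112 (.node 2109 (.node 2108 (.leaf 0xe100c0003) (.leaf 0xc100002)) (.node 2110 (.leaf 0xf100e0003) (.node 2111 (.leaf 0x83d00083c00083b00083a000834000831) (.leaf 0x100b0002)))) (.node 2115 (.node 2113 (.leaf 0x0) (.node 2114 (.leaf 0x110d0e0003) (.leaf 0xf100b0e0004))) (.node 2116 (.leaf 0x100f0d0e0004) (.node 2117 (.leaf 0x110b0c0f0c0005) (.leaf 0xc100f0f0c0005))))))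

def argWS_203 : Store := (.node 2097 argWS_201 argWS_202)

def argWS_204 : Store := (.node 2077 argWS_200 argWS_203)

def argWS_205 : Store := (.node 2036 argWS_197 argWS_204)

def argWS_206 : Store := (.node 2128 (.node 2123 (.node 2120 (.node 2119 (.leaf 0xf0c0002) (.leaf 0x0)) (.node 2121 (.leaf 0x301060705080006) (.node 2122 (.leaf 0x402080607090006) (.leaf 0x0)))) (.node 2125 (.node 2124 (.leaf 0xd100f0d0e0005) (.leaf 0x0)) (.node 2126 (.leaf 0x100b0f0f0c0005) (.node 2127 (.leaf 0x84d00084c000846000845000844000843) (.leaf 0xc0001))))) (.node 2133 (.node 2130 (.node 2129 (.leaf 0x0) (.leaf 0xe100f0d0e0005)) (.node 2131 (.leaf 0x0) (.node 2132 (.leaf 0x0) (.leaf 0x0)))) (.node 2135 (.node 2134 (.leaf 0x0) (.leaf 0x107090003)) (.node 2136 (.leaf 0x0) (.node 2137 (.leaf 0x0) (.leaf 0xf0001))))))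

def argWS_207 : Store := (.node 2148 (.node 2143 (.node 2140 (.node 2139 (.leaf 0x10001) (.leaf 0x0)) (.node 2141 (.leaf 0x0) (.node 2142 (.leaf 0xf0001) (.leaf 0x0)))) (.node 2145 (.node 2144 (.leaf 0x0) (.leaf 0x0)) (.node 2146 (.leaf 0x0) (.node 2147 (.leaf 0x0) (.leaf 0x0))))) (.node 2153 (.node 2150 (.node 2149 (.leaf 0x0) (.leaf 0x110c0002)) (.node 2151 (.leaf 0xc100b0c0f0c0006) (.node 2152 (.leaf 0x866) (.leaf 0xc100b0e0004)))) (.node 2155 (.node 2154 (.leaf 0x0) (.leaf 0xb0f0d0e0004)) (.node 2156 (.leaf 0x0) (.node 2157 (.leaf 0x0) (.leaf 0x0))))))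

def argWS_208 : Store := (.node 2138 argWS_206 argWS_207)

def argWS_209 : Store := (.node 2168 (.node 2163 (.node 2160 (.node 2159 (.leaf 0x0) (.leaf 0x0)) (.node 2161 (.leaf 0x0) (.node 2162 (.leaf 0x0) (.leaf 0xe110d0003)))) (.node 2165 (.node 2164 (.leaf 0xe100d0003) (.leaf 0x873)) (.node 2166 (.leaf 0xc100b0f0004) (.node 2167 (.leaf 0x0) (.leaf 0x110f0d0e0004))))) (.node 2173 (.node 2170 (.node 2169 (.leaf 0x100b0d0003) (.leaf 0x878)) (.node 2171 (.leaf 0xf100b0003) (.node 2172 (.leaf 0xa0d0002) (.leaf 0xf100d0f0c0005)))) (.node 2175 (.node 2174 (.leaf 0x87c) (.leaf 0x100d0e0003)) (.node 2176 (.leaf 0x0) (.node 2177 (.leaf 0x0) (.leaf 0x0))))))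

def argWS_210 : Store := (.node 2188 (.node 2183 (.node 2180 (.node 2179 (.leaf 0x0) (.leaf 0x0)) (.node 2181 (.leaf 0x0) (.node 2182 (.leaf 0x0) (.leaf 0x0)))) (.node 2185 (.node 2184 (.leaf 0x0) (.leaf 0xe110e0003)) (.node 2186 (.leaf 0xe110f0c0004) (.node 2187 (.leaf 0x889) (.leaf 0xc100d0f0c0005))))) (.node 2193 (.node 2190 (.node 2189 (.leaf 0x0) (.leaf 0x0)) (.node 2191 (.leaf 0xb0a0c0f0c0005) (.node 2192 (.leaf 0xd110d0003) (.leaf 0xf100b0d0f0c0006)))) (.node 2196 (.node 2194 (.leaf 0x100b0002) (.node 2195 (.leaf 0xf100d0003) (.leaf 0x110b0c0003))) (.node 2197 (.leaf 0x0) (.node 2198 (.leaf 0x7010009080607090008) (.leaf 0x108060607090006))))))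

def argWS_211 : Store := (.node 2178 argWS_209 argWS_210)

def argWS_212 : Store := (.node 2158 argWS_208 argWS_211)

def argWS_213 : Store := (.node 2209 (.node 2204 (.node 2201 (.node 2200 (.leaf 0x0) (.leaf 0xf100d0003)) (.node 2202 (.leaf 0x0) (.node 2203 (.leaf 0x89900089300089200089100089000088f) (.leaf 0xe100d0d0e0005)))) (.node 2206 (.node 2205 (.leaf 0x0) (.leaf 0xf0c0002)) (.node 2207 (.leaf 0x0) (.node 2208 (.leaf 0x0) (.leaf 0xf100b0f0f0c0006))))) (.node 2214 (.node 2211 (.node 2210 (.leaf 0xf0001) (.leaf 0x8a1)) (.node 2212 (.leaf 0xe110f0f0c0005) (.node 2213 (.leaf 0x0) (.leaf 0x0)))) (.node 2216 (.node 2215 (.leaf 0x0) (.leaf 0x0)) (.node 2217 (.leaf 0x0) (.node 2218 (.leaf 0x110b0d0e0004) (.leaf 0xc100b0003))))))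

def argWS_214 : Store := (.node 2229 (.node 2224 (.node 2221 (.node 2220 (.leaf 0x8aa) (.leaf 0xb0a0e0003)) (.node 2222 (.leaf 0x0) (.node 2223 (.leaf 0xf100f0003) (.leaf 0xd100f0f0c0005)))) (.node 2226 (.node 2225 (.leaf 0x0) (.leaf 0x400060607090006)) (.node 2227 (.leaf 0x408050003) (.node 2228 (.leaf 0x0) (.leaf 0xf100d0f0c0005))))) (.node 2234 (.node 2231 (.node 2230 (.leaf 0x0) (.leaf 0x110b0002)) (.node 2232 (.leaf 0x110e0002) (.node 2233 (.leaf 0xd110e0003) (.leaf 0xc100b0d0004)))) (.node 2237 (.node 2235 (.leaf 0x8b90008b80008b70008b60008b50008af) (.node 2236 (.leaf 0xc100d0003) (.leaf 0x0))) (.node 2238 (.leaf 0xb0f0002) (.node 2239 (.leaf 0x0) (.leaf 0x0))))))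

def argWS_215 : Store := (.node 2219 argWS_213 argWS_214)

def argWS_216 : Store := (.node 2250 (.node 2245 (.node 2242 (.node 2241 (.leaf 0x5070002) (.leaf 0x0)) (.node 2243 (.leaf 0xc100b0f0d0e0006) (.node 2244 (.leaf 0xe110e0003) (.leaf 0xd110f0c0004)))) (.node 2247 (.node 2246 (.leaf 0xf100b0f0004) (.leaf 0x110f0d0e0004)) (.node 2248 (.leaf 0xf100d0e0004) (.node 2249 (.leaf 0x100b0d0003) (.leaf 0x8c80008c70008c60008c50008c40008c3))))) (.node 2255 (.node 2252 (.node 2251 (.leaf 0xc100c0003) (.leaf 0x0)) (.node 2253 (.leaf 0xf100d0003) (.node 2254 (.leaf 0xd0001) (.leaf 0xc100f0003)))) (.node 2257 (.node 2256 (.leaf 0xa0d0002) (.leaf 0x100b0f0d0e0005)) (.node 2258 (.leaf 0xe100d0f0c0005) (.node 2259 (.leaf 0xb0a0f0003) (.leaf 0xd100002))))))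

def argWS_217 : Store := (.node 2270 (.node 2265 (.node 2262 (.node 2261 (.leaf 0x8d30008d20008d10008d00008cf0008ce) (.leaf 0xf100f0f0c0005)) (.node 2263 (.leaf 0x0) (.node 2264 (.leaf 0xe100d0e0004) (.leaf 0x0)))) (.node 2267 (.node 2266 (.leaf 0x0) (.leaf 0x0)) (.node 2268 (.leaf 0x0) (.node 2269 (.leaf 0x60607090004) (.leaf 0x0))))) (.node 2275 (.node 2272 (.node 2271 (.leaf 0x0) (.leaf 0xd0d0e0003)) (.node 2273 (.leaf 0x10001) (.node 2274 (.leaf 0x0) (.leaf 0x0)))) (.node 2278 (.node 2276 (.leaf 0xc100e0003) (.node 2277 (.leaf 0x0) (.leaf 0x0))) (.node 2279 (.leaf 0x0) (.node 2280 (.leaf 0x0) (.leaf 0x0))))))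

def argWS_218 : Store := (.node 2260 argWS_216 argWS_217)

def argWS_219 : Store := (.node 2240 argWS_215 argWS_218)

def argWS_220 : Store := (.node 2199 argWS_212 argWS_219)

def argWS_221 : Store := (.node 2118 argWS_205 argWS_220)

def argWS_222 : Store := (.node 2291 (.node 2286 (.node 2283 (.node 2282 (.leaf 0x0) (.leaf 0x110f0002)) (.node 2284 (.leaf 0xf100002) (.node 2285 (.leaf 0x8eb) (.leaf 0xb0f0d0e0004)))) (.node 2288 (.node 2287 (.leaf 0x0) (.leaf 0x0)) (.node 2289 (.leaf 0xf100b0f0d0e0006) (.node 2290 (.leaf 0xc100b0f0c0005) (.leaf 0x8f1))))) (.node 2296 (.node 2293 (.node 2292 (.leaf 0xc100b0f0c0005) (.leaf 0x0)) (.node 2294 (.leaf 0x0) (.node 2295 (.leaf 0x0) (.leaf 0x0)))) (.node 2298 (.node 2297 (.leaf 0x0) (.leaf 0x0)) (.node 2299 (.leaf 0x0) (.node 2300 (.leaf 0x0) (.leaf 0x0))))))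

def argWS_223 : Store := (.node 2311 (.node 2306 (.node 2303 (.node 2302 (.leaf 0xd110f0d0e0005) (.leaf 0x100e0002)) (.node 2304 (.leaf 0xd100002) (.node 2305 (.leaf 0x10209080607090007) (.leaf 0x0)))) (.node 2308 (.node 2307 (.leaf 0xb0d0f0c0004) (.leaf 0x110b0002)) (.node 2309 (.leaf 0xd110d0003) (.node 2310 (.leaf 0x4010607090005) (.leaf 0x0))))) (.node 2316 (.node 2313 (.node 2312 (.leaf 0xf100b0f0c0005) (.leaf 0x9070009060009030009020009010008fe)) (.node 2314 (.leaf 0xf100d0003) (.node 2315 (.leaf 0x0) (.leaf 0x0)))) (.node 2318 (.node 2317 (.leaf 0x0) (.leaf 0x30401070004)) (.node 2319 (.leaf 0x0) (.node 2320 (.leaf 0x0) (.leaf 0xb0a0f0f0c0005))))))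

def argWS_224 : Store := (.node 2301 argWS_222 argWS_223)

def argWS_225 : Store := (.node 2331 (.node 2326 (.node 2323 (.node 2322 (.leaf 0x0) (.leaf 0x10001)) (.node 2324 (.leaf 0x0) (.node 2325 (.leaf 0x0) (.leaf 0x110b0f0f0c0005)))) (.node 2328 (.node 2327 (.leaf 0x0) (.leaf 0x0)) (.node 2329 (.leaf 0x0) (.node 2330 (.leaf 0x0) (.leaf 0x0))))) (.node 2336 (.node 2333 (.node 2332 (.leaf 0x0) (.leaf 0x0)) (.node 2334 (.leaf 0x104050705080006) (.node 2335 (.leaf 0x0) (.leaf 0x1000507060607090008)))) (.node 2338 (.node 2337 (.leaf 0x1000507060607090008) (.leaf 0x0)) (.node 2339 (.leaf 0x0) (.node 2340 (.leaf 0x0) (.leaf 0x30201050705080007))))))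

def argWS_226 : Store := (.node 2351 (.node 2346 (.node 2343 (.node 2342 (.leaf 0x0) (.leaf 0x0)) (.node 2344 (.leaf 0x0) (.node 2345 (.leaf 0x0) (.leaf 0xd100d0f0c0005)))) (.node 2348 (.node 2347 (.leaf 0x0) (.leaf 0x0)) (.node 2349 (.leaf 0x0) (.node 2350 (.leaf 0x1000507060607090008) (.leaf 0x1080002))))) (.node 2356 (.node 2353 (.node 2352 (.leaf 0x0) (.leaf 0x100f0c0003)) (.node 2354 (.leaf 0x0) (.node 2355 (.leaf 0x0) (.leaf 0x0)))) (.node 2359 (.node 2357 (.leaf 0x0) (.node 2358 (.leaf 0x0) (.leaf 0x1000507060607090008))) (.node 2360 (.leaf 0x1070002) (.node 2361 (.leaf 0x0) (.leaf 0xe100f0d0e0005))))))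

def argWS_227 : Store := (.node 2341 argWS_225 argWS_226)

def argWS_228 : Store := (.node 2321 argWS_224 argWS_227)

def argWS_229 : Store := (.node 2372 (.node 2367 (.node 2364 (.node 2363 (.leaf 0x0) (.leaf 0x0)) (.node 2365 (.leaf 0x0) (.node 2366 (.leaf 0x0) (.leaf 0xb0a0d0d0e0005)))) (.node 2369 (.node 2368 (.leaf 0x8050002) (.leaf 0x0)) (.node 2370 (.leaf 0x0) (.node 2371 (.leaf 0xc100b0e0004) (.leaf 0x108050003))))) (.node 2377 (.node 2374 (.node 2373 (.leaf 0x0) (.leaf 0x0)) (.node 2375 (.leaf 0x0) (.node 2376 (.leaf 0x10001) (.leaf 0x0)))) (.node 2379 (.node 2378 (.leaf 0x0) (.leaf 0xe100f0d0e0005)) (.node 2380 (.leaf 0x10001) (.node 2381 (.leaf 0x0) (.leaf 0x0))))))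

def argWS_230 : Store := (.node 2392 (.node 2387 (.node 2384 (.node 2383 (.leaf 0xe0001) (.leaf 0x0)) (.node 2385 (.leaf 0x0) (.node 2386 (.leaf 0x203050705080006) (.leaf 0x0)))) (.node 2389 (.node 2388 (.leaf 0x0) (.leaf 0x905080003)) (.node 2390 (.leaf 0x0) (.node 2391 (.leaf 0x0) (.leaf 0x0))))) (.node 2397 (.node 2394 (.node 2393 (.leaf 0x0) (.leaf 0x0)) (.node 2395 (.leaf 0x0) (.node 2396 (.leaf 0x0) (.leaf 0x0)))) (.node 2400 (.node 2398 (.leaf 0xd100002) (.node 2399 (.leaf 0xb0f0d0e0004) (.leaf 0x95e))) (.node 2401 (.leaf 0xe100e0003) (.node 2402 (.leaf 0x0) (.leaf 0x0))))))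

def argWS_231 : Store := (.node 2382 argWS_229 argWS_230)

def argWS_232 : Store := (.node 2413 (.node 2408 (.node 2405 (.node 2404 (.leaf 0x0) (.leaf 0x0)) (.node 2406 (.leaf 0x0) (.node 2407 (.leaf 0xb0a0f0c0004) (.leaf 0xc100b0f0004)))) (.node 2410 (.node 2409 (.leaf 0x967) (.leaf 0x110b0d0f0c0005)) (.node 2411 (.leaf 0x0) (.node 2412 (.leaf 0x0) (.leaf 0x0))))) (.node 2418 (.node 2415 (.node 2414 (.leaf 0x0) (.leaf 0x0)) (.node 2416 (.leaf 0xc100b0f0f0c0006) (.node 2417 (.leaf 0xd0f0c0003) (.leaf 0x970)))) (.node 2420 (.node 2419 (.leaf 0xe110002) (.leaf 0x0)) (.node 2421 (.leaf 0x0) (.node 2422 (.leaf 0x0) (.leaf 0x0))))))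

def argWS_233 : Store := (.node 2433 (.node 2428 (.node 2425 (.node 2424 (.leaf 0x0) (.leaf 0x0)) (.node 2426 (.leaf 0x0) (.node 2427 (.leaf 0x110b0d0d0e0005) (.leaf 0xa0d0d0e0004)))) (.node 2430 (.node 2429 (.leaf 0x97b) (.leaf 0xd100d0f0c0005)) (.node 2431 (.leaf 0x0) (.node 2432 (.leaf 0x0) (.leaf 0x0))))) (.node 2438 (.node 2435 (.node 2434 (.leaf 0x0) (.leaf 0x0)) (.node 2436 (.leaf 0x0) (.node 2437 (.leaf 0x0) (.leaf 0x0)))) (.node 2441 (.node 2439 (.leaf 0x0) (.node 2440 (.leaf 0xc100d0f0c0005) (.leaf 0xe100d0d0e0005))) (.node 2442 (.leaf 0x988) (.node 2443 (.leaf 0xb0a0d0f0c0005) (.leaf 0x0))))))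

def argWS_234 : Store := (.node 2423 argWS_232 argWS_233)

def argWS_235 : Store := (.node 2403 argWS_231 argWS_234)

def argWS_236 : Store := (.node 2362 argWS_228 argWS_235)

def argWS_237 : Store := (.node 2454 (.node 2449 (.node 2446 (.node 2445 (.leaf 0x110b0f0f0c0005) (.leaf 0xa0c0f0c0004)) (.node 2447 (.leaf 0xe110c0003) (.node 2448 (.leaf 0x98e) (.leaf 0x100f0f0c0004)))) (.node 2451 (.node 2450 (.leaf 0x0) (.leaf 0x0)) (.node 2452 (.leaf 0x0) (.node 2453 (.leaf 0x0) (.leaf 0xf100b0f0f0c0006))))) (.node 2459 (.node 2456 (.node 2455 (.leaf 0xf0001) (.leaf 0x996)) (.node 2457 (.leaf 0xe110f0f0c0005) (.node 2458 (.leaf 0x0) (.leaf 0xb0a0d0003)))) (.node 2461 (.node 2460 (.leaf 0xc100c0003) (.leaf 0x99b)) (.node 2462 (.leaf 0x110b0d0e0004) (.node 2463 (.leaf 0x0) (.leaf 0xb0f0d0e0004))))))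

def argWS_238 : Store := (.node 2474 (.node 2469 (.node 2466 (.node 2465 (.leaf 0xc100d0e0004) (.leaf 0x9a0)) (.node 2467 (.leaf 0x110c0002) (.node 2468 (.leaf 0x0) (.leaf 0x0)))) (.node 2471 (.node 2470 (.leaf 0x0) (.leaf 0x0)) (.node 2472 (.leaf 0x0) (.node 2473 (.leaf 0x0) (.leaf 0x0))))) (.node 2479 (.node 2476 (.node 2475 (.leaf 0xe110c0003) (.leaf 0x100f0f0c0004)) (.node 2477 (.leaf 0x9ab) (.node 2478 (.leaf 0xa0c0f0c0004) (.leaf 0x0)))) (.node 2481 (.node 2480 (.leaf 0x0) (.leaf 0x0)) (.node 2482 (.leaf 0x0) (.node 2483 (.leaf 0x0) (.leaf 0x0))))))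

def argWS_239 : Store := (.node 2464 argWS_237 argWS_238)

def argWS_240 : Store := (.node 2494 (.node 2489 (.node 2486 (.node 2485 (.leaf 0xf100b0d0004) (.leaf 0xf100f0c0004)) (.node 2487 (.leaf 0x9b5) (.node 2488 (.leaf 0xf100b0e0004) (.leaf 0x0)))) (.node 2491 (.node 2490 (.leaf 0x0) (.leaf 0x0)) (.node 2492 (.leaf 0x100f0f0c0004) (.node 2493 (.leaf 0xa0c0f0c0004) (.leaf 0x9bc))))) (.node 2499 (.node 2496 (.node 2495 (.leaf 0xd100f0003) (.leaf 0x0)) (.node 2497 (.leaf 0x0) (.node 2498 (.leaf 0x0) (.leaf 0x0)))) (.node 2501 (.node 2500 (.leaf 0xf100b0d0f0c0006) (.leaf 0xe110f0f0c0005)) (.node 2502 (.leaf 0x9c4) (.node 2503 (.leaf 0xb0c0002) (.leaf 0x0))))))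

def argWS_241 : Store := (.node 2514 (.node 2509 (.node 2506 (.node 2505 (.leaf 0x0) (.leaf 0xc100d0e0004)) (.node 2507 (.leaf 0xe100f0d0e0005) (.node 2508 (.leaf 0x110001) (.leaf 0xf100b0f0f0c0006)))) (.node 2511 (.node 2510 (.leaf 0xf100f0003) (.leaf 0xd100f0f0c0005)) (.node 2512 (.leaf 0xb0001) (.node 2513 (.leaf 0x9cf0009ce0009cd0009cc0009cb0009ca) (.leaf 0xa0e0002))))) (.node 2519 (.node 2516 (.node 2515 (.leaf 0x0) (.leaf 0xd0d0e0003)) (.node 2517 (.leaf 0xc100b0d0004) (.node 2518 (.leaf 0xf100b0d0004) (.leaf 0x9d5)))) (.node 2522 (.node 2520 (.leaf 0xf100b0f0c0005) (.node 2521 (.leaf 0x0) (.leaf 0x0))) (.node 2523 (.leaf 0x0) (.node 2524 (.leaf 0x0) (.leaf 0x0))))))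

def argWS_242 : Store := (.node 2504 argWS_240 argWS_241)

def argWS_243 : Store := (.node 2484 argWS_239 argWS_242)

def argWS_244 : Store := (.node 2535 (.node 2530 (.node 2527 (.node 2526 (.leaf 0x0) (.leaf 0x0)) (.node 2528 (.leaf 0x0) (.node 2529 (.leaf 0x110f0f0c0004) (.leaf 0xb0c0f0c0004)))) (.node 2532 (.node 2531 (.leaf 0x9e1) (.leaf 0xe100c0003)) (.node 2533 (.leaf 0x0) (.node 2534 (.leaf 0x0) (.leaf 0x0))))) (.node 2540 (.node 2537 (.node 2536 (.leaf 0x0) (.leaf 0x0)) (.node 2538 (.leaf 0x0) (.node 2539 (.leaf 0x0) (.leaf 0x0)))) (.node 2542 (.node 2541 (.leaf 0x110d0d0e0004) (.leaf 0xd0d0e0003)) (.node 2543 (.leaf 0x9ed) (.node 2544 (.leaf 0xe110d0e0004) (.leaf 0x0))))))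

def argWS_245 : Store := (.node 2555 (.node 2550 (.node 2547 (.node 2546 (.leaf 0x0) (.leaf 0x110b0d0003)) (.node 2548 (.leaf 0x100e0002) (.node 2549 (.leaf 0x9f3) (.leaf 0xf100d0d0e0005)))) (.node 2552 (.node 2551 (.leaf 0x0) (.leaf 0x0)) (.node 2553 (.leaf 0x0) (.node 2554 (.leaf 0xa0d0002) (.leaf 0xf100d0f0c0005))))) (.node 2560 (.node 2557 (.node 2556 (.leaf 0x9fa) (.leaf 0x100d0e0003)) (.node 2558 (.leaf 0x0) (.node 2559 (.leaf 0x0) (.leaf 0x100b0f0d0e0005)))) (.node 2563 (.node 2561 (.leaf 0x110b0d0e0004) (.node 2562 (.leaf 0xf100d0d0e0005) (.leaf 0x110f0f0c0004))) (.node 2564 (.leaf 0xb0d0d0e0004) (.node 2565 (.leaf 0xb0a0d0003) (.leaf 0x100b0f0d0e0005))))))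

def argWS_246 : Store := (.node 2545 argWS_244 argWS_245)

def argWS_247 : Store := (.node 2576 (.node 2571 (.node 2568 (.node 2567 (.leaf 0xa05000a04000a03000a02000a01000a00) (.leaf 0x100b0d0f0c0005)) (.node 2569 (.leaf 0x0) (.node 2570 (.leaf 0x100b0c0f0c0005) (.leaf 0x0)))) (.node 2573 (.node 2572 (.leaf 0xd110f0d0e0005) (.leaf 0xd110f0003)) (.node 2574 (.leaf 0xe100f0c0004) (.node 2575 (.leaf 0x0) (.leaf 0x204050707090006))))) (.node 2581 (.node 2578 (.node 2577 (.leaf 0x20008050705080007) (.leaf 0x0)) (.node 2579 (.leaf 0xf100c0f0c0005) (.node 2580 (.leaf 0x0) (.leaf 0x0)))) (.node 2583 (.node 2582 (.leaf 0x301060705080006) (.leaf 0x10405070905080007)) (.node 2584 (.leaf 0x0) (.node 2585 (.leaf 0xc100f0c0004) (.leaf 0x0))))))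

def argWS_248 : Store := (.node 2596 (.node 2591 (.node 2588 (.node 2587 (.leaf 0xd110002) (.leaf 0xe100d0d0e0005)) (.node 2589 (.leaf 0xa1b000a1a000a19000a13000a0d000a0c) (.node 2590 (.leaf 0xc100002) (.leaf 0x0)))) (.node 2593 (.node 2592 (.leaf 0x0) (.leaf 0x0)) (.node 2594 (.leaf 0x0) (.node 2595 (.leaf 0x0) (.leaf 0x0))))) (.node 2601 (.node 2598 (.node 2597 (.leaf 0x0) (.leaf 0x0)) (.node 2599 (.leaf 0x0) (.node 2600 (.leaf 0x0) (.leaf 0x0)))) (.node 2604 (.node 2602 (.leaf 0x0) (.node 2603 (.leaf 0x0) (.leaf 0x0))) (.node 2605 (.leaf 0x0) (.node 2606 (.leaf 0x0) (.leaf 0x0))))))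

def argWS_249 : Store := (.node 2586 argWS_247 argWS_248)

def argWS_250 : Store := (.node 2566 argWS_246 argWS_249)

def argWS_251 : Store := (.node 2525 argWS_243 argWS_250)

def argWS_252 : Store := (.node 2444 argWS_236 argWS_251)

def argWS_253 : Store := (.node 2281 argWS_221 argWS_252)

def argWS_254 : Store := (.node 1955 argWS_190 argWS_253)

def argWS_255 : Store := (.node 1303 argWS_127 argWS_254)

def argWS_256 : Store := (.node 2617 (.node 2612 (.node 2609 (.node 2608 (.leaf 0xa0d0f0c0004) (.leaf 0x110b0f0003)) (.node 2610 (.leaf 0xa30) (.node 2611 (.leaf 0x100e0002) (.leaf 0x0)))) (.node 2614 (.node 2613 (.leaf 0x0) (.leaf 0x0)) (.node 2615 (.leaf 0xb0a0d0f0c0005) (.node 2616 (.leaf 0x100b0e0003) (.leaf 0xa37))))) (.node 2622 (.node 2619 (.node 2618 (.leaf 0xc100c0f0c0005) (.leaf 0x0)) (.node 2620 (.leaf 0xf100b0c0f0c0006) (.node 2621 (.leaf 0x0) (.leaf 0xd110f0003)))) (.node 2624 (.node 2623 (.leaf 0x110f0f0c0004)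 (.leaf 0xa3e)) (.node 2625 (.leaf 0xb0c0f0c0004) (.node 2626 (.leaf 0x0) (.leaf 0x0))))))

def argWS_257 : Store := (.node 2637 (.node 2632 (.node 2629 (.node 2628 (.leaf 0x0) (.leaf 0x0)) (.node 2630 (.leaf 0x0) (.node 2631 (.leaf 0x0) (.leaf 0x0)))) (.node 2634 (.node 2633 (.leaf 0xe110e0003) (.leaf 0xe110f0c0004)) (.node 2635 (.leaf 0xa49) (.node 2636 (.leaf 0xc100d0f0c0005) (.leaf 0x0))))) (.node 2642 (.node 2639 (.node 2638 (.leaf 0x0) (.leaf 0x0)) (.node 2640 (.leaf 0x0) (.node 2641 (.leaf 0x0) (.leaf 0x0)))) (.node 2644 (.node 2643 (.leaf 0x0) (.leaf 0x0)) (.node 2645 (.leaf 0x0) (.node 2646 (.leaf 0x100f0f0c0004) (.leaf 0xa0c0f0c0004))))))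

def argWS_258 : Store := (.node 2627 argWS_256 argWS_257)

def argWS_259 : Store := (.node 2657 (.node 2652 (.node 2649 (.node 2648 (.leaf 0xa56) (.leaf 0xd100f0003)) (.node 2650 (.leaf 0x0) (.node 2651 (.leaf 0x0) (.leaf 0x0)))) (.node 2654 (.node 2653 (.leaf 0x0) (.leaf 0x0)) (.node 2655 (.leaf 0x0) (.node 2656 (.leaf 0x0) (.leaf 0x0))))) (.node 2662 (.node 2659 (.node 2658 (.leaf 0x0) (.leaf 0x0)) (.node 2660 (.leaf 0x0) (.node 2661 (.leaf 0x110d0002) (.leaf 0x110e0002)))) (.node 2664 (.node 2663 (.leaf 0xa65) (.leaf 0xc100b0c0f0c0006)) (.node 2665 (.leaf 0x0) (.node 2666 (.leaf 0xe100f0003) (.leaf 0xa69))))))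

def argWS_260 : Store := (.node 2677 (.node 2672 (.node 2669 (.node 2668 (.leaf 0x100b0c0f0c0005) (.leaf 0x0)) (.node 2670 (.leaf 0xd110d0f0c0005) (.node 2671 (.leaf 0x100d0d0e0004) (.leaf 0xa6e)))) (.node 2674 (.node 2673 (.leaf 0xb0a0d0d0e0005) (.leaf 0x0)) (.node 2675 (.leaf 0xb0d0d0e0004) (.node 2676 (.leaf 0xe100d0e0004) (.leaf 0xa73))))) (.node 2682 (.node 2679 (.node 2678 (.leaf 0x110d0d0e0004) (.leaf 0x0)) (.node 2680 (.leaf 0x0) (.node 2681 (.leaf 0x0) (.leaf 0x0)))) (.node 2685 (.node 2683 (.leaf 0x0) (.node 2684 (.leaf 0x0) (.leaf 0x0))) (.node 2686 (.leaf 0x0) (.node 2687 (.leaf 0x0) (.leaf 0x0))))))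

def argWS_261 : Store := (.node 2667 argWS_259 argWS_260)

def argWS_262 : Store := (.node 2647 argWS_258 argWS_261)

def argWS_263 : Store := (.node 2698 (.node 2693 (.node 2690 (.node 2689 (.leaf 0x0) (.leaf 0x0)) (.node 2691 (.leaf 0x100d0d0e0004) (.node 2692 (.leaf 0xb0a0d0d0e0005) (.leaf 0xa83)))) (.node 2695 (.node 2694 (.leaf 0xd110d0f0c0005) (.leaf 0x0)) (.node 2696 (.leaf 0x0) (.node 2697 (.leaf 0x0) (.leaf 0x0))))) (.node 2703 (.node 2700 (.node 2699 (.leaf 0x0) (.leaf 0x0)) (.node 2701 (.leaf 0x0) (.node 2702 (.leaf 0x0) (.leaf 0x0)))) (.node 2705 (.node 2704 (.leaf 0x0) (.leaf 0x0)) (.node 2706 (.leaf 0x0) (.node 2707 (.leaf 0x0) (.leaf 0x0))))))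

def argWS_264 : Store := (.node 2718 (.node 2713 (.node 2710 (.node 2709 (.leaf 0x0) (.leaf 0x0)) (.node 2711 (.leaf 0x0) (.node 2712 (.leaf 0x0) (.leaf 0x0)))) (.node 2715 (.node 2714 (.leaf 0x0) (.leaf 0x110c0f0c0004)) (.node 2716 (.leaf 0xb0a0002) (.node 2717 (.leaf 0xa9b) (.leaf 0xd110c0003))))) (.node 2723 (.node 2720 (.node 2719 (.leaf 0x0) (.leaf 0x0)) (.node 2721 (.leaf 0x0) (.node 2722 (.leaf 0x0) (.leaf 0x0)))) (.node 2725 (.node 2724 (.leaf 0x0) (.leaf 0xf100d0f0c0005)) (.node 2726 (.leaf 0xe100f0f0c0005) (.node 2727 (.leaf 0xaa5) (.leaf 0xa0c0002))))))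

def argWS_265 : Store := (.node 2708 argWS_263 argWS_264)

def argWS_266 : Store := (.node 2738 (.node 2733 (.node 2730 (.node 2729 (.leaf 0x0) (.leaf 0x0)) (.node 2731 (.leaf 0xc100f0003) (.node 2732 (.leaf 0xe100c0f0c0005) (.leaf 0xaab)))) (.node 2735 (.node 2734 (.leaf 0xd0e0002) (.leaf 0x0)) (.node 2736 (.leaf 0x0) (.node 2737 (.leaf 0x0) (.leaf 0xd0e0002))))) (.node 2743 (.node 2740 (.node 2739 (.leaf 0x110b0d0f0c0005) (.leaf 0xab2)) (.node 2741 (.leaf 0xb0d0f0c0004) (.node 2742 (.leaf 0x0) (.leaf 0x0)))) (.node 2745 (.node 2744 (.leaf 0x100f0d0e0004) (.leaf 0xe110c0f0c0005)) (.node 2746 (.leaf 0xd100c0003) (.node 2747 (.leaf 0x0) (.leaf 0x7020108050705080008))))))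

def argWS_267 : Store := (.node 2758 (.node 2753 (.node 2750 (.node 2749 (.leaf 0x1040607060607090008) (.leaf 0x0)) (.node 2751 (.leaf 0x110b0f0d0e0005) (.node 2752 (.leaf 0x0) (.leaf 0xb0a0f0f0c0005)))) (.node 2755 (.node 2754 (.leaf 0xd100f0f0c0005) (.leaf 0xf100b0f0c0005)) (.node 2756 (.leaf 0xac2000ac1000ac0000abf000ab9000ab8) (.node 2757 (.leaf 0xe110002) (.leaf 0x0))))) (.node 2763 (.node 2760 (.node 2759 (.leaf 0xf0d0e0003) (.leaf 0x0)) (.node 2761 (.leaf 0x0) (.node 2762 (.leaf 0x0) (.leaf 0x0)))) (.node 2766 (.node 2764 (.leaf 0x0) (.node 2765 (.leaf 0x0) (.leaf 0x0))) (.node 2767 (.leaf 0xd100d0003) (.node 2768 (.leaf 0x100f0002) (.leaf 0xf100b0d0004))))))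

def argWS_268 : Store := (.node 2748 argWS_266 argWS_267)

def argWS_269 : Store := (.node 2728 argWS_265 argWS_268)

def argWS_270 : Store := (.node 2688 argWS_262 argWS_269)

def argWS_271 : Store := (.node 2779 (.node 2774 (.node 2771 (.node 2770 (.leaf 0xe100f0c0004) (.leaf 0x0)) (.node 2772 (.leaf 0x301060705080006) (.node 2773 (.leaf 0x205070905080006) (.leaf 0x0)))) (.node 2776 (.node 2775 (.leaf 0xe100d0e0004) (.leaf 0x0)) (.node 2777 (.leaf 0xa0f0002) (.node 2778 (.leaf 0xad80001ad000ad7000ad1000ad0000acf) (.leaf 0x0))))) (.node 2784 (.node 2781 (.node 2780 (.leaf 0x301060607090006) (.leaf 0x30108050705080007)) (.node 2782 (.leaf 0x0) (.node 2783 (.leaf 0x0) (.leaf 0x0)))) (.node 2786 (.node 2785 (.leaf 0xa0f0f0c0004) (.leaf 0x0)) (.node 2787 (.leaf 0xc0f0c0003) (.node 2788 (.leaf 0x0) (.leaf 0x0))))))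

def argWS_272 : Store := (.node 2799 (.node 2794 (.node 2791 (.node 2790 (.leaf 0x0) (.leaf 0x0)) (.node 2792 (.leaf 0x0) (.node 2793 (.leaf 0x0) (.leaf 0x0)))) (.node 2796 (.node 2795 (.leaf 0xe110d0e0004) (.leaf 0x110d0d0e0004)) (.node 2797 (.leaf 0xaeb) (.node 2798 (.leaf 0x100d0f0c0004) (.leaf 0x0))))) (.node 2804 (.node 2801 (.node 2800 (.leaf 0xe110002) (.leaf 0x0)) (.node 2802 (.leaf 0x0) (.node 2803 (.leaf 0x110b0f0d0e0005) (.leaf 0x110b0d0003)))) (.node 2806 (.node 2805 (.leaf 0xaf3) (.leaf 0xc100f0f0c0005)) (.node 2807 (.leaf 0x0) (.node 2808 (.leaf 0x0) (.leaf 0x0))))))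

def argWS_273 : Store := (.node 2789 argWS_271 argWS_272)

def argWS_274 : Store := (.node 2819 (.node 2814 (.node 2811 (.node 2810 (.leaf 0x110d0e0003) (.leaf 0xf100f0003)) (.node 2812 (.leaf 0x100c0f0c0004) (.node 2813 (.leaf 0x0) (.leaf 0x301060705080006)))) (.node 2816 (.node 2815 (.leaf 0x40207050705080007) (.leaf 0x0)) (.node 2817 (.leaf 0x100e0002) (.node 2818 (.leaf 0x0) (.leaf 0xd0001))))) (.node 2824 (.node 2821 (.node 2820 (.leaf 0xf0d0e0003) (.leaf 0xb0a0c0003)) (.node 2822 (.leaf 0xb04000b03000b02000b01000afb000afa) (.node 2823 (.leaf 0xf100f0c0004) (.leaf 0x0)))) (.node 2826 (.node 2825 (.leaf 0xc0001) (.leaf 0x0)) (.node 2827 (.leaf 0x0) (.node 2828 (.leaf 0xe110e0003) (.leaf 0xd100f0003))))))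

def argWS_275 : Store := (.node 2839 (.node 2834 (.node 2831 (.node 2830 (.leaf 0xc100002) (.leaf 0xc100d0003)) (.node 2832 (.leaf 0xe110d0d0e0005) (.node 2833 (.leaf 0xe100d0d0e0005) (.leaf 0x100d0002)))) (.node 2836 (.node 2835 (.leaf 0xb11000b10000b0f000b0e000b0d000b0c) (.leaf 0xf100d0f0c0005)) (.node 2837 (.leaf 0x0) (.node 2838 (.leaf 0x0) (.leaf 0x0))))) (.node 2844 (.node 2841 (.node 2840 (.leaf 0x0) (.leaf 0xe110e0003)) (.node 2842 (.leaf 0xa0f0f0c0004) (.node 2843 (.leaf 0x110001) (.leaf 0xf100b0f0f0c0006)))) (.node 2847 (.node 2845 (.leaf 0x100b0002) (.node 2846 (.leaf 0x110c0002) (.leaf 0xf100f0f0c0005))) (.node 2848 (.leaf 0xb1e000b1d000b1c000b1b000b1a000b19) (.node 2849 (.leaf 0x100b0002) (.leaf 0x0))))))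

def argWS_276 : Store := (.node 2829 argWS_274 argWS_275)

def argWS_277 : Store := (.node 2809 argWS_273 argWS_276)

def argWS_278 : Store := (.node 2860 (.node 2855 (.node 2852 (.node 2851 (.leaf 0xd100f0003) (.leaf 0x0)) (.node 2853 (.leaf 0x0) (.node 2854 (.leaf 0x0) (.leaf 0x0)))) (.node 2857 (.node 2856 (.leaf 0x0) (.leaf 0x0)) (.node 2858 (.leaf 0x0) (.node 2859 (.leaf 0x0) (.leaf 0x0))))) (.node 2865 (.node 2862 (.node 2861 (.leaf 0xb0f0f0c0004) (.leaf 0xf100b0e0004)) (.node 2863 (.leaf 0xb0a0002) (.node 2864 (.leaf 0xf100b0d0004) (.leaf 0x110b0c0003)))) (.node 2867 (.node 2866 (.leaf 0xf100f0f0c0005) (.leaf 0x100b0002)) (.node 2868 (.leaf 0xb32000b31000b30000b2f000b2e000b2d) (.node 2869 (.leaf 0xc100c0003) (.leaf 0x0))))))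

def argWS_279 : Store := (.node 2880 (.node 2875 (.node 2872 (.node 2871 (.leaf 0x100d0d0e0004) (.leaf 0xe100002)) (.node 2873 (.leaf 0xb0e0002) (.node 2874 (.leaf 0xb38) (.leaf 0xe100f0d0e0005)))) (.node 2877 (.node 2876 (.leaf 0x0) (.leaf 0x0)) (.node 2878 (.leaf 0xf100b0d0e0005) (.node 2879 (.leaf 0xd100f0f0c0005) (.leaf 0xb3e))))) (.node 2885 (.node 2882 (.node 2881 (.leaf 0xa0d0e0003) (.leaf 0x0)) (.node 2883 (.leaf 0x0) (.node 2884 (.leaf 0x0) (.leaf 0x0)))) (.node 2888 (.node 2886 (.leaf 0x0) (.node 2887 (.leaf 0xe100002) (.leaf 0xd100002))) (.node 2889 (.leaf 0xb47) (.node 2890 (.leaf 0xb0d0f0c0004) (.leaf 0x0))))))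

def argWS_280 : Store := (.node 2870 argWS_278 argWS_279)

def argWS_281 : Store := (.node 2901 (.node 2896 (.node 2893 (.node 2892 (.leaf 0xc100b0d0004) (.leaf 0xf100b0d0f0c0006)) (.node 2894 (.leaf 0xe110f0f0c0005) (.node 2895 (.leaf 0xb4d) (.leaf 0xb0c0002)))) (.node 2898 (.node 2897 (.leaf 0x0) (.leaf 0x0)) (.node 2899 (.leaf 0x0) (.node 2900 (.leaf 0x0) (.leaf 0x0))))) (.node 2906 (.node 2903 (.node 2902 (.leaf 0x0) (.leaf 0xf100d0d0e0005)) (.node 2904 (.leaf 0x110f0f0c0004) (.node 2905 (.leaf 0x0) (.leaf 0x1000507060607090008)))) (.node 2908 (.node 2907 (.leaf 0x70105070905080007) (.leaf 0x0)) (.node 2909 (.leaf 0xf100b0f0c0005) (.node 2910 (.leaf 0x0) (.leaf 0x100d0d0e0004))))))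

def argWS_282 : Store := (.node 2921 (.node 2916 (.node 2913 (.node 2912 (.leaf 0xb0a0d0003) (.leaf 0x110b0f0d0e0005)) (.node 2914 (.leaf 0xf100d0e0004) (.node 2915 (.leaf 0xb61000b60000b5f000b5e000b5d000b57) (.leaf 0xc100b0003)))) (.node 2918 (.node 2917 (.leaf 0x0) (.leaf 0xe100f0d0e0005)) (.node 2919 (.leaf 0x0) (.node 2920 (.leaf 0x0) (.leaf 0xd110f0003))))) (.node 2926 (.node 2923 (.node 2922 (.leaf 0x110f0f0c0004) (.leaf 0xb69)) (.node 2924 (.leaf 0xb0c0f0c0004) (.node 2925 (.leaf 0x0) (.leaf 0x0)))) (.node 2929 (.node 2927 (.leaf 0x0) (.node 2928 (.leaf 0x0) (.leaf 0x0))) (.node 2930 (.leaf 0x0) (.node 2931 (.leaf 0x0) (.leaf 0xd110002))))))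

def argWS_283 : Store := (.node 2911 argWS_281 argWS_282)

def argWS_284 : Store := (.node 2891 argWS_280 argWS_283)

def argWS_285 : Store := (.node 2850 argWS_277 argWS_284)

def argWS_286 : Store := (.node 2769 argWS_270 argWS_285)

def argWS_287 : Store := (.node 2942 (.node 2937 (.node 2934 (.node 2933 (.leaf 0xa0f0d0e0004) (.leaf 0xb74)) (.node 2935 (.leaf 0xd100f0d0e0005) (.node 2936 (.leaf 0x0) (.leaf 0xd110f0d0e0005)))) (.node 2939 (.node 2938 (.leaf 0xe100f0c0004) (.leaf 0xb79)) (.node 2940 (.leaf 0x110b0e0003) (.node 2941 (.leaf 0xb0a0e0003) (.leaf 0xf100c0003))))) (.node 2947 (.node 2944 (.node 2943 (.leaf 0xb7d) (.leaf 0x110b0f0003)) (.node 2945 (.leaf 0x0) (.node 2946 (.leaf 0x0) (.leaf 0x0)))) (.node 2949 (.node 2948 (.leaf 0x0) (.leaf 0x0)) (.node 2950 (.leaf 0x0) (.node 2951 (.leaf 0x0) (.leaf 0x0))))))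

def argWS_288 : Store := (.node 2962 (.node 2957 (.node 2954 (.node 2953 (.leaf 0x0) (.leaf 0xb0a0d0003)) (.node 2955 (.leaf 0xc100c0003) (.node 2956 (.leaf 0xb8a) (.leaf 0x110b0d0e0004)))) (.node 2959 (.node 2958 (.leaf 0x0) (.leaf 0xb0d0e0003)) (.node 2960 (.leaf 0x100b0d0f0c0005) (.node 2961 (.leaf 0xb8f) (.leaf 0x110f0c0003))))) (.node 2967 (.node 2964 (.node 2963 (.leaf 0x0) (.leaf 0x0)) (.node 2965 (.leaf 0x0) (.node 2966 (.leaf 0x0) (.leaf 0x0)))) (.node 2969 (.node 2968 (.leaf 0x0) (.leaf 0x110d0d0e0004)) (.node 2970 (.leaf 0xd0d0e0003) (.node 2971 (.leaf 0xb99) (.leaf 0xe110d0e0004))))))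

def argWS_289 : Store := (.node 2952 argWS_287 argWS_288)

def argWS_290 : Store := (.node 2982 (.node 2977 (.node 2974 (.node 2973 (.leaf 0x0) (.leaf 0xc100d0e0004)) (.node 2975 (.leaf 0xf100b0d0e0005) (.node 2976 (.leaf 0x0) (.leaf 0x1000507060607090008)))) (.node 2979 (.node 2978 (.leaf 0x4010507060607090008) (.leaf 0x0)) (.node 2980 (.leaf 0xb0a0002) (.node 2981 (.leaf 0x0) (.leaf 0x110b0d0d0e0005))))) (.node 2987 (.node 2984 (.node 2983 (.leaf 0xf100b0e0004) (.leaf 0x100b0002)) (.node 2985 (.leaf 0xd100d0003) (.node 2986 (.leaf 0xba8000ba7000ba6000ba5000ba4000b9e) (.leaf 0xb0f0f0c0004)))) (.node 2989 (.node 2988 (.leaf 0x0) (.leaf 0x0)) (.node 2990 (.leaf 0x0) (.node 2991 (.leaf 0x7020107050705080008) (.leaf 0x10001))))))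

def argWS_291 : Store := (.node 3002 (.node 2997 (.node 2994 (.node 2993 (.leaf 0x0) (.leaf 0x0)) (.node 2995 (.leaf 0xb0a0e0003) (.node 2996 (.leaf 0x0) (.leaf 0x0)))) (.node 2999 (.node 2998 (.leaf 0x0) (.leaf 0x0)) (.node 3000 (.leaf 0x0) (.node 3001 (.leaf 0xf100f0c0004) (.leaf 0x110f0002))))) (.node 3007 (.node 3004 (.node 3003 (.leaf 0xe110f0003) (.leaf 0x0)) (.node 3005 (.leaf 0x2040109080607090008) (.node 3006 (.leaf 0x3000507050005) (.leaf 0x0)))) (.node 3010 (.node 3008 (.leaf 0xb0a0f0003) (.node 3009 (.leaf 0x0) (.leaf 0xf100d0f0c0005))) (.node 3011 (.leaf 0xd100d0e0004) (.node 3012 (.leaf 0x0) (.leaf 0x905080003))))))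

def argWS_292 : Store := (.node 2992 argWS_290 argWS_291)

def argWS_293 : Store := (.node 2972 argWS_289 argWS_292)

def argWS_294 : Store := (.node 3023 (.node 3018 (.node 3015 (.node 3014 (.leaf 0x104090003) (.leaf 0x0)) (.node 3016 (.leaf 0xf100b0f0f0c0006) (.node 3017 (.leaf 0x0) (.leaf 0xbc8000bc2000bc1000bc0000bba000bb9)))) (.node 3020 (.node 3019 (.leaf 0x110b0002) (.leaf 0x0)) (.node 3021 (.leaf 0xd100f0f0c0005) (.node 3022 (.leaf 0x0) (.leaf 0x0))))) (.node 3028 (.node 3025 (.node 3024 (.leaf 0x0) (.leaf 0x0)) (.node 3026 (.leaf 0x0) (.node 3027 (.leaf 0x0) (.leaf 0xc100d0d0e0005)))) (.node 3030 (.node 3029 (.leaf 0xb0a0d0e0004) (.leaf 0xbd4)) (.node 3031 (.leaf 0xd110f0f0c0005) (.node 3032 (.leaf 0x0) (.leaf 0x0))))))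

def argWS_295 : Store := (.node 3043 (.node 3038 (.node 3035 (.node 3034 (.leaf 0x0) (.leaf 0x110001)) (.node 3036 (.leaf 0xb0a0c0003) (.node 3037 (.leaf 0x100b0d0f0c0005) (.leaf 0xd0f0c0003)))) (.node 3040 (.node 3039 (.leaf 0xb0a0002) (.leaf 0xe110e0003)) (.node 3041 (.leaf 0xd110f0003) (.node 3042 (.leaf 0xbe0000bdf000bde000bdd000bdc000bdb) (.leaf 0xc100b0c0004))))) (.node 3048 (.node 3045 (.node 3044 (.leaf 0x0) (.leaf 0xb0a0c0f0c0005)) (.node 3046 (.leaf 0xd100f0d0e0005) (.node 3047 (.leaf 0xc100b0c0f0c0006) (.leaf 0xb0d0f0c0004)))) (.node 3051 (.node 3049 (.leaf 0xf0d0e0003) (.node 3050 (.leaf 0x0) (.leaf 0x7020105080005))) (.node 3052 (.leaf 0x3040809080005) (.node 3053 (.leaf 0x0) (.leaf 0xb0f0f0c0004))))))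

def argWS_296 : Store := (.node 3033 argWS_294 argWS_295)

def argWS_297 : Store := (.node 3064 (.node 3059 (.node 3056 (.node 3055 (.leaf 0x0) (.leaf 0x0)) (.node 3057 (.leaf 0x400060607090006) (.node 3058 (.leaf 0x10408060004) (.leaf 0x0)))) (.node 3061 (.node 3060 (.leaf 0xd110f0d0e0005) (.leaf 0x0)) (.node 3062 (.leaf 0xe110f0d0e0005) (.node 3063 (.leaf 0xbf5000bf4000bee000be8000be7000be6) (.leaf 0xe110f0003))))) (.node 3069 (.node 3066 (.node 3065 (.leaf 0x0) (.leaf 0xd110d0f0c0005)) (.node 3067 (.leaf 0x0) (.node 3068 (.leaf 0x0) (.leaf 0x0)))) (.node 3071 (.node 3070 (.leaf 0x0) (.leaf 0x0)) (.node 3072 (.leaf 0xb0a0d0003) (.node 3073 (.leaf 0xc100c0003) (.leaf 0xc00))))))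

def argWS_298 : Store := (.node 3084 (.node 3079 (.node 3076 (.node 3075 (.leaf 0x110b0d0e0004) (.leaf 0x0)) (.node 3077 (.leaf 0x0) (.node 3078 (.leaf 0x0) (.leaf 0x0)))) (.node 3081 (.node 3080 (.leaf 0x0) (.leaf 0x0)) (.node 3082 (.leaf 0x0) (.node 3083 (.leaf 0xe110f0003) (.leaf 0x110b0c0f0c0005))))) (.node 3089 (.node 3086 (.node 3085 (.leaf 0xc0b) (.leaf 0x110f0f0c0004)) (.node 3087 (.leaf 0x0) (.node 3088 (.leaf 0xb0c0f0c0004) (.leaf 0x0)))) (.node 3092 (.node 3090 (.leaf 0x0) (.node 3091 (.leaf 0x0) (.leaf 0x0))) (.node 3093 (.leaf 0x0) (.node 3094 (.leaf 0xe100f0003) (.leaf 0xc15))))))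

def argWS_299 : Store := (.node 3074 argWS_297 argWS_298)

def argWS_300 : Store := (.node 3054 argWS_296 argWS_299)

def argWS_301 : Store := (.node 3013 argWS_293 argWS_300)

def argWS_302 : Store := (.node 3105 (.node 3100 (.node 3097 (.node 3096 (.leaf 0x100b0c0f0c0005) (.leaf 0xc100002)) (.node 3098 (.leaf 0xb0f0002) (.node 3099 (.leaf 0xc19) (.leaf 0xe100f0f0c0005)))) (.node 3102 (.node 3101 (.leaf 0x0) (.leaf 0x0)) (.node 3103 (.leaf 0x0) (.node 3104 (.leaf 0x0) (.leaf 0x0))))) (.node 3110 (.node 3107 (.node 3106 (.leaf 0x0) (.leaf 0xc100b0e0004)) (.node 3108 (.leaf 0xc100b0f0d0e0006) (.node 3109 (.leaf 0xc23) (.leaf 0xf100e0003)))) (.node 3112 (.node 3111 (.leaf 0x0) (.leaf 0x0)) (.node 3113 (.leaf 0x0) (.node 3114 (.leaf 0x0) (.leaf 0x0))))))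

def argWS_303 : Store := (.node 3125 (.node 3120 (.node 3117 (.node 3116 (.leaf 0xf100d0d0e0005) (.leaf 0xb0a0c0003)) (.node 3118 (.leaf 0xc2c) (.node 3119 (.leaf 0xd110002) (.leaf 0xe100f0003)))) (.node 3122 (.node 3121 (.leaf 0xc2f) (.leaf 0x100b0c0f0c0005)) (.node 3123 (.leaf 0x0) (.node 3124 (.leaf 0x0) (.leaf 0xf100b0f0004))))) (.node 3130 (.node 3127 (.node 3126 (.leaf 0x100c0f0c0004) (.leaf 0xb0a0f0003)) (.node 3128 (.leaf 0xc100c0f0c0005) (.node 3129 (.leaf 0xe110c0003) (.leaf 0xe100f0c0004)))) (.node 3132 (.node 3131 (.leaf 0x100d0002) (.leaf 0xc3a000c39000c38000c37000c36000c35)) (.node 3133 (.leaf 0xf100d0f0c0005) (.node 3134 (.leaf 0x0) (.leaf 0xc100b0e0004))))))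

def argWS_304 : Store := (.node 3115 argWS_302 argWS_303)

def argWS_305 : Store := (.node 3145 (.node 3140 (.node 3137 (.node 3136 (.leaf 0x0) (.leaf 0x0)) (.node 3138 (.leaf 0x0) (.node 3139 (.leaf 0x0) (.leaf 0x0)))) (.node 3142 (.node 3141 (.leaf 0x0) (.leaf 0x0)) (.node 3143 (.leaf 0x0) (.node 3144 (.leaf 0x0) (.leaf 0x0))))) (.node 3150 (.node 3147 (.node 3146 (.leaf 0x0) (.leaf 0x0)) (.node 3148 (.leaf 0x0) (.node 3149 (.leaf 0x0) (.leaf 0x0)))) (.node 3152 (.node 3151 (.leaf 0x0) (.leaf 0x0)) (.node 3153 (.leaf 0x0) (.node 3154 (.leaf 0x0) (.leaf 0x110b0f0c0004))))))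

def argWS_306 : Store := (.node 3165 (.node 3160 (.node 3157 (.node 3156 (.leaf 0x100b0f0c0004) (.leaf 0xc53)) (.node 3158 (.leaf 0xc100b0d0d0e0006) (.node 3159 (.leaf 0x0) (.leaf 0x0)))) (.node 3162 (.node 3161 (.leaf 0x0) (.leaf 0xa0c0002)) (.node 3163 (.leaf 0x100b0e0003) (.node 3164 (.leaf 0xd110002) (.leaf 0x110c0002))))) (.node 3170 (.node 3167 (.node 3166 (.leaf 0xc100b0003) (.leaf 0xf100e0003)) (.node 3168 (.leaf 0x100b0002) (.node 3169 (.leaf 0xc5f000c5e000c5d000c5c000c5b000c5a) (.leaf 0xc100b0003)))) (.node 3173 (.node 3171 (.leaf 0x0) (.node 3172 (.leaf 0xf100d0f0c0005) (.leaf 0x100f0002))) (.node 3174 (.leaf 0xc100b0f0f0c0006) (.node 3175 (.leaf 0xc65) (.leaf 0xf0d0e0003))))))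

def argWS_307 : Store := (.node 3155 argWS_305 argWS_306)

def argWS_308 : Store := (.node 3135 argWS_304 argWS_307)

def argWS_309 : Store := (.node 3186 (.node 3181 (.node 3178 (.node 3177 (.leaf 0x0) (.leaf 0xa0d0f0c0004)) (.node 3179 (.leaf 0x110b0f0003) (.node 3180 (.leaf 0xc6a) (.leaf 0x100e0002)))) (.node 3183 (.node 3182 (.leaf 0x0) (.leaf 0x0)) (.node 3184 (.leaf 0x0) (.node 3185 (.leaf 0x0) (.leaf 0x0))))) (.node 3191 (.node 3188 (.node 3187 (.leaf 0x0) (.leaf 0x0)) (.node 3189 (.leaf 0x0) (.node 3190 (.leaf 0x0) (.leaf 0x0)))) (.node 3193 (.node 3192 (.leaf 0x0) (.leaf 0xb0a0002)) (.node 3194 (.leaf 0xf100b0003) (.node 3195 (.leaf 0xe110f0003) (.leaf 0xe100d0d0e0005))))))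

def argWS_310 : Store := (.node 3206 (.node 3201 (.node 3198 (.node 3197 (.leaf 0xd110d0d0e0005) (.leaf 0xe110f0c0004)) (.node 3199 (.leaf 0x100f0f0c0004) (.node 3200 (.leaf 0xc7e000c7d000c7c000c7b000c7a000c79) (.leaf 0xa0c0002)))) (.node 3203 (.node 3202 (.leaf 0x0) (.leaf 0xc100b0c0f0c0006)) (.node 3204 (.leaf 0x0) (.node 3205 (.leaf 0x0) (.leaf 0xb0a0f0003))))) (.node 3211 (.node 3208 (.node 3207 (.leaf 0x110b0d0e0004) (.leaf 0xc86)) (.node 3209 (.leaf 0x110b0d0003) (.node 3210 (.leaf 0x0) (.leaf 0xc100b0f0f0c0006)))) (.node 3214 (.node 3212 (.leaf 0xe100f0d0e0005) (.node 3213 (.leaf 0xc8b) (.leaf 0xc100d0e0004))) (.node 3215 (.leaf 0x0) (.node 3216 (.leaf 0xc100f0d0e0005) (.leaf 0x0))))))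

def argWS_311 : Store := (.node 3196 argWS_309 argWS_310)

def argWS_312 : Store := (.node 3227 (.node 3222 (.node 3219 (.node 3218 (.leaf 0x0) (.leaf 0x0)) (.node 3220 (.leaf 0x0) (.node 3221 (.leaf 0xf100d0003) (.leaf 0x0)))) (.node 3224 (.node 3223 (.leaf 0x1020905080005) (.leaf 0x3020107060705080008)) (.node 3225 (.leaf 0x0) (.node 3226 (.leaf 0xe110d0003) (.leaf 0x0))))) (.node 3232 (.node 3229 (.node 3228 (.leaf 0xc9a) (.leaf 0xf100d0e0004)) (.node 3230 (.leaf 0x0) (.node 3231 (.leaf 0xb0d0e0003) (.leaf 0x0)))) (.node 3234 (.node 3233 (.leaf 0x0) (.leaf 0xe110f0f0c0005)) (.node 3235 (.leaf 0xd100e0003) (.node 3236 (.leaf 0xf0c0002) (.leaf 0xf0001))))))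

def argWS_313 : Store := (.node 3247 (.node 3242 (.node 3239 (.node 3238 (.leaf 0x0) (.leaf 0x7020105080005)) (.node 3240 (.leaf 0x40208050705080007) (.node 3241 (.leaf 0x0) (.leaf 0xb0a0f0003)))) (.node 3244 (.node 3243 (.leaf 0x0) (.leaf 0x0)) (.node 3245 (.leaf 0x400060607090006) (.node 3246 (.leaf 0x30108050705080007) (.leaf 0x0))))) (.node 3252 (.node 3249 (.node 3248 (.leaf 0xb0a0f0f0c0005) (.leaf 0x0)) (.node 3250 (.leaf 0xcb0000caa000ca4000ca3000171000ca2) (.node 3251 (.leaf 0xc100b0f0f0c0006) (.leaf 0x0)))) (.node 3255 (.node 3253 (.leaf 0x110b0f0d0e0005) (.node 3254 (.leaf 0x0) (.leaf 0x0))) (.node 3256 (.leaf 0xe100f0d0e0005) (.node 3257 (.leaf 0xe100e0003) (.leaf 0xcb8))))))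

def argWS_314 : Store := (.node 3237 argWS_312 argWS_313)

def argWS_315 : Store := (.node 3217 argWS_311 argWS_314)

def argWS_316 : Store := (.node 3176 argWS_308 argWS_315)

def argWS_317 : Store := (.node 3095 argWS_301 argWS_316)

def argWS_318 : Store := (.node 2932 argWS_286 argWS_317)

def argWS_319 : Store := (.node 3268 (.node 3263 (.node 3260 (.node 3259 (.leaf 0xf100002) (.leaf 0x0)) (.node 3261 (.leaf 0xd100d0003) (.node 3262 (.leaf 0x0) (.leaf 0x0)))) (.node 3265 (.node 3264 (.leaf 0x0) (.leaf 0x0)) (.node 3266 (.leaf 0x0) (.node 3267 (.leaf 0xb0a0f0003) (.leaf 0x110b0d0e0004))))) (.node 3273 (.node 3270 (.node 3269 (.leaf 0xcc3) (.leaf 0x110b0d0003)) (.node 3271 (.leaf 0x0) (.node 3272 (.leaf 0xc100b0e0004) (.leaf 0x110c0002)))) (.node 3275 (.node 3274 (.leaf 0xf100f0f0c0005) (.leaf 0xd110e0003)) (.node 3276 (.leaf 0x100e0002) (.node 3277 (.leaf 0xd110002) (.leaf 0x100e0002))))))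

def argWS_320 : Store := (.node 3288 (.node 3283 (.node 3280 (.node 3279 (.leaf 0xccd000ccc000ccb000cca000cc9000cc8) (.leaf 0x100c0002)) (.node 3281 (.leaf 0x0) (.node 3282 (.leaf 0xd110f0f0c0005) (.leaf 0x0)))) (.node 3285 (.node 3284 (.leaf 0xc100b0c0f0c0006) (.leaf 0xa0c0002)) (.node 3286 (.leaf 0xcd4) (.node 3287 (.leaf 0xd100002) (.leaf 0x0))))) (.node 3293 (.node 3290 (.node 3289 (.leaf 0x0) (.leaf 0xf100b0d0e0005)) (.node 3291 (.leaf 0xd100f0f0c0005) (.node 3292 (.leaf 0xcda) (.leaf 0xa0d0e0003)))) (.node 3295 (.node 3294 (.leaf 0x100b0c0f0c0005) (.leaf 0xb0a0f0c0004)) (.node 3296 (.leaf 0xf100d0003) (.node 3297 (.leaf 0x300060607090006) (.leaf 0x0))))))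

def argWS_321 : Store := (.node 3278 argWS_319 argWS_320)

def argWS_322 : Store := (.node 3308 (.node 3303 (.node 3300 (.node 3299 (.leaf 0x0) (.leaf 0x7010009080607090008)) (.node 3301 (.leaf 0x701000607060006) (.node 3302 (.leaf 0x0) (.leaf 0x100b0f0f0c0005)))) (.node 3305 (.node 3304 (.leaf 0x0) (.leaf 0xb0a0c0f0c0005)) (.node 3306 (.leaf 0x100c0002) (.node 3307 (.leaf 0xd110d0003) (.leaf 0xcea000ce9000ce8000ce7000ce1000cde))))) (.node 3313 (.node 3310 (.node 3309 (.leaf 0x100b0c0003) (.leaf 0x0)) (.node 3311 (.leaf 0xe100c0003) (.node 3312 (.leaf 0x0) (.leaf 0x0)))) (.node 3315 (.node 3314 (.leaf 0x0) (.leaf 0x0)) (.node 3316 (.leaf 0x70102080905080007) (.node 3317 (.leaf 0x0) (.leaf 0x0))))))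

def argWS_323 : Store := (.node 3328 (.node 3323 (.node 3320 (.node 3319 (.leaf 0xd110f0003) (.leaf 0x0)) (.node 3321 (.leaf 0x0) (.node 3322 (.leaf 0x0) (.leaf 0x0)))) (.node 3325 (.node 3324 (.leaf 0x0) (.leaf 0xd110d0e0004)) (.node 3326 (.leaf 0xd110f0d0e0005) (.node 3327 (.leaf 0xd100f0c0004) (.leaf 0xf100c0003))))) (.node 3333 (.node 3330 (.node 3329 (.leaf 0xf100b0c0f0c0006) (.leaf 0xb0a0f0003)) (.node 3331 (.leaf 0xf100d0f0c0005) (.node 3332 (.leaf 0xd02000d01000d00000cff000cfe000cfd) (.leaf 0x110b0002)))) (.node 3336 (.node 3334 (.leaf 0x0) (.node 3335 (.leaf 0x0) (.leaf 0x0))) (.node 3337 (.leaf 0x0) (.node 3338 (.leaf 0x1030905080005) (.leaf 0x10001))))))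

def argWS_324 : Store := (.node 3318 argWS_322 argWS_323)

def argWS_325 : Store := (.node 3298 argWS_321 argWS_324)

def argWS_326 : Store := (.node 3349 (.node 3344 (.node 3341 (.node 3340 (.leaf 0x0) (.leaf 0x0)) (.node 3342 (.leaf 0x110b0f0f0c0005) (.node 3343 (.leaf 0x0) (.leaf 0x100b0f0f0c0005)))) (.node 3346 (.node 3345 (.leaf 0x110f0d0e0004) (.leaf 0xc100f0003)) (.node 3347 (.leaf 0xd110f0d0e0005) (.node 3348 (.leaf 0xd100f0003) (.leaf 0xf100f0003))))) (.node 3354 (.node 3351 (.node 3350 (.leaf 0x100f0d0e0004) (.leaf 0xd15000d14000d13000d12000d11000d10)) (.node 3352 (.leaf 0x110b0d0f0c0005) (.node 3353 (.leaf 0x0) (.leaf 0x110d0f0c0004)))) (.node 3356 (.node 3355 (.leaf 0x0) (.leaf 0x0)) (.node 3357 (.leaf 0x0) (.node 3358 (.leaf 0x0) (.leaf 0x0))))))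

def argWS_327 : Store := (.node 3369 (.node 3364 (.node 3361 (.node 3360 (.leaf 0x0) (.leaf 0xf100b0c0004)) (.node 3362 (.leaf 0xe100f0003) (.node 3363 (.leaf 0xd21) (.leaf 0xc100b0d0e0005)))) (.node 3366 (.node 3365 (.leaf 0x0) (.leaf 0x0)) (.node 3367 (.leaf 0x0) (.node 3368 (.leaf 0x0) (.leaf 0x0))))) (.node 3374 (.node 3371 (.node 3370 (.leaf 0x0) (.leaf 0xe110d0003)) (.node 3372 (.leaf 0xe100d0003) (.node 3373 (.leaf 0xd2b) (.leaf 0xc100b0f0004)))) (.node 3377 (.node 3375 (.leaf 0x0) (.node 3376 (.leaf 0x110b0002) (.leaf 0xf0f0c0003))) (.node 3378 (.leaf 0xd30) (.node 3379 (.leaf 0xe110d0f0c0005) (.leaf 0x0))))))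

def argWS_328 : Store := (.node 3359 argWS_326 argWS_327)

def argWS_329 : Store := (.node 3390 (.node 3385 (.node 3382 (.node 3381 (.leaf 0xe110d0f0c0005) (.leaf 0xd100c0f0c0005)) (.node 3383 (.leaf 0xd100d0f0c0005) (.node 3384 (.leaf 0xd0d0e0003) (.leaf 0xc100f0c0004)))) (.node 3387 (.node 3386 (.leaf 0xd110002) (.leaf 0xe100d0d0e0005)) (.node 3388 (.leaf 0xd3a000d39000d38000d37000d36000d35) (.node 3389 (.leaf 0xc100002) (.leaf 0x0))))) (.node 3395 (.node 3392 (.node 3391 (.leaf 0xd110d0d0e0005) (.leaf 0x100f0002)) (.node 3393 (.leaf 0x110001) (.node 3394 (.leaf 0xb0c0002) (.leaf 0xa0d0f0c0004)))) (.node 3397 (.node 3396 (.leaf 0x100b0f0d0e0005) (.leaf 0x0)) (.node 3398 (.leaf 0x2040109080607090008) (.node 3399 (.leaf 0x20408060705080007) (.leaf 0x0))))))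

def argWS_330 : Store := (.node 3410 (.node 3405 (.node 3402 (.node 3401 (.leaf 0xa0001) (.leaf 0x0)) (.node 3403 (.leaf 0xe110e0003) (.node 3404 (.leaf 0xd4a000d49000d43000d42000d41000d40) (.leaf 0xe110c0003)))) (.node 3407 (.node 3406 (.leaf 0x0) (.leaf 0xf100f0c0004)) (.node 3408 (.leaf 0x0) (.node 3409 (.leaf 0x0) (.leaf 0x0))))) (.node 3415 (.node 3412 (.node 3411 (.leaf 0x0) (.leaf 0x0)) (.node 3413 (.leaf 0xe100f0003) (.node 3414 (.leaf 0x100c0f0c0004) (.leaf 0xd55)))) (.node 3418 (.node 3416 (.leaf 0x0) (.node 3417 (.leaf 0x0) (.leaf 0x0))) (.node 3419 (.leaf 0x0) (.node 3420 (.leaf 0x0) (.leaf 0x0))))))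

def argWS_331 : Store := (.node 3400 argWS_329 argWS_330)

def argWS_332 : Store := (.node 3380 argWS_328 argWS_331)

def argWS_333 : Store := (.node 3339 argWS_325 argWS_332)

def argWS_334 : Store := (.node 3431 (.node 3426 (.node 3423 (.node 3422 (.leaf 0x0) (.leaf 0xa0d0d0e0004)) (.node 3424 (.leaf 0xd100d0f0c0005) (.node 3425 (.leaf 0xd5f) (.leaf 0x100d0d0e0004)))) (.node 3428 (.node 3427 (.leaf 0x0) (.leaf 0x0)) (.node 3429 (.leaf 0x0) (.node 3430 (.leaf 0x0) (.leaf 0xd110d0003))))) (.node 3436 (.node 3433 (.node 3432 (.leaf 0xd110e0003) (.leaf 0xd67)) (.node 3434 (.leaf 0xc100b0d0e0005) (.node 3435 (.leaf 0x0) (.leaf 0x0)))) (.node 3438 (.node 3437 (.leaf 0x0) (.leaf 0x0)) (.node 3439 (.leaf 0x100b0f0d0e0005) (.node 3440 (.leaf 0x110b0c0f0c0005) (.leaf 0xf100c0003))))))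

def argWS_335 : Store := (.node 3451 (.node 3446 (.node 3443 (.node 3442 (.leaf 0xf100b0f0c0005) (.leaf 0x110f0002)) (.node 3444 (.leaf 0xf100b0e0004) (.node 3445 (.leaf 0x110b0002) (.leaf 0xd74000d73000d72000d71000d70000d6f)))) (.node 3448 (.node 3447 (.leaf 0x110001) (.leaf 0x0)) (.node 3449 (.leaf 0xf100b0003) (.node 3450 (.leaf 0x0) (.leaf 0x0))))) (.node 3456 (.node 3453 (.node 3452 (.leaf 0x0) (.leaf 0x0)) (.node 3454 (.leaf 0x0) (.node 3455 (.leaf 0x110f0f0c0004) (.leaf 0xb0c0f0c0004)))) (.node 3458 (.node 3457 (.leaf 0xd7f) (.leaf 0xe100c0003)) (.node 3459 (.leaf 0x0) (.node 3460 (.leaf 0x0) (.leaf 0x0))))))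

def argWS_336 : Store := (.node 3441 argWS_334 argWS_335)

def argWS_337 : Store := (.node 3471 (.node 3466 (.node 3463 (.node 3462 (.leaf 0x110b0c0003) (.leaf 0x0)) (.node 3464 (.leaf 0x3020108060705080008) (.node 3465 (.leaf 0x40107060004) (.leaf 0x0)))) (.node 3468 (.node 3467 (.leaf 0xc100d0e0004) (.leaf 0x0)) (.node 3469 (.leaf 0xc100b0d0d0e0006) (.node 3470 (.leaf 0xd100f0c0004) (.leaf 0xc100002))))) (.node 3476 (.node 3473 (.node 3472 (.leaf 0xc100d0003) (.leaf 0xf100e0003)) (.node 3474 (.leaf 0xd90000d8f000d8e000d8d000d8c000d8b) (.node 3475 (.leaf 0x100b0002) (.leaf 0x0)))) (.node 3478 (.node 3477 (.leaf 0x100001) (.leaf 0x0)) (.node 3479 (.leaf 0xd100f0d0e0005) (.node 3480 (.leaf 0xc100b0d0e0005) (.leaf 0xe100f0d0e0005))))))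

def argWS_338 : Store := (.node 3491 (.node 3486 (.node 3483 (.node 3482 (.leaf 0xa0f0c0003) (.leaf 0xc100c0003)) (.node 3484 (.leaf 0xc100d0003) (.node 3485 (.leaf 0x100f0f0c0004) (.leaf 0xd9c000d9b000d9a000d99000d98000d97)))) (.node 3488 (.node 3487 (.leaf 0xb0a0c0003) (.leaf 0x0)) (.node 3489 (.leaf 0xc100b0c0004) (.node 3490 (.leaf 0x0) (.leaf 0x0))))) (.node 3496 (.node 3493 (.node 3492 (.leaf 0x110b0d0f0c0005) (.leaf 0x0)) (.node 3494 (.leaf 0x7010009080607090008) (.node 3495 (.leaf 0x70109080607090007) (.leaf 0x0)))) (.node 3499 (.node 3497 (.leaf 0xa0001) (.node 3498 (.leaf 0x0) (.leaf 0xf100b0d0004))) (.node 3500 (.leaf 0x110f0f0c0004) (.node 3501 (.leaf 0x0) (.leaf 0x1020607090005))))))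

def argWS_339 : Store := (.node 3481 argWS_337 argWS_338)

def argWS_340 : Store := (.node 3461 argWS_336 argWS_339)

def argWS_341 : Store := (.node 3512 (.node 3507 (.node 3504 (.node 3503 (.leaf 0x701060707090006) (.leaf 0x0)) (.node 3505 (.leaf 0x110f0f0c0004) (.node 3506 (.leaf 0x0) (.leaf 0x0)))) (.node 3509 (.node 3508 (.leaf 0x1020905080005) (.leaf 0x70100060707090007)) (.node 3510 (.leaf 0x0) (.node 3511 (.leaf 0x100001) (.leaf 0x0))))) (.node 3517 (.node 3514 (.node 3513 (.leaf 0x100b0d0e0004) (.leaf 0xdb8000db7000db1000dab000daa000da9)) (.node 3515 (.leaf 0xb0a0f0f0c0005) (.node 3516 (.leaf 0x0) (.leaf 0x0)))) (.node 3519 (.node 3518 (.leaf 0x1020905080005) (.leaf 0x4030507060705080008)) (.node 3520 (.leaf 0x0) (.node 3521 (.leaf 0xa0f0c0003) (.leaf 0x0))))))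

def argWS_342 : Store := (.node 3532 (.node 3527 (.node 3524 (.node 3523 (.leaf 0x0) (.leaf 0x0)) (.node 3525 (.leaf 0x0) (.node 3526 (.leaf 0x0) (.leaf 0x201060705080006)))) (.node 3529 (.node 3528 (.leaf 0x0) (.leaf 0x0)) (.node 3530 (.leaf 0xd100f0f0c0005) (.node 3531 (.leaf 0x0) (.leaf 0x0))))) (.node 3537 (.node 3534 (.node 3533 (.leaf 0x0) (.leaf 0x0)) (.node 3535 (.leaf 0xe100f0c0004) (.node 3536 (.leaf 0xe110f0d0e0005) (.leaf 0xdcf)))) (.node 3540 (.node 3538 (.leaf 0xf100b0f0004) (.node 3539 (.leaf 0x0) (.leaf 0x0))) (.node 3541 (.leaf 0x0) (.node 3542 (.leaf 0x0) (.leaf 0x0))))))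

def argWS_343 : Store := (.node 3522 argWS_341 argWS_342)

def argWS_344 : Store := (.node 3553 (.node 3548 (.node 3545 (.node 3544 (.leaf 0x0) (.leaf 0x0)) (.node 3546 (.leaf 0x0) (.node 3547 (.leaf 0x0) (.leaf 0xf100b0d0004)))) (.node 3550 (.node 3549 (.leaf 0xf100d0f0c0005) (.leaf 0xb0f0c0003)) (.node 3551 (.leaf 0xe100d0d0e0005) (.node 3552 (.leaf 0xc100c0003) (.leaf 0xc100b0d0004))))) (.node 3558 (.node 3555 (.node 3554 (.leaf 0xc100d0003) (.leaf 0xde1000de0000ddf000dde000ddd000ddc)) (.node 3556 (.leaf 0xf100e0003) (.node 3557 (.leaf 0x0) (.leaf 0x100d0d0e0004)))) (.node 3560 (.node 3559 (.leaf 0x0) (.leaf 0x0)) (.node 3561 (.leaf 0x0) (.node 3562 (.leaf 0x0) (.leaf 0x20401060607090007))))))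

def argWS_345 : Store := (.node 3573 (.node 3568 (.node 3565 (.node 3564 (.leaf 0x0) (.leaf 0x0)) (.node 3566 (.leaf 0x100d0d0e0004) (.node 3567 (.leaf 0x10001) (.leaf 0x0)))) (.node 3570 (.node 3569 (.leaf 0x0) (.leaf 0xd100d0e0004)) (.node 3571 (.leaf 0x110c0f0c0004) (.node 3572 (.leaf 0xe0001) (.leaf 0x0))))) (.node 3578 (.node 3575 (.node 3574 (.leaf 0x400060607090006) (.leaf 0x108050003)) (.node 3576 (.leaf 0x0) (.node 3577 (.leaf 0xe100d0d0e0005) (.leaf 0x0)))) (.node 3581 (.node 3579 (.leaf 0x110d0002) (.node 3580 (.leaf 0xf100b0f0c0005) (.leaf 0xa0f0002))) (.node 3582 (.leaf 0x0) (.node 3583 (.leaf 0x203050705080006) (.leaf 0x30008050705080007))))))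

def argWS_346 : Store := (.node 3563 argWS_344 argWS_345)

def argWS_347 : Store := (.node 3543 argWS_343 argWS_346)

def argWS_348 : Store := (.node 3502 argWS_340 argWS_347)

def argWS_349 : Store := (.node 3421 argWS_333 argWS_348)

def argWS_350 : Store := (.node 3594 (.node 3589 (.node 3586 (.node 3585 (.leaf 0x0) (.leaf 0xb0001)) (.node 3587 (.leaf 0x0) (.node 3588 (.leaf 0xe02000dfc000dfb000dfa000df9000df3) (.leaf 0xa0e0002)))) (.node 3591 (.node 3590 (.leaf 0x0) (.leaf 0xc100002)) (.node 3592 (.leaf 0x0) (.node 3593 (.leaf 0xe110002) (.leaf 0xa0e0002))))) (.node 3599 (.node 3596 (.node 3595 (.leaf 0xe09) (.leaf 0xd100e0003)) (.node 3597 (.leaf 0x0) (.node 3598 (.leaf 0x0) (.leaf 0xd110d0e0004)))) (.node 3601 (.node 3600 (.leaf 0xd110c0f0c0005) (.leaf 0xd100d0f0c0005)) (.node 3602 (.leaf 0xa0f0c0003) (.node 3603 (.leaf 0xc100c0003) (.leaf 0xc100d0003))))))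

def argWS_351 : Store := (.node 3614 (.node 3609 (.node 3606 (.node 3605 (.leaf 0xf100e0003) (.leaf 0xe14000e13000e12000e11000e10000e0f)) (.node 3607 (.leaf 0x100b0002) (.node 3608 (.leaf 0x0) (.leaf 0xb0a0f0f0c0005)))) (.node 3611 (.node 3610 (.leaf 0x0) (.leaf 0xf100b0f0c0005)) (.node 3612 (.leaf 0xf100b0e0004) (.node 3613 (.leaf 0xe1b) (.leaf 0xc100e0003))))) (.node 3619 (.node 3616 (.node 3615 (.leaf 0xa0001) (.leaf 0xc100b0e0004)) (.node 3617 (.leaf 0xa0c0002) (.node 3618 (.leaf 0x100b0d0f0c0005) (.leaf 0xe110f0c0004)))) (.node 3621 (.node 3620 (.leaf 0xe100d0d0e0005) (.leaf 0x100d0002)) (.node 3622 (.leaf 0xe24000e23000e22000e21000e20000e1f) (.node 3623 (.leaf 0xf100d0f0c0005) (.leaf 0x0))))))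

def argWS_352 : Store := (.node 3604 argWS_350 argWS_351)

def argWS_353 : Store := (.node 3634 (.node 3629 (.node 3626 (.node 3625 (.leaf 0xe110d0e0004) (.leaf 0x0)) (.node 3627 (.leaf 0x0) (.node 3628 (.leaf 0xd110d0d0e0005) (.leaf 0xe0001)))) (.node 3631 (.node 3630 (.leaf 0xe2c) (.leaf 0xe110f0d0e0005)) (.node 3632 (.leaf 0x0) (.node 3633 (.leaf 0x0) (.leaf 0x0))))) (.node 3639 (.node 3636 (.node 3635 (.leaf 0x0) (.leaf 0x0)) (.node 3637 (.leaf 0x0) (.node 3638 (.leaf 0x0) (.leaf 0x100b0d0003)))) (.node 3641 (.node 3640 (.leaf 0x110b0e0003) (.leaf 0xe37)) (.node 3642 (.leaf 0xf100b0d0d0e0006) (.node 3643 (.leaf 0x0) (.leaf 0x0))))))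

def argWS_354 : Store := (.node 3654 (.node 3649 (.node 3646 (.node 3645 (.leaf 0x100b0f0c0004) (.leaf 0x110f0c0003)) (.node 3647 (.leaf 0xe3d) (.node 3648 (.leaf 0xc100d0d0e0005) (.leaf 0x0)))) (.node 3651 (.node 3650 (.leaf 0x0) (.leaf 0x0)) (.node 3652 (.leaf 0x0) (.node 3653 (.leaf 0x0) (.leaf 0x0))))) (.node 3659 (.node 3656 (.node 3655 (.leaf 0x0) (.leaf 0x0)) (.node 3657 (.leaf 0x0) (.node 3658 (.leaf 0x0) (.leaf 0x0)))) (.node 3662 (.node 3660 (.leaf 0x0) (.node 3661 (.leaf 0xb0f0002) (.leaf 0x110b0d0003))) (.node 3663 (.leaf 0x110b0d0e0004) (.node 3664 (.leaf 0xc100d0e0004) (.leaf 0x100c0f0c0004))))))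

def argWS_355 : Store := (.node 3644 argWS_353 argWS_354)

def argWS_356 : Store := (.node 3624 argWS_352 argWS_355)

def argWS_357 : Store := (.node 3675 (.node 3670 (.node 3667 (.node 3666 (.leaf 0xb0f0002) (.leaf 0xb0d0002)) (.node 3668 (.leaf 0xe52000e51000e50000e4f000e4e000e4d) (.node 3669 (.leaf 0xa0d0f0c0004) (.leaf 0x0)))) (.node 3672 (.node 3671 (.leaf 0x0) (.leaf 0x0)) (.node 3673 (.leaf 0x0) (.node 3674 (.leaf 0x0) (.leaf 0x0))))) (.node 3680 (.node 3677 (.node 3676 (.leaf 0xe110f0c0004) (.leaf 0xd100e0003)) (.node 3678 (.leaf 0xe5c) (.node 3679 (.leaf 0xb0a0f0d0e0005) (.leaf 0x0)))) (.node 3682 (.node 3681 (.leaf 0x0) (.leaf 0x0)) (.node 3683 (.leaf 0x0) (.node 3684 (.leaf 0xb0d0d0e0004) (.leaf 0xe100d0e0004))))))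

def argWS_358 : Store := (.node 3695 (.node 3690 (.node 3687 (.node 3686 (.leaf 0xe64) (.leaf 0x110d0d0e0004)) (.node 3688 (.leaf 0x0) (.node 3689 (.leaf 0x0) (.leaf 0xd100f0003)))) (.node 3692 (.node 3691 (.leaf 0x100b0f0f0c0005) (.leaf 0xe6a)) (.node 3693 (.leaf 0xc0f0c0003) (.node 3694 (.leaf 0x0) (.leaf 0x0))))) (.node 3700 (.node 3697 (.node 3696 (.leaf 0x0) (.leaf 0x0)) (.node 3698 (.leaf 0xd110e0003) (.node 3699 (.leaf 0xd100f0d0e0005) (.leaf 0xe72)))) (.node 3703 (.node 3701 (.leaf 0xc100c0003) (.node 3702 (.leaf 0x0) (.leaf 0x0))) (.node 3704 (.leaf 0x0) (.node 3705 (.leaf 0x0) (.leaf 0x0))))))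

def argWS_359 : Store := (.node 3685 argWS_357 argWS_358)

def argWS_360 : Store := (.node 3716 (.node 3711 (.node 3708 (.node 3707 (.leaf 0x0) (.leaf 0x0)) (.node 3709 (.leaf 0x0) (.node 3710 (.leaf 0x0) (.leaf 0xe110002)))) (.node 3713 (.node 3712 (.leaf 0xa0e0002) (.leaf 0xe7f)) (.node 3714 (.leaf 0xd100e0003) (.node 3715 (.leaf 0x0) (.leaf 0x0))))) (.node 3721 (.node 3718 (.node 3717 (.leaf 0x0) (.leaf 0xc100b0f0004)) (.node 3719 (.leaf 0xe110c0f0c0005) (.node 3720 (.leaf 0xe86) (.leaf 0xb0a0d0e0004)))) (.node 3723 (.node 3722 (.leaf 0x0) (.leaf 0xd110d0d0e0005)) (.node 3724 (.leaf 0xe0001) (.node 3725 (.leaf 0xe8b) (.leaf 0xe110f0d0e0005))))))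

def argWS_361 : Store := (.node 3736 (.node 3731 (.node 3728 (.node 3727 (.leaf 0x0) (.leaf 0x0)) (.node 3729 (.leaf 0x0) (.node 3730 (.leaf 0xf100d0e0004) (.leaf 0xd110f0f0c0005)))) (.node 3733 (.node 3732 (.leaf 0xe92) (.leaf 0xb0d0e0003)) (.node 3734 (.leaf 0x0) (.node 3735 (.leaf 0x0) (.leaf 0x0))))) (.node 3741 (.node 3738 (.node 3737 (.leaf 0x0) (.leaf 0x0)) (.node 3739 (.leaf 0x0) (.node 3740 (.leaf 0x0) (.leaf 0x0)))) (.node 3744 (.node 3742 (.leaf 0x0) (.node 3743 (.leaf 0xb0d0f0c0004) (.leaf 0x100b0002))) (.node 3745 (.leaf 0xd100d0003) (.node 3746 (.leaf 0x100f0002) (.leaf 0x1040607090005))))))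

def argWS_362 : Store := (.node 3726 argWS_360 argWS_361)

def argWS_363 : Store := (.node 3706 argWS_359 argWS_362)

def argWS_364 : Store := (.node 3665 argWS_356 argWS_363)

def argWS_365 : Store := (.node 3757 (.node 3752 (.node 3749 (.node 3748 (.leaf 0x0) (.leaf 0x0)) (.node 3750 (.leaf 0x7010009080607090008) (.node 3751 (.leaf 0x201080003) (.leaf 0x0)))) (.node 3754 (.node 3753 (.leaf 0xd100f0f0c0005) (.leaf 0x0)) (.node 3755 (.leaf 0xd0d0e0003) (.node 3756 (.leaf 0x0) (.leaf 0x203050705080006))))) (.node 3762 (.node 3759 (.node 3758 (.leaf 0x2040809080607090008) (.leaf 0x0)) (.node 3760 (.leaf 0xe100e0003) (.node 3761 (.leaf 0x0) (.leaf 0xeb0000eaa000ea9000ea3000ea0000e9f)))) (.node 3764 (.node 3763 (.leaf 0x100b0f0f0c0005) (.leaf 0x0)) (.node 3765 (.leaf 0xe100f0f0c0005) (.node 3766 (.leaf 0x0) (.leaf 0xe100f0d0e0005))))))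

def argWS_366 : Store := (.node 3777 (.node 3772 (.node 3769 (.node 3768 (.leaf 0xa0f0c0003) (.leaf 0xf100d0003)) (.node 3770 (.leaf 0x300060607090006) (.node 3771 (.leaf 0x0) (.leaf 0x0)))) (.node 3774 (.node 3773 (.leaf 0x7010009080607090008) (.leaf 0x7010607060005)) (.node 3775 (.leaf 0x0) (.node 3776 (.leaf 0x110b0f0f0c0005) (.leaf 0x0))))) (.node 3782 (.node 3779 (.node 3778 (.leaf 0xb0a0c0f0c0005) (.leaf 0x110c0002)) (.node 3780 (.leaf 0xec2000ec1000ec0000eba000eb700029e) (.node 3781 (.leaf 0xf100b0f0f0c0006) (.leaf 0x0)))) (.node 3784 (.node 3783 (.leaf 0x0) (.leaf 0x0)) (.node 3785 (.leaf 0x0) (.node 3786 (.leaf 0x10307090004) (.leaf 0x0))))))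

def argWS_367 : Store := (.node 3767 argWS_365 argWS_366)

def argWS_368 : Store := (.node 3797 (.node 3792 (.node 3789 (.node 3788 (.leaf 0x0) (.leaf 0x110f0d0e0004)) (.node 3790 (.leaf 0x10001) (.node 3791 (.leaf 0x0) (.leaf 0x0)))) (.node 3794 (.node 3793 (.leaf 0xd110f0f0c0005) (.leaf 0x0)) (.node 3795 (.leaf 0x0) (.node 3796 (.leaf 0x110b0d0d0e0005) (.leaf 0xa0d0d0e0004))))) (.node 3802 (.node 3799 (.node 3798 (.leaf 0xed4) (.leaf 0xd100d0f0c0005)) (.node 3800 (.leaf 0x0) (.node 3801 (.leaf 0x0) (.leaf 0x0)))) (.node 3804 (.node 3803 (.leaf 0x0) (.leaf 0xd100002)) (.node 3805 (.leaf 0xb0f0d0e0004) (.node 3806 (.leaf 0xedc) (.leaf 0xe100e0003))))))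

def argWS_369 : Store := (.node 3817 (.node 3812 (.node 3809 (.node 3808 (.leaf 0x0) (.leaf 0x0)) (.node 3810 (.leaf 0x0) (.node 3811 (.leaf 0x0) (.leaf 0x0)))) (.node 3814 (.node 3813 (.leaf 0x0) (.leaf 0x0)) (.node 3815 (.leaf 0x0) (.node 3816 (.leaf 0x0) (.leaf 0x0))))) (.node 3822 (.node 3819 (.node 3818 (.leaf 0x0) (.leaf 0x0)) (.node 3820 (.leaf 0xc100b0e0004) (.node 3821 (.leaf 0x108050003) (.leaf 0x0)))) (.node 3825 (.node 3823 (.leaf 0x0) (.node 3824 (.leaf 0x0) (.leaf 0x0))) (.node 3826 (.leaf 0x905080003) (.node 3827 (.leaf 0xf100b0d0d0e0006) (.leaf 0x100e0002))))))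

def argWS_370 : Store := (.node 3807 argWS_368 argWS_369)

def argWS_371 : Store := (.node 3787 argWS_367 argWS_370)

def argWS_372 : Store := (.node 3838 (.node 3833 (.node 3830 (.node 3829 (.leaf 0xd100002) (.leaf 0x100d0002)) (.node 3831 (.leaf 0x0) (.node 3832 (.leaf 0x3020108060705080008) (.leaf 0x2030809080005)))) (.node 3835 (.node 3834 (.leaf 0x0) (.leaf 0xc100b0c0f0c0006)) (.node 3836 (.leaf 0x0) (.node 3837 (.leaf 0xe110c0003) (.leaf 0xc100e0003))))) (.node 3843 (.node 3840 (.node 3839 (.leaf 0xefd000efc000efb000ef5000ef4000ef3) (.leaf 0x100d0002)) (.node 3841 (.leaf 0x0) (.node 3842 (.leaf 0xe100c0003) (.leaf 0x0)))) (.node 3845 (.node 3844 (.leaf 0x0) (.leaf 0x0)) (.node 3846 (.leaf 0x7010002) (.node 3847 (.leaf 0x0) (.leaf 0x0))))))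

def argWS_373 : Store := (.node 3858 (.node 3853 (.node 3850 (.node 3849 (.leaf 0xe100002) (.leaf 0x0)) (.node 3851 (.leaf 0x7010009080607090008) (.node 3852 (.leaf 0x3020106070908060709000a) (.leaf 0x0)))) (.node 3855 (.node 3854 (.leaf 0xb0a0d0003) (.leaf 0x0)) (.node 3856 (.leaf 0xe100f0d0e0005) (.node 3857 (.leaf 0xc100b0f0004) (.leaf 0xd110002))))) (.node 3863 (.node 3860 (.node 3859 (.leaf 0xe110d0d0e0005) (.leaf 0xf100b0c0f0c0006)) (.node 3861 (.leaf 0xf13000f12000f11000f10000f0f000f0e) (.node 3862 (.leaf 0xf100b0f0f0c0006) (.leaf 0x0)))) (.node 3866 (.node 3864 (.leaf 0x0) (.node 3865 (.leaf 0x400060607090006) (.leaf 0x205070607090006))) (.node 3867 (.leaf 0x0) (.node 3868 (.leaf 0xa0c0f0c0004) (.leaf 0x0))))))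

def argWS_374 : Store := (.node 3848 argWS_372 argWS_373)

def argWS_375 : Store := (.node 3879 (.node 3874 (.node 3871 (.node 3870 (.leaf 0x0) (.leaf 0x0)) (.node 3872 (.leaf 0x0) (.node 3873 (.leaf 0x701070607090006) (.leaf 0x0)))) (.node 3876 (.node 3875 (.leaf 0x0) (.leaf 0x0)) (.node 3877 (.leaf 0x0) (.node 3878 (.leaf 0x0) (.leaf 0x0))))) (.node 3884 (.node 3881 (.node 3880 (.leaf 0xf100b0f0c0005) (.leaf 0xf100b0e0004)) (.node 3882 (.leaf 0xf28) (.node 3883 (.leaf 0xc100e0003) (.leaf 0x0)))) (.node 3886 (.node 3885 (.leaf 0x0) (.leaf 0x0)) (.node 3887 (.leaf 0x0) (.node 3888 (.leaf 0xc100f0d0e0005) (.leaf 0xe100e0003))))))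

def argWS_376 : Store := (.node 3899 (.node 3894 (.node 3891 (.node 3890 (.leaf 0xc100b0f0d0e0006) (.leaf 0x0)) (.node 3892 (.leaf 0x301060705080006) (.node 3893 (.leaf 0x30407050705080007) (.leaf 0x0)))) (.node 3896 (.node 3895 (.leaf 0xc100d0e0004) (.leaf 0x0)) (.node 3897 (.leaf 0xb0a0f0d0e0005) (.node 3898 (.leaf 0x100c0002) (.leaf 0xd110d0003))))) (.node 3904 (.node 3901 (.node 3900 (.leaf 0xf3a000f39000f38000f37000f31000f30) (.leaf 0x100b0c0003)) (.node 3902 (.leaf 0x0) (.node 3903 (.leaf 0x100f0d0e0004) (.leaf 0x100b0c0f0c0005)))) (.node 3907 (.node 3905 (.leaf 0x100b0f0003) (.node 3906 (.leaf 0x0) (.leaf 0x7010009080607090008))) (.node 3908 (.leaf 0x100080003) (.node 3909 (.leaf 0x0) (.leaf 0xf0d0e0003))))))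

def argWS_377 : Store := (.node 3889 argWS_375 argWS_376)

def argWS_378 : Store := (.node 3869 argWS_374 argWS_377)

def argWS_379 : Store := (.node 3828 argWS_371 argWS_378)

def argWS_380 : Store := (.node 3747 argWS_364 argWS_379)

def argWS_381 : Store := (.node 3584 argWS_349 argWS_380)

def argWS_382 : Store := (.node 3258 argWS_318 argWS_381)

def argWS_383 : Store := (.node 3920 (.node 3915 (.node 3912 (.node 3911 (.leaf 0x0) (.leaf 0xe110c0003)) (.node 3913 (.leaf 0xe100f0c0004) (.node 3914 (.leaf 0x40209080004) (.leaf 0x0)))) (.node 3917 (.node 3916 (.leaf 0x100d0002) (.leaf 0xf4b000f4a000f47000f46000f40000f3f)) (.node 3918 (.leaf 0xf100d0f0c0005) (.node 3919 (.leaf 0x0) (.leaf 0xa0e0002))))) (.node 3925 (.node 3922 (.node 3921 (.leaf 0x0) (.leaf 0x0)) (.node 3923 (.leaf 0x0) (.node 3924 (.leaf 0x0) (.leaf 0x0)))) (.node 3927 (.node 3926 (.leaf 0x0) (.leaf 0x0)) (.node 3928 (.leaf 0x0) (.node 3929 (.leaf 0x0) (.leaf 0x0))))))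

def argWS_384 : Store := (.node 3940 (.node 3935 (.node 3932 (.node 3931 (.leaf 0x0) (.leaf 0x0)) (.node 3933 (.leaf 0x0) (.node 3934 (.leaf 0x0) (.leaf 0x0)))) (.node 3937 (.node 3936 (.leaf 0x0) (.leaf 0x0)) (.node 3938 (.leaf 0x0) (.node 3939 (.leaf 0xb0a0c0003) (.leaf 0x110b0e0003))))) (.node 3945 (.node 3942 (.node 3941 (.leaf 0x110b0d0d0e0005) (.leaf 0xb0d0d0e0004)) (.node 3943 (.leaf 0xf100f0d0e0005) (.node 3944 (.leaf 0x110b0d0003) (.leaf 0xf100b0f0f0c0006)))) (.node 3947 (.node 3946 (.leaf 0xf68000f67000f66000f65000f64000f63) (.leaf 0x110b0002)) (.node 3948 (.leaf 0x0) (.node 3949 (.leaf 0xb0001) (.leaf 0x0))))))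

def argWS_385 : Store := (.node 3930 argWS_383 argWS_384)

def argWS_386 : Store := (.node 3960 (.node 3955 (.node 3952 (.node 3951 (.leaf 0x0) (.leaf 0x0)) (.node 3953 (.leaf 0x7010002) (.node 3954 (.leaf 0x10001) (.leaf 0x0)))) (.node 3957 (.node 3956 (.leaf 0x0) (.leaf 0xe110f0003)) (.node 3958 (.leaf 0x1080002) (.node 3959 (.leaf 0x0) (.leaf 0x0))))) (.node 3965 (.node 3962 (.node 3961 (.leaf 0xa0001) (.leaf 0xc100b0e0004)) (.node 3963 (.leaf 0xc0001) (.node 3964 (.leaf 0xa0e0002) (.leaf 0xe110d0003)))) (.node 3967 (.node 3966 (.leaf 0xe110f0c0004) (.leaf 0xe100d0d0e0005)) (.node 3968 (.leaf 0xe100f0d0e0005) (.node 3969 (.leaf 0xf7f000f7e000f7d000f7c000f7b000f7a) (.leaf 0x110001))))))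

def argWS_387 : Store := (.node 3980 (.node 3975 (.node 3972 (.node 3971 (.leaf 0x0) (.leaf 0xc100b0f0d0e0006)) (.node 3973 (.leaf 0xd100e0003) (.node 3974 (.leaf 0xa0001) (.leaf 0xf100b0d0004)))) (.node 3977 (.node 3976 (.leaf 0xe100f0c0004) (.leaf 0xc100b0003)) (.node 3978 (.leaf 0xf100e0003) (.node 3979 (.leaf 0x100b0002) (.leaf 0xf8a000f89000f88000f87000f86000f85))))) (.node 3985 (.node 3982 (.node 3981 (.leaf 0xd110d0003) (.leaf 0x0)) (.node 3983 (.leaf 0x0) (.node 3984 (.leaf 0x0) (.leaf 0x0)))) (.node 3988 (.node 3986 (.leaf 0x2030705080005) (.node 3987 (.leaf 0x10001) (.leaf 0x0))) (.node 3989 (.leaf 0x0) (.node 3990 (.leaf 0x100b0e0003) (.leaf 0x0))))))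

def argWS_388 : Store := (.node 3970 argWS_386 argWS_387)

def argWS_389 : Store := (.node 3950 argWS_385 argWS_388)

def argWS_390 : Store := (.node 4001 (.node 3996 (.node 3993 (.node 3992 (.leaf 0x0) (.leaf 0x0)) (.node 3994 (.leaf 0xe100f0c0004) (.node 3995 (.leaf 0xa0d0002) (.leaf 0xf0d0e0003)))) (.node 3998 (.node 3997 (.leaf 0xe100f0c0004) (.leaf 0x110e0002)) (.node 3999 (.leaf 0x110b0d0003) (.node 4000 (.leaf 0xf100b0f0f0c0006) (.leaf 0xf9f000f9e000f9d000f9c000f9b000f9a))))) (.node 4006 (.node 4003 (.node 4002 (.leaf 0x110c0002) (.leaf 0x0)) (.node 4004 (.leaf 0xc100d0f0c0005) (.node 4005 (.leaf 0x0) (.leaf 0xd110f0c0004)))) (.node 4008 (.node 4007 (.leaf 0xe110d0003) (.leaf 0xfa6)) (.node 4009 (.leaf 0xf100d0e0004) (.node 4010 (.leaf 0x0) (.leaf 0xd100f0003))))))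

def argWS_391 : Store := (.node 4021 (.node 4016 (.node 4013 (.node 4012 (.leaf 0x100b0f0f0c0005) (.leaf 0xfab)) (.node 4014 (.leaf 0xc0f0c0003) (.node 4015 (.leaf 0x0) (.leaf 0x0)))) (.node 4018 (.node 4017 (.leaf 0x0) (.leaf 0x0)) (.node 4019 (.leaf 0x0) (.node 4020 (.leaf 0x0) (.leaf 0x0))))) (.node 4026 (.node 4023 (.node 4022 (.leaf 0xc100d0f0c0005) (.leaf 0xa0f0f0c0004)) (.node 4024 (.leaf 0xe110c0f0c0005) (.node 4025 (.leaf 0x0) (.leaf 0x4050705080005)))) (.node 4029 (.node 4027 (.leaf 0x7010607090005) (.node 4028 (.leaf 0x0) (.leaf 0x100b0e0003))) (.node 4030 (.leaf 0x0) (.node 4031 (.leaf 0xb0f0d0e0004) (.leaf 0xe110c0003))))))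

def argWS_392 : Store := (.node 4011 argWS_390 argWS_391)

def argWS_393 : Store := (.node 4042 (.node 4037 (.node 4034 (.node 4033 (.leaf 0x110b0c0f0c0005) (.leaf 0xfc0000fbf000fbe000fbd000fb7000fb6)) (.node 4035 (.leaf 0x100e0002) (.node 4036 (.leaf 0x100b0e0003) (.leaf 0x100b0d0e0004)))) (.node 4039 (.node 4038 (.leaf 0xe110c0003) (.leaf 0xe100f0c0004)) (.node 4040 (.leaf 0xd0001) (.node 4041 (.leaf 0xf0d0e0003) (.leaf 0xb0a0c0003))))) (.node 4047 (.node 4044 (.node 4043 (.leaf 0xfc9000fc8000fc7000fc6000fc5000fc4) (.leaf 0xc100b0c0004)) (.node 4045 (.leaf 0x0) (.node 4046 (.leaf 0x110d0d0e0004) (.leaf 0x0)))) (.node 4049 (.node 4048 (.leaf 0x0) (.leaf 0xf100b0d0d0e0006)) (.node 4050 (.leaf 0x100d0f0c0004) (.node 4051 (.leaf 0xf0001) (.leaf 0x110b0e0003))))))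

def argWS_394 : Store := (.node 4062 (.node 4057 (.node 4054 (.node 4053 (.leaf 0x110b0d0d0e0005) (.leaf 0xc100b0d0004)) (.node 4055 (.leaf 0xc100d0003) (.node 4056 (.leaf 0xfd6000fd5000fd4000fd3000fd2000fd1) (.leaf 0xf100e0003)))) (.node 4059 (.node 4058 (.leaf 0x0) (.leaf 0x100f0002)) (.node 4060 (.leaf 0x0) (.node 4061 (.leaf 0x0) (.leaf 0x0))))) (.node 4067 (.node 4064 (.node 4063 (.leaf 0x5070002) (.leaf 0x0)) (.node 4065 (.leaf 0x0) (.node 4066 (.leaf 0x100d0d0e0004) (.leaf 0x0)))) (.node 4070 (.node 4068 (.leaf 0x0) (.node 4069 (.leaf 0x100b0e0003) (.leaf 0x100b0f0d0e0005))) (.node 4071 (.leaf 0xfe5) (.node 4072 (.leaf 0xf100f0f0c0005) (.leaf 0x0))))))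

def argWS_395 : Store := (.node 4052 argWS_393 argWS_394)

def argWS_396 : Store := (.node 4032 argWS_392 argWS_395)

def argWS_397 : Store := (.node 3991 argWS_389 argWS_396)

def argWS_398 : Store := (.node 4083 (.node 4078 (.node 4075 (.node 4074 (.leaf 0x0) (.leaf 0x0)) (.node 4076 (.leaf 0xb0001) (.node 4077 (.leaf 0xa0f0c0003) (.leaf 0xc100c0003)))) (.node 4080 (.node 4079 (.leaf 0x0) (.leaf 0x301060705080006)) (.node 4081 (.leaf 0x2060709080005) (.node 4082 (.leaf 0x0) (.leaf 0xc100e0003))))) (.node 4088 (.node 4085 (.node 4084 (.leaf 0x0) (.leaf 0xc0001)) (.node 4086 (.leaf 0xf0f0c0003) (.node 4087 (.leaf 0xb0a0002) (.leaf 0xff6000ff5000ff4000ff3000fed000fec)))) (.node 4090 (.node 4089 (.leaf 0xf100f0003) (.leaf 0x0)) (.node 4091 (.leaf 0xe100c0003) (.node 4092 (.leaf 0x0) (.leaf 0x0))))))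

def argWS_399 : Store := (.node 4103 (.node 4098 (.node 4095 (.node 4094 (.leaf 0x0) (.leaf 0x2080002)) (.node 4096 (.leaf 0x0) (.node 4097 (.leaf 0x0) (.leaf 0xd100f0003)))) (.node 4100 (.node 4099 (.leaf 0x10001) (.leaf 0x0)) (.node 4101 (.leaf 0x0) (.node 4102 (.leaf 0xc100f0d0e0005) (.leaf 0x1070002))))) (.node 4108 (.node 4105 (.node 4104 (.leaf 0x0) (.leaf 0x0)) (.node 4106 (.leaf 0xe100c0003) (.node 4107 (.leaf 0x0) (.leaf 0x0)))) (.node 4110 (.node 4109 (.leaf 0x100b0f0c0004) (.leaf 0x110f0c0003)) (.node 4111 (.leaf 0x100d) (.node 4112 (.leaf 0xc100d0d0e0005) (.leaf 0x0))))))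

def argWS_400 : Store := (.node 4093 argWS_398 argWS_399)

def argWS_401 : Store := (.node 4123 (.node 4118 (.node 4115 (.node 4114 (.leaf 0x0) (.leaf 0x0)) (.node 4116 (.leaf 0x0) (.node 4117 (.leaf 0x0) (.leaf 0xc100d0003)))) (.node 4120 (.node 4119 (.leaf 0xc100b0e0004) (.leaf 0x1016)) (.node 4121 (.leaf 0xc100f0d0e0005) (.node 4122 (.leaf 0x0) (.leaf 0x0))))) (.node 4128 (.node 4125 (.node 4124 (.leaf 0x0) (.leaf 0x0)) (.node 4126 (.leaf 0x0) (.node 4127 (.leaf 0x0) (.leaf 0xf100b0d0e0005)))) (.node 4130 (.node 4129 (.leaf 0xd100f0f0c0005) (.leaf 0x1020)) (.node 4131 (.leaf 0xa0d0e0003) (.node 4132 (.leaf 0x0) (.leaf 0x0))))))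

def argWS_402 : Store := (.node 4143 (.node 4138 (.node 4135 (.node 4134 (.leaf 0x0) (.leaf 0x0)) (.node 4136 (.leaf 0xb0d0d0e0004) (.node 4137 (.leaf 0xe100d0e0004) (.leaf 0x1028)))) (.node 4140 (.node 4139 (.leaf 0x110d0d0e0004) (.leaf 0x0)) (.node 4141 (.leaf 0x0) (.node 4142 (.leaf 0x100c0002) (.leaf 0xf100d0d0e0005))))) (.node 4148 (.node 4145 (.node 4144 (.leaf 0x102e) (.leaf 0xb0a0d0003)) (.node 4146 (.leaf 0x0) (.node 4147 (.leaf 0x0) (.leaf 0x0)))) (.node 4151 (.node 4149 (.leaf 0x0) (.node 4150 (.leaf 0x0) (.leaf 0x0))) (.node 4152 (.leaf 0x0) (.node 4153 (.leaf 0xc100f0c0004) (.leaf 0xc100f0c0004))))))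

def argWS_403 : Store := (.node 4133 argWS_401 argWS_402)

def argWS_404 : Store := (.node 4113 argWS_400 argWS_403)

def argWS_405 : Store := (.node 4164 (.node 4159 (.node 4156 (.node 4155 (.leaf 0x1039) (.leaf 0xf100b0f0d0e0006)) (.node 4157 (.leaf 0x0) (.node 4158 (.leaf 0x0) (.leaf 0x0)))) (.node 4161 (.node 4160 (.leaf 0x0) (.leaf 0xc100f0003)) (.node 4162 (.leaf 0xd110002) (.node 4163 (.leaf 0xb0d0002) (.leaf 0xa0f0d0e0004))))) (.node 4169 (.node 4166 (.node 4165 (.leaf 0x100c0f0c0004) (.leaf 0x100b0f0003)) (.node 4167 (.leaf 0x110001) (.node 4168 (.leaf 0x1046001045001044001043001042001041) (.leaf 0xf100b0f0f0c0006)))) (.node 4171 (.node 4170 (.leaf 0x0) (.leaf 0x0)) (.node 4172 (.leaf 0x0) (.node 4173 (.leaf 0x70102050004) (.leaf 0x10001))))))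

def argWS_406 : Store := (.node 4184 (.node 4179 (.node 4176 (.node 4175 (.leaf 0x0) (.leaf 0x0)) (.node 4177 (.leaf 0x100b0f0d0e0005) (.node 4178 (.leaf 0x0) (.leaf 0x0)))) (.node 4181 (.node 4180 (.leaf 0x0) (.leaf 0x0)) (.node 4182 (.leaf 0x0) (.node 4183 (.leaf 0x0) (.leaf 0x0))))) (.node 4189 (.node 4186 (.node 4185 (.leaf 0xa0c0002) (.leaf 0x110c0002)) (.node 4187 (.leaf 0x1059) (.node 4188 (.leaf 0x100f0d0e0004) (.leaf 0x110b0f0c0004)))) (.node 4192 (.node 4190 (.leaf 0x100b0f0c0004) (.node 4191 (.leaf 0x105d) (.leaf 0xc100b0d0d0e0006))) (.node 4193 (.leaf 0xb0c0f0c0004) (.node 4194 (.leaf 0x4010905080005) (.leaf 0x0))))))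

def argWS_407 : Store := (.node 4174 argWS_405 argWS_406)

def argWS_408 : Store := (.node 4205 (.node 4200 (.node 4197 (.node 4196 (.leaf 0xc100f0d0e0005) (.leaf 0xe110e0003)) (.node 4198 (.leaf 0xd100f0003) (.node 4199 (.leaf 0xa0c0002) (.leaf 0xd110f0d0e0005)))) (.node 4202 (.node 4201 (.leaf 0xd100f0003) (.leaf 0x1068001067001066001065001064001063)) (.node 4203 (.leaf 0x100d0002) (.node 4204 (.leaf 0xc100d0e0004) (.leaf 0xd100002))))) (.node 4210 (.node 4207 (.node 4206 (.leaf 0x106c) (.leaf 0xb0d0f0c0004)) (.node 4208 (.leaf 0x0) (.node 4209 (.leaf 0x0) (.leaf 0x0)))) (.node 4212 (.node 4211 (.leaf 0x0) (.leaf 0x0)) (.node 4213 (.leaf 0x0) (.node 4214 (.leaf 0x0) (.leaf 0x0))))))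

def argWS_409 : Store := (.node 4225 (.node 4220 (.node 4217 (.node 4216 (.leaf 0x0) (.leaf 0xc100d0f0c0005)) (.node 4218 (.leaf 0xe110002) (.node 4219 (.leaf 0x1079) (.leaf 0xa0f0002)))) (.node 4222 (.node 4221 (.leaf 0x0) (.leaf 0x0)) (.node 4223 (.leaf 0x0) (.node 4224 (.leaf 0x0) (.leaf 0x0))))) (.node 4230 (.node 4227 (.node 4226 (.leaf 0xf100b0d0f0c0006) (.leaf 0xe110f0f0c0005)) (.node 4228 (.leaf 0x1082) (.node 4229 (.leaf 0xb0c0002) (.leaf 0x0)))) (.node 4233 (.node 4231 (.leaf 0x0) (.node 4232 (.leaf 0x0) (.leaf 0x0))) (.node 4234 (.leaf 0x0) (.node 4235 (.leaf 0x0) (.leaf 0x0))))))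

def argWS_410 : Store := (.node 4215 argWS_408 argWS_409)

def argWS_411 : Store := (.node 4195 argWS_407 argWS_410)

def argWS_412 : Store := (.node 4154 argWS_404 argWS_411)

def argWS_413 : Store := (.node 4073 argWS_397 argWS_412)

def argWS_414 : Store := (.node 4246 (.node 4241 (.node 4238 (.node 4237 (.leaf 0x110b0e0003) (.leaf 0x110f0d0e0004)) (.node 4239 (.leaf 0x108d) (.node 4240 (.leaf 0xf100b0f0f0c0006) (.leaf 0x0)))) (.node 4243 (.node 4242 (.leaf 0x0) (.leaf 0x0)) (.node 4244 (.leaf 0x0) (.node 4245 (.leaf 0x0) (.leaf 0x0))))) (.node 4251 (.node 4248 (.node 4247 (.leaf 0x0) (.leaf 0x0)) (.node 4249 (.leaf 0x0) (.node 4250 (.leaf 0x0) (.leaf 0xe100f0003)))) (.node 4253 (.node 4252 (.leaf 0x100c0f0c0004) (.leaf 0x109b)) (.node 4254 (.leaf 0x0) (.node 4255 (.leaf 0xd0001) (.leaf 0x110d0e0003))))))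

def argWS_415 : Store := (.node 4266 (.node 4261 (.node 4258 (.node 4257 (.leaf 0x110f0f0c0004) (.leaf 0xf100b0d0f0c0006)) (.node 4259 (.leaf 0x100b0002) (.node 4260 (.leaf 0x110c0002) (.leaf 0x0)))) (.node 4263 (.node 4262 (.leaf 0x905080003) (.leaf 0x10008060607090007)) (.node 4264 (.leaf 0x0) (.node 4265 (.leaf 0x100d0002) (.leaf 0x0))))) (.node 4271 (.node 4268 (.node 4267 (.leaf 0x10a90010a30010a20010a10010a000109f) (.leaf 0xf100d0f0c0005)) (.node 4269 (.leaf 0xb0f0c0003) (.node 4270 (.leaf 0x110f0d0e0004) (.leaf 0xc100f0003)))) (.node 4273 (.node 4272 (.leaf 0x0) (.leaf 0x2040109080607090008)) (.node 4274 (.leaf 0x20305070705080007) (.node 4275 (.leaf 0x0) (.leaf 0x110c0f0c0004))))))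

def argWS_416 : Store := (.node 4256 argWS_414 argWS_415)

def argWS_417 : Store := (.node 4286 (.node 4281 (.node 4278 (.node 4277 (.leaf 0x0) (.leaf 0xc100f0f0c0005)) (.node 4279 (.leaf 0xa0c0002) (.node 4280 (.leaf 0xf100b0f0c0005) (.leaf 0x10b70010b60010b50010b40010ae0010ad)))) (.node 4283 (.node 4282 (.leaf 0xe110002) (.leaf 0x0)) (.node 4284 (.leaf 0xd0001) (.node 4285 (.leaf 0x0) (.leaf 0x0))))) (.node 4291 (.node 4288 (.node 4287 (.leaf 0x0) (.leaf 0x80001)) (.node 4289 (.leaf 0x0) (.node 4290 (.leaf 0x0) (.leaf 0x10001)))) (.node 4293 (.node 4292 (.leaf 0x0) (.leaf 0x0)) (.node 4294 (.leaf 0x70001) (.node 4295 (.leaf 0x0) (.leaf 0x0))))))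

def argWS_418 : Store := (.node 4306 (.node 4301 (.node 4298 (.node 4297 (.leaf 0xc0001) (.leaf 0xf100b0c0004)) (.node 4299 (.leaf 0xd110d0d0e0005) (.node 4300 (.leaf 0x10ca) (.leaf 0xf0001)))) (.node 4303 (.node 4302 (.leaf 0x0) (.leaf 0x0)) (.node 4304 (.leaf 0x0) (.node 4305 (.leaf 0x100b0e0003) (.leaf 0xd0001))))) (.node 4311 (.node 4308 (.node 4307 (.leaf 0xa0d0e0003) (.leaf 0x0)) (.node 4309 (.leaf 0x301060705080006) (.node 4310 (.leaf 0x3000709080005) (.leaf 0x0)))) (.node 4314 (.node 4312 (.leaf 0x110d0e0003) (.node 4313 (.leaf 0x0) (.leaf 0xc100f0d0e0005))) (.node 4315 (.leaf 0xf100b0003) (.node 4316 (.leaf 0x110b0c0003) (.leaf 0x10db0010da0010d90010d80010d20010d1))))))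

def argWS_419 : Store := (.node 4296 argWS_417 argWS_418)

def argWS_420 : Store := (.node 4276 argWS_416 argWS_419)

def argWS_421 : Store := (.node 4327 (.node 4322 (.node 4319 (.node 4318 (.leaf 0x110b0d0003) (.leaf 0x0)) (.node 4320 (.leaf 0xf100f0c0004) (.node 4321 (.leaf 0x0) (.leaf 0x0)))) (.node 4324 (.node 4323 (.leaf 0x0) (.leaf 0x701050709080607090009)) (.node 4325 (.leaf 0x0) (.node 4326 (.leaf 0x0) (.leaf 0xa0c0002))))) (.node 4332 (.node 4329 (.node 4328 (.leaf 0x10001) (.leaf 0x0)) (.node 4330 (.leaf 0x0) (.node 4331 (.leaf 0xf100f0f0c0005) (.leaf 0x108050003)))) (.node 4334 (.node 4333 (.leaf 0x0) (.leaf 0x0)) (.node 4335 (.leaf 0x110001) (.node 4336 (.leaf 0x0) (.leaf 0x0))))))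

def argWS_422 : Store := (.node 4347 (.node 4342 (.node 4339 (.node 4338 (.leaf 0x0) (.leaf 0x0)) (.node 4340 (.leaf 0x0) (.node 4341 (.leaf 0x0) (.leaf 0x0)))) (.node 4344 (.node 4343 (.leaf 0x0) (.leaf 0xf100d0f0c0005)) (.node 4345 (.leaf 0x100001) (.node 4346 (.leaf 0xd110d0003) (.leaf 0xf100f0003))))) (.node 4352 (.node 4349 (.node 4348 (.leaf 0xd0e0002) (.leaf 0xa0c0002)) (.node 4350 (.leaf 0xf100b0f0c0005) (.node 4351 (.leaf 0x10fd0010fc0010fb0010fa0010f90010f8) (.leaf 0xe110002)))) (.node 4355 (.node 4353 (.leaf 0x0) (.node 4354 (.leaf 0xa0d0e0003) (.leaf 0x0))) (.node 4356 (.leaf 0x0) (.node 4357 (.leaf 0x80001) (.leaf 0x100b0e0003))))))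

def argWS_423 : Store := (.node 4337 argWS_421 argWS_422)

def argWS_424 : Store := (.node 4368 (.node 4363 (.node 4360 (.node 4359 (.leaf 0x100b0d0d0e0005) (.leaf 0x1106)) (.node 4361 (.leaf 0xf0c0002) (.node 4362 (.leaf 0x0) (.leaf 0x100d0002)))) (.node 4365 (.node 4364 (.leaf 0x0) (.leaf 0x0)) (.node 4366 (.leaf 0xe100d0f0c0005) (.node 4367 (.leaf 0x110001) (.leaf 0x110e))))) (.node 4373 (.node 4370 (.node 4369 (.leaf 0xa0f0f0c0004) (.leaf 0x0)) (.node 4371 (.leaf 0x0) (.node 4372 (.leaf 0xd100c0f0c0005) (.leaf 0x110b0d0e0004)))) (.node 4375 (.node 4374 (.leaf 0x100f0f0c0004) (.leaf 0xa0d0002)) (.node 4376 (.leaf 0xe100f0f0c0005) (.node 4377 (.leaf 0xf100b0d0e0005) (.leaf 0xc100b0d0004))))))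

def argWS_425 : Store := (.node 4388 (.node 4383 (.node 4380 (.node 4379 (.leaf 0x1119001118001117001116001115001114) (.leaf 0xc100d0003)) (.node 4381 (.leaf 0x0) (.node 4382 (.leaf 0x110b0d0d0e0005) (.leaf 0xc100c0003)))) (.node 4385 (.node 4384 (.leaf 0xd110c0f0c0005) (.leaf 0x111f)) (.node 4386 (.leaf 0xb0a0c0003) (.node 4387 (.leaf 0x0) (.leaf 0x0))))) (.node 4393 (.node 4390 (.node 4389 (.leaf 0xc100f0f0c0005) (.leaf 0x110c0f0c0004)) (.node 4391 (.leaf 0x1125) (.node 4392 (.leaf 0xb0a0002) (.leaf 0x0)))) (.node 4396 (.node 4394 (.leaf 0xe110002) (.node 4395 (.leaf 0x0) (.leaf 0x0))) (.node 4397 (.leaf 0x100b0c0f0c0005) (.node 4398 (.leaf 0xb0a0f0c0004) (.leaf 0xf100d0f0c0005))))))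

def argWS_426 : Store := (.node 4378 argWS_424 argWS_425)

def argWS_427 : Store := (.node 4358 argWS_423 argWS_426)

def argWS_428 : Store := (.node 4317 argWS_420 argWS_427)

def argWS_429 : Store := (.node 4409 (.node 4404 (.node 4401 (.node 4400 (.leaf 0xc100b0d0d0e0006) (.leaf 0xd110002)) (.node 4402 (.leaf 0xb0d0f0c0004) (.node 4403 (.leaf 0xb0001) (.leaf 0x113200113100113000112f00112e00112d)))) (.node 4406 (.node 4405 (.leaf 0xa0e0002) (.leaf 0x0)) (.node 4407 (.leaf 0xb0a0f0003) (.node 4408 (.leaf 0x0) (.leaf 0x0))))) (.node 4414 (.node 4411 (.node 4410 (.leaf 0x0) (.leaf 0x80001)) (.node 4412 (.leaf 0x0) (.node 4413 (.leaf 0x0) (.leaf 0x100b0c0003)))) (.node 4416 (.node 4415 (.leaf 0x70001) (.leaf 0x0)) (.node 4417 (.leaf 0x0) (.node 4418 (.leaf 0xf100c0003) (.leaf 0xe110d0d0e0005))))))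

def argWS_430 : Store := (.node 4429 (.node 4424 (.node 4421 (.node 4420 (.leaf 0xb0d0002) (.leaf 0xc0f0c0003)) (.node 4422 (.leaf 0xb0c0002) (.node 4423 (.leaf 0xb0f0002) (.leaf 0xb0a0d0003)))) (.node 4426 (.node 4425 (.leaf 0x100b0f0d0e0005) (.leaf 0x1148001147001146001145001144001143)) (.node 4427 (.leaf 0x100b0d0f0c0005) (.node 4428 (.leaf 0x0) (.leaf 0x100d0d0e0004))))) (.node 4434 (.node 4431 (.node 4430 (.leaf 0x0) (.leaf 0x0)) (.node 4432 (.leaf 0x0) (.node 4433 (.leaf 0x2080002) (.leaf 0x10001)))) (.node 4436 (.node 4435 (.leaf 0x0) (.leaf 0x0)) (.node 4437 (.leaf 0xe110d0d0e0005) (.node 4438 (.leaf 0x0) (.leaf 0x1070002))))))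

def argWS_431 : Store := (.node 4419 argWS_429 argWS_430)

def argWS_432 : Store := (.node 4449 (.node 4444 (.node 4441 (.node 4440 (.leaf 0x0) (.leaf 0x0)) (.node 4442 (.leaf 0xa0d0d0e0004) (.node 4443 (.leaf 0x0) (.leaf 0x0)))) (.node 4446 (.node 4445 (.leaf 0x0) (.leaf 0x0)) (.node 4447 (.leaf 0x3060705080005) (.node 4448 (.leaf 0x7010809080607090008) (.leaf 0x0))))) (.node 4454 (.node 4451 (.node 4450 (.leaf 0x0) (.leaf 0x100d0d0e0004)) (.node 4452 (.leaf 0xe110d0d0e0005) (.node 4453 (.leaf 0xb0d0002) (.leaf 0x110d0e0003)))) (.node 4456 (.node 4455 (.leaf 0x100f0f0c0004) (.leaf 0xd0001)) (.node 4457 (.leaf 0xf0d0e0003) (.node 4458 (.leaf 0xe110f0d0e0005) (.leaf 0x1169001168001167001166001165001164))))))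

def argWS_433 : Store := (.node 4469 (.node 4464 (.node 4461 (.node 4460 (.leaf 0xc100b0d0004) (.leaf 0x0)) (.node 4462 (.leaf 0x0) (.node 4463 (.leaf 0x0) (.leaf 0x0)))) (.node 4466 (.node 4465 (.leaf 0x7010208060607090008) (.leaf 0x10001)) (.node 4467 (.leaf 0x0) (.node 4468 (.leaf 0x0) (.leaf 0xb0f0002))))) (.node 4474 (.node 4471 (.node 4470 (.leaf 0xa0d0f0c0004) (.leaf 0x110b0f0003)) (.node 4472 (.leaf 0x1176) (.node 4473 (.leaf 0x100e0002) (.leaf 0x0)))) (.node 4477 (.node 4475 (.leaf 0x0) (.node 4476 (.leaf 0x0) (.leaf 0x0))) (.node 4478 (.leaf 0x0) (.node 4479 (.leaf 0x0) (.leaf 0x0))))))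

def argWS_434 : Store := (.node 4459 argWS_432 argWS_433)

def argWS_435 : Store := (.node 4439 argWS_431 argWS_434)

def argWS_436 : Store := (.node 4490 (.node 4485 (.node 4482 (.node 4481 (.leaf 0x0) (.leaf 0x0)) (.node 4483 (.leaf 0xc100b0f0004) (.node 4484 (.leaf 0xd100002) (.leaf 0x0)))) (.node 4487 (.node 4486 (.leaf 0x1000507060607090008) (.leaf 0x1020507060607090008)) (.node 4488 (.leaf 0x0) (.node 4489 (.leaf 0x100001) (.leaf 0x0))))) (.node 4495 (.node 4492 (.node 4491 (.leaf 0x0) (.leaf 0x7010009080607090008)) (.node 4493 (.leaf 0x3020105080005) (.node 4494 (.leaf 0x0) (.leaf 0x110f0f0c0004)))) (.node 4497 (.node 4496 (.leaf 0x0) (.leaf 0xb0a0c0f0c0005)) (.node 4498 (.leaf 0x100c0002) (.node 4499 (.leaf 0xd110d0003) (.leaf 0x119200119100119000118f001189001183))))))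

def argWS_437 : Store := (.node 4510 (.node 4505 (.node 4502 (.node 4501 (.leaf 0x100b0c0003) (.leaf 0x0)) (.node 4503 (.leaf 0xf0f0c0003) (.node 4504 (.leaf 0xe110d0d0e0005) (.leaf 0xc100b0f0004)))) (.node 4507 (.node 4506 (.leaf 0x1198) (.leaf 0x110b0d0f0c0005)) (.node 4508 (.leaf 0x0) (.node 4509 (.leaf 0xf100b0f0d0e0006) (.leaf 0x0))))) (.node 4515 (.node 4512 (.node 4511 (.leaf 0x0) (.leaf 0xa0d0f0c0004)) (.node 4513 (.leaf 0x110b0f0003) (.node 4514 (.leaf 0x11a0) (.leaf 0x100e0002)))) (.node 4518 (.node 4516 (.leaf 0x0) (.node 4517 (.leaf 0x0) (.leaf 0x0))) (.node 4519 (.leaf 0x0) (.node 4520 (.leaf 0x0) (.leaf 0x0))))))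

def argWS_438 : Store := (.node 4500 argWS_436 argWS_437)

def argWS_439 : Store := (.node 4531 (.node 4526 (.node 4523 (.node 4522 (.leaf 0x0) (.leaf 0xc100b0f0004)) (.node 4524 (.leaf 0x0) (.node 4525 (.leaf 0x7010009080607090008) (.leaf 0x302050709080006)))) (.node 4528 (.node 4527 (.leaf 0x0) (.leaf 0x100e0002)) (.node 4529 (.leaf 0x0) (.node 4530 (.leaf 0xa0d0f0c0004) (.leaf 0xd110c0003))))) (.node 4536 (.node 4533 (.node 4532 (.leaf 0xe100d0d0e0005) (.leaf 0xa0d0f0c0004)) (.node 4534 (.leaf 0x30009080004) (.node 4535 (.leaf 0x0) (.leaf 0xb0a0f0d0e0005)))) (.node 4538 (.node 4537 (.leaf 0x11b70011b60011b30011b20011b10011b0) (.leaf 0x100d0002)) (.node 4539 (.leaf 0x0) (.node 4540 (.leaf 0x100d0f0c0004) (.leaf 0x0))))))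

def argWS_440 : Store := (.node 4551 (.node 4546 (.node 4543 (.node 4542 (.leaf 0x0) (.leaf 0x0)) (.node 4544 (.leaf 0x0) (.node 4545 (.leaf 0x705080004) (.leaf 0x10001)))) (.node 4548 (.node 4547 (.leaf 0x0) (.leaf 0x0)) (.node 4549 (.leaf 0x100d0e0003) (.node 4550 (.leaf 0x0) (.leaf 0x0))))) (.node 4556 (.node 4553 (.node 4552 (.leaf 0x0) (.leaf 0xe110d0f0c0005)) (.node 4554 (.leaf 0x100b0002) (.node 4555 (.leaf 0x11c9) (.leaf 0xd110002)))) (.node 4559 (.node 4557 (.leaf 0x0) (.node 4558 (.leaf 0xd0e0002) (.leaf 0x0))) (.node 4560 (.leaf 0x0) (.node 4561 (.leaf 0x0) (.leaf 0xf100b0e0004))))))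

def argWS_441 : Store := (.node 4541 argWS_439 argWS_440)

def argWS_442 : Store := (.node 4521 argWS_438 argWS_441)

def argWS_443 : Store := (.node 4480 argWS_435 argWS_442)

def argWS_444 : Store := (.node 4399 argWS_428 argWS_443)

def argWS_445 : Store := (.node 4236 argWS_413 argWS_444)

def argWS_446 : Store := (.node 4572 (.node 4567 (.node 4564 (.node 4563 (.leaf 0x204060607090006) (.leaf 0x0)) (.node 4565 (.leaf 0xe110e0003) (.node 4566 (.leaf 0x100e0002) (.leaf 0xd110002)))) (.node 4569 (.node 4568 (.leaf 0x20007090004) (.leaf 0x0)) (.node 4570 (.leaf 0xe100d0d0e0005) (.node 4571 (.leaf 0xb0a0d0f0c0005) (.leaf 0xc100d0003))))) (.node 4577 (.node 4574 (.node 4573 (.leaf 0x11db0011da0011d90011d80011d50011d4) (.leaf 0x110b0d0003)) (.node 4575 (.leaf 0x0) (.node 4576 (.leaf 0x100b0002) (.leaf 0x0)))) (.node 4579 (.node 4578 (.leaf 0x0) (.leaf 0x70001)) (.node 4580 (.leaf 0x0) (.node 4581 (.leaf 0xf100f0f0c0005) (.leaf 0x110b0002))))))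

def argWS_447 : Store := (.node 4592 (.node 4587 (.node 4584 (.node 4583 (.leaf 0xb0a0c0003) (.leaf 0x100f0c0003)) (.node 4585 (.leaf 0x100001) (.node 4586 (.leaf 0x100b0d0f0c0005) (.leaf 0xa0f0002)))) (.node 4589 (.node 4588 (.leaf 0x11ea0011e90011e80011e70011e60011e5) (.leaf 0xd100d0003)) (.node 4590 (.leaf 0x0) (.node 4591 (.leaf 0x0) (.leaf 0x0))))) (.node 4597 (.node 4594 (.node 4593 (.leaf 0x0) (.leaf 0x0)) (.node 4595 (.leaf 0x0) (.node 4596 (.leaf 0x0) (.leaf 0x0)))) (.node 4599 (.node 4598 (.leaf 0x0) (.leaf 0x0)) (.node 4600 (.leaf 0x0) (.node 4601 (.leaf 0x0) (.leaf 0x0))))))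

def argWS_448 : Store := (.node 4582 argWS_446 argWS_447)

def argWS_449 : Store := (.node 4612 (.node 4607 (.node 4604 (.node 4603 (.leaf 0x0) (.leaf 0x0)) (.node 4605 (.leaf 0x0) (.node 4606 (.leaf 0xc100d0e0004) (.leaf 0xd100002)))) (.node 4609 (.node 4608 (.leaf 0x11fe) (.leaf 0xb0d0f0c0004)) (.node 4610 (.leaf 0x0) (.node 4611 (.leaf 0x100b0c0f0c0005) (.leaf 0xa0001))))) (.node 4617 (.node 4614 (.node 4613 (.leaf 0x1203) (.leaf 0xd100c0003)) (.node 4615 (.leaf 0x110b0c0003) (.node 4616 (.leaf 0xa0c0f0c0004) (.leaf 0xd110d0003)))) (.node 4619 (.node 4618 (.leaf 0xc100b0c0004) (.leaf 0xc100d0003)) (.node 4620 (.leaf 0xd100f0d0e0005) (.node 4621 (.leaf 0xb0c0f0c0004) (.leaf 0x120c00120b00120a001209001208001207))))))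

def argWS_450 : Store := (.node 4632 (.node 4627 (.node 4624 (.node 4623 (.leaf 0xc100b0003) (.leaf 0x0)) (.node 4625 (.leaf 0x0) (.node 4626 (.leaf 0x0) (.leaf 0x0)))) (.node 4629 (.node 4628 (.leaf 0x3040107090005) (.leaf 0x0)) (.node 4630 (.leaf 0x0) (.node 4631 (.leaf 0xd100e0003) (.leaf 0x0))))) (.node 4637 (.node 4634 (.node 4633 (.leaf 0x0) (.leaf 0x0)) (.node 4635 (.leaf 0x100f0d0e0004) (.node 4636 (.leaf 0x100b0c0f0c0005) (.leaf 0xb0d0d0e0004)))) (.node 4640 (.node 4638 (.leaf 0xc100f0c0004) (.node 4639 (.leaf 0x0) (.leaf 0x1020607090005))) (.node 4641 (.leaf 0x3020809080607090008) (.node 4642 (.leaf 0x0) (.leaf 0xb0a0f0f0c0005))))))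

def argWS_451 : Store := (.node 4622 argWS_449 argWS_450)

def argWS_452 : Store := (.node 4602 argWS_448 argWS_451)

def argWS_453 : Store := (.node 4653 (.node 4648 (.node 4645 (.node 4644 (.leaf 0x0) (.leaf 0x0)) (.node 4646 (.leaf 0x400060607090006) (.node 4647 (.leaf 0x30208060004) (.leaf 0x0)))) (.node 4650 (.node 4649 (.leaf 0xb0f0002) (.leaf 0x0)) (.node 4651 (.leaf 0x100d0e0003) (.node 4652 (.leaf 0x122a00122900122300121d00121c00121b) (.leaf 0xb0f0f0c0004))))) (.node 4658 (.node 4655 (.node 4654 (.leaf 0x0) (.leaf 0x110b0d0e0004)) (.node 4656 (.leaf 0xd0e0002) (.node 4657 (.leaf 0x110b0d0f0c0005) (.leaf 0x1230)))) (.node 4660 (.node 4659 (.leaf 0x100b0f0c0004) (.leaf 0x0)) (.node 4661 (.leaf 0xb0f0d0e0004) (.node 4662 (.leaf 0xc100d0e0004) (.leaf 0x1235))))))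

def argWS_454 : Store := (.node 4673 (.node 4668 (.node 4665 (.node 4664 (.leaf 0x110c0002) (.leaf 0xf100d0d0e0005)) (.node 4666 (.leaf 0x110e0002) (.node 4667 (.leaf 0x100b0d0003) (.leaf 0xd110d0f0c0005)))) (.node 4670 (.node 4669 (.leaf 0xe100f0003) (.leaf 0x4020002)) (.node 4671 (.leaf 0x0) (.node 4672 (.leaf 0x110d0002) (.leaf 0xc100b0003))))) (.node 4678 (.node 4675 (.node 4674 (.leaf 0x124000123f00123e00123b00123a001239) (.leaf 0xc100d0003)) (.node 4676 (.leaf 0x0) (.node 4677 (.leaf 0xb0e0002) (.leaf 0x0)))) (.node 4681 (.node 4679 (.leaf 0xe110d0f0c0005) (.node 4680 (.leaf 0xd100f0d0e0005) (.leaf 0xf100b0d0d0e0006))) (.node 4682 (.leaf 0x100d0f0c0004) (.node 4683 (.leaf 0xe100f0c0004) (.leaf 0x110d0002))))))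

def argWS_455 : Store := (.node 4663 argWS_453 argWS_454)

def argWS_456 : Store := (.node 4694 (.node 4689 (.node 4686 (.node 4685 (.leaf 0x0) (.leaf 0x70100050707090007)) (.node 4687 (.leaf 0x4010809080005) (.node 4688 (.leaf 0x0) (.leaf 0xf100b0d0004)))) (.node 4691 (.node 4690 (.leaf 0x0) (.leaf 0x125100124b00124a001249001248001247)) (.node 4692 (.leaf 0xe110d0d0e0005) (.node 4693 (.leaf 0x0) (.leaf 0xe100d0003))))) (.node 4699 (.node 4696 (.node 4695 (.leaf 0x100c0002) (.leaf 0xf100d0d0e0005)) (.node 4697 (.leaf 0x1257) (.node 4698 (.leaf 0xb0a0d0003) (.leaf 0x0)))) (.node 4701 (.node 4700 (.leaf 0x0) (.leaf 0x0)) (.node 4702 (.leaf 0x0) (.node 4703 (.leaf 0x100d0e0003) (.leaf 0xb0f0f0c0004))))))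

def argWS_457 : Store := (.node 4714 (.node 4709 (.node 4706 (.node 4705 (.leaf 0xc100b0d0004) (.leaf 0xf100e0003)) (.node 4707 (.leaf 0xb0001) (.node 4708 (.leaf 0xd100d0e0004) (.leaf 0x100b0f0003)))) (.node 4711 (.node 4710 (.leaf 0x126400126300126200126100126000125f) (.leaf 0x110001)) (.node 4712 (.leaf 0x0) (.node 4713 (.leaf 0x110f0002) (.leaf 0x0))))) (.node 4719 (.node 4716 (.node 4715 (.leaf 0x0) (.leaf 0x0)) (.node 4717 (.leaf 0x0) (.node 4718 (.leaf 0x0) (.leaf 0xc0001)))) (.node 4722 (.node 4720 (.leaf 0x110d0e0003) (.node 4721 (.leaf 0x126f) (.leaf 0x100b0d0003))) (.node 4723 (.leaf 0xf100b0d0e0005) (.node 4724 (.leaf 0xf100b0d0004) (.leaf 0xe110d0e0004))))))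

def argWS_458 : Store := (.node 4704 argWS_456 argWS_457)

def argWS_459 : Store := (.node 4684 argWS_455 argWS_458)

def argWS_460 : Store := (.node 4643 argWS_452 argWS_459)

def argWS_461 : Store := (.node 4735 (.node 4730 (.node 4727 (.node 4726 (.leaf 0x100b0f0c0004) (.leaf 0x1020705080005)) (.node 4728 (.leaf 0x0) (.node 4729 (.leaf 0x110b0d0f0c0005) (.leaf 0xe100e0003)))) (.node 4732 (.node 4731 (.leaf 0x110b0f0f0c0005) (.leaf 0x127a001279001278001277001274001273)) (.node 4733 (.leaf 0xe110f0c0004) (.node 4734 (.leaf 0x0) (.leaf 0xf100d0e0004))))) (.node 4740 (.node 4737 (.node 4736 (.leaf 0xd110f0f0c0005) (.leaf 0x127f)) (.node 4738 (.leaf 0xb0d0e0003) (.node 4739 (.leaf 0xf0f0c0003) (.leaf 0xc100b0d0004)))) (.node 4742 (.node 4741 (.leaf 0xc100b0e0004) (.leaf 0xb0d0002)) (.node 4743 (.leaf 0xf0d0e0003) (.node 4744 (.leaf 0xc100b0f0f0c0006) (.leaf 0xb0a0c0003))))))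

def argWS_462 : Store := (.node 4755 (.node 4750 (.node 4747 (.node 4746 (.leaf 0x1288001287001286001285001284001283) (.leaf 0xf100f0c0004)) (.node 4748 (.leaf 0x0) (.node 4749 (.leaf 0x0) (.leaf 0x0)))) (.node 4752 (.node 4751 (.leaf 0x0) (.leaf 0x0)) (.node 4753 (.leaf 0x0) (.node 4754 (.leaf 0xb0e0002) (.leaf 0xc100b0d0f0c0006))))) (.node 4760 (.node 4757 (.node 4756 (.leaf 0x1292) (.leaf 0x110f0002)) (.node 4758 (.leaf 0x0) (.node 4759 (.leaf 0x0) (.leaf 0x0)))) (.node 4762 (.node 4761 (.leaf 0x0) (.leaf 0x0)) (.node 4763 (.leaf 0x0) (.node 4764 (.leaf 0x100d0002) (.leaf 0x100b0e0003))))))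

def argWS_463 : Store := (.node 4745 argWS_461 argWS_462)

def argWS_464 : Store := (.node 4775 (.node 4770 (.node 4767 (.node 4766 (.leaf 0x129c) (.leaf 0xc100c0f0c0005)) (.node 4768 (.leaf 0x110b0d0e0004) (.node 4769 (.leaf 0xc100d0e0004) (.leaf 0xc100b0f0004)))) (.node 4772 (.node 4771 (.leaf 0xa0d0002) (.leaf 0x30201050705080007)) (.node 4773 (.leaf 0x0) (.node 4774 (.leaf 0xf0001) (.leaf 0x0))))) (.node 4780 (.node 4777 (.node 4776 (.leaf 0x1020905080005) (.leaf 0x20408050705080007)) (.node 4778 (.leaf 0x0) (.node 4779 (.leaf 0x110c0002) (.leaf 0x0)))) (.node 4782 (.node 4781 (.leaf 0x12ab0012a50012a40012a20012a10012a0) (.leaf 0x100b0d0003)) (.node 4783 (.leaf 0x0) (.node 4784 (.leaf 0x0) (.leaf 0x0))))))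

def argWS_465 : Store := (.node 4795 (.node 4790 (.node 4787 (.node 4786 (.leaf 0x0) (.leaf 0x0)) (.node 4788 (.leaf 0x0) (.node 4789 (.leaf 0x0) (.leaf 0x110e0002)))) (.node 4792 (.node 4791 (.leaf 0x100f0d0e0004) (.leaf 0x12b6)) (.node 4793 (.leaf 0xc100002) (.node 4794 (.leaf 0x0) (.leaf 0xf0f0c0003))))) (.node 4800 (.node 4797 (.node 4796 (.leaf 0xc100b0d0004) (.leaf 0xa0001)) (.node 4798 (.leaf 0xc100b0e0004) (.node 4799 (.leaf 0xf100f0f0c0005) (.leaf 0xb0a0002)))) (.node 4803 (.node 4801 (.leaf 0xe100e0003) (.node 4802 (.leaf 0x12c00012bf0012be0012bd0012bc0012bb) (.leaf 0x100b0f0f0c0005))) (.node 4804 (.leaf 0x0) (.node 4805 (.leaf 0x100f0c0003) (.leaf 0xf0001))))))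

def argWS_466 : Store := (.node 4785 argWS_464 argWS_465)

def argWS_467 : Store := (.node 4765 argWS_463 argWS_466)

def argWS_468 : Store := (.node 4816 (.node 4811 (.node 4808 (.node 4807 (.leaf 0x110d0e0003) (.leaf 0x12c6)) (.node 4809 (.leaf 0x100b0d0003) (.node 4810 (.leaf 0x0) (.leaf 0x0)))) (.node 4813 (.node 4812 (.leaf 0x0) (.leaf 0x0)) (.node 4814 (.leaf 0xe100d0d0e0005) (.node 4815 (.leaf 0xb0a0f0d0e0005) (.leaf 0x12ce))))) (.node 4821 (.node 4818 (.node 4817 (.leaf 0xd110f0d0e0005) (.leaf 0x0)) (.node 4819 (.leaf 0x0) (.node 4820 (.leaf 0x0) (.leaf 0xf100b0c0f0c0006)))) (.node 4823 (.node 4822 (.leaf 0xb0a0002) (.leaf 0x12d5)) (.node 4824 (.leaf 0xd110c0003) (.node 4825 (.leaf 0x0) (.leaf 0xe110d0d0e0005))))))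

def argWS_469 : Store := (.node 4836 (.node 4831 (.node 4828 (.node 4827 (.leaf 0xa0f0002) (.leaf 0xd100002)) (.node 4829 (.leaf 0x100b0c0f0c0005) (.node 4830 (.leaf 0xb0a0f0003) (.leaf 0xf100d0f0c0005)))) (.node 4833 (.node 4832 (.leaf 0xd100002) (.leaf 0xd100f0f0c0005)) (.node 4834 (.leaf 0x12e00012df0012de0012dd0012dc0012db) (.node 4835 (.leaf 0xb0a0002) (.leaf 0x0))))) (.node 4841 (.node 4838 (.node 4837 (.leaf 0x100b0002) (.leaf 0x0)) (.node 4839 (.leaf 0x0) (.node 4840 (.leaf 0x0) (.leaf 0x0)))) (.node 4844 (.node 4842 (.leaf 0x0) (.node 4843 (.leaf 0x0) (.leaf 0x0))) (.node 4845 (.leaf 0x0) (.node 4846 (.leaf 0x0) (.leaf 0x0))))))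

def argWS_470 : Store := (.node 4826 argWS_468 argWS_469)

def argWS_471 : Store := (.node 4857 (.node 4852 (.node 4849 (.node 4848 (.leaf 0x0) (.leaf 0x0)) (.node 4850 (.leaf 0xf100b0e0004) (.node 4851 (.leaf 0xc100e0003) (.leaf 0x12f2)))) (.node 4854 (.node 4853 (.leaf 0xf100f0c0004) (.leaf 0x0)) (.node 4855 (.leaf 0x0) (.node 4856 (.leaf 0xe110d0d0e0005) (.leaf 0xf0d0e0003))))) (.node 4862 (.node 4859 (.node 4858 (.leaf 0x12f8) (.leaf 0x100d0002)) (.node 4860 (.leaf 0x0) (.node 4861 (.leaf 0x0) (.leaf 0x0)))) (.node 4864 (.node 4863 (.leaf 0x0) (.leaf 0x0)) (.node 4865 (.leaf 0x0) (.node 4866 (.leaf 0x0) (.leaf 0x0))))))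

def argWS_472 : Store := (.node 4877 (.node 4872 (.node 4869 (.node 4868 (.leaf 0x0) (.leaf 0x0)) (.node 4870 (.leaf 0x0) (.node 4871 (.leaf 0x0) (.leaf 0xc100f0d0e0005)))) (.node 4874 (.node 4873 (.leaf 0x110f0c0003) (.leaf 0xd100002)) (.node 4875 (.leaf 0x100d0002) (.node 4876 (.leaf 0xc100d0e0004) (.leaf 0xe100f0d0e0005))))) (.node 4882 (.node 4879 (.node 4878 (.leaf 0xf0c0002) (.leaf 0x130d00130c00130b00130a001309001308)) (.node 4880 (.leaf 0xb0c0002) (.node 4881 (.leaf 0x0) (.leaf 0xc100002)))) (.node 4885 (.node 4883 (.leaf 0x0) (.node 4884 (.leaf 0xf100002) (.leaf 0xd0e0002))) (.node 4886 (.leaf 0x1314) (.node 4887 (.leaf 0xe110c0f0c0005) (.leaf 0x0))))))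

def argWS_473 : Store := (.node 4867 argWS_471 argWS_472)

def argWS_474 : Store := (.node 4847 argWS_470 argWS_473)

def argWS_475 : Store := (.node 4806 argWS_467 argWS_474)

def argWS_476 : Store := (.node 4725 argWS_460 argWS_475)

def argWS_477 : Store := (.node 4898 (.node 4893 (.node 4890 (.node 4889 (.leaf 0xe110d0e0004) (.leaf 0xe110d0d0e0005)) (.node 4891 (.leaf 0xf0d0e0003) (.node 4892 (.leaf 0x131a) (.leaf 0x110b0f0c0004)))) (.node 4895 (.node 4894 (.leaf 0x0) (.leaf 0x100e0002)) (.node 4896 (.leaf 0x110f0f0c0004) (.node 4897 (.leaf 0xc100c0003) (.leaf 0xb0a0f0f0c0005))))) (.node 4903 (.node 4900 (.node 4899 (.leaf 0x0) (.leaf 0x7010009080607090008)) (.node 4901 (.leaf 0x30206070905080007) (.node 4902 (.leaf 0x0) (.leaf 0xf100b0d0d0e0006)))) (.node 4905 (.node 4904 (.leaf 0x0) (.leaf 0x100f0002)) (.node 4906 (.leaf 0x110001) (.node 4907 (.leaf 0xc100b0003) (.leaf 0x132a001329001328001327001321001320))))))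

def argWS_478 : Store := (.node 4918 (.node 4913 (.node 4910 (.node 4909 (.leaf 0xd110f0c0004) (.leaf 0x0)) (.node 4911 (.leaf 0xd100f0d0e0005) (.node 4912 (.leaf 0x0) (.leaf 0x0)))) (.node 4915 (.node 4914 (.leaf 0x100e0002) (.leaf 0x30009080607090007)) (.node 4916 (.leaf 0x0) (.node 4917 (.leaf 0xb0a0002) (.leaf 0xe100e0003))))) (.node 4923 (.node 4920 (.node 4919 (.leaf 0xe100f0c0004) (.leaf 0x2010607090005)) (.node 4921 (.leaf 0x0) (.node 4922 (.leaf 0xc100d0e0004) (.leaf 0xe100f0d0e0005)))) (.node 4925 (.node 4924 (.leaf 0x110001) (.leaf 0x133b00133a001339001338001335001334)) (.node 4926 (.leaf 0x100b0d0003) (.node 4927 (.leaf 0x0) (.leaf 0x0))))))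

def argWS_479 : Store := (.node 4908 argWS_477 argWS_478)

def argWS_480 : Store := (.node 4938 (.node 4933 (.node 4930 (.node 4929 (.leaf 0x0) (.leaf 0xd0e0002)) (.node 4931 (.leaf 0x110b0d0f0c0005) (.node 4932 (.leaf 0x1342) (.leaf 0x100b0f0c0004)))) (.node 4935 (.node 4934 (.leaf 0x0) (.leaf 0x0)) (.node 4936 (.leaf 0x0) (.node 4937 (.leaf 0x0) (.leaf 0x0))))) (.node 4943 (.node 4940 (.node 4939 (.leaf 0x0) (.leaf 0x0)) (.node 4941 (.leaf 0x0) (.node 4942 (.leaf 0x0) (.leaf 0x0)))) (.node 4945 (.node 4944 (.leaf 0x0) (.leaf 0x0)) (.node 4946 (.leaf 0xd110f0003) (.node 4947 (.leaf 0x110f0f0c0004) (.leaf 0x1352))))))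

def argWS_481 : Store := (.node 4958 (.node 4953 (.node 4950 (.node 4949 (.leaf 0xb0c0f0c0004) (.leaf 0x0)) (.node 4951 (.leaf 0x0) (.node 4952 (.leaf 0x0) (.leaf 0x0)))) (.node 4955 (.node 4954 (.leaf 0x0) (.leaf 0xc100f0d0e0005)) (.node 4956 (.leaf 0xf100e0003) (.node 4957 (.leaf 0x135b) (.leaf 0xf100d0003))))) (.node 4963 (.node 4960 (.node 4959 (.leaf 0x0) (.leaf 0x0)) (.node 4961 (.leaf 0x0) (.node 4962 (.leaf 0x110f0f0c0004) (.leaf 0x1080002)))) (.node 4966 (.node 4964 (.leaf 0x0) (.node 4965 (.leaf 0x0) (.leaf 0x0))) (.node 4967 (.leaf 0x0) (.node 4968 (.leaf 0x400050705080006) (.leaf 0x110c0f0c0004))))))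

def argWS_482 : Store := (.node 4948 argWS_480 argWS_481)

def argWS_483 : Store := (.node 4928 argWS_479 argWS_482)

def argWS_484 : Store := (.node 4979 (.node 4974 (.node 4971 (.node 4970 (.leaf 0xb0a0002) (.leaf 0x1369)) (.node 4972 (.leaf 0xd110c0003) (.node 4973 (.leaf 0x0) (.leaf 0x110b0f0d0e0005)))) (.node 4976 (.node 4975 (.leaf 0xf100f0c0004) (.leaf 0x136e)) (.node 4977 (.leaf 0x100d0002) (.node 4978 (.leaf 0x0) (.leaf 0x110b0f0c0004))))) (.node 4984 (.node 4981 (.node 4980 (.leaf 0x0) (.leaf 0x0)) (.node 4982 (.leaf 0x0) (.node 4983 (.leaf 0x0) (.leaf 0xf0c0002)))) (.node 4986 (.node 4985 (.leaf 0xc100f0003) (.leaf 0x1378)) (.node 4987 (.leaf 0x100b0d0f0c0005) (.node 4988 (.leaf 0x110b0c0003) (.leaf 0xf100b0d0d0e0006))))))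

def argWS_485 : Store := (.node 4999 (.node 4994 (.node 4991 (.node 4990 (.leaf 0x137c) (.leaf 0xb0d0002)) (.node 4992 (.leaf 0x0) (.node 4993 (.leaf 0x100e0002) (.leaf 0xa0d0002)))) (.node 4996 (.node 4995 (.leaf 0x110b0f0d0e0005) (.leaf 0x0)) (.node 4997 (.leaf 0x3020108060705080008) (.node 4998 (.leaf 0x30008060705080007) (.leaf 0x0))))) (.node 5004 (.node 5001 (.node 5000 (.leaf 0x100001) (.leaf 0x0)) (.node 5002 (.leaf 0xd110d0d0e0005) (.node 5003 (.leaf 0xe110f0c0004) (.leaf 0x110f0c0003)))) (.node 5007 (.node 5005 (.leaf 0x402010705080006) (.node 5006 (.leaf 0x0) (.leaf 0x138d00138a001389001388001382001381))) (.node 5008 (.leaf 0xb0d0d0e0004) (.node 5009 (.leaf 0xd110d0d0e0005) (.leaf 0xe0001))))))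

def argWS_486 : Store := (.node 4989 argWS_484 argWS_485)

def argWS_487 : Store := (.node 5020 (.node 5015 (.node 5012 (.node 5011 (.leaf 0x1391) (.leaf 0xe110f0d0e0005)) (.node 5013 (.leaf 0x0) (.node 5014 (.leaf 0x0) (.leaf 0x0)))) (.node 5017 (.node 5016 (.leaf 0x0) (.leaf 0x0)) (.node 5018 (.leaf 0xf100b0d0f0c0006) (.node 5019 (.leaf 0xe110f0f0c0005) (.leaf 0x139a))))) (.node 5025 (.node 5022 (.node 5021 (.leaf 0xf100f0c0004) (.leaf 0x0)) (.node 5023 (.leaf 0xc100002) (.node 5024 (.leaf 0x0) (.leaf 0x0)))) (.node 5027 (.node 5026 (.leaf 0x0) (.leaf 0x0)) (.node 5028 (.leaf 0x0) (.node 5029 (.leaf 0x100b0d0e0004) (.leaf 0xb0a0f0f0c0005))))))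

def argWS_488 : Store := (.node 5040 (.node 5035 (.node 5032 (.node 5031 (.leaf 0x100001) (.leaf 0xd100d0e0004)) (.node 5033 (.leaf 0xf100b0d0004) (.node 5034 (.leaf 0xe100f0c0004) (.leaf 0x100d0002)))) (.node 5037 (.node 5036 (.leaf 0x13aa0013a90013a80013a70013a60013a5) (.leaf 0x100d0002)) (.node 5038 (.leaf 0x0) (.node 5039 (.leaf 0xf0d0e0003) (.leaf 0x100f0002))))) (.node 5045 (.node 5042 (.node 5041 (.leaf 0xc100b0f0f0c0006) (.leaf 0x13b0)) (.node 5043 (.leaf 0xf0d0e0003) (.node 5044 (.leaf 0x0) (.leaf 0xd100c0f0c0005)))) (.node 5048 (.node 5046 (.leaf 0x110b0d0e0004) (.node 5047 (.leaf 0x100f0f0c0004) (.leaf 0xe100e0003))) (.node 5049 (.leaf 0xc100b0d0e0005) (.node 5050 (.leaf 0x100c0f0c0004) (.leaf 0xb0a0f0003))))))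

def argWS_489 : Store := (.node 5030 argWS_487 argWS_488)

def argWS_490 : Store := (.node 5010 argWS_486 argWS_489)

def argWS_491 : Store := (.node 4969 argWS_483 argWS_490)

def argWS_492 : Store := (.node 5061 (.node 5056 (.node 5053 (.node 5052 (.leaf 0x13ba0013b90013b80013b70013b60013b5) (.leaf 0xc100c0003)) (.node 5054 (.leaf 0x0) (.node 5055 (.leaf 0x0) (.leaf 0x0)))) (.node 5058 (.node 5057 (.leaf 0x2040106070005) (.leaf 0x0)) (.node 5059 (.leaf 0x0) (.node 5060 (.leaf 0x110f0c0003) (.leaf 0x10001))))) (.node 5066 (.node 5063 (.node 5062 (.leaf 0x0) (.leaf 0x0)) (.node 5064 (.leaf 0xf100b0c0004) (.node 5065 (.leaf 0x0) (.leaf 0x0)))) (.node 5068 (.node 5067 (.leaf 0x0) (.leaf 0x0)) (.node 5069 (.leaf 0x110f0c0003) (.node 5070 (.leaf 0x110b0f0c0004) (.leaf 0x13cd))))))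

def argWS_493 : Store := (.node 5081 (.node 5076 (.node 5073 (.node 5072 (.leaf 0xf100c0f0c0005) (.leaf 0x0)) (.node 5074 (.leaf 0x110c0002) (.node 5075 (.leaf 0xc100002) (.leaf 0xc100b0f0004)))) (.node 5078 (.node 5077 (.leaf 0x110b0d0003) (.leaf 0x0)) (.node 5079 (.leaf 0x403070905080006) (.node 5080 (.leaf 0x4020106070908060709000a) (.leaf 0x0))))) (.node 5086 (.node 5083 (.node 5082 (.leaf 0xd100d0e0004) (.leaf 0x0)) (.node 5084 (.leaf 0x110b0f0003) (.node 5085 (.leaf 0xf100b0e0004) (.leaf 0x13dc0013db0013da0013d40013d30013d2)))) (.node 5088 (.node 5087 (.leaf 0x110b0d0d0e0005) (.leaf 0x0)) (.node 5089 (.leaf 0xe100d0e0004) (.node 5090 (.leaf 0x0) (.leaf 0x0))))))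

def argWS_494 : Store := (.node 5071 argWS_492 argWS_493)

def argWS_495 : Store := (.node 5101 (.node 5096 (.node 5093 (.node 5092 (.leaf 0x100f0c0003) (.leaf 0x100f0c0003)) (.node 5094 (.leaf 0x13e4) (.node 5095 (.leaf 0xf100b0c0f0c0006) (.leaf 0x0)))) (.node 5098 (.node 5097 (.leaf 0x0) (.leaf 0x0)) (.node 5099 (.leaf 0x0) (.node 5100 (.leaf 0x0) (.leaf 0x110d0002))))) (.node 5106 (.node 5103 (.node 5102 (.leaf 0x40307090004) (.leaf 0x0)) (.node 5104 (.leaf 0x100b0f0d0e0005) (.node 5105 (.leaf 0x100b0d0e0004) (.leaf 0xe100c0003)))) (.node 5108 (.node 5107 (.leaf 0xf100f0003) (.leaf 0x0)) (.node 5109 (.leaf 0x1000507060607090008) (.node 5110 (.leaf 0x2070905080005) (.leaf 0x0))))))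

def argWS_496 : Store := (.node 5121 (.node 5116 (.node 5113 (.node 5112 (.leaf 0x110f0d0e0004) (.leaf 0x0)) (.node 5114 (.leaf 0xc100f0003) (.node 5115 (.leaf 0x13f90013f80013f20013f10013f00013ef) (.leaf 0x100c0002)))) (.node 5118 (.node 5117 (.leaf 0x0) (.leaf 0xd110c0003)) (.node 5119 (.leaf 0x0) (.node 5120 (.leaf 0x0) (.leaf 0x0))))) (.node 5126 (.node 5123 (.node 5122 (.leaf 0x100f0d0e0004) (.leaf 0x100b0f0d0e0005)) (.node 5124 (.leaf 0x100b0c0f0c0005) (.node 5125 (.leaf 0xe100d0f0c0005) (.leaf 0xf100d0e0004)))) (.node 5129 (.node 5127 (.leaf 0x110b0d0003) (.node 5128 (.leaf 0xf100b0f0f0c0006) (.leaf 0x1407001406001405001404001403001402))) (.node 5130 (.leaf 0x110b0002) (.node 5131 (.leaf 0x0) (.leaf 0x100f0002))))))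

def argWS_497 : Store := (.node 5111 argWS_495 argWS_496)

def argWS_498 : Store := (.node 5091 argWS_494 argWS_497)

def argWS_499 : Store := (.node 5142 (.node 5137 (.node 5134 (.node 5133 (.leaf 0xa0c0002) (.leaf 0x110c0002)) (.node 5135 (.leaf 0x140d) (.node 5136 (.leaf 0x100f0d0e0004) (.leaf 0x0)))) (.node 5139 (.node 5138 (.leaf 0x100b0f0d0e0005) (.leaf 0x110b0f0d0e0005)) (.node 5140 (.leaf 0xf100d0e0004) (.node 5141 (.leaf 0xc100b0c0004) (.leaf 0xc100c0f0c0005))))) (.node 5147 (.node 5144 (.node 5143 (.leaf 0x0) (.leaf 0x2040109080607090008)) (.node 5145 (.leaf 0x403080905080006) (.node 5146 (.leaf 0x0) (.leaf 0xf100f0f0c0005)))) (.node 5149 (.node 5148 (.leaf 0x0) (.leaf 0x100b0002)) (.node 5150 (.leaf 0x141c00141b001415001414001413001412) (.node 5151 (.leaf 0xd0d0e0003) (.leaf 0x0))))))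

def argWS_500 : Store := (.node 5162 (.node 5157 (.node 5154 (.node 5153 (.leaf 0x0) (.leaf 0x0)) (.node 5155 (.leaf 0x30107050004) (.node 5156 (.leaf 0x0) (.leaf 0x0)))) (.node 5159 (.node 5158 (.leaf 0x0) (.leaf 0x0)) (.node 5160 (.leaf 0x0) (.node 5161 (.leaf 0x0) (.leaf 0xb0a0002))))) (.node 5167 (.node 5164 (.node 5163 (.leaf 0xb0a0f0c0004) (.leaf 0x142a)) (.node 5165 (.leaf 0x100d0d0e0004) (.node 5166 (.leaf 0x0) (.leaf 0xf100b0d0004)))) (.node 5170 (.node 5168 (.leaf 0x0) (.node 5169 (.leaf 0xe110f0c0004) (.leaf 0xf100b0d0d0e0006))) (.node 5171 (.leaf 0x110f0f0c0004) (.node 5172 (.leaf 0x100d0002) (.leaf 0xd110d0f0c0005))))))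

def argWS_501 : Store := (.node 5152 argWS_499 argWS_500)

def argWS_502 : Store := (.node 5183 (.node 5178 (.node 5175 (.node 5174 (.leaf 0x0) (.leaf 0x50707090004)) (.node 5176 (.leaf 0x7010006070705080008) (.node 5177 (.leaf 0x0) (.leaf 0xe110002)))) (.node 5180 (.node 5179 (.leaf 0x0) (.leaf 0xb0c0002)) (.node 5181 (.leaf 0x143b00143a001434001433001432001431) (.node 5182 (.leaf 0xa0f0f0c0004) (.leaf 0x0))))) (.node 5188 (.node 5185 (.node 5184 (.leaf 0xc100b0f0c0005) (.leaf 0x0)) (.node 5186 (.leaf 0x0) (.node 5187 (.leaf 0x0) (.leaf 0x80001)))) (.node 5190 (.node 5189 (.leaf 0x0) (.leaf 0x0)) (.node 5191 (.leaf 0xc100b0003) (.node 5192 (.leaf 0x70001) (.leaf 0x0))))))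

def argWS_503 : Store := (.node 5203 (.node 5198 (.node 5195 (.node 5194 (.leaf 0x0) (.leaf 0xf100b0d0f0c0006)) (.node 5196 (.leaf 0x0) (.node 5197 (.leaf 0x0) (.leaf 0x100b0d0e0004)))) (.node 5200 (.node 5199 (.leaf 0x110b0e0003) (.leaf 0x110b0d0003)) (.node 5201 (.leaf 0xc100b0003) (.node 5202 (.leaf 0xe100e0003) (.leaf 0x100b0f0f0c0005))))) (.node 5208 (.node 5205 (.node 5204 (.leaf 0xf100f0f0c0005) (.leaf 0x145300145200145100145000144f00144e)) (.node 5206 (.leaf 0x110b0002) (.node 5207 (.leaf 0x0) (.leaf 0x0)))) (.node 5211 (.node 5209 (.leaf 0x0) (.node 5210 (.leaf 0x0) (.leaf 0x2040607090005))) (.node 5212 (.leaf 0xa0f0c0003) (.node 5213 (.leaf 0xf100b0d0e0005) (.leaf 0x145c))))))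

def argWS_504 : Store := (.node 5193 argWS_502 argWS_503)

def argWS_505 : Store := (.node 5173 argWS_501 argWS_504)

def argWS_506 : Store := (.node 5132 argWS_498 argWS_505)

def argWS_507 : Store := (.node 5051 argWS_491 argWS_506)

def argWS_508 : Store := (.node 4888 argWS_476 argWS_507)

def argWS_509 : Store := (.node 4562 argWS_445 argWS_508)

def argWS_510 : Store := (.node 3910 argWS_382 argWS_509)

def argWS_511 : Store := (.node 2607 argWS_255 argWS_510)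

def argWS_512 : Store := (.node 5224 (.node 5219 (.node 5216 (.node 5215 (.leaf 0x100d0f0c0004) (.leaf 0x0)) (.node 5217 (.leaf 0x110f0d0e0004) (.node 5218 (.leaf 0xf100d0e0004) (.leaf 0xf100b0d0f0c0006)))) (.node 5221 (.node 5220 (.leaf 0xf100d0d0e0005) (.leaf 0x0)) (.node 5222 (.leaf 0x3020108060705080008) (.node 5223 (.leaf 0x201080905080006) (.leaf 0x0))))) (.node 5229 (.node 5226 (.node 5225 (.leaf 0xc0001) (.leaf 0x0)) (.node 5227 (.leaf 0xd100f0003) (.node 5228 (.leaf 0xc100002) (.leaf 0x146b00146a001469001463001462001461)))) (.node 5231 (.node 5230 (.leaf 0xf100e0003) (.leaf 0x0)) (.node 5232 (.leaf 0x0) (.node 5233 (.leaf 0xe100d0003) (.leaf 0xd110f0d0e0005))))))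

def argWS_513 : Store := (.node 5244 (.node 5239 (.node 5236 (.node 5235 (.leaf 0xd100d0d0e0005) (.leaf 0xf100f0c0004)) (.node 5237 (.leaf 0x0) (.node 5238 (.leaf 0x3020108060705080008) (.leaf 0x201090003)))) (.node 5241 (.node 5240 (.leaf 0x0) (.leaf 0xd100002)) (.node 5242 (.leaf 0x0) (.node 5243 (.leaf 0xc100c0003) (.leaf 0xf100e0003))))) (.node 5249 (.node 5246 (.node 5245 (.leaf 0x147b00147a001479001473001472001471) (.leaf 0x100b0002)) (.node 5247 (.leaf 0x0) (.node 5248 (.leaf 0x0) (.leaf 0xa0c0002)))) (.node 5251 (.node 5250 (.leaf 0x0) (.leaf 0x2010905080005)) (.node 5252 (.leaf 0x40201080905080007) (.node 5253 (.leaf 0x0) (.leaf 0xf100b0e0004))))))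

def argWS_514 : Store := (.node 5234 argWS_512 argWS_513)

def argWS_515 : Store := (.node 5264 (.node 5259 (.node 5256 (.node 5255 (.leaf 0x0) (.leaf 0x100001)) (.node 5257 (.leaf 0xf100d0d0e0005) (.node 5258 (.leaf 0xc100f0d0e0005) (.leaf 0xb0f0c0003)))) (.node 5261 (.node 5260 (.leaf 0x2000905080005) (.leaf 0x0)) (.node 5262 (.leaf 0xd0001) (.node 5263 (.leaf 0x148d00148c001489001488001487001486) (.leaf 0xd0f0c0003))))) (.node 5269 (.node 5266 (.node 5265 (.leaf 0x0) (.leaf 0xf100d0f0c0005)) (.node 5267 (.leaf 0x0) (.node 5268 (.leaf 0x0) (.leaf 0x0)))) (.node 5271 (.node 5270 (.leaf 0x0) (.leaf 0x0)) (.node 5272 (.leaf 0x0) (.node 5273 (.leaf 0xf100b0f0c0005) (.leaf 0xe100f0f0c0005))))))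

def argWS_516 : Store := (.node 5284 (.node 5279 (.node 5276 (.node 5275 (.leaf 0xb0f0d0e0004) (.leaf 0xb0a0c0003)) (.node 5277 (.leaf 0xc100b0f0d0e0006) (.node 5278 (.leaf 0xb0a0f0c0004) (.leaf 0x2040905080005)))) (.node 5281 (.node 5280 (.leaf 0x0) (.leaf 0xc100b0c0004)) (.node 5282 (.leaf 0x14a000149f00149c00149b00149a001499) (.node 5283 (.leaf 0xc100d0003) (.leaf 0x0))))) (.node 5289 (.node 5286 (.node 5285 (.leaf 0x100b0f0003) (.leaf 0x0)) (.node 5287 (.leaf 0x0) (.node 5288 (.leaf 0x0) (.leaf 0x0)))) (.node 5292 (.node 5290 (.leaf 0x70102090004) (.node 5291 (.leaf 0x100d0e0003) (.leaf 0xa0f0d0e0004))) (.node 5293 (.leaf 0x14ab) (.node 5294 (.leaf 0xd100f0d0e0005) (.leaf 0x110b0c0003))))))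

def argWS_517 : Store := (.node 5274 argWS_515 argWS_516)

def argWS_518 : Store := (.node 5254 argWS_514 argWS_517)

def argWS_519 : Store := (.node 5305 (.node 5300 (.node 5297 (.node 5296 (.leaf 0xf100b0d0d0e0006) (.leaf 0x14af)) (.node 5298 (.leaf 0xb0d0002) (.node 5299 (.leaf 0x0) (.leaf 0x0)))) (.node 5302 (.node 5301 (.leaf 0x0) (.leaf 0x0)) (.node 5303 (.leaf 0x0) (.node 5304 (.leaf 0xa0d0f0c0004) (.leaf 0x110b0f0003))))) (.node 5310 (.node 5307 (.node 5306 (.leaf 0x14b8) (.leaf 0x100e0002)) (.node 5308 (.leaf 0xf100b0d0d0e0006) (.node 5309 (.leaf 0x100e0002) (.leaf 0xd0d0e0003)))) (.node 5312 (.node 5311 (.leaf 0x0) (.leaf 0x70100050707090007)) (.node 5313 (.leaf 0x4020809080607090008) (.node 5314 (.leaf 0x0) (.leaf 0xb0a0f0c0004))))))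

def argWS_520 : Store := (.node 5325 (.node 5320 (.node 5317 (.node 5316 (.leaf 0x0) (.leaf 0xf100d0003)) (.node 5318 (.leaf 0x110b0c0003) (.node 5319 (.leaf 0xf100b0f0f0c0006) (.leaf 0x14c60014c50014c40014c30014bd0014bc)))) (.node 5322 (.node 5321 (.leaf 0x110b0002) (.leaf 0x0)) (.node 5323 (.leaf 0xb0d0f0c0004) (.node 5324 (.leaf 0x0) (.leaf 0x0))))) (.node 5330 (.node 5327 (.node 5326 (.leaf 0x0) (.leaf 0x7010002)) (.node 5328 (.leaf 0x10001) (.node 5329 (.leaf 0x0) (.leaf 0x0)))) (.node 5332 (.node 5331 (.leaf 0x110b0f0003) (.leaf 0x1080002)) (.node 5333 (.leaf 0x0) (.node 5334 (.leaf 0x0) (.leaf 0x110b0e0003))))))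

def argWS_521 : Store := (.node 5315 argWS_519 argWS_520)

def argWS_522 : Store := (.node 5345 (.node 5340 (.node 5337 (.node 5336 (.leaf 0x0) (.leaf 0x0)) (.node 5338 (.leaf 0x0) (.node 5339 (.leaf 0x0) (.leaf 0x0)))) (.node 5342 (.node 5341 (.leaf 0x0) (.leaf 0x0)) (.node 5343 (.leaf 0x0) (.node 5344 (.leaf 0x0) (.leaf 0xc100b0e0004))))) (.node 5350 (.node 5347 (.node 5346 (.leaf 0xc0001) (.leaf 0x100b0d0f0c0005)) (.node 5348 (.leaf 0xe110f0003) (.node 5349 (.leaf 0xe110d0d0e0005) (.leaf 0xe100d0d0e0005)))) (.node 5352 (.node 5351 (.leaf 0xa0f0d0e0004) (.leaf 0x14e60014e50014e40014e30014e20014e1)) (.node 5353 (.leaf 0x110d0002) (.node 5354 (.leaf 0x0) (.leaf 0xe100e0003))))))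

def argWS_523 : Store := (.node 5365 (.node 5360 (.node 5357 (.node 5356 (.leaf 0x0) (.leaf 0x0)) (.node 5358 (.leaf 0xa0f0002) (.node 5359 (.leaf 0xd100002) (.leaf 0x110b0002)))) (.node 5362 (.node 5361 (.leaf 0xb0c0002) (.leaf 0xf100f0003)) (.node 5363 (.leaf 0xd100f0f0c0005) (.node 5364 (.leaf 0x101a0014f20014f10014f00014ef0014ee) (.leaf 0xe0001))))) (.node 5370 (.node 5367 (.node 5366 (.leaf 0x0) (.leaf 0x0)) (.node 5368 (.leaf 0x0) (.node 5369 (.leaf 0x0) (.leaf 0xb0d0d0e0004)))) (.node 5373 (.node 5371 (.leaf 0x110b0f0f0c0005) (.node 5372 (.leaf 0x14fa) (.leaf 0xb0a0c0f0c0005))) (.node 5374 (.leaf 0x0) (.node 5375 (.leaf 0xc0f0c0003) (.leaf 0xb0001))))))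

def argWS_524 : Store := (.node 5355 argWS_522 argWS_523)

def argWS_525 : Store := (.node 5335 argWS_521 argWS_524)

def argWS_526 : Store := (.node 5295 argWS_518 argWS_525)

def argWS_527 : Store := (.node 5386 (.node 5381 (.node 5378 (.node 5377 (.leaf 0xc100b0d0f0c0006) (.leaf 0x110b0d0003)) (.node 5379 (.leaf 0xc100b0003) (.node 5380 (.leaf 0xd110f0d0e0005) (.leaf 0xf0f0c0003)))) (.node 5383 (.node 5382 (.leaf 0xf100b0e0004) (.leaf 0x1505001504001503001502001501001500)) (.node 5384 (.leaf 0x110b0002) (.node 5385 (.leaf 0x0) (.leaf 0xb0a0002))))) (.node 5391 (.node 5388 (.node 5387 (.leaf 0xb0001) (.leaf 0xf0001)) (.node 5389 (.leaf 0x0) (.node 5390 (.leaf 0x1000507060607090008) (.leaf 0x402050707090006)))) (.node 5393 (.node 5392 (.leaf 0x0) (.leaf 0xc100c0f0c0005)) (.node 5394 (.leaf 0x0) (.node 5395 (.leaf 0xc100b0d0e0005) (.leaf 0xd100f0003))))))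

def argWS_528 : Store := (.node 5406 (.node 5401 (.node 5398 (.node 5397 (.leaf 0xc100002) (.leaf 0x151400151300151200151100150b00150a)) (.node 5399 (.leaf 0xc100d0003) (.node 5400 (.leaf 0x0) (.leaf 0x0)))) (.node 5403 (.node 5402 (.leaf 0x0) (.leaf 0x104090003)) (.node 5404 (.leaf 0x0) (.node 5405 (.leaf 0x0) (.leaf 0xf100b0e0004))))) (.node 5411 (.node 5408 (.node 5407 (.leaf 0x10001) (.leaf 0x0)) (.node 5409 (.leaf 0x0) (.node 5410 (.leaf 0xf100b0e0004) (.leaf 0x10001)))) (.node 5413 (.node 5412 (.leaf 0x0) (.leaf 0x0)) (.node 5414 (.leaf 0x0) (.node 5415 (.leaf 0x0) (.leaf 0x0))))))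

def argWS_529 : Store := (.node 5396 argWS_527 argWS_528)

def argWS_530 : Store := (.node 5426 (.node 5421 (.node 5418 (.node 5417 (.leaf 0x0) (.leaf 0x100c0f0c0004)) (.node 5419 (.leaf 0xb0f0002) (.node 5420 (.leaf 0x0) (.leaf 0x1000507060607090008)))) (.node 5423 (.node 5422 (.leaf 0x402050707090006) (.leaf 0x0)) (.node 5424 (.leaf 0xc100c0f0c0005) (.node 5425 (.leaf 0x0) (.leaf 0xf100b0f0004))))) (.node 5431 (.node 5428 (.node 5427 (.leaf 0x110b0f0f0c0005) (.leaf 0xc100b0c0004)) (.node 5429 (.leaf 0xc100d0003) (.node 5430 (.leaf 0x153400153300153200153100153000152a) (.leaf 0xf100e0003)))) (.node 5433 (.node 5432 (.leaf 0x0) (.leaf 0xd100e0003)) (.node 5434 (.leaf 0x0) (.node 5435 (.leaf 0xf100b0d0d0e0006) (.leaf 0x100e0002))))))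

def argWS_531 : Store := (.node 5446 (.node 5441 (.node 5438 (.node 5437 (.leaf 0xd0001) (.leaf 0x0)) (.node 5439 (.leaf 0x2040109080607090008) (.node 5440 (.leaf 0x507050705080006) (.leaf 0x0)))) (.node 5443 (.node 5442 (.leaf 0x110b0e0003) (.leaf 0x0)) (.node 5444 (.leaf 0xf100b0d0f0c0006) (.node 5445 (.leaf 0x100b0002) (.leaf 0xd100d0003))))) (.node 5451 (.node 5448 (.node 5447 (.leaf 0x154500154400154300154200153c00153b) (.leaf 0xf100f0f0c0005)) (.node 5449 (.leaf 0x0) (.node 5450 (.leaf 0xb0a0f0c0004) (.leaf 0x0)))) (.node 5454 (.node 5452 (.leaf 0x0) (.node 5453 (.leaf 0x0) (.leaf 0x5070002))) (.node 5455 (.leaf 0x8060002) (.node 5456 (.leaf 0x0) (.leaf 0x0))))))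

def argWS_532 : Store := (.node 5436 argWS_530 argWS_531)

def argWS_533 : Store := (.node 5416 argWS_529 argWS_532)

def argWS_534 : Store := (.node 5467 (.node 5462 (.node 5459 (.node 5458 (.leaf 0x110d0f0c0004) (.leaf 0x0)) (.node 5460 (.leaf 0x0) (.node 5461 (.leaf 0x0) (.leaf 0x0)))) (.node 5464 (.node 5463 (.leaf 0x0) (.leaf 0x0)) (.node 5465 (.leaf 0xd110f0d0e0005) (.node 5466 (.leaf 0xf100b0d0d0e0006) (.leaf 0xf100f0c0004))))) (.node 5472 (.node 5469 (.node 5468 (.leaf 0x110f0002) (.leaf 0xf0f0c0003)) (.node 5470 (.leaf 0xd110f0003) (.node 5471 (.leaf 0x0) (.leaf 0x1020905080005)))) (.node 5474 (.node 5473 (.leaf 0x20407060607090007) (.leaf 0x0)) (.node 5475 (.leaf 0xa0d0f0c0004) (.node 5476 (.leaf 0x0) (.leaf 0x156300155d00155c00155b00155a001559))))))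

def argWS_535 : Store := (.node 5487 (.node 5482 (.node 5479 (.node 5478 (.leaf 0xf0001) (.leaf 0x0)) (.node 5480 (.leaf 0x0) (.node 5481 (.leaf 0x0) (.leaf 0x0)))) (.node 5484 (.node 5483 (.leaf 0x304010705080006) (.leaf 0x0)) (.node 5485 (.leaf 0x0) (.node 5486 (.leaf 0x110b0d0e0004) (.leaf 0xb0a0d0003))))) (.node 5492 (.node 5489 (.node 5488 (.leaf 0x110b0f0d0e0005) (.leaf 0xf0d0e0003)) (.node 5490 (.leaf 0xd100d0e0004) (.node 5491 (.leaf 0xb0a0f0003) (.leaf 0xb0f0002)))) (.node 5495 (.node 5493 (.leaf 0x0) (.node 5494 (.leaf 0x60607090004) (.leaf 0x4020108050705080008))) (.node 5496 (.leaf 0x0) (.node 5497 (.leaf 0x100b0f0f0c0005) (.leaf 0x0))))))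

def argWS_536 : Store := (.node 5477 argWS_534 argWS_535)

def argWS_537 : Store := (.node 5508 (.node 5503 (.node 5500 (.node 5499 (.leaf 0x157900157300157200157100157000156f) (.leaf 0xc0001)) (.node 5501 (.leaf 0x0) (.node 5502 (.leaf 0xc100f0d0e0005) (.leaf 0x100b0f0003)))) (.node 5505 (.node 5504 (.leaf 0xf100b0003) (.leaf 0x157f)) (.node 5506 (.leaf 0xe110e0003) (.node 5507 (.leaf 0x0) (.leaf 0xf100b0d0d0e0006))))) (.node 5513 (.node 5510 (.node 5509 (.leaf 0x0) (.leaf 0x0)) (.node 5511 (.leaf 0xf100b0c0f0c0006) (.node 5512 (.leaf 0xa0d0e0003) (.leaf 0x1587)))) (.node 5515 (.node 5514 (.leaf 0xd100f0f0c0005) (.leaf 0x0)) (.node 5516 (.leaf 0x0) (.node 5517 (.leaf 0x0) (.leaf 0x0))))))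

def argWS_538 : Store := (.node 5528 (.node 5523 (.node 5520 (.node 5519 (.leaf 0x0) (.leaf 0x0)) (.node 5521 (.leaf 0xd110c0f0c0005) (.node 5522 (.leaf 0x110f0d0e0004) (.leaf 0xc100f0003)))) (.node 5525 (.node 5524 (.leaf 0xe110f0d0e0005) (.leaf 0xe110f0003)) (.node 5526 (.leaf 0xd110002) (.node 5527 (.leaf 0xe100d0d0e0005) (.leaf 0x1596001595001594001593001592001591))))) (.node 5533 (.node 5530 (.node 5529 (.leaf 0xc100002) (.leaf 0x0)) (.node 5531 (.leaf 0xf0001) (.node 5532 (.leaf 0x0) (.leaf 0x0)))) (.node 5536 (.node 5534 (.leaf 0x0) (.node 5535 (.leaf 0x70001) (.leaf 0x10001))) (.node 5537 (.leaf 0x10001) (.node 5538 (.leaf 0x0) (.leaf 0x0))))))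

def argWS_539 : Store := (.node 5518 argWS_537 argWS_538)

def argWS_540 : Store := (.node 5498 argWS_536 argWS_539)

def argWS_541 : Store := (.node 5457 argWS_533 argWS_540)

def argWS_542 : Store := (.node 5376 argWS_526 argWS_541)

def argWS_543 : Store := (.node 5549 (.node 5544 (.node 5541 (.node 5540 (.leaf 0x0) (.leaf 0xf100b0d0e0005)) (.node 5542 (.leaf 0x0) (.node 5543 (.leaf 0x0) (.leaf 0x0)))) (.node 5546 (.node 5545 (.leaf 0x0) (.leaf 0x0)) (.node 5547 (.leaf 0x0) (.node 5548 (.leaf 0xe110f0d0e0005) (.leaf 0xa0f0f0c0004))))) (.node 5554 (.node 5551 (.node 5550 (.leaf 0x15ac) (.leaf 0xd100d0e0004)) (.node 5552 (.leaf 0x0) (.node 5553 (.leaf 0xe100f0d0e0005) (.leaf 0x0)))) (.node 5556 (.node 5555 (.leaf 0x0) (.leaf 0x0)) (.node 5557 (.leaf 0x10001) (.node 5558 (.leaf 0x0) (.leaf 0x0))))))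

def argWS_544 : Store := (.node 5569 (.node 5564 (.node 5561 (.node 5560 (.leaf 0xd110e0003) (.leaf 0x10001)) (.node 5562 (.leaf 0x0) (.node 5563 (.leaf 0x0) (.leaf 0xf100c0f0c0005)))) (.node 5566 (.node 5565 (.leaf 0x0) (.leaf 0xa0f0c0003)) (.node 5567 (.leaf 0xf100b0d0e0005) (.node 5568 (.leaf 0x15be) (.leaf 0x100d0f0c0004))))) (.node 5574 (.node 5571 (.node 5570 (.leaf 0x0) (.leaf 0x100b0c0f0c0005)) (.node 5572 (.leaf 0xb0a0f0003) (.node 5573 (.leaf 0x0) (.leaf 0x301060607090006)))) (.node 5576 (.node 5575 (.leaf 0x10205070607090007) (.leaf 0x0)) (.node 5577 (.leaf 0xd100d0f0c0005) (.node 5578 (.leaf 0x0) (.leaf 0xa0c0002))))))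

def argWS_545 : Store := (.node 5559 argWS_543 argWS_544)

def argWS_546 : Store := (.node 5589 (.node 5584 (.node 5581 (.node 5580 (.leaf 0x110b0e0003) (.leaf 0x100b0d0d0e0005)) (.node 5582 (.leaf 0x110001) (.node 5583 (.leaf 0x15cd0015cc0015cb0015ca0015c90015c3) (.leaf 0x100d0d0e0004)))) (.node 5586 (.node 5585 (.leaf 0x0) (.leaf 0xe110f0d0e0005)) (.node 5587 (.leaf 0x0) (.node 5588 (.leaf 0x0) (.leaf 0x0))))) (.node 5594 (.node 5591 (.node 5590 (.leaf 0x0) (.leaf 0x0)) (.node 5592 (.leaf 0x0) (.node 5593 (.leaf 0x0) (.leaf 0xb0d0f0c0004)))) (.node 5596 (.node 5595 (.leaf 0xb0a0002) (.leaf 0x0)) (.node 5597 (.leaf 0x2010905080005) (.node 5598 (.leaf 0x30401090004) (.leaf 0x0))))))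

def argWS_547 : Store := (.node 5609 (.node 5604 (.node 5601 (.node 5600 (.leaf 0xe110f0c0004) (.leaf 0x0)) (.node 5602 (.leaf 0xd110002) (.node 5603 (.leaf 0xd100c0f0c0005) (.leaf 0x110b0d0e0004)))) (.node 5606 (.node 5605 (.leaf 0x100f0f0c0004) (.leaf 0x15e40015e30015e20015e10015e00015da)) (.node 5607 (.leaf 0xa0c0002) (.node 5608 (.leaf 0x0) (.leaf 0xd100d0003))))) (.node 5614 (.node 5611 (.node 5610 (.leaf 0x110b0c0003) (.leaf 0xf100b0d0d0e0006)) (.node 5612 (.leaf 0x15ea) (.node 5613 (.leaf 0xc0001) (.leaf 0xe110e0003)))) (.node 5617 (.node 5615 (.leaf 0xc100b0c0f0c0006) (.node 5616 (.leaf 0xb0f0f0c0004) (.leaf 0xb0a0002))) (.node 5618 (.leaf 0x110e0002) (.node 5619 (.leaf 0x110b0d0003) (.leaf 0xe100f0c0004))))))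

def argWS_548 : Store := (.node 5599 argWS_546 argWS_547)

def argWS_549 : Store := (.node 5579 argWS_545 argWS_548)

def argWS_550 : Store := (.node 5630 (.node 5625 (.node 5622 (.node 5621 (.leaf 0x15f30015f20015f10015f00015ef0015ee) (.leaf 0xc100b0c0f0c0006)) (.node 5623 (.leaf 0x0) (.node 5624 (.leaf 0xd100d0003) (.leaf 0x0)))) (.node 5627 (.node 5626 (.leaf 0x0) (.leaf 0x0)) (.node 5628 (.leaf 0x0) (.node 5629 (.leaf 0x7020105080005) (.leaf 0x0))))) (.node 5635 (.node 5632 (.node 5631 (.leaf 0x0) (.leaf 0x110d0e0003)) (.node 5633 (.leaf 0x10001) (.node 5634 (.leaf 0x0) (.leaf 0x0)))) (.node 5637 (.node 5636 (.leaf 0xd0e0002) (.leaf 0x0)) (.node 5638 (.leaf 0x0) (.node 5639 (.leaf 0x0) (.leaf 0x0))))))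

def argWS_551 : Store := (.node 5650 (.node 5645 (.node 5642 (.node 5641 (.leaf 0x0) (.leaf 0x0)) (.node 5643 (.leaf 0x0) (.node 5644 (.leaf 0x0) (.leaf 0x0)))) (.node 5647 (.node 5646 (.leaf 0x0) (.leaf 0x0)) (.node 5648 (.leaf 0x0) (.node 5649 (.leaf 0xb0a0f0003) (.leaf 0xd100c0003))))) (.node 5655 (.node 5652 (.node 5651 (.leaf 0x403050705080006) (.leaf 0x0)) (.node 5653 (.leaf 0xc100b0c0f0c0006) (.node 5654 (.leaf 0xc100b0d0e0005) (.leaf 0xf100b0d0e0005)))) (.node 5658 (.node 5656 (.leaf 0x100b0d0003) (.node 5657 (.leaf 0x110b0d0003) (.leaf 0x1618001617001616001615001614001613))) (.node 5659 (.leaf 0x110b0c0003) (.node 5660 (.leaf 0x0) (.leaf 0x0))))))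

def argWS_552 : Store := (.node 5640 argWS_550 argWS_551)

def argWS_553 : Store := (.node 5671 (.node 5666 (.node 5663 (.node 5662 (.leaf 0x0) (.leaf 0x0)) (.node 5664 (.leaf 0x20109080607090007) (.node 5665 (.leaf 0x0) (.leaf 0x0)))) (.node 5668 (.node 5667 (.leaf 0x0) (.leaf 0x0)) (.node 5669 (.leaf 0x0) (.node 5670 (.leaf 0x100b0d0003) (.leaf 0x110b0e0003))))) (.node 5676 (.node 5673 (.node 5672 (.leaf 0x1626) (.leaf 0xf100b0d0d0e0006)) (.node 5674 (.leaf 0x0) (.node 5675 (.leaf 0x0) (.leaf 0x0)))) (.node 5678 (.node 5677 (.leaf 0x0) (.leaf 0x0)) (.node 5679 (.leaf 0x0) (.node 5680 (.leaf 0x100b0002) (.leaf 0xb0a0f0f0c0005))))))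

def argWS_554 : Store := (.node 5691 (.node 5686 (.node 5683 (.node 5682 (.leaf 0x1630) (.leaf 0xd110d0e0004)) (.node 5684 (.leaf 0x0) (.node 5685 (.leaf 0x100b0c0003) (.leaf 0xc100c0f0c0005)))) (.node 5688 (.node 5687 (.leaf 0x1635) (.leaf 0xd0001)) (.node 5689 (.leaf 0x110f0d0e0004) (.node 5690 (.leaf 0xd100e0003) (.leaf 0x100001))))) (.node 5696 (.node 5693 (.node 5692 (.leaf 0xd100d0003) (.leaf 0xb0a0d0003)) (.node 5694 (.leaf 0xe100f0f0c0005) (.node 5695 (.leaf 0xc100b0f0004) (.leaf 0x163e00163d00163c00163b00163a001639)))) (.node 5699 (.node 5697 (.leaf 0x110001) (.node 5698 (.leaf 0x0) (.leaf 0x0))) (.node 5700 (.leaf 0x0) (.node 5701 (.leaf 0x0) (.leaf 0x3010905080005))))))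

def argWS_555 : Store := (.node 5681 argWS_553 argWS_554)

def argWS_556 : Store := (.node 5661 argWS_552 argWS_555)

def argWS_557 : Store := (.node 5620 argWS_549 argWS_556)

def argWS_558 : Store := (.node 5712 (.node 5707 (.node 5704 (.node 5703 (.leaf 0x0) (.leaf 0x0)) (.node 5705 (.leaf 0x100b0f0003) (.node 5706 (.leaf 0x0) (.leaf 0x0)))) (.node 5709 (.node 5708 (.leaf 0xf100f0c0004) (.leaf 0xf0001)) (.node 5710 (.leaf 0x100b0d0003) (.node 5711 (.leaf 0x100b0d0d0e0005) (.leaf 0x0))))) (.node 5717 (.node 5714 (.node 5713 (.leaf 0x50707090004) (.leaf 0x2030108060005)) (.node 5715 (.leaf 0x0) (.node 5716 (.leaf 0xd110d0d0e0005) (.leaf 0x0)))) (.node 5719 (.node 5718 (.leaf 0xb0c0002) (.leaf 0x50002)) (.node 5720 (.leaf 0x0) (.node 5721 (.leaf 0xd100f0c0004) (.leaf 0x165800165700165400164e00164d00164c))))))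

def argWS_559 : Store := (.node 5732 (.node 5727 (.node 5724 (.node 5723 (.leaf 0xc100002) (.leaf 0x0)) (.node 5725 (.leaf 0x0) (.node 5726 (.leaf 0x30407060004) (.leaf 0x0)))) (.node 5729 (.node 5728 (.leaf 0x0) (.leaf 0x0)) (.node 5730 (.leaf 0x0) (.node 5731 (.leaf 0xd100d0d0e0005) (.leaf 0xb0a0e0003))))) (.node 5737 (.node 5734 (.node 5733 (.leaf 0x1663) (.leaf 0xd110e0003)) (.node 5735 (.leaf 0x0) (.node 5736 (.leaf 0xf100b0c0f0c0006) (.leaf 0xa0d0e0003)))) (.node 5739 (.node 5738 (.leaf 0x1668) (.leaf 0xd100f0f0c0005)) (.node 5740 (.leaf 0x0) (.node 5741 (.leaf 0xe110f0f0c0005) (.leaf 0xf100b0f0f0c0006))))))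

def argWS_560 : Store := (.node 5722 argWS_558 argWS_559)

def argWS_561 : Store := (.node 5752 (.node 5747 (.node 5744 (.node 5743 (.leaf 0x166d) (.leaf 0xd100002)) (.node 5745 (.leaf 0x0) (.node 5746 (.leaf 0x0) (.leaf 0x0)))) (.node 5749 (.node 5748 (.leaf 0x0) (.leaf 0x0)) (.node 5750 (.leaf 0x0) (.node 5751 (.leaf 0x0) (.leaf 0x0))))) (.node 5757 (.node 5754 (.node 5753 (.leaf 0xd100002) (.leaf 0xe100c0f0c0005)) (.node 5755 (.leaf 0x1679) (.node 5756 (.leaf 0xd0e0002) (.leaf 0x110b0f0f0c0005)))) (.node 5759 (.node 5758 (.leaf 0xb0a0c0f0c0005) (.leaf 0x167d)) (.node 5760 (.leaf 0xe110f0003) (.node 5761 (.leaf 0xd100d0d0e0005) (.leaf 0x100b0d0003))))))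

def argWS_562 : Store := (.node 5772 (.node 5767 (.node 5764 (.node 5763 (.leaf 0x1681) (.leaf 0xf100b0003)) (.node 5765 (.leaf 0x0) (.node 5766 (.leaf 0xa0c0f0c0004) (.leaf 0x0)))) (.node 5769 (.node 5768 (.leaf 0x0) (.leaf 0x0)) (.node 5770 (.leaf 0x0) (.node 5771 (.leaf 0xb0f0002) (.leaf 0x110b0d0003))))) (.node 5777 (.node 5774 (.node 5773 (.leaf 0xf100b0f0f0c0006) (.leaf 0xe100f0003)) (.node 5775 (.leaf 0x0) (.node 5776 (.leaf 0x3020108060705080008) (.leaf 0x2010507060005)))) (.node 5780 (.node 5778 (.leaf 0x0) (.node 5779 (.leaf 0xc100b0e0004) (.leaf 0x0))) (.node 5781 (.leaf 0xc100002) (.node 5782 (.leaf 0xf100e0003) (.leaf 0x169500169400169300168d00168c00168b))))))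

def argWS_563 : Store := (.node 5762 argWS_561 argWS_562)

def argWS_564 : Store := (.node 5742 argWS_560 argWS_563)

def argWS_565 : Store := (.node 5793 (.node 5788 (.node 5785 (.node 5784 (.leaf 0x100b0002) (.leaf 0x0)) (.node 5786 (.leaf 0xa0f0f0c0004) (.node 5787 (.leaf 0x0) (.leaf 0x0)))) (.node 5790 (.node 5789 (.leaf 0x0) (.leaf 0x701070607090006)) (.node 5791 (.leaf 0x10001) (.node 5792 (.leaf 0x0) (.leaf 0x0))))) (.node 5798 (.node 5795 (.node 5794 (.leaf 0xd0d0e0003) (.leaf 0x0)) (.node 5796 (.leaf 0x108060003) (.node 5797 (.leaf 0x0) (.leaf 0x0)))) (.node 5800 (.node 5799 (.leaf 0xc100e0003) (.leaf 0x0)) (.node 5801 (.leaf 0x0) (.node 5802 (.leaf 0x0) (.leaf 0x0))))))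

def argWS_566 : Store := (.node 5813 (.node 5808 (.node 5805 (.node 5804 (.leaf 0x7010008050705080008) (.leaf 0x100050705080006)) (.node 5806 (.leaf 0x0) (.node 5807 (.leaf 0x0) (.leaf 0x110d0d0e0004)))) (.node 5810 (.node 5809 (.leaf 0x10001) (.leaf 0x0)) (.node 5811 (.leaf 0x0) (.node 5812 (.leaf 0x0) (.leaf 0x0))))) (.node 5818 (.node 5815 (.node 5814 (.leaf 0x0) (.leaf 0x0)) (.node 5816 (.leaf 0x0) (.node 5817 (.leaf 0xa0c0002) (.leaf 0x100b0f0d0e0005)))) (.node 5821 (.node 5819 (.leaf 0x16b9) (.node 5820 (.leaf 0xf100f0f0c0005) (.leaf 0x0))) (.node 5822 (.leaf 0xc100b0d0d0e0006) (.node 5823 (.leaf 0x0) (.leaf 0x0))))))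

def argWS_567 : Store := (.node 5803 argWS_565 argWS_566)

def argWS_568 : Store := (.node 5834 (.node 5829 (.node 5826 (.node 5825 (.leaf 0x0) (.leaf 0xb0001)) (.node 5827 (.leaf 0xe110f0003) (.node 5828 (.leaf 0x16c2) (.leaf 0x110c0f0c0004)))) (.node 5831 (.node 5830 (.leaf 0x0) (.leaf 0x110f0f0c0004)) (.node 5832 (.leaf 0xb0c0f0c0004) (.node 5833 (.leaf 0x16c7) (.leaf 0xe100c0003))))) (.node 5839 (.node 5836 (.node 5835 (.leaf 0x0) (.leaf 0x0)) (.node 5837 (.leaf 0x0) (.node 5838 (.leaf 0xb0a0f0c0004) (.leaf 0x110d0002)))) (.node 5841 (.node 5840 (.leaf 0x110b0c0003) (.leaf 0x30401060705080007)) (.node 5842 (.leaf 0x0) (.node 5843 (.leaf 0xb0f0002) (.leaf 0xb0001))))))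

def argWS_569 : Store := (.node 5854 (.node 5849 (.node 5846 (.node 5845 (.leaf 0xd100d0e0004) (.leaf 0x100b0f0003)) (.node 5847 (.leaf 0x16d50016d40016d30016d20016d10016ce) (.node 5848 (.leaf 0x110001) (.leaf 0x0)))) (.node 5851 (.node 5850 (.leaf 0x0) (.leaf 0x0)) (.node 5852 (.leaf 0x0) (.node 5853 (.leaf 0xe100e0003) (.leaf 0xd100d0003))))) (.node 5859 (.node 5856 (.node 5855 (.leaf 0x16dd) (.leaf 0xc100b0d0f0c0006)) (.node 5857 (.leaf 0x0) (.node 5858 (.leaf 0x0) (.leaf 0x0)))) (.node 5862 (.node 5860 (.leaf 0x0) (.node 5861 (.leaf 0x0) (.leaf 0xc100b0d0d0e0006))) (.node 5863 (.leaf 0xb0d0e0003) (.node 5864 (.leaf 0x16e6) (.leaf 0xe100c0f0c0005))))))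

def argWS_570 : Store := (.node 5844 argWS_568 argWS_569)

def argWS_571 : Store := (.node 5824 argWS_567 argWS_570)

def argWS_572 : Store := (.node 5783 argWS_564 argWS_571)

def argWS_573 : Store := (.node 5702 argWS_557 argWS_572)

def argWS_574 : Store := (.node 5539 argWS_542 argWS_573)

def argWS_575 : Store := (.node 5875 (.node 5870 (.node 5867 (.node 5866 (.leaf 0x0) (.leaf 0x0)) (.node 5868 (.leaf 0x0) (.node 5869 (.leaf 0x0) (.leaf 0x100f0c0003)))) (.node 5872 (.node 5871 (.leaf 0x100f0c0003) (.leaf 0x16ee)) (.node 5873 (.leaf 0xf100b0c0f0c0006) (.node 5874 (.leaf 0x0) (.leaf 0x0))))) (.node 5880 (.node 5877 (.node 5876 (.leaf 0x0) (.leaf 0xf100b0c0004)) (.node 5878 (.leaf 0xc100b0003) (.node 5879 (.leaf 0xd100c0003) (.leaf 0x100b0d0003)))) (.node 5882 (.node 5881 (.leaf 0xd100d0003) (.leaf 0xd110c0f0c0005)) (.node 5883 (.leaf 0x100f0d0e0004) (.node 5884 (.leaf 0x16fa0016f90016f80016f70016f60016f5) (.leaf 0x0))))))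

def argWS_576 : Store := (.node 5895 (.node 5890 (.node 5887 (.node 5886 (.leaf 0x905080003) (.leaf 0x4020108060705080008)) (.node 5888 (.leaf 0x0) (.node 5889 (.leaf 0x100b0d0003) (.leaf 0x0)))) (.node 5892 (.node 5891 (.leaf 0x0) (.leaf 0x0)) (.node 5893 (.leaf 0x0) (.node 5894 (.leaf 0x0) (.leaf 0x701020809080006))))) (.node 5900 (.node 5897 (.node 5896 (.leaf 0x0) (.leaf 0x0)) (.node 5898 (.leaf 0xf100f0003) (.node 5899 (.leaf 0x0) (.leaf 0x0)))) (.node 5902 (.node 5901 (.leaf 0x0) (.leaf 0x0)) (.node 5903 (.leaf 0xb0a0c0f0c0005) (.node 5904 (.leaf 0xe100c0003) (.leaf 0x170f))))))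

def argWS_577 : Store := (.node 5885 argWS_575 argWS_576)

def argWS_578 : Store := (.node 5915 (.node 5910 (.node 5907 (.node 5906 (.leaf 0x110b0f0f0c0005) (.leaf 0x0)) (.node 5908 (.leaf 0xb0c0f0c0004) (.node 5909 (.leaf 0xd110f0003) (.leaf 0x1714)))) (.node 5912 (.node 5911 (.leaf 0x110f0f0c0004) (.leaf 0x0)) (.node 5913 (.leaf 0x0) (.node 5914 (.leaf 0x0) (.leaf 0xe110d0f0c0005))))) (.node 5920 (.node 5917 (.node 5916 (.leaf 0xd100d0e0004) (.leaf 0xf100b0d0004)) (.node 5918 (.leaf 0x0) (.node 5919 (.leaf 0x1000507060607090008) (.leaf 0x701000709080607090009)))) (.node 5922 (.node 5921 (.leaf 0x0) (.leaf 0xe100f0c0004)) (.node 5923 (.leaf 0x0) (.node 5924 (.leaf 0x100d0002) (.leaf 0xd100d0003))))))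

def argWS_579 : Store := (.node 5935 (.node 5930 (.node 5927 (.node 5926 (.leaf 0xc100c0f0c0005) (.leaf 0x172500172400172300172200171c00171b)) (.node 5928 (.leaf 0xc100d0003) (.node 5929 (.leaf 0x0) (.leaf 0x0)))) (.node 5932 (.node 5931 (.leaf 0x0) (.leaf 0x30205070004)) (.node 5933 (.leaf 0x0) (.node 5934 (.leaf 0x0) (.leaf 0x0))))) (.node 5940 (.node 5937 (.node 5936 (.leaf 0xd100f0c0004) (.leaf 0xf100b0c0004)) (.node 5938 (.leaf 0x110b0c0003) (.node 5939 (.leaf 0x0) (.leaf 0x400060607090006)))) (.node 5943 (.node 5941 (.leaf 0x20005070607090007) (.node 5942 (.leaf 0x0) (.leaf 0xc0f0c0003))) (.node 5944 (.leaf 0x0) (.node 5945 (.leaf 0xb0f0002) (.leaf 0x110b0f0003))))))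

def argWS_580 : Store := (.node 5925 argWS_578 argWS_579)

def argWS_581 : Store := (.node 5905 argWS_577 argWS_580)

def argWS_582 : Store := (.node 5956 (.node 5951 (.node 5948 (.node 5947 (.leaf 0xf100b0e0004) (.leaf 0x173a001739001738001737001731001730)) (.node 5949 (.leaf 0x110b0002) (.node 5950 (.leaf 0x0) (.leaf 0xd0f0c0003)))) (.node 5953 (.node 5952 (.leaf 0x0) (.leaf 0x0)) (.node 5954 (.leaf 0x0) (.node 5955 (.leaf 0x0) (.leaf 0x4020107090005))))) (.node 5961 (.node 5958 (.node 5957 (.leaf 0x0) (.leaf 0x0)) (.node 5959 (.leaf 0x0) (.node 5960 (.leaf 0x0) (.leaf 0x0)))) (.node 5963 (.node 5962 (.leaf 0x0) (.leaf 0x0)) (.node 5964 (.leaf 0xf100b0c0f0c0006) (.node 5965 (.leaf 0xa0d0e0003) (.leaf 0x174c))))))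

def argWS_583 : Store := (.node 5976 (.node 5971 (.node 5968 (.node 5967 (.leaf 0xd100f0f0c0005) (.leaf 0x0)) (.node 5969 (.leaf 0x0) (.node 5970 (.leaf 0xd100c0f0c0005) (.leaf 0xd0001)))) (.node 5973 (.node 5972 (.leaf 0x1752) (.leaf 0xe110f0c0004)) (.node 5974 (.leaf 0x0) (.node 5975 (.leaf 0xa0001) (.leaf 0xd110c0003))))) (.node 5981 (.node 5978 (.node 5977 (.leaf 0x1757) (.leaf 0x100c0f0c0004)) (.node 5979 (.leaf 0xb0a0f0003) (.node 5980 (.leaf 0x110b0d0e0004) (.leaf 0x175b)))) (.node 5984 (.node 5982 (.leaf 0x110b0d0003) (.node 5983 (.leaf 0x0) (.leaf 0x0))) (.node 5985 (.leaf 0x0) (.node 5986 (.leaf 0xd110002) (.leaf 0xa0f0d0e0004))))))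

def argWS_584 : Store := (.node 5966 argWS_582 argWS_583)

def argWS_585 : Store := (.node 5997 (.node 5992 (.node 5989 (.node 5988 (.leaf 0x1762) (.leaf 0xd100f0d0e0005)) (.node 5990 (.leaf 0x0) (.node 5991 (.leaf 0x0) (.leaf 0x0)))) (.node 5994 (.node 5993 (.leaf 0x0) (.leaf 0x0)) (.node 5995 (.leaf 0x0) (.node 5996 (.leaf 0x0) (.leaf 0x0))))) (.node 6002 (.node 5999 (.node 5998 (.leaf 0xf100b0d0e0005) (.leaf 0xd100f0f0c0005)) (.node 6000 (.leaf 0x176e) (.node 6001 (.leaf 0xa0d0e0003) (.leaf 0xb0a0c0003)))) (.node 6004 (.node 6003 (.leaf 0x0) (.leaf 0x70100050707090007)) (.node 6005 (.leaf 0x70100050707090007) (.node 6006 (.leaf 0x0) (.leaf 0x0))))))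

def argWS_586 : Store := (.node 6017 (.node 6012 (.node 6009 (.node 6008 (.leaf 0xa0d0d0e0004) (.leaf 0xf100f0d0e0005)) (.node 6010 (.leaf 0x0) (.node 6011 (.leaf 0x301060705080006) (.leaf 0x1040809080607090008)))) (.node 6014 (.node 6013 (.leaf 0x0) (.leaf 0xa0001)) (.node 6015 (.leaf 0x0) (.node 6016 (.leaf 0xe100e0003) (.leaf 0x110b0f0f0c0005))))) (.node 6022 (.node 6019 (.node 6018 (.leaf 0x178000177f00177e001778001777001776) (.leaf 0xe110f0c0004)) (.node 6020 (.leaf 0x0) (.node 6021 (.leaf 0xf100d0d0e0005) (.leaf 0x0)))) (.node 6025 (.node 6023 (.leaf 0x0) (.node 6024 (.leaf 0x0) (.leaf 0x701050709080607090009))) (.node 6026 (.leaf 0x10001) (.node 6027 (.leaf 0x0) (.leaf 0x0))))))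

def argWS_587 : Store := (.node 6007 argWS_585 argWS_586)

def argWS_588 : Store := (.node 5987 argWS_584 argWS_587)

def argWS_589 : Store := (.node 5946 argWS_581 argWS_588)

def argWS_590 : Store := (.node 6038 (.node 6033 (.node 6030 (.node 6029 (.leaf 0xd100f0f0c0005) (.leaf 0x0)) (.node 6031 (.leaf 0x0) (.node 6032 (.leaf 0x0) (.leaf 0x0)))) (.node 6035 (.node 6034 (.leaf 0x0) (.leaf 0x0)) (.node 6036 (.leaf 0x0) (.node 6037 (.leaf 0x0) (.leaf 0x0))))) (.node 6043 (.node 6040 (.node 6039 (.leaf 0x110d0e0003) (.leaf 0xf100d0d0e0005)) (.node 6041 (.leaf 0x100e0002) (.node 6042 (.leaf 0x110b0f0003) (.leaf 0x0)))) (.node 6045 (.node 6044 (.leaf 0x301060705080006) (.leaf 0x403080003)) (.node 6046 (.leaf 0x0) (.node 6047 (.leaf 0xd110f0f0c0005) (.leaf 0x0))))))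

def argWS_591 : Store := (.node 6058 (.node 6053 (.node 6050 (.node 6049 (.leaf 0x0) (.leaf 0x7020108050705080008)) (.node 6051 (.leaf 0x70100060709080007) (.node 6052 (.leaf 0x0) (.leaf 0xd100f0f0c0005)))) (.node 6055 (.node 6054 (.leaf 0x0) (.leaf 0x16760017a500179f001799001798001797)) (.node 6056 (.leaf 0xe0001) (.node 6057 (.leaf 0x0) (.leaf 0x0))))) (.node 6063 (.node 6060 (.node 6059 (.leaf 0x203050705080006) (.leaf 0x102050707090006)) (.node 6061 (.leaf 0x0) (.node 6062 (.leaf 0xa0f0c0003) (.leaf 0x0)))) (.node 6065 (.node 6064 (.leaf 0x0) (.leaf 0x0)) (.node 6066 (.leaf 0x0) (.node 6067 (.leaf 0x80001) (.leaf 0x0))))))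

def argWS_592 : Store := (.node 6048 argWS_590 argWS_591)

def argWS_593 : Store := (.node 6078 (.node 6073 (.node 6070 (.node 6069 (.leaf 0x0) (.leaf 0x110b0c0003)) (.node 6071 (.leaf 0x10001) (.node 6072 (.leaf 0x0) (.leaf 0x0)))) (.node 6075 (.node 6074 (.leaf 0xe100f0c0004) (.leaf 0x0)) (.node 6076 (.leaf 0x70001) (.node 6077 (.leaf 0x0) (.leaf 0x0))))) (.node 6083 (.node 6080 (.node 6079 (.leaf 0x100d0f0c0004) (.leaf 0x0)) (.node 6081 (.leaf 0x0) (.node 6082 (.leaf 0x0) (.leaf 0x0)))) (.node 6085 (.node 6084 (.leaf 0x7010005080005) (.leaf 0x1000607090005)) (.node 6086 (.leaf 0x0) (.node 6087 (.leaf 0x0) (.leaf 0xa0e0002))))))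

def argWS_594 : Store := (.node 6098 (.node 6093 (.node 6090 (.node 6089 (.leaf 0x0) (.leaf 0x0)) (.node 6091 (.leaf 0xc0f0c0003) (.node 6092 (.leaf 0x0) (.leaf 0x0)))) (.node 6095 (.node 6094 (.leaf 0x0) (.leaf 0x0)) (.node 6096 (.leaf 0xc100b0f0004) (.node 6097 (.leaf 0xd100002) (.leaf 0xf100d0f0c0005))))) (.node 6103 (.node 6100 (.node 6099 (.leaf 0x100001) (.leaf 0xd110d0003)) (.node 6101 (.leaf 0xd100002) (.node 6102 (.leaf 0xd100c0f0c0005) (.leaf 0x17d50017d40017d30017d20017d10017d0)))) (.node 6106 (.node 6104 (.leaf 0xb0f0d0e0004) (.node 6105 (.leaf 0x0) (.leaf 0x0))) (.node 6107 (.leaf 0x0) (.node 6108 (.leaf 0x0) (.leaf 0x203010607090006))))))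

def argWS_595 : Store := (.node 6088 argWS_593 argWS_594)

def argWS_596 : Store := (.node 6068 argWS_592 argWS_595)

def argWS_597 : Store := (.node 6119 (.node 6114 (.node 6111 (.node 6110 (.leaf 0x10001) (.leaf 0x0)) (.node 6112 (.leaf 0x0) (.node 6113 (.leaf 0x110b0c0f0c0005) (.leaf 0x0)))) (.node 6116 (.node 6115 (.leaf 0x0) (.leaf 0x0)) (.node 6117 (.leaf 0xf0f0c0003) (.node 6118 (.leaf 0xc100b0d0004) (.leaf 0x110c0f0c0004))))) (.node 6124 (.node 6121 (.node 6120 (.leaf 0xe100f0d0e0005) (.leaf 0x110001)) (.node 6122 (.leaf 0xf100b0f0f0c0006) (.node 6123 (.leaf 0xb0f0d0e0004) (.leaf 0x17ea0017e90017e80017e70017e60017e5)))) (.node 6126 (.node 6125 (.leaf 0xe110f0c0004) (.leaf 0x0)) (.node 6127 (.leaf 0x0) (.node 6128 (.leaf 0x0) (.leaf 0x0))))))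

def argWS_598 : Store := (.node 6139 (.node 6134 (.node 6131 (.node 6130 (.leaf 0x3020705080005) (.leaf 0x0)) (.node 6132 (.leaf 0x0) (.node 6133 (.leaf 0xc100b0e0004) (.leaf 0x10001)))) (.node 6136 (.node 6135 (.leaf 0x0) (.leaf 0x0)) (.node 6137 (.leaf 0xb0a0d0d0e0005) (.node 6138 (.leaf 0x0) (.leaf 0x110b0d0e0004))))) (.node 6144 (.node 6141 (.node 6140 (.leaf 0xc100f0d0e0005) (.leaf 0xb0a0d0d0e0005)) (.node 6142 (.leaf 0xa0f0f0c0004) (.node 6143 (.leaf 0xd100c0003) (.leaf 0x100d0002)))) (.node 6147 (.node 6145 (.leaf 0xd110d0003) (.node 6146 (.leaf 0x18000017ff0017fe0017fd0017fc0017fb) (.leaf 0xf100b0d0f0c0006))) (.node 6148 (.leaf 0x0) (.node 6149 (.leaf 0x110f0002) (.leaf 0x0))))))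

def argWS_599 : Store := (.node 6129 argWS_597 argWS_598)

def argWS_600 : Store := (.node 6160 (.node 6155 (.node 6152 (.node 6151 (.leaf 0x0) (.leaf 0x0)) (.node 6153 (.leaf 0x0) (.node 6154 (.leaf 0x20307090004) (.leaf 0x0)))) (.node 6157 (.node 6156 (.leaf 0x0) (.leaf 0x100b0f0003)) (.node 6158 (.leaf 0x0) (.node 6159 (.leaf 0x0) (.leaf 0x0))))) (.node 6165 (.node 6162 (.node 6161 (.leaf 0xd100d0d0e0005) (.leaf 0xf100f0c0004)) (.node 6163 (.leaf 0x100f0002) (.node 6164 (.leaf 0x0) (.leaf 0x70905080004)))) (.node 6167 (.node 6166 (.leaf 0x102080003) (.leaf 0x0)) (.node 6168 (.leaf 0x110f0f0c0004) (.node 6169 (.leaf 0x0) (.leaf 0x0))))))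

def argWS_601 : Store := (.node 6180 (.node 6175 (.node 6172 (.node 6171 (.leaf 0x203050705080006) (.leaf 0x70105070905080007)) (.node 6173 (.leaf 0x0) (.node 6174 (.leaf 0x110d0e0003) (.leaf 0x0)))) (.node 6177 (.node 6176 (.leaf 0xf100f0c0004) (.leaf 0xa0f0c0003)) (.node 6178 (.leaf 0x182000181f00181e001818001812001811) (.node 6179 (.leaf 0xd100d0003) (.leaf 0x0))))) (.node 6185 (.node 6182 (.node 6181 (.leaf 0xc100f0003) (.leaf 0x0)) (.node 6183 (.leaf 0x0) (.node 6184 (.leaf 0x0) (.leaf 0x70001)))) (.node 6188 (.node 6186 (.leaf 0x0) (.node 6187 (.leaf 0x0) (.leaf 0x100f0d0e0004))) (.node 6189 (.leaf 0x80001) (.node 6190 (.leaf 0x0) (.leaf 0x0))))))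

def argWS_602 : Store := (.node 6170 argWS_600 argWS_601)

def argWS_603 : Store := (.node 6150 argWS_599 argWS_602)

def argWS_604 : Store := (.node 6109 argWS_596 argWS_603)

def argWS_605 : Store := (.node 6028 argWS_589 argWS_604)

def argWS_606 : Store := (.node 6201 (.node 6196 (.node 6193 (.node 6192 (.leaf 0xe110d0003) (.leaf 0x0)) (.node 6194 (.leaf 0x0) (.node 6195 (.leaf 0xf100d0d0e0005) (.leaf 0x110d0f0c0004)))) (.node 6198 (.node 6197 (.leaf 0x0) (.leaf 0x7010009080607090008)) (.node 6199 (.leaf 0x70109080607090007) (.node 6200 (.leaf 0x0) (.leaf 0xa0001))))) (.node 6206 (.node 6203 (.node 6202 (.leaf 0x0) (.leaf 0xc100b0e0004)) (.node 6204 (.leaf 0xe110c0003) (.node 6205 (.leaf 0x0) (.leaf 0x301060705080006)))) (.node 6208 (.node 6207 (.leaf 0x20405080004) (.leaf 0x0)) (.node 6209 (.leaf 0x100f0f0c0004) (.node 6210 (.leaf 0x0) (.leaf 0x0))))))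

def argWS_607 : Store := (.node 6221 (.node 6216 (.node 6213 (.node 6212 (.leaf 0x7020108050705080008) (.leaf 0x809080607090006)) (.node 6214 (.leaf 0x0) (.node 6215 (.leaf 0x100b0f0003) (.leaf 0x0)))) (.node 6218 (.node 6217 (.leaf 0x184700184100183b00183a001839001833) (.leaf 0x100001)) (.node 6219 (.leaf 0x0) (.node 6220 (.leaf 0x0) (.leaf 0x0))))) (.node 6226 (.node 6223 (.node 6222 (.leaf 0x0) (.leaf 0x403010905080006)) (.node 6224 (.leaf 0x0) (.node 6225 (.leaf 0x0) (.leaf 0xd110f0f0c0005)))) (.node 6228 (.node 6227 (.leaf 0x10001) (.leaf 0x0)) (.node 6229 (.leaf 0x0) (.node 6230 (.leaf 0x110f0d0e0004) (.leaf 0x3060705080005))))))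

def argWS_608 : Store := (.node 6211 argWS_606 argWS_607)

def argWS_609 : Store := (.node 6241 (.node 6236 (.node 6233 (.node 6232 (.leaf 0x0) (.leaf 0x0)) (.node 6234 (.leaf 0x0) (.node 6235 (.leaf 0x0) (.leaf 0x0)))) (.node 6238 (.node 6237 (.leaf 0x2050002) (.leaf 0x0)) (.node 6239 (.leaf 0x0) (.node 6240 (.leaf 0xe110f0d0e0005) (.leaf 0xe110d0d0e0005))))) (.node 6246 (.node 6243 (.node 6242 (.leaf 0xf0d0e0003) (.leaf 0x1861)) (.node 6244 (.leaf 0xe110e0003) (.node 6245 (.leaf 0x0) (.leaf 0x0)))) (.node 6248 (.node 6247 (.leaf 0x0) (.leaf 0xc100d0f0c0005)) (.node 6249 (.leaf 0xe110002) (.node 6250 (.leaf 0x1868) (.leaf 0xe100f0d0e0005))))))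

def argWS_610 : Store := (.node 6261 (.node 6256 (.node 6253 (.node 6252 (.leaf 0x0) (.leaf 0xd100f0003)) (.node 6254 (.leaf 0xe100d0d0e0005) (.node 6255 (.leaf 0x110d0002) (.leaf 0x0)))) (.node 6258 (.node 6257 (.leaf 0x70100050707090007) (.leaf 0x2040107060705080008)) (.node 6259 (.leaf 0x0) (.node 6260 (.leaf 0xf100b0d0004) (.leaf 0x0))))) (.node 6266 (.node 6263 (.node 6262 (.leaf 0xe100f0c0004) (.leaf 0x100d0002)) (.node 6264 (.leaf 0xd0001) (.node 6265 (.leaf 0x100d0e0003) (.leaf 0x187800187700187600187500187400186e)))) (.node 6269 (.node 6267 (.leaf 0xe110c0003) (.node 6268 (.leaf 0x0) (.leaf 0x0))) (.node 6270 (.leaf 0x0) (.node 6271 (.leaf 0x4020108060705080008) (.leaf 0x10001))))))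

def argWS_611 : Store := (.node 6251 argWS_609 argWS_610)

def argWS_612 : Store := (.node 6231 argWS_608 argWS_611)

def argWS_613 : Store := (.node 6282 (.node 6277 (.node 6274 (.node 6273 (.leaf 0x0) (.leaf 0x0)) (.node 6275 (.leaf 0xf100f0f0c0005) (.node 6276 (.leaf 0x0) (.leaf 0x0)))) (.node 6279 (.node 6278 (.leaf 0x0) (.leaf 0x0)) (.node 6280 (.leaf 0x10206070905080007) (.node 6281 (.leaf 0xf100f0003) (.leaf 0x0))))) (.node 6287 (.node 6284 (.node 6283 (.leaf 0x0) (.leaf 0xb0c0f0c0004)) (.node 6285 (.leaf 0xc100b0003) (.node 6286 (.leaf 0xb0a0f0003) (.leaf 0x188d)))) (.node 6289 (.node 6288 (.leaf 0xd110c0f0c0005) (.leaf 0x0)) (.node 6290 (.leaf 0x0) (.node 6291 (.leaf 0x0) (.leaf 0x0))))))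

def argWS_614 : Store := (.node 6302 (.node 6297 (.node 6294 (.node 6293 (.leaf 0xd100002) (.leaf 0x100d0d0e0004)) (.node 6295 (.leaf 0xb0a0c0003) (.node 6296 (.leaf 0xb0f0002) (.leaf 0xf0001)))) (.node 6299 (.node 6298 (.leaf 0x100b0f0003) (.leaf 0x110001)) (.node 6300 (.leaf 0x189a001899001898001897001896001895) (.node 6301 (.leaf 0x100b0d0003) (.leaf 0xf100f0003))))) (.node 6307 (.node 6304 (.node 6303 (.leaf 0x110d0e0003) (.leaf 0xe110d0003)) (.node 6305 (.leaf 0xd110d0003) (.node 6306 (.leaf 0xe100d0d0e0005) (.leaf 0xe110f0d0e0005)))) (.node 6310 (.node 6308 (.leaf 0xf100b0e0004) (.node 6309 (.leaf 0x18a30018a20018a10018a000189f00189e) (.leaf 0x110b0002))) (.node 6311 (.leaf 0x0) (.node 6312 (.leaf 0xd100f0f0c0005) (.leaf 0x0))))))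

def argWS_615 : Store := (.node 6292 argWS_613 argWS_614)

def argWS_616 : Store := (.node 6323 (.node 6318 (.node 6315 (.node 6314 (.leaf 0xd0001) (.leaf 0xc100b0c0004)) (.node 6316 (.leaf 0x18aa) (.node 6317 (.leaf 0x100b0d0e0004) (.leaf 0x0)))) (.node 6320 (.node 6319 (.leaf 0xf100b0f0c0005) (.leaf 0xf100b0e0004)) (.node 6321 (.leaf 0x18af) (.node 6322 (.leaf 0xc100e0003) (.leaf 0x0))))) (.node 6328 (.node 6325 (.node 6324 (.leaf 0x110b0002) (.leaf 0xf100f0f0c0005)) (.node 6326 (.leaf 0x18b4) (.node 6327 (.leaf 0xb0a0d0f0c0005) (.leaf 0x0)))) (.node 6330 (.node 6329 (.leaf 0xd100d0d0e0005) (.leaf 0x0)) (.node 6331 (.leaf 0xf0001) (.node 6332 (.leaf 0x110b0f0003) (.leaf 0x10607090004))))))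

def argWS_617 : Store := (.node 6343 (.node 6338 (.node 6335 (.node 6334 (.leaf 0x0) (.leaf 0x0)) (.node 6336 (.leaf 0x7010009080607090008) (.node 6337 (.leaf 0x304080003) (.leaf 0x0)))) (.node 6340 (.node 6339 (.leaf 0xf100b0d0e0005) (.leaf 0x0)) (.node 6341 (.leaf 0xc100b0e0004) (.node 6342 (.leaf 0xc0001) (.leaf 0xa0f0f0c0004))))) (.node 6348 (.node 6345 (.node 6344 (.leaf 0x18c60018c50018c40018c30018bd0018ba) (.leaf 0xd100c0003)) (.node 6346 (.leaf 0x0) (.node 6347 (.leaf 0x100d0f0c0004) (.leaf 0x0)))) (.node 6351 (.node 6349 (.leaf 0x0) (.node 6350 (.leaf 0x5070002) (.leaf 0x0))) (.node 6352 (.leaf 0x0) (.node 6353 (.leaf 0x110f0d0e0004) (.leaf 0x110b0c0f0c0005))))))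

def argWS_618 : Store := (.node 6333 argWS_616 argWS_617)

def argWS_619 : Store := (.node 6313 argWS_615 argWS_618)

def argWS_620 : Store := (.node 6272 argWS_612 argWS_619)

def argWS_621 : Store := (.node 6364 (.node 6359 (.node 6356 (.node 6355 (.leaf 0xd110f0d0e0005) (.leaf 0x103050003)) (.node 6357 (.leaf 0x0) (.node 6358 (.leaf 0xd110d0d0e0005) (.leaf 0xb0a0c0f0c0005)))) (.node 6361 (.node 6360 (.leaf 0x100d0d0e0004) (.leaf 0x201060607090006)) (.node 6362 (.leaf 0x0) (.node 6363 (.leaf 0x110f0f0c0004) (.leaf 0x18da0018d90018d60018d50018d40018d1))))) (.node 6369 (.node 6366 (.node 6365 (.leaf 0xd110d0003) (.leaf 0x0)) (.node 6367 (.leaf 0xd110d0f0c0005) (.node 6368 (.leaf 0x0) (.leaf 0x0)))) (.node 6371 (.node 6370 (.leaf 0x0) (.leaf 0x0)) (.node 6372 (.leaf 0x70100080905080007) (.node 6373 (.leaf 0x10001) (.leaf 0x10001))))))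

def argWS_622 : Store := (.node 6384 (.node 6379 (.node 6376 (.node 6375 (.leaf 0x0) (.leaf 0x0)) (.node 6377 (.leaf 0x0) (.node 6378 (.leaf 0xd110f0003) (.leaf 0x0)))) (.node 6381 (.node 6380 (.leaf 0x0) (.leaf 0x0)) (.node 6382 (.leaf 0x0) (.node 6383 (.leaf 0xf100b0d0f0c0006) (.leaf 0x110b0c0f0c0005))))) (.node 6389 (.node 6386 (.node 6385 (.leaf 0x18ef) (.leaf 0xb0001)) (.node 6387 (.leaf 0x0) (.node 6388 (.leaf 0xc0001) (.leaf 0xf0001)))) (.node 6391 (.node 6390 (.leaf 0x110d0e0003) (.leaf 0x18f5)) (.node 6392 (.leaf 0x100b0d0003) (.node 6393 (.leaf 0x0) (.leaf 0x0))))))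

def argWS_623 : Store := (.node 6374 argWS_621 argWS_622)

def argWS_624 : Store := (.node 6404 (.node 6399 (.node 6396 (.node 6395 (.leaf 0x0) (.leaf 0x0)) (.node 6397 (.leaf 0xb0a0c0003) (.node 6398 (.leaf 0x110b0e0003) (.leaf 0x110b0d0003)))) (.node 6401 (.node 6400 (.leaf 0x110b0f0f0c0005) (.leaf 0x0)) (.node 6402 (.leaf 0x70100050707090007) (.node 6403 (.leaf 0x70100060707090007) (.leaf 0x0))))) (.node 6409 (.node 6406 (.node 6405 (.leaf 0xc100b0d0f0c0006) (.leaf 0x0)) (.node 6407 (.leaf 0xf0f0c0003) (.node 6408 (.leaf 0xb0a0002) (.leaf 0x19070019060019050018ff0018fe0018fd)))) (.node 6411 (.node 6410 (.leaf 0xe110e0003) (.leaf 0x0)) (.node 6412 (.leaf 0x0) (.node 6413 (.leaf 0x0) (.leaf 0x4080905080005))))))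

def argWS_625 : Store := (.node 6424 (.node 6419 (.node 6416 (.node 6415 (.leaf 0xc100b0c0f0c0006) (.leaf 0xb0a0f0f0c0005)) (.node 6417 (.leaf 0x0) (.node 6418 (.leaf 0x5070607090006) (.leaf 0x20308060004)))) (.node 6421 (.node 6420 (.leaf 0x0) (.leaf 0xd100e0003)) (.node 6422 (.leaf 0x0) (.node 6423 (.leaf 0xa0001) (.leaf 0xe110e0003))))) (.node 6429 (.node 6426 (.node 6425 (.leaf 0xa0f0f0c0004) (.leaf 0xd100c0003)) (.node 6427 (.leaf 0x191900191800191700191600191500190f) (.node 6428 (.leaf 0xf100f0f0c0005) (.leaf 0x0)))) (.node 6432 (.node 6430 (.leaf 0xa0f0c0003) (.node 6431 (.leaf 0x0) (.leaf 0x0))) (.node 6433 (.leaf 0x0) (.node 6434 (.leaf 0x6070002) (.leaf 0x0))))))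

def argWS_626 : Store := (.node 6414 argWS_624 argWS_625)

def argWS_627 : Store := (.node 6394 argWS_623 argWS_626)

def argWS_628 : Store := (.node 6445 (.node 6440 (.node 6437 (.node 6436 (.leaf 0x0) (.leaf 0x0)) (.node 6438 (.leaf 0x0) (.node 6439 (.leaf 0x0) (.leaf 0x0)))) (.node 6442 (.node 6441 (.leaf 0x0) (.leaf 0x0)) (.node 6443 (.leaf 0x0) (.node 6444 (.leaf 0x0) (.leaf 0x0))))) (.node 6450 (.node 6447 (.node 6446 (.leaf 0x0) (.leaf 0x0)) (.node 6448 (.leaf 0x0) (.node 6449 (.leaf 0x0) (.leaf 0x0)))) (.node 6452 (.node 6451 (.leaf 0x0) (.leaf 0x0)) (.node 6453 (.leaf 0x100f0d0e0004) (.node 6454 (.leaf 0x100b0d0e0004) (.leaf 0xe110002))))))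

def argWS_629 : Store := (.node 6465 (.node 6460 (.node 6457 (.node 6456 (.leaf 0xb0a0f0f0c0005) (.leaf 0xd100d0e0004)) (.node 6458 (.leaf 0x110b0f0003) (.node 6459 (.leaf 0xf100b0e0004) (.leaf 0x193a001939001938001937001936001935)))) (.node 6462 (.node 6461 (.leaf 0x110b0002) (.leaf 0x0)) (.node 6463 (.leaf 0x0) (.node 6464 (.leaf 0x0) (.leaf 0x0))))) (.node 6470 (.node 6467 (.node 6466 (.leaf 0x110b0e0003) (.leaf 0x110f0d0e0004)) (.node 6468 (.leaf 0x1942) (.node 6469 (.leaf 0xf100b0f0f0c0006) (.leaf 0x0)))) (.node 6473 (.node 6471 (.leaf 0x100b0d0003) (.node 6472 (.leaf 0xa0c0002) (.leaf 0xe110f0f0c0005))) (.node 6474 (.leaf 0xd100f0f0c0005) (.node 6475 (.leaf 0xb0d0f0c0004) (.leaf 0x110b0f0c0004))))))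

def argWS_630 : Store := (.node 6455 argWS_628 argWS_629)

def argWS_631 : Store := (.node 6486 (.node 6481 (.node 6478 (.node 6477 (.leaf 0xf100b0e0004) (.leaf 0x194c00194b00194a001949001948001947)) (.node 6479 (.leaf 0x110b0002) (.node 6480 (.leaf 0x0) (.leaf 0xb0d0e0003)))) (.node 6483 (.node 6482 (.leaf 0x0) (.leaf 0x0)) (.node 6484 (.leaf 0x0) (.node 6485 (.leaf 0x0) (.leaf 0x0))))) (.node 6491 (.node 6488 (.node 6487 (.leaf 0x0) (.leaf 0x0)) (.node 6489 (.leaf 0x0) (.node 6490 (.leaf 0x0) (.leaf 0x0)))) (.node 6493 (.node 6492 (.leaf 0x0) (.leaf 0x0)) (.node 6494 (.leaf 0x0) (.node 6495 (.leaf 0x0) (.leaf 0x0))))))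

def argWS_632 : Store := (.node 6506 (.node 6501 (.node 6498 (.node 6497 (.leaf 0xf100d0d0e0005) (.leaf 0xb0a0c0003)) (.node 6499 (.leaf 0x1961) (.node 6500 (.leaf 0xd110002) (.leaf 0x0)))) (.node 6503 (.node 6502 (.leaf 0x0) (.leaf 0x0)) (.node 6504 (.leaf 0x0) (.node 6505 (.leaf 0x0) (.leaf 0x0))))) (.node 6511 (.node 6508 (.node 6507 (.leaf 0x0) (.leaf 0x0)) (.node 6509 (.leaf 0x0) (.node 6510 (.leaf 0x0) (.leaf 0x0)))) (.node 6514 (.node 6512 (.leaf 0x0) (.node 6513 (.leaf 0x110f0f0c0004) (.leaf 0xb0c0f0c0004))) (.node 6515 (.leaf 0x1971) (.node 6516 (.leaf 0xe100c0003) (.leaf 0x0))))))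

def argWS_633 : Store := (.node 6496 argWS_631 argWS_632)

def argWS_634 : Store := (.node 6476 argWS_630 argWS_633)

def argWS_635 : Store := (.node 6435 argWS_627 argWS_634)

def argWS_636 : Store := (.node 6354 argWS_620 argWS_635)

def argWS_637 : Store := (.node 6191 argWS_605 argWS_636)

def argWS_638 : Store := (.node 5865 argWS_574 argWS_637)

def argWS_639 : Store := (.node 6527 (.node 6522 (.node 6519 (.node 6518 (.leaf 0x0) (.leaf 0x0)) (.node 6520 (.leaf 0xe100f0d0e0005) (.node 6521 (.leaf 0xa0f0002) (.leaf 0xf100002)))) (.node 6524 (.node 6523 (.leaf 0x100b0c0003) (.leaf 0xd110d0003)) (.node 6525 (.leaf 0xe100d0d0e0005) (.node 6526 (.leaf 0x197c00197b00197a0019790019780001f9) (.leaf 0xc100002))))) (.node 6532 (.node 6529 (.node 6528 (.leaf 0x0) (.leaf 0xe100d0f0c0005)) (.node 6530 (.leaf 0x0) (.node 6531 (.leaf 0x0) (.leaf 0x0)))) (.node 6534 (.node 6533 (.leaf 0x0) (.leaf 0x304010003)) (.node 6535 (.leaf 0x10001) (.node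 6536 (.leaf 0x0) (.leaf 0x0))))))

def argWS_640 : Store := (.node 6547 (.node 6542 (.node 6539 (.node 6538 (.leaf 0xf100b0e0004) (.leaf 0xc100b0c0f0c0006)) (.node 6540 (.leaf 0xa0c0002) (.node 6541 (.leaf 0x198b) (.leaf 0xd100002)))) (.node 6544 (.node 6543 (.leaf 0x0) (.leaf 0xe100f0f0c0005)) (.node 6545 (.leaf 0xb0a0f0d0e0005) (.node 6546 (.leaf 0x0) (.leaf 0x403070905080006))))) (.node 6552 (.node 6549 (.node 6548 (.leaf 0x102060709080607090009) (.leaf 0x0)) (.node 6550 (.leaf 0xe110d0f0c0005) (.node 6551 (.leaf 0x0) (.leaf 0x0)))) (.node 6554 (.node 6553 (.leaf 0x2040109080607090008) (.leaf 0x3090002)) (.node 6555 (.leaf 0x0) (.node 6556 (.leaf 0xb0d0002) (.leaf 0x0))))))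

def argWS_641 : Store := (.node 6537 argWS_639 argWS_640)

def argWS_642 : Store := (.node 6567 (.node 6562 (.node 6559 (.node 6558 (.leaf 0xf0d0e0003) (.leaf 0xb0c0002)) (.node 6560 (.leaf 0x50002) (.node 6561 (.leaf 0x0) (.leaf 0xb0f0f0c0004)))) (.node 6564 (.node 6563 (.leaf 0x19a10019a000199d00199c001996001990) (.leaf 0xc100b0d0004)) (.node 6565 (.leaf 0x0) (.node 6566 (.leaf 0xc100e0003) (.leaf 0x0))))) (.node 6572 (.node 6569 (.node 6568 (.leaf 0x0) (.leaf 0x0)) (.node 6570 (.leaf 0x0) (.node 6571 (.leaf 0x905080004) (.leaf 0xc100b0d0f0c0006)))) (.node 6574 (.node 6573 (.leaf 0xe100002) (.leaf 0x19ac)) (.node 6575 (.leaf 0xb0f0002) (.node 6576 (.leaf 0x0) (.leaf 0x0))))))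

def argWS_643 : Store := (.node 6587 (.node 6582 (.node 6579 (.node 6578 (.leaf 0x0) (.leaf 0x0)) (.node 6580 (.leaf 0x0) (.node 6581 (.leaf 0x0) (.leaf 0x0)))) (.node 6584 (.node 6583 (.leaf 0xa0001) (.leaf 0xc100b0d0f0c0006)) (.node 6585 (.leaf 0xa0f0f0c0004) (.node 6586 (.leaf 0x100b0e0003) (.leaf 0x9080607090005))))) (.node 6592 (.node 6589 (.node 6588 (.leaf 0x0) (.leaf 0x110f0002)) (.node 6590 (.leaf 0xe100f0d0e0005) (.node 6591 (.leaf 0xa0001) (.leaf 0x19be0019bd0019bc0019bb0019b80019b7)))) (.node 6595 (.node 6593 (.leaf 0xc100b0f0004) (.node 6594 (.leaf 0x0) (.leaf 0xf100d0003))) (.node 6596 (.leaf 0x0) (.node 6597 (.leaf 0xf100b0d0d0e0006) (.leaf 0x100e0002))))))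

def argWS_644 : Store := (.node 6577 argWS_642 argWS_643)

def argWS_645 : Store := (.node 6557 argWS_641 argWS_644)

def argWS_646 : Store := (.node 6608 (.node 6603 (.node 6600 (.node 6599 (.leaf 0xd0001) (.leaf 0xf0d0e0003)) (.node 6601 (.leaf 0xe110c0003) (.node 6602 (.leaf 0xe100f0c0004) (.leaf 0x100d0002)))) (.node 6605 (.node 6604 (.leaf 0x19ca0019c90019c80019c70019c60019c5) (.leaf 0xf100d0f0c0005)) (.node 6606 (.leaf 0x0) (.node 6607 (.leaf 0xc100b0e0004) (.leaf 0x0))))) (.node 6613 (.node 6610 (.node 6609 (.leaf 0x0) (.leaf 0x0)) (.node 6611 (.leaf 0xc100f0d0e0005) (.node 6612 (.leaf 0xf100e0003) (.leaf 0x19d3)))) (.node 6615 (.node 6614 (.leaf 0xf100d0003) (.leaf 0x0)) (.node 6616 (.leaf 0x0) (.node 6617 (.leaf 0x0) (.leaf 0x0))))))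

def argWS_647 : Store := (.node 6628 (.node 6623 (.node 6620 (.node 6619 (.leaf 0x0) (.leaf 0x0)) (.node 6621 (.leaf 0x0) (.node 6622 (.leaf 0x0) (.leaf 0x0)))) (.node 6625 (.node 6624 (.leaf 0x0) (.leaf 0xb0a0f0f0c0005)) (.node 6626 (.leaf 0x100b0002) (.node 6627 (.leaf 0xf100d0d0e0005) (.leaf 0xf100f0c0004))))) (.node 6633 (.node 6630 (.node 6629 (.leaf 0xb0f0c0003) (.leaf 0xf100c0f0c0005)) (.node 6631 (.leaf 0x0) (.node 6632 (.leaf 0x4050705080005) (.leaf 0x2030108050005)))) (.node 6636 (.node 6634 (.leaf 0x0) (.node 6635 (.leaf 0xb0a0f0d0e0005) (.leaf 0x0))) (.node 6637 (.leaf 0x19eb0019e50019e40019e30019e20019e1) (.node 6638 (.leaf 0x100c0002) (.leaf 0x0))))))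

def argWS_648 : Store := (.node 6618 argWS_646 argWS_647)

def argWS_649 : Store := (.node 6649 (.node 6644 (.node 6641 (.node 6640 (.leaf 0x0) (.leaf 0x0)) (.node 6642 (.leaf 0x10407060004) (.node 6643 (.leaf 0x0) (.leaf 0x0)))) (.node 6646 (.node 6645 (.leaf 0xd100e0003) (.leaf 0x10001)) (.node 6647 (.leaf 0x0) (.node 6648 (.leaf 0x0) (.leaf 0xc100d0d0e0005))))) (.node 6654 (.node 6651 (.node 6650 (.leaf 0x20905080004) (.leaf 0x0)) (.node 6652 (.leaf 0x203010607090006) (.node 6653 (.leaf 0x0) (.leaf 0x0)))) (.node 6656 (.node 6655 (.leaf 0x0) (.leaf 0x0)) (.node 6657 (.leaf 0x100f0d0e0004) (.node 6658 (.leaf 0xe110c0f0c0005) (.leaf 0xd100c0003))))))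

def argWS_650 : Store := (.node 6669 (.node 6664 (.node 6661 (.node 6660 (.leaf 0x110b0f0d0e0005) (.leaf 0x203060003)) (.node 6662 (.leaf 0x0) (.node 6663 (.leaf 0xb0a0f0f0c0005) (.leaf 0xd100f0f0c0005)))) (.node 6666 (.node 6665 (.leaf 0xf100b0f0c0005) (.leaf 0x1a08001a07001a06001a05001a02001a01)) (.node 6667 (.leaf 0xe110002) (.node 6668 (.leaf 0x0) (.leaf 0xf0d0e0003))))) (.node 6674 (.node 6671 (.node 6670 (.leaf 0xf100b0f0c0005) (.leaf 0xf100b0e0004)) (.node 6672 (.leaf 0x1a0e) (.node 6673 (.leaf 0xc100e0003) (.leaf 0x0)))) (.node 6677 (.node 6675 (.leaf 0x0) (.node 6676 (.leaf 0x0) (.leaf 0x0))) (.node 6678 (.leaf 0x0) (.node 6679 (.leaf 0x0) (.leaf 0x0))))))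

def argWS_651 : Store := (.node 6659 argWS_649 argWS_650)

def argWS_652 : Store := (.node 6639 argWS_648 argWS_651)

def argWS_653 : Store := (.node 6598 argWS_645 argWS_652)

def argWS_654 : Store := (.node 6690 (.node 6685 (.node 6682 (.node 6681 (.leaf 0x0) (.leaf 0x100b0f0d0e0005)) (.node 6683 (.leaf 0x110f0c0003) (.node 6684 (.leaf 0x1a1a) (.leaf 0xc100d0d0e0005)))) (.node 6687 (.node 6686 (.leaf 0xf100b0003) (.leaf 0xb0a0d0f0c0005)) (.node 6688 (.leaf 0x1a1e) (.node 6689 (.leaf 0xd110d0d0e0005) (.leaf 0x0))))) (.node 6695 (.node 6692 (.node 6691 (.leaf 0x0) (.leaf 0x0)) (.node 6693 (.leaf 0xe110f0f0c0005) (.node 6694 (.leaf 0x100f0d0e0004) (.leaf 0xe100f0d0e0005)))) (.node 6697 (.node 6696 (.leaf 0x110b0f0c0004) (.leaf 0xa0d0d0e0004)) (.node 6698 (.leaf 0x100b0d0d0e0005) (.node 6699 (.leaf 0x110f0d0e0004) (.leaf 0x1a2a001a29001a28001a27001a26001a25))))))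

def argWS_655 : Store := (.node 6710 (.node 6705 (.node 6702 (.node 6701 (.leaf 0xf100d0e0004) (.leaf 0x0)) (.node 6703 (.leaf 0x0) (.node 6704 (.leaf 0x0) (.leaf 0x0)))) (.node 6707 (.node 6706 (.leaf 0x203060705080006) (.leaf 0x0)) (.node 6708 (.leaf 0x0) (.node 6709 (.leaf 0xe110c0f0c0005) (.leaf 0x0))))) (.node 6715 (.node 6712 (.node 6711 (.leaf 0x0) (.leaf 0x0)) (.node 6713 (.leaf 0x0) (.node 6714 (.leaf 0x0) (.leaf 0xf0c0002)))) (.node 6717 (.node 6716 (.leaf 0xe110d0f0c0005) (.leaf 0xc100f0003)) (.node 6718 (.leaf 0xe100c0f0c0005) (.node 6719 (.leaf 0xb0a0d0f0c0005) (.leaf 0xd100c0003))))))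

def argWS_656 : Store := (.node 6700 argWS_654 argWS_655)

def argWS_657 : Store := (.node 6730 (.node 6725 (.node 6722 (.node 6721 (.leaf 0x110d0002) (.leaf 0x1a40001a3f001a3e001a3d001a3c001a3b)) (.node 6723 (.leaf 0x100b0d0003) (.node 6724 (.leaf 0x0) (.leaf 0xb0a0c0003)))) (.node 6727 (.node 6726 (.leaf 0x110b0f0f0c0005) (.leaf 0x100d0002)) (.node 6728 (.leaf 0xd100d0f0c0005) (.node 6729 (.leaf 0x0) (.leaf 0x50707090004))))) (.node 6735 (.node 6732 (.node 6731 (.leaf 0x8060002) (.leaf 0x0)) (.node 6733 (.leaf 0xe0001) (.node 6734 (.leaf 0x0) (.leaf 0xc100b0e0004)))) (.node 6737 (.node 6736 (.leaf 0x905080003) (.leaf 0x0)) (.node 6738 (.leaf 0xe100002) (.node 6739 (.leaf 0x1a51001a50001a4d001a47001a46001a45) (.leaf 0xc100002))))))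

def argWS_658 : Store := (.node 6750 (.node 6745 (.node 6742 (.node 6741 (.leaf 0x0) (.leaf 0x0)) (.node 6743 (.leaf 0x0) (.node 6744 (.leaf 0x0) (.leaf 0x701000507060705080009)))) (.node 6747 (.node 6746 (.leaf 0x0) (.leaf 0x0)) (.node 6748 (.leaf 0xb0a0002) (.node 6749 (.leaf 0x0) (.leaf 0x10001))))) (.node 6755 (.node 6752 (.node 6751 (.leaf 0x0) (.leaf 0x0)) (.node 6753 (.leaf 0xb0001) (.node 6754 (.leaf 0x0) (.leaf 0x108050003)))) (.node 6758 (.node 6756 (.leaf 0x0) (.node 6757 (.leaf 0x0) (.leaf 0x110b0c0003))) (.node 6759 (.leaf 0x0) (.node 6760 (.leaf 0x0) (.leaf 0x0))))))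

def argWS_659 : Store := (.node 6740 argWS_657 argWS_658)

def argWS_660 : Store := (.node 6720 argWS_656 argWS_659)

def argWS_661 : Store := (.node 6771 (.node 6766 (.node 6763 (.node 6762 (.leaf 0x0) (.leaf 0x1000002)) (.node 6764 (.leaf 0x1000607090005) (.node 6765 (.leaf 0x0) (.leaf 0x0)))) (.node 6768 (.node 6767 (.leaf 0x0) (.leaf 0x0)) (.node 6769 (.leaf 0x50707090005) (.node 6770 (.leaf 0xb0a0002) (.leaf 0x1000002))))) (.node 6776 (.node 6773 (.node 6772 (.leaf 0x0) (.leaf 0x0)) (.node 6774 (.leaf 0x100f0d0e0004) (.node 6775 (.leaf 0x0) (.leaf 0x0)))) (.node 6778 (.node 6777 (.leaf 0xd110f0f0c0005) (.leaf 0x108060003)) (.node 6779 (.leaf 0x0) (.node 6780 (.leaf 0x0) (.leaf 0xb0a0f0003))))))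

def argWS_662 : Store := (.node 6791 (.node 6786 (.node 6783 (.node 6782 (.leaf 0x0) (.leaf 0x0)) (.node 6784 (.leaf 0xc100f0c0004) (.node 6785 (.leaf 0x0) (.leaf 0x10001)))) (.node 6788 (.node 6787 (.leaf 0x0) (.leaf 0x0)) (.node 6789 (.leaf 0x110b0c0f0c0005) (.node 6790 (.leaf 0x0) (.leaf 0x0))))) (.node 6796 (.node 6793 (.node 6792 (.leaf 0x0) (.leaf 0x0)) (.node 6794 (.leaf 0x3040107050005) (.node 6795 (.leaf 0x0) (.leaf 0x0)))) (.node 6799 (.node 6797 (.leaf 0x0) (.node 6798 (.leaf 0xf100b0f0d0e0006) (.leaf 0xd100c0003))) (.node 6800 (.leaf 0x0) (.node 6801 (.leaf 0x0) (.leaf 0x110f0002))))))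

def argWS_663 : Store := (.node 6781 argWS_661 argWS_662)

def argWS_664 : Store := (.node 6812 (.node 6807 (.node 6804 (.node 6803 (.leaf 0x0) (.leaf 0x10001)) (.node 6805 (.leaf 0x0) (.node 6806 (.leaf 0x0) (.leaf 0x100f0002)))) (.node 6809 (.node 6808 (.leaf 0x1080002) (.leaf 0x3050002)) (.node 6810 (.leaf 0x0) (.node 6811 (.leaf 0x0) (.leaf 0x0))))) (.node 6817 (.node 6814 (.node 6813 (.leaf 0x110f0d0e0004) (.leaf 0x0)) (.node 6815 (.leaf 0x0) (.node 6816 (.leaf 0x0) (.leaf 0x0)))) (.node 6819 (.node 6818 (.leaf 0x0) (.leaf 0x0)) (.node 6820 (.leaf 0xd110d0d0e0005) (.node 6821 (.leaf 0x10001) (.leaf 0x10001))))))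

def argWS_665 : Store := (.node 6832 (.node 6827 (.node 6824 (.node 6823 (.leaf 0x0) (.leaf 0x0)) (.node 6825 (.leaf 0x0) (.node 6826 (.leaf 0xd110d0d0e0005) (.leaf 0x0)))) (.node 6829 (.node 6828 (.leaf 0x0) (.leaf 0x0)) (.node 6830 (.leaf 0x110b0d0e0004) (.node 6831 (.leaf 0x110f0f0c0004) (.leaf 0xe100f0c0004))))) (.node 6837 (.node 6834 (.node 6833 (.leaf 0x110f0002) (.leaf 0x110e0002)) (.node 6835 (.leaf 0x110b0d0d0e0005) (.node 6836 (.leaf 0xf100b0e0004) (.leaf 0x1ab3001ab2001ab1001ab0001aaf001aae)))) (.node 6840 (.node 6838 (.leaf 0x110b0002) (.node 6839 (.leaf 0x0) (.leaf 0x0))) (.node 6841 (.leaf 0x0) (.node 6842 (.leaf 0x0) (.leaf 0xb0e0002))))))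

def argWS_666 : Store := (.node 6822 argWS_664 argWS_665)

def argWS_667 : Store := (.node 6802 argWS_663 argWS_666)

def argWS_668 : Store := (.node 6761 argWS_660 argWS_667)

def argWS_669 : Store := (.node 6680 argWS_653 argWS_668)

def argWS_670 : Store := (.node 6853 (.node 6848 (.node 6845 (.node 6844 (.leaf 0xc100b0d0f0c0006) (.leaf 0x1abb)) (.node 6846 (.leaf 0x110f0002) (.node 6847 (.leaf 0x0) (.leaf 0xb0d0f0c0004)))) (.node 6850 (.node 6849 (.leaf 0x110f0002) (.leaf 0x1ac0)) (.node 6851 (.leaf 0x100b0d0f0c0005) (.node 6852 (.leaf 0xb0c0f0c0004) (.leaf 0xd110f0003))))) (.node 6858 (.node 6855 (.node 6854 (.leaf 0x1ac4) (.leaf 0x110f0f0c0004)) (.node 6856 (.leaf 0x0) (.node 6857 (.leaf 0x0) (.leaf 0x100b0d0e0004)))) (.node 6860 (.node 6859 (.leaf 0xe100002) (.leaf 0xb0a0c0f0c0005)) (.node 6861 (.leaf 0xf100b0f0d0e0006) (.node 6862 (.leaf 0x100d0002) (.leaf 0xc100b0d0e0005))))))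

def argWS_671 : Store := (.node 6873 (.node 6868 (.node 6865 (.node 6864 (.leaf 0x110f0c0003) (.leaf 0x1acf001ace001acd001acc001acb001aca)) (.node 6866 (.leaf 0x0) (.node 6867 (.leaf 0x905080003) (.leaf 0x40308050004)))) (.node 6870 (.node 6869 (.leaf 0x0) (.leaf 0xb0c0002)) (.node 6871 (.leaf 0x0) (.node 6872 (.leaf 0x0) (.leaf 0x0))))) (.node 6878 (.node 6875 (.node 6874 (.leaf 0x0) (.leaf 0x2030507050005)) (.node 6876 (.leaf 0x0) (.node 6877 (.leaf 0x0) (.leaf 0x0)))) (.node 6880 (.node 6879 (.leaf 0x0) (.leaf 0xf100d0d0e0005)) (.node 6881 (.leaf 0xc100f0c0004) (.node 6882 (.leaf 0x1ae0) (.leaf 0xf100b0f0d0e0006))))))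

def argWS_672 : Store := (.node 6863 argWS_670 argWS_671)

def argWS_673 : Store := (.node 6893 (.node 6888 (.node 6885 (.node 6884 (.leaf 0x0) (.leaf 0x0)) (.node 6886 (.leaf 0x0) (.node 6887 (.leaf 0x0) (.leaf 0xb0a0d0003)))) (.node 6890 (.node 6889 (.leaf 0xc100c0003) (.leaf 0x1ae8)) (.node 6891 (.leaf 0x110b0d0e0004) (.node 6892 (.leaf 0x0) (.leaf 0x0))))) (.node 6898 (.node 6895 (.node 6894 (.leaf 0x0) (.leaf 0xc100b0d0004)) (.node 6896 (.leaf 0xf100b0d0004) (.node 6897 (.leaf 0x1aef) (.leaf 0xf100b0f0c0005)))) (.node 6900 (.node 6899 (.leaf 0x0) (.leaf 0x0)) (.node 6901 (.leaf 0x110f0d0e0004) (.node 6902 (.leaf 0xf100d0e0004) (.leaf 0x0))))))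

def argWS_674 : Store := (.node 6913 (.node 6908 (.node 6905 (.node 6904 (.leaf 0x1000507060607090008) (.leaf 0x1040507060607090008)) (.node 6906 (.leaf 0x0) (.node 6907 (.leaf 0xb0001) (.leaf 0x0)))) (.node 6910 (.node 6909 (.leaf 0xa0f0002) (.leaf 0xc100f0f0c0005)) (.node 6911 (.leaf 0xa0c0002) (.node 6912 (.leaf 0xf100b0f0c0005) (.leaf 0x1aff001afe001afd001afc001afb001af5))))) (.node 6918 (.node 6915 (.node 6914 (.leaf 0xe110002) (.leaf 0x0)) (.node 6916 (.leaf 0xa0f0d0e0004) (.node 6917 (.leaf 0x0) (.leaf 0x0)))) (.node 6921 (.node 6919 (.leaf 0x0) (.node 6920 (.leaf 0xf100b0c0f0c0006) (.leaf 0xa0d0e0003))) (.node 6922 (.leaf 0x1b08) (.node 6923 (.leaf 0xd100f0f0c0005) (.leaf 0x0))))))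

def argWS_675 : Store := (.node 6903 argWS_673 argWS_674)

def argWS_676 : Store := (.node 6883 argWS_672 argWS_675)

def argWS_677 : Store := (.node 6934 (.node 6929 (.node 6926 (.node 6925 (.leaf 0x0) (.leaf 0x0)) (.node 6927 (.leaf 0x0) (.node 6928 (.leaf 0x0) (.leaf 0x0)))) (.node 6931 (.node 6930 (.leaf 0x0) (.leaf 0x110b0f0d0e0005)) (.node 6932 (.leaf 0xa0f0d0e0004) (.node 6933 (.leaf 0x110e0002) (.leaf 0xf100b0d0f0c0006))))) (.node 6939 (.node 6936 (.node 6935 (.leaf 0xe110d0f0c0005) (.leaf 0x0)) (.node 6937 (.leaf 0x905080003) (.node 6938 (.leaf 0x302090003) (.leaf 0x0)))) (.node 6941 (.node 6940 (.leaf 0xd100d0003) (.leaf 0x0)) (.node 6942 (.leaf 0x1020607090005) (.node 6943 (.leaf 0x0) (.leaf 0xe100d0e0004))))))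

def argWS_678 : Store := (.node 6954 (.node 6949 (.node 6946 (.node 6945 (.leaf 0x1b1f001b1e001b16001b15001b14001b13) (.leaf 0xf100e0003)) (.node 6947 (.leaf 0x0) (.node 6948 (.leaf 0x0) (.leaf 0x0)))) (.node 6951 (.node 6950 (.leaf 0x0) (.leaf 0x20301060607090007)) (.node 6952 (.leaf 0x10001) (.node 6953 (.leaf 0x10001) (.leaf 0x0))))) (.node 6959 (.node 6956 (.node 6955 (.leaf 0x0) (.leaf 0x0)) (.node 6957 (.leaf 0x110d0e0003) (.node 6958 (.leaf 0xf100f0003) (.leaf 0xe110d0d0e0005)))) (.node 6962 (.node 6960 (.leaf 0x1b2e) (.node 6961 (.leaf 0xd0f0c0003) (.leaf 0x0))) (.node 6963 (.leaf 0x0) (.node 6964 (.leaf 0x100b0002) (.leaf 0x100b0c0003))))))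

def argWS_679 : Store := (.node 6944 argWS_677 argWS_678)

def argWS_680 : Store := (.node 6975 (.node 6970 (.node 6967 (.node 6966 (.leaf 0xf0f0c0003) (.leaf 0xd110c0f0c0005)) (.node 6968 (.leaf 0x110b0f0f0c0005) (.node 6969 (.leaf 0x110c0002) (.leaf 0xc100b0003)))) (.node 6972 (.node 6971 (.leaf 0x1b39001b38001b37001b36001b35001b34) (.leaf 0xe110f0c0004)) (.node 6973 (.leaf 0x0) (.node 6974 (.leaf 0x0) (.leaf 0x0))))) (.node 6980 (.node 6977 (.node 6976 (.leaf 0x402090003) (.leaf 0x0)) (.node 6978 (.leaf 0x0) (.node 6979 (.leaf 0xd110d0003) (.leaf 0x0)))) (.node 6982 (.node 6981 (.leaf 0x10001) (.leaf 0x0)) (.node 6983 (.leaf 0x0) (.node 6984 (.leaf 0x110c0002) (.leaf 0x0))))))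

def argWS_681 : Store := (.node 6995 (.node 6990 (.node 6987 (.node 6986 (.leaf 0x0) (.leaf 0x0)) (.node 6988 (.leaf 0x0) (.node 6989 (.leaf 0x0) (.leaf 0x0)))) (.node 6992 (.node 6991 (.leaf 0xd110c0f0c0005) (.leaf 0x10001)) (.node 6993 (.leaf 0x10001) (.node 6994 (.leaf 0x0) (.leaf 0x0))))) (.node 7000 (.node 6997 (.node 6996 (.leaf 0x0) (.leaf 0xb0a0f0c0004)) (.node 6998 (.leaf 0xc0f0c0003) (.node 6999 (.leaf 0xd100f0003) (.leaf 0x1b56)))) (.node 7003 (.node 7001 (.leaf 0x100b0f0f0c0005) (.node 7002 (.leaf 0x0) (.leaf 0x0))) (.node 7004 (.leaf 0x0) (.node 7005 (.leaf 0x0) (.leaf 0xd110c0f0c0005))))))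

def argWS_682 : Store := (.node 6985 argWS_680 argWS_681)

def argWS_683 : Store := (.node 6965 argWS_679 argWS_682)

def argWS_684 : Store := (.node 6924 argWS_676 argWS_683)

def argWS_685 : Store := (.node 7016 (.node 7011 (.node 7008 (.node 7007 (.leaf 0xb0a0d0003) (.leaf 0x1b5e)) (.node 7009 (.leaf 0xd110d0003) (.node 7010 (.leaf 0x0) (.leaf 0x0)))) (.node 7013 (.node 7012 (.leaf 0x0) (.leaf 0x0)) (.node 7014 (.leaf 0x0) (.node 7015 (.leaf 0x0) (.leaf 0xf100c0003))))) (.node 7021 (.node 7018 (.node 7017 (.leaf 0xf100b0f0c0005) (.leaf 0x110f0002)) (.node 7019 (.leaf 0x4020109080005) (.node 7020 (.leaf 0x0) (.leaf 0xe110c0003)))) (.node 7023 (.node 7022 (.leaf 0xf100b0f0c0005) (.leaf 0xd110d0d0e0005)) (.node 7024 (.leaf 0x0) (.node 7025 (.leaf 0x400060607090006) (.leaf 0x4000809080005))))))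

def argWS_686 : Store := (.node 7036 (.node 7031 (.node 7028 (.node 7027 (.leaf 0x0) (.leaf 0x100f0d0e0004)) (.node 7029 (.leaf 0x0) (.node 7030 (.leaf 0x1b74001b6e001b6d001b6c001b6b001b68) (.leaf 0xb0a0d0f0c0005)))) (.node 7033 (.node 7032 (.leaf 0x0) (.leaf 0x0)) (.node 7034 (.leaf 0x0) (.node 7035 (.leaf 0x0) (.leaf 0x10207090004))))) (.node 7041 (.node 7038 (.node 7037 (.leaf 0x0) (.leaf 0x0)) (.node 7039 (.leaf 0x110f0002) (.node 7040 (.leaf 0x0) (.leaf 0x10001)))) (.node 7043 (.node 7042 (.leaf 0x0) (.leaf 0x0)) (.node 7044 (.leaf 0x100f0002) (.node 7045 (.leaf 0x0) (.leaf 0x0))))))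

def argWS_687 : Store := (.node 7026 argWS_685 argWS_686)

def argWS_688 : Store := (.node 7056 (.node 7051 (.node 7048 (.node 7047 (.leaf 0x0) (.leaf 0x0)) (.node 7049 (.leaf 0x0) (.node 7050 (.leaf 0x0) (.leaf 0x0)))) (.node 7053 (.node 7052 (.leaf 0x0) (.leaf 0x0)) (.node 7054 (.leaf 0x0) (.node 7055 (.leaf 0x701090003) (.leaf 0xd110d0d0e0005))))) (.node 7061 (.node 7058 (.node 7057 (.leaf 0x209080003) (.leaf 0x0)) (.node 7059 (.leaf 0x0) (.node 7060 (.leaf 0x10001) (.leaf 0x0)))) (.node 7063 (.node 7062 (.leaf 0x0) (.leaf 0xd110d0d0e0005)) (.node 7064 (.leaf 0x10001) (.node 7065 (.leaf 0x0) (.leaf 0x0))))))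

def argWS_689 : Store := (.node 7076 (.node 7071 (.node 7068 (.node 7067 (.leaf 0x0) (.leaf 0x0)) (.node 7069 (.leaf 0x0) (.node 7070 (.leaf 0x0) (.leaf 0xd100f0d0e0005)))) (.node 7073 (.node 7072 (.leaf 0xc100b0d0e0005) (.leaf 0xf100b0d0e0005)) (.node 7074 (.leaf 0xf100b0d0004) (.node 7075 (.leaf 0xe100d0e0004) (.leaf 0xb0c0002))))) (.node 7081 (.node 7078 (.node 7077 (.leaf 0x1ba30007ff001ba2001ba1001ba0001b9f) (.leaf 0xa0f0f0c0004)) (.node 7079 (.leaf 0x0) (.node 7080 (.leaf 0xd0d0e0003) (.leaf 0x0)))) (.node 7084 (.node 7082 (.leaf 0x0) (.node 7083 (.leaf 0x0) (.leaf 0x0))) (.node 7085 (.leaf 0x0) (.node 7086 (.leaf 0x0) (.leaf 0x0))))))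

def argWS_690 : Store := (.node 7066 argWS_688 argWS_689)

def argWS_691 : Store := (.node 7046 argWS_687 argWS_690)

def argWS_692 : Store := (.node 7097 (.node 7092 (.node 7089 (.node 7088 (.leaf 0x0) (.leaf 0x0)) (.node 7090 (.leaf 0x0) (.node 7091 (.leaf 0xa0d0f0c0004) (.leaf 0x110b0f0003)))) (.node 7094 (.node 7093 (.leaf 0x1bb3) (.leaf 0x100e0002)) (.node 7095 (.leaf 0xf100b0d0e0005) (.node 7096 (.leaf 0x0) (.leaf 0x1000507060607090008))))) (.node 7102 (.node 7099 (.node 7098 (.leaf 0x1040507060607090008) (.leaf 0x0)) (.node 7100 (.leaf 0xb0001) (.node 7101 (.leaf 0x0) (.leaf 0xf0c0002)))) (.node 7104 (.node 7103 (.leaf 0xe110d0f0c0005) (.leaf 0x0)) (.node 7105 (.leaf 0x3020108060705080008) (.node 7106 (.leaf 0x203090003) (.leaf 0x0))))))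

def argWS_693 : Store := (.node 7117 (.node 7112 (.node 7109 (.node 7108 (.leaf 0x100d0002) (.leaf 0x0)) (.node 7110 (.leaf 0x0) (.node 7111 (.leaf 0x70100050707090007) (.leaf 0x30809080004)))) (.node 7114 (.node 7113 (.leaf 0x0) (.leaf 0xa0d0d0e0004)) (.node 7115 (.leaf 0x0) (.node 7116 (.leaf 0xc100c0003) (.leaf 0x1bcb001bca001bc4001bbe001bbd001bbc))))) (.node 7122 (.node 7119 (.node 7118 (.leaf 0xf100e0003) (.leaf 0x0)) (.node 7120 (.leaf 0xf100b0c0004) (.node 7121 (.leaf 0x0) (.leaf 0x0)))) (.node 7125 (.node 7123 (.leaf 0x0) (.node 7124 (.leaf 0x6070002) (.leaf 0x10001))) (.node 7126 (.leaf 0x0) (.node 7127 (.leaf 0x0) (.leaf 0xd110d0d0e0005))))))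

def argWS_694 : Store := (.node 7107 argWS_692 argWS_693)

def argWS_695 : Store := (.node 7138 (.node 7133 (.node 7130 (.node 7129 (.leaf 0x0) (.leaf 0x0)) (.node 7131 (.leaf 0x100b0f0003) (.node 7132 (.leaf 0x100d0e0003) (.leaf 0x100001)))) (.node 7135 (.node 7134 (.leaf 0xd100d0003) (.leaf 0x110f0002)) (.node 7136 (.leaf 0xf100b0e0004) (.node 7137 (.leaf 0x110b0002) (.leaf 0x304010905080006))))) (.node 7143 (.node 7140 (.node 7139 (.leaf 0x0) (.leaf 0x1be2001bdf001bde001bdd001bdc001bdb)) (.node 7141 (.leaf 0xe0001) (.node 7142 (.leaf 0x0) (.leaf 0xe100f0f0c0005)))) (.node 7145 (.node 7144 (.leaf 0x0) (.leaf 0x0)) (.node 7146 (.leaf 0x0) (.node 7147 (.leaf 0x0) (.leaf 0x7010008050005))))))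

def argWS_696 : Store := (.node 7158 (.node 7153 (.node 7150 (.node 7149 (.leaf 0x0) (.leaf 0x0)) (.node 7151 (.leaf 0xe100d0d0e0005) (.node 7152 (.leaf 0xb0a0c0f0c0005) (.leaf 0x100c0002)))) (.node 7155 (.node 7154 (.leaf 0xd110e0003) (.leaf 0xe110f0003)) (.node 7156 (.leaf 0xf100c0003) (.node 7157 (.leaf 0xf100b0f0c0005) (.leaf 0x110f0002))))) (.node 7163 (.node 7160 (.node 7159 (.leaf 0x1bf5001bf4001bf3001bf2001bf1001bf0) (.leaf 0xc100b0d0004)) (.node 7161 (.leaf 0x0) (.node 7162 (.leaf 0xc100d0d0e0005) (.leaf 0x0)))) (.node 7166 (.node 7164 (.leaf 0x0) (.node 7165 (.leaf 0x0) (.leaf 0x0))) (.node 7167 (.leaf 0x0) (.node 7168 (.leaf 0x0) (.leaf 0x0))))))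

def argWS_697 : Store := (.node 7148 argWS_695 argWS_696)

def argWS_698 : Store := (.node 7128 argWS_694 argWS_697)

def argWS_699 : Store := (.node 7087 argWS_691 argWS_698)

def argWS_700 : Store := (.node 7006 argWS_684 argWS_699)

def argWS_701 : Store := (.node 6843 argWS_669 argWS_700)

def argWS_702 : Store := (.node 7179 (.node 7174 (.node 7171 (.node 7170 (.leaf 0x0) (.leaf 0x0)) (.node 7172 (.leaf 0x0) (.node 7173 (.leaf 0xc100b0f0004) (.leaf 0xe110c0f0c0005)))) (.node 7176 (.node 7175 (.leaf 0x1c05) (.leaf 0xb0a0d0e0004)) (.node 7177 (.leaf 0x0) (.node 7178 (.leaf 0x0) (.leaf 0x100001))))) (.node 7184 (.node 7181 (.node 7180 (.leaf 0xd100d0003) (.leaf 0x110f0002)) (.node 7182 (.leaf 0x1000607090005) (.node 7183 (.leaf 0x0) (.leaf 0x0)))) (.node 7186 (.node 7185 (.leaf 0x7010009080607090008) (.leaf 0x403080003)) (.node 7187 (.leaf 0x0) (.node 7188 (.leaf 0xc100b0f0004) (.leaf 0x0))))))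

def argWS_703 : Store := (.node 7199 (.node 7194 (.node 7191 (.node 7190 (.leaf 0xd110d0e0004) (.leaf 0xd110f0d0e0005)) (.node 7192 (.leaf 0xd100f0003) (.node 7193 (.leaf 0x1c17001c16001c15001c14001c0e001c0b) (.leaf 0x100d0002)))) (.node 7196 (.node 7195 (.leaf 0x0) (.leaf 0x100b0002)) (.node 7197 (.leaf 0x0) (.node 7198 (.leaf 0x0) (.leaf 0x70001))))) (.node 7204 (.node 7201 (.node 7200 (.leaf 0x0) (.leaf 0x0)) (.node 7202 (.leaf 0x0) (.node 7203 (.leaf 0x0) (.leaf 0x0)))) (.node 7206 (.node 7205 (.leaf 0x0) (.leaf 0x0)) (.node 7207 (.leaf 0x0) (.node 7208 (.leaf 0xf100f0003) (.leaf 0x110f0d0e0004))))))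

def argWS_704 : Store := (.node 7189 argWS_702 argWS_703)

def argWS_705 : Store := (.node 7219 (.node 7214 (.node 7211 (.node 7210 (.leaf 0xc100f0c0004) (.leaf 0xd110d0f0c0005)) (.node 7212 (.leaf 0xe100f0003) (.node 7213 (.leaf 0x100b0f0d0e0005) (.leaf 0xe110c0f0c0005)))) (.node 7216 (.node 7215 (.leaf 0x1c2d001c2c001c2b001c2a001c29001c28) (.leaf 0xe110f0003)) (.node 7217 (.leaf 0x0) (.node 7218 (.leaf 0x0) (.leaf 0x0))))) (.node 7224 (.node 7221 (.node 7220 (.leaf 0x0) (.leaf 0x0)) (.node 7222 (.leaf 0x0) (.node 7223 (.leaf 0x0) (.leaf 0xd100f0d0e0005)))) (.node 7226 (.node 7225 (.leaf 0xe110d0f0c0005) (.leaf 0xc100f0f0c0005)) (.node 7227 (.leaf 0xb0a0c0003) (.node 7228 (.leaf 0x0) (.leaf 0x1000507060607090008))))))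

def argWS_706 : Store := (.node 7239 (.node 7234 (.node 7231 (.node 7230 (.leaf 0x7010607050705080008) (.leaf 0x0)) (.node 7232 (.leaf 0x110b0f0003) (.node 7233 (.leaf 0x0) (.leaf 0xc100b0d0004)))) (.node 7236 (.node 7235 (.leaf 0xf0c0002) (.leaf 0x1c42001c41001c40001c3a001c39001c38)) (.node 7237 (.leaf 0xb0f0f0c0004) (.node 7238 (.leaf 0x0) (.leaf 0xb0a0d0f0c0005))))) (.node 7244 (.node 7241 (.node 7240 (.leaf 0x0) (.leaf 0x0)) (.node 7242 (.leaf 0x0) (.node 7243 (.leaf 0x0) (.leaf 0x10207090004)))) (.node 7247 (.node 7245 (.leaf 0x0) (.node 7246 (.leaf 0x0) (.leaf 0xf100002))) (.node 7248 (.leaf 0x10001) (.node 7249 (.leaf 0x0) (.leaf 0x0))))))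

def argWS_707 : Store := (.node 7229 argWS_705 argWS_706)

def argWS_708 : Store := (.node 7209 argWS_704 argWS_707)

def argWS_709 : Store := (.node 7260 (.node 7255 (.node 7252 (.node 7251 (.leaf 0xc100f0f0c0005) (.leaf 0x0)) (.node 7253 (.leaf 0x100b0c0f0c0005) (.node 7254 (.leaf 0xb0a0f0003) (.leaf 0xf100002)))) (.node 7257 (.node 7256 (.leaf 0x110b0c0003) (.leaf 0x0)) (.node 7258 (.leaf 0x7020108050705080008) (.node 7259 (.leaf 0x1030507060607090008) (.leaf 0x0))))) (.node 7265 (.node 7262 (.node 7261 (.leaf 0xa0f0002) (.leaf 0x0)) (.node 7263 (.leaf 0x3020607090005) (.node 7264 (.leaf 0x0) (.leaf 0xf0d0e0003)))) (.node 7267 (.node 7266 (.leaf 0xb0a0c0003) (.leaf 0x1c61001c60001c5f001c57001c56001c55)) (.node 7268 (.leaf 0xd0f0c0003) (.node 7269 (.leaf 0x0) (.leaf 0x0))))))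

def argWS_710 : Store := (.node 7280 (.node 7275 (.node 7272 (.node 7271 (.leaf 0x0) (.leaf 0x0)) (.node 7273 (.leaf 0x0) (.node 7274 (.leaf 0x0) (.leaf 0xc100e0003)))) (.node 7277 (.node 7276 (.leaf 0x2000905080005) (.leaf 0x0)) (.node 7278 (.leaf 0xc100e0003) (.node 7279 (.leaf 0xc100002) (.leaf 0x110b0f0d0e0005))))) (.node 7285 (.node 7282 (.node 7281 (.leaf 0x100b0002) (.leaf 0xc100c0f0c0005)) (.node 7283 (.leaf 0xb0a0f0f0c0005) (.node 7284 (.leaf 0x1050705080005) (.leaf 0x0)))) (.node 7288 (.node 7286 (.leaf 0x1c74001c71001c70001c6f001c6e001c6d) (.node 7287 (.leaf 0xc100f0f0c0005) (.leaf 0x0))) (.node 7289 (.leaf 0x0) (.node 7290 (.leaf 0x0) (.leaf 0x30005070004))))))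

def argWS_711 : Store := (.node 7270 argWS_709 argWS_710)

def argWS_712 : Store := (.node 7301 (.node 7296 (.node 7293 (.node 7292 (.leaf 0x0) (.leaf 0x100d0d0e0004)) (.node 7294 (.leaf 0xb0a0d0d0e0005) (.node 7295 (.leaf 0x1c7d) (.leaf 0xd110d0f0c0005)))) (.node 7298 (.node 7297 (.leaf 0x0) (.leaf 0x0)) (.node 7299 (.leaf 0x0) (.node 7300 (.leaf 0x110c0002) (.leaf 0xe110f0f0c0005))))) (.node 7306 (.node 7303 (.node 7302 (.leaf 0xd110e0003) (.leaf 0xf100b0e0004)) (.node 7304 (.leaf 0xe100c0f0c0005) (.node 7305 (.leaf 0xb0a0d0d0e0005) (.leaf 0x0)))) (.node 7308 (.node 7307 (.leaf 0x203050705080006) (.leaf 0x3010809080607090008)) (.node 7309 (.leaf 0x0) (.node 7310 (.leaf 0xa0f0002) (.leaf 0x0))))))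

def argWS_713 : Store := (.node 7321 (.node 7316 (.node 7313 (.node 7312 (.leaf 0x1c8e001c88001c87001c86001c85001c84) (.leaf 0xd100d0003)) (.node 7314 (.leaf 0x0) (.node 7315 (.leaf 0xc100f0003) (.leaf 0x0)))) (.node 7318 (.node 7317 (.leaf 0xa0001) (.leaf 0xc100b0f0f0c0006)) (.node 7319 (.leaf 0xa0c0002) (.node 7320 (.leaf 0xb0c0002) (.leaf 0xe0001))))) (.node 7326 (.node 7323 (.node 7322 (.leaf 0xd110f0c0004) (.leaf 0xe100f0c0004)) (.node 7324 (.leaf 0x1c9a001c99001c98001c97001c96001c95) (.node 7325 (.leaf 0xc100002) (.leaf 0x0)))) (.node 7329 (.node 7327 (.leaf 0x0) (.node 7328 (.leaf 0x1020905080005) (.leaf 0x20507060004))) (.node 7330 (.leaf 0x0) (.node 7331 (.leaf 0xb0a0f0c0004) (.leaf 0x0))))))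

def argWS_714 : Store := (.node 7311 argWS_712 argWS_713)

def argWS_715 : Store := (.node 7291 argWS_711 argWS_714)

def argWS_716 : Store := (.node 7250 argWS_708 argWS_715)

def argWS_717 : Store := (.node 7342 (.node 7337 (.node 7334 (.node 7333 (.leaf 0x0) (.leaf 0x0)) (.node 7335 (.leaf 0x0) (.node 7336 (.leaf 0x0) (.leaf 0x102060705080006)))) (.node 7339 (.node 7338 (.leaf 0x10001) (.leaf 0x0)) (.node 7340 (.leaf 0x0) (.node 7341 (.leaf 0x110f0d0e0004) (.leaf 0x108060003))))) (.node 7347 (.node 7344 (.node 7343 (.leaf 0x0) (.leaf 0x0)) (.node 7345 (.leaf 0x100b0e0003) (.node 7346 (.leaf 0x0) (.leaf 0x0)))) (.node 7349 (.node 7348 (.leaf 0x0) (.leaf 0x0)) (.node 7350 (.leaf 0xc0f0c0003) (.node 7351 (.leaf 0xf100b0f0f0c0006) (.leaf 0x0))))))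

def argWS_718 : Store := (.node 7362 (.node 7357 (.node 7354 (.node 7353 (.leaf 0x7010009080607090008) (.leaf 0x204060709080006)) (.node 7355 (.leaf 0x0) (.node 7356 (.leaf 0xb0d0d0e0004) (.leaf 0x0)))) (.node 7359 (.node 7358 (.leaf 0xf100b0f0d0e0006) (.leaf 0x110b0d0003)) (.node 7360 (.leaf 0xc100b0003) (.node 7361 (.leaf 0x30209080004) (.leaf 0x0))))) (.node 7367 (.node 7364 (.node 7363 (.leaf 0xf100e0003) (.leaf 0x1cc2001cc1001cbe001cbd001cbc001cb6)) (.node 7365 (.leaf 0xe110f0003) (.node 7366 (.leaf 0x0) (.leaf 0xe110002)))) (.node 7369 (.node 7368 (.leaf 0xb0a0f0f0c0005) (.leaf 0xd110c0003)) (.node 7370 (.leaf 0x100001) (.node 7371 (.leaf 0xd110d0003) (.leaf 0xc100b0f0f0c0006))))))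

def argWS_719 : Store := (.node 7352 argWS_717 argWS_718)

def argWS_720 : Store := (.node 7382 (.node 7377 (.node 7374 (.node 7373 (.leaf 0xa0c0002) (.leaf 0x1ccc001ccb001cca001cc9001cc8001cc7)) (.node 7375 (.leaf 0xc100f0d0e0005) (.node 7376 (.leaf 0x0) (.leaf 0x100d0002)))) (.node 7379 (.node 7378 (.leaf 0x0) (.leaf 0x0)) (.node 7380 (.leaf 0x0) (.node 7381 (.leaf 0x100c0f0c0004) (.leaf 0x0))))) (.node 7387 (.node 7384 (.node 7383 (.leaf 0x1020905080005) (.leaf 0x402090003)) (.node 7385 (.leaf 0x0) (.node 7386 (.leaf 0xc100b0003) (.leaf 0x0)))) (.node 7389 (.node 7388 (.leaf 0x30209080004) (.leaf 0x0)) (.node 7390 (.leaf 0x100d0e0003) (.node 7391 (.leaf 0xe110d0003) (.leaf 0xc100b0d0f0c0006))))))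

def argWS_721 : Store := (.node 7402 (.node 7397 (.node 7394 (.node 7393 (.leaf 0xc0001) (.leaf 0xa0f0f0c0004)) (.node 7395 (.leaf 0x1ce1001ce0001cdf001cde001cdd001cdc) (.node 7396 (.leaf 0xd100c0003) (.leaf 0x0)))) (.node 7399 (.node 7398 (.leaf 0xb0a0002) (.leaf 0x0)) (.node 7400 (.leaf 0x0) (.node 7401 (.leaf 0x0) (.leaf 0x5070002))))) (.node 7407 (.node 7404 (.node 7403 (.leaf 0x0) (.leaf 0x0)) (.node 7405 (.leaf 0xf100d0f0c0005) (.node 7406 (.leaf 0x10001) (.leaf 0x0)))) (.node 7410 (.node 7408 (.leaf 0x0) (.node 7409 (.leaf 0xd110002) (.leaf 0x0))) (.node 7411 (.leaf 0x8060002) (.node 7412 (.leaf 0x0) (.leaf 0x0))))))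

def argWS_722 : Store := (.node 7392 argWS_720 argWS_721)

def argWS_723 : Store := (.node 7372 argWS_719 argWS_722)

def argWS_724 : Store := (.node 7423 (.node 7418 (.node 7415 (.node 7414 (.leaf 0xb0a0002) (.leaf 0x0)) (.node 7416 (.leaf 0x0) (.node 7417 (.leaf 0x0) (.leaf 0x0)))) (.node 7420 (.node 7419 (.leaf 0x300060705080006) (.leaf 0x0)) (.node 7421 (.leaf 0x0) (.node 7422 (.leaf 0x0) (.leaf 0x0))))) (.node 7428 (.node 7425 (.node 7424 (.leaf 0x701000809080607090009) (.leaf 0x0)) (.node 7426 (.leaf 0x0) (.node 7427 (.leaf 0x0) (.leaf 0x0)))) (.node 7430 (.node 7429 (.leaf 0xe100c0f0c0005) (.leaf 0x70001)) (.node 7431 (.leaf 0x0) (.node 7432 (.leaf 0x0) (.leaf 0x100b0d0d0e0005))))))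

def argWS_725 : Store := (.node 7443 (.node 7438 (.node 7435 (.node 7434 (.leaf 0x0) (.leaf 0xc100b0c0f0c0006)) (.node 7436 (.leaf 0x10001) (.node 7437 (.leaf 0x0) (.leaf 0x0)))) (.node 7440 (.node 7439 (.leaf 0x0) (.leaf 0x0)) (.node 7441 (.leaf 0x0) (.node 7442 (.leaf 0x0) (.leaf 0x0))))) (.node 7448 (.node 7445 (.node 7444 (.leaf 0x0) (.leaf 0xb0a0c0f0c0005)) (.node 7446 (.leaf 0xe100c0003) (.node 7447 (.leaf 0x1d15) (.leaf 0x110b0f0f0c0005)))) (.node 7451 (.node 7449 (.leaf 0x0) (.node 7450 (.leaf 0x0) (.leaf 0x0))) (.node 7452 (.leaf 0x0) (.node 7453 (.leaf 0x0) (.leaf 0x0))))))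

def argWS_726 : Store := (.node 7433 argWS_724 argWS_725)

def argWS_727 : Store := (.node 7464 (.node 7459 (.node 7456 (.node 7455 (.leaf 0x0) (.leaf 0xe100f0d0e0005)) (.node 7457 (.leaf 0xe100e0003) (.node 7458 (.leaf 0x1d20) (.leaf 0xf100d0f0c0005)))) (.node 7461 (.node 7460 (.leaf 0x0) (.leaf 0xb0a0d0003)) (.node 7462 (.leaf 0xe110c0f0c0005) (.node 7463 (.leaf 0x0) (.leaf 0x4050705080005))))) (.node 7469 (.node 7466 (.node 7465 (.leaf 0x30201070607090007) (.leaf 0x0)) (.node 7467 (.leaf 0x100e0002) (.node 7468 (.leaf 0x0) (.leaf 0xb0f0d0e0004)))) (.node 7471 (.node 7470 (.leaf 0xe100c0003) (.leaf 0x0)) (.node 7472 (.leaf 0x1000507060607090008) (.node 7473 (.leaf 0x30507050004) (.leaf 0x0))))))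

def argWS_728 : Store := (.node 7484 (.node 7479 (.node 7476 (.node 7475 (.leaf 0xc100002) (.leaf 0x0)) (.node 7477 (.leaf 0xf100e0003) (.node 7478 (.leaf 0x1d34001d33001d2d001d2c001d2b001d25) (.leaf 0x100b0002)))) (.node 7481 (.node 7480 (.leaf 0x0) (.leaf 0x110d0e0003)) (.node 7482 (.leaf 0x0) (.node 7483 (.leaf 0x0) (.leaf 0x0))))) (.node 7489 (.node 7486 (.node 7485 (.leaf 0x0) (.leaf 0x0)) (.node 7487 (.leaf 0x0) (.node 7488 (.leaf 0x0) (.leaf 0x0)))) (.node 7492 (.node 7490 (.leaf 0x0) (.node 7491 (.leaf 0x0) (.leaf 0xa0f0002))) (.node 7493 (.leaf 0x100b0d0e0004) (.node 7494 (.leaf 0x1d44) (.leaf 0x100d0002))))))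

def argWS_729 : Store := (.node 7474 argWS_727 argWS_728)

def argWS_730 : Store := (.node 7454 argWS_726 argWS_729)

def argWS_731 : Store := (.node 7413 argWS_723 argWS_730)

def argWS_732 : Store := (.node 7332 argWS_716 argWS_731)

def argWS_733 : Store := (.node 7505 (.node 7500 (.node 7497 (.node 7496 (.leaf 0x0) (.leaf 0x0)) (.node 7498 (.leaf 0x0) (.node 7499 (.leaf 0x110f0d0e0004) (.leaf 0xf100f0d0e0005)))) (.node 7502 (.node 7501 (.leaf 0x0) (.leaf 0x3020108060705080008)) (.node 7503 (.leaf 0x10507060004) (.node 7504 (.leaf 0x0) (.leaf 0x110b0d0d0e0005))))) (.node 7510 (.node 7507 (.node 7506 (.leaf 0x0) (.leaf 0xb0a0f0d0e0005)) (.node 7508 (.leaf 0x110c0002) (.node 7509 (.leaf 0xf100b0f0f0c0006) (.leaf 0x110b0002)))) (.node 7512 (.node 7511 (.leaf 0x1d55001d54001d53001d52001d51001d4b) (.leaf 0x110c0002)) (.node 7513 (.leaf 0x0) (.node 7514 (.leaf 0x0) (.leaf 0xf100b0d0f0c0006))))))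

def argWS_734 : Store := (.node 7525 (.node 7520 (.node 7517 (.node 7516 (.leaf 0xb0d0002) (.leaf 0xa0d0d0e0004)) (.node 7518 (.leaf 0xc100002) (.node 7519 (.leaf 0xc100b0f0c0005) (.leaf 0xe100d0d0e0005)))) (.node 7522 (.node 7521 (.leaf 0xc0001) (.leaf 0x1d60001d5f001d5e001d5d001d5c001d5b)) (.node 7523 (.leaf 0xf0f0c0003) (.node 7524 (.leaf 0x0) (.leaf 0xf0001))))) (.node 7530 (.node 7527 (.node 7526 (.leaf 0x0) (.leaf 0x0)) (.node 7528 (.leaf 0x0) (.node 7529 (.leaf 0x0) (.leaf 0xe110e0003)))) (.node 7532 (.node 7531 (.leaf 0xe110f0c0004) (.leaf 0x1d6a)) (.node 7533 (.leaf 0xc100d0f0c0005) (.node 7534 (.leaf 0x0) (.leaf 0x0))))))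

def argWS_735 : Store := (.node 7515 argWS_733 argWS_734)

def argWS_736 : Store := (.node 7545 (.node 7540 (.node 7537 (.node 7536 (.leaf 0xf100b0f0c0005) (.leaf 0xf100b0e0004)) (.node 7538 (.leaf 0x1d70) (.node 7539 (.leaf 0xc100e0003) (.leaf 0x0)))) (.node 7542 (.node 7541 (.leaf 0x0) (.leaf 0x0)) (.node 7543 (.leaf 0x0) (.node 7544 (.leaf 0x0) (.leaf 0xf100f0003))))) (.node 7550 (.node 7547 (.node 7546 (.leaf 0xe110d0d0e0005) (.leaf 0x1d79)) (.node 7548 (.leaf 0xd0f0c0003) (.node 7549 (.leaf 0x0) (.leaf 0x0)))) (.node 7552 (.node 7551 (.leaf 0xc100b0c0004) (.leaf 0xd100c0f0c0005)) (.node 7553 (.leaf 0x1d7f) (.node 7554 (.leaf 0xc0001) (.leaf 0x0))))))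

def argWS_737 : Store := (.node 7565 (.node 7560 (.node 7557 (.node 7556 (.leaf 0x110001) (.leaf 0xb0a0c0003)) (.node 7558 (.leaf 0xc100b0f0004) (.node 7559 (.leaf 0xd100002) (.leaf 0x110d0d0e0004)))) (.node 7562 (.node 7561 (.leaf 0xf100b0e0004) (.leaf 0x110b0002)) (.node 7563 (.leaf 0x1d89001d88001d87001d86001d85001d84) (.node 7564 (.leaf 0x110b0d0003) (.leaf 0xd110f0f0c0005))))) (.node 7570 (.node 7567 (.node 7566 (.leaf 0xb0f0c0003) (.leaf 0x1d8d)) (.node 7568 (.leaf 0xe100d0003) (.node 7569 (.leaf 0x0) (.leaf 0x0)))) (.node 7573 (.node 7571 (.leaf 0x0) (.node 7572 (.leaf 0xb0a0f0c0004) (.leaf 0xc100e0003))) (.node 7574 (.leaf 0xf100b0c0f0c0006) (.node 7575 (.leaf 0xb0a0f0003) (.leaf 0xe100f0d0e0005))))))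

def argWS_738 : Store := (.node 7555 argWS_736 argWS_737)

def argWS_739 : Store := (.node 7535 argWS_735 argWS_738)

def argWS_740 : Store := (.node 7586 (.node 7581 (.node 7578 (.node 7577 (.leaf 0x9080002) (.leaf 0x0)) (.node 7579 (.leaf 0xc100f0003) (.node 7580 (.leaf 0xd100d0e0004) (.leaf 0x1d9b001d9a001d99001d96001d95001d94)))) (.node 7583 (.node 7582 (.leaf 0xb0e0002) (.leaf 0x110c0f0c0004)) (.node 7584 (.leaf 0xf100002) (.node 7585 (.leaf 0x0) (.leaf 0x7020105080005))))) (.node 7591 (.node 7588 (.node 7587 (.leaf 0x701070705080006) (.leaf 0x0)) (.node 7589 (.leaf 0xa0c0002) (.node 7590 (.leaf 0x0) (.leaf 0xc100b0f0d0e0006)))) (.node 7593 (.node 7592 (.leaf 0xb0a0c0f0c0005) (.leaf 0xd100d0f0c0005)) (.node 7594 (.leaf 0xf0d0e0003) (.node 7595 (.leaf 0x1da9001da8001da7001da6001da5001d9f) (.leaf 0xb0c0002))))))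

def argWS_741 : Store := (.node 7606 (.node 7601 (.node 7598 (.node 7597 (.leaf 0x0) (.leaf 0x0)) (.node 7599 (.leaf 0x0) (.node 7600 (.leaf 0x0) (.leaf 0x60002)))) (.node 7603 (.node 7602 (.leaf 0x0) (.leaf 0x0)) (.node 7604 (.leaf 0xf100d0f0c0005) (.node 7605 (.leaf 0x0) (.leaf 0x10001))))) (.node 7611 (.node 7608 (.node 7607 (.leaf 0x0) (.leaf 0x0)) (.node 7609 (.leaf 0xd110002) (.node 7610 (.leaf 0x0) (.leaf 0x0)))) (.node 7614 (.node 7612 (.leaf 0x0) (.node 7613 (.leaf 0x0) (.leaf 0x0))) (.node 7615 (.leaf 0x0) (.node 7616 (.leaf 0x110d0e0003) (.leaf 0x10001))))))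

def argWS_742 : Store := (.node 7596 argWS_740 argWS_741)

def argWS_743 : Store := (.node 7627 (.node 7622 (.node 7619 (.node 7618 (.leaf 0x10001) (.leaf 0x0)) (.node 7620 (.leaf 0x0) (.node 7621 (.leaf 0x0) (.leaf 0xd0e0002)))) (.node 7624 (.node 7623 (.leaf 0x10001) (.leaf 0x10001)) (.node 7625 (.leaf 0x0) (.node 7626 (.leaf 0x0) (.leaf 0x0))))) (.node 7632 (.node 7629 (.node 7628 (.leaf 0x100b0d0f0c0005) (.leaf 0x70001)) (.node 7630 (.leaf 0x0) (.node 7631 (.leaf 0x0) (.leaf 0xb0a0f0d0e0005)))) (.node 7634 (.node 7633 (.leaf 0xb0a0e0003) (.leaf 0xb0a0d0e0004)) (.node 7635 (.leaf 0x1dd1) (.node 7636 (.leaf 0xa0001) (.leaf 0x0))))))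

def argWS_744 : Store := (.node 7647 (.node 7642 (.node 7639 (.node 7638 (.leaf 0x110f0002) (.leaf 0xe110d0003)) (.node 7640 (.leaf 0x100f0f0c0004) (.node 7641 (.leaf 0x0) (.leaf 0x1000507060607090008)))) (.node 7644 (.node 7643 (.leaf 0x6070607090005) (.leaf 0x0)) (.node 7645 (.leaf 0xa0f0f0c0004) (.node 7646 (.leaf 0x0) (.leaf 0x100001))))) (.node 7652 (.node 7649 (.node 7648 (.leaf 0xd110d0003) (.leaf 0xe110f0003)) (.node 7650 (.leaf 0xd100002) (.node 7651 (.leaf 0x1de1001de0001ddf001dde001ddd001dd7) (.leaf 0xf100f0f0c0005)))) (.node 7655 (.node 7653 (.leaf 0x0) (.node 7654 (.leaf 0xd100e0003) (.leaf 0x0))) (.node 7656 (.leaf 0x0) (.node 7657 (.leaf 0x0) (.leaf 0x110d0f0c0004))))))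

def argWS_745 : Store := (.node 7637 argWS_743 argWS_744)

def argWS_746 : Store := (.node 7617 argWS_742 argWS_745)

def argWS_747 : Store := (.node 7576 argWS_739 argWS_746)

def argWS_748 : Store := (.node 7668 (.node 7663 (.node 7660 (.node 7659 (.leaf 0xe110e0003) (.leaf 0xd110f0003)) (.node 7661 (.leaf 0xc100d0e0004) (.node 7662 (.leaf 0x100c0f0c0004) (.leaf 0x0)))) (.node 7665 (.node 7664 (.leaf 0x1000507060607090008) (.leaf 0x20406070905080007)) (.node 7666 (.leaf 0x0) (.node 7667 (.leaf 0xb0f0002) (.leaf 0x0))))) (.node 7673 (.node 7670 (.node 7669 (.leaf 0xb0d0002) (.leaf 0x1df4001df3001ded001dec001deb001dea)) (.node 7671 (.leaf 0xf100b0f0f0c0006) (.node 7672 (.leaf 0x0) (.leaf 0x0)))) (.node 7675 (.node 7674 (.leaf 0x0) (.leaf 0x0)) (.node 7676 (.leaf 0x10307090004) (.node 7677 (.leaf 0x0) (.leaf 0x0))))))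

def argWS_749 : Store := (.node 7688 (.node 7683 (.node 7680 (.node 7679 (.leaf 0x100b0f0f0c0005) (.leaf 0x0)) (.node 7681 (.leaf 0x0) (.node 7682 (.leaf 0x0) (.leaf 0x100b0d0d0e0005)))) (.node 7685 (.node 7684 (.leaf 0xb0a0f0003) (.leaf 0x2030607090005)) (.node 7686 (.leaf 0x0) (.node 7687 (.leaf 0x110d0e0003) (.leaf 0xf100f0c0004))))) (.node 7693 (.node 7690 (.node 7689 (.leaf 0x100f0002) (.leaf 0x110d0e0003)) (.node 7691 (.leaf 0xc100f0d0e0005) (.node 7692 (.leaf 0x1e0a001e09001e08001e07001e06001e05) (.leaf 0xf100b0003)))) (.node 7695 (.node 7694 (.leaf 0x0) (.leaf 0x0)) (.node 7696 (.leaf 0x0) (.node 7697 (.leaf 0x30007060705080007) (.leaf 0x0))))))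

def argWS_750 : Store := (.node 7678 argWS_748 argWS_749)

def argWS_751 : Store := (.node 7708 (.node 7703 (.node 7700 (.node 7699 (.leaf 0x0) (.leaf 0xa0f0d0e0004)) (.node 7701 (.leaf 0x10001) (.node 7702 (.leaf 0x0) (.leaf 0x0)))) (.node 7705 (.node 7704 (.leaf 0xf100d0e0004) (.leaf 0x8060002)) (.node 7706 (.leaf 0x0) (.node 7707 (.leaf 0x0) (.leaf 0xa0e0002))))) (.node 7713 (.node 7710 (.node 7709 (.leaf 0x110b0d0e0004) (.leaf 0xc100c0f0c0005)) (.node 7711 (.leaf 0xb0a0d0f0c0005) (.node 7712 (.leaf 0xd100e0003) (.leaf 0x2040607090005)))) (.node 7715 (.node 7714 (.leaf 0x0) (.leaf 0x0)) (.node 7716 (.leaf 0x7010009080607090008) (.node 7717 (.leaf 0x80001) (.leaf 0x0))))))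

def argWS_752 : Store := (.node 7728 (.node 7723 (.node 7720 (.node 7719 (.leaf 0xf100d0e0004) (.leaf 0x0)) (.node 7721 (.leaf 0x0) (.node 7722 (.leaf 0x1000507060607090008) (.leaf 0x1040607050005)))) (.node 7725 (.node 7724 (.leaf 0x0) (.leaf 0xc100b0c0004)) (.node 7726 (.leaf 0x0) (.node 7727 (.leaf 0xc100d0003) (.leaf 0x1e2e001e2d001e27001e21001e1e001e1d))))) (.node 7733 (.node 7730 (.node 7729 (.leaf 0xf100e0003) (.leaf 0x0)) (.node 7731 (.leaf 0xb0a0d0e0004) (.node 7732 (.leaf 0x0) (.leaf 0x0)))) (.node 7736 (.node 7734 (.leaf 0x0) (.node 7735 (.leaf 0x0) (.leaf 0x0))) (.node 7737 (.leaf 0x0) (.node 7738 (.leaf 0x0) (.leaf 0x0))))))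

def argWS_753 : Store := (.node 7718 argWS_751 argWS_752)

def argWS_754 : Store := (.node 7698 argWS_750 argWS_753)

def argWS_755 : Store := (.node 7749 (.node 7744 (.node 7741 (.node 7740 (.leaf 0x0) (.leaf 0x0)) (.node 7742 (.leaf 0xf100d0003) (.node 7743 (.leaf 0xf100c0f0c0005) (.leaf 0x1e3e)))) (.node 7746 (.node 7745 (.leaf 0xe110c0f0c0005) (.leaf 0x0)) (.node 7747 (.leaf 0xe110d0003) (.node 7748 (.leaf 0xe100f0f0c0005) (.leaf 0xb0a0c0f0c0005))))) (.node 7754 (.node 7751 (.node 7750 (.leaf 0x110e0002) (.leaf 0x100b0d0f0c0005)) (.node 7752 (.leaf 0xa0d0002) (.node 7753 (.leaf 0xa0c0f0c0004) (.leaf 0xc100f0d0e0005)))) (.node 7756 (.node 7755 (.leaf 0x1e49001e48001e47001e46001e45001e44) (.leaf 0xf100b0003)) (.node 7757 (.leaf 0x302010905080006) (.node 7758 (.leaf 0x0) (.leaf 0x0))))))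

def argWS_756 : Store := (.node 7769 (.node 7764 (.node 7761 (.node 7760 (.leaf 0x0) (.leaf 0x0)) (.node 7762 (.leaf 0x0) (.node 7763 (.leaf 0x5070905080005) (.leaf 0x108060003)))) (.node 7766 (.node 7765 (.leaf 0x0) (.leaf 0x0)) (.node 7767 (.leaf 0xb0f0f0c0004) (.node 7768 (.leaf 0x8060002) (.leaf 0x0))))) (.node 7774 (.node 7771 (.node 7770 (.leaf 0x0) (.leaf 0x100b0f0f0c0005)) (.node 7772 (.leaf 0x0) (.node 7773 (.leaf 0x0) (.leaf 0xd110f0c0004)))) (.node 7777 (.node 7775 (.leaf 0x10001) (.node 7776 (.leaf 0x0) (.leaf 0x0))) (.node 7778 (.leaf 0xb0a0d0f0c0005) (.node 7779 (.leaf 0xf100b0f0d0e0006) (.leaf 0xd100d0f0c0005))))))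

def argWS_757 : Store := (.node 7759 argWS_755 argWS_756)

def argWS_758 : Store := (.node 7790 (.node 7785 (.node 7782 (.node 7781 (.leaf 0xb0f0f0c0004) (.leaf 0xe110d0d0e0005)) (.node 7783 (.leaf 0xb0a0d0003) (.node 7784 (.leaf 0x100f0c0003) (.leaf 0x408060705080006)))) (.node 7787 (.node 7786 (.leaf 0x0) (.leaf 0xf0001)) (.node 7788 (.leaf 0x1e6a001e69001e66001e65001e64001e63) (.node 7789 (.leaf 0x100b0f0003) (.leaf 0x0))))) (.node 7795 (.node 7792 (.node 7791 (.leaf 0x0) (.leaf 0x0)) (.node 7793 (.leaf 0x3010607050005) (.node 7794 (.leaf 0x0) (.leaf 0x0)))) (.node 7797 (.node 7796 (.leaf 0x0) (.leaf 0x0)) (.node 7798 (.leaf 0x0) (.node 7799 (.leaf 0xd110d0e0004) (.leaf 0xd110f0d0e0005))))))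

def argWS_759 : Store := (.node 7810 (.node 7805 (.node 7802 (.node 7801 (.leaf 0x0) (.leaf 0x70100050707090007)) (.node 7803 (.leaf 0x3020607050705080008) (.node 7804 (.leaf 0x0) (.leaf 0xb0001)))) (.node 7807 (.node 7806 (.leaf 0x0) (.leaf 0x0)) (.node 7808 (.leaf 0x3020108060705080008) (.node 7809 (.leaf 0x200090003) (.leaf 0x0))))) (.node 7815 (.node 7812 (.node 7811 (.leaf 0xc100c0003) (.leaf 0x0)) (.node 7813 (.leaf 0xf100b0d0d0e0006) (.node 7814 (.leaf 0x100f0f0c0004) (.leaf 0xd0001)))) (.node 7818 (.node 7816 (.leaf 0x1e86001e85001e84001e83001e7d001e77) (.node 7817 (.leaf 0xd0f0c0003) (.leaf 0x0))) (.node 7819 (.leaf 0xe100002) (.node 7820 (.leaf 0x0) (.leaf 0x0))))))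

def argWS_760 : Store := (.node 7800 argWS_758 argWS_759)

def argWS_761 : Store := (.node 7780 argWS_757 argWS_760)

def argWS_762 : Store := (.node 7739 argWS_754 argWS_761)

def argWS_763 : Store := (.node 7658 argWS_747 argWS_762)

def argWS_764 : Store := (.node 7495 argWS_732 argWS_763)

def argWS_765 : Store := (.node 7169 argWS_701 argWS_764)

def argWS_766 : Store := (.node 6517 argWS_638 argWS_765)

def argWS_767 : Store := (.node 7831 (.node 7826 (.node 7823 (.node 7822 (.leaf 0x0) (.leaf 0x0)) (.node 7824 (.leaf 0xd110d0e0004) (.node 7825 (.leaf 0xc100f0f0c0005) (.leaf 0xb0c0002)))) (.node 7828 (.node 7827 (.leaf 0xf100b0d0f0c0006) (.leaf 0xc100c0f0c0005)) (.node 7829 (.leaf 0xe100c0003) (.node 7830 (.leaf 0xf100b0d0e0005) (.leaf 0x1e95001e94001e93001e92001e91001e90))))) (.node 7836 (.node 7833 (.node 7832 (.leaf 0xd110e0003) (.leaf 0x0)) (.node 7834 (.leaf 0x0) (.node 7835 (.leaf 0x0) (.leaf 0x0)))) (.node 7838 (.node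 7837 (.leaf 0x40007090004) (.leaf 0x10001)) (.node 7839 (.leaf 0x0) (.node 7840 (.leaf 0x0) (.leaf 0xf100b0003))))))

def argWS_768 : Store := (.node 7851 (.node 7846 (.node 7843 (.node 7842 (.leaf 0x0) (.leaf 0x0)) (.node 7844 (.leaf 0xf100f0003) (.node 7845 (.leaf 0x110c0f0c0004) (.leaf 0xd100f0d0e0005)))) (.node 7848 (.node 7847 (.leaf 0xc100b0f0d0e0006) (.leaf 0xf100b0003)) (.node 7849 (.leaf 0x100b0c0003) (.node 7850 (.leaf 0xd110d0003) (.leaf 0x1ea9001ea8001ea7001ea6001ea5001ea4))))) (.node 7856 (.node 7853 (.node 7852 (.leaf 0x0) (.leaf 0x70905080004)) (.node 7854 (.leaf 0x3040108050705080008) (.node 7855 (.leaf 0x0) (.leaf 0x0)))) (.node 7858 (.node 7857 (.leaf 0x0) (.leaf 0x110f0c0003)) (.node 7859 (.leaf 0x0) (.node 7860 (.leaf 0xd110d0e0004) (.leaf 0xa0c0f0c0004))))))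

def argWS_769 : Store := (.node 7841 argWS_767 argWS_768)

def argWS_770 : Store := (.node 7871 (.node 7866 (.node 7863 (.node 7862 (.leaf 0xe110c0003) (.leaf 0x1eb5)) (.node 7864 (.leaf 0x100f0f0c0004) (.node 7865 (.leaf 0x0) (.leaf 0x0)))) (.node 7868 (.node 7867 (.leaf 0x0) (.leaf 0x0)) (.node 7869 (.leaf 0x0) (.node 7870 (.leaf 0x100b0f0d0e0005) (.leaf 0x110b0d0e0004))))) (.node 7876 (.node 7873 (.node 7872 (.leaf 0xf100d0d0e0005) (.leaf 0x110e0002)) (.node 7874 (.leaf 0x100b0d0d0e0005) (.node 7875 (.leaf 0x4010905080005) (.leaf 0x0)))) (.node 7878 (.node 7877 (.leaf 0x100001) (.leaf 0xd110d0003)) (.node 7879 (.leaf 0x1ec5001ec4001ec3001ec0001ebf001ebe) (.node 7880 (.leaf 0x100b0c0003) (.leaf 0x0))))))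

def argWS_771 : Store := (.node 7891 (.node 7886 (.node 7883 (.node 7882 (.leaf 0xd110f0003) (.leaf 0x0)) (.node 7884 (.leaf 0x0) (.node 7885 (.leaf 0x0) (.leaf 0x0)))) (.node 7888 (.node 7887 (.leaf 0x0) (.leaf 0x0)) (.node 7889 (.leaf 0x0) (.node 7890 (.leaf 0x100d0e0003) (.leaf 0xc100002))))) (.node 7896 (.node 7893 (.node 7892 (.leaf 0x1ed2) (.leaf 0xb0e0002)) (.node 7894 (.leaf 0xb0f0f0c0004) (.node 7895 (.leaf 0xf100b0e0004) (.leaf 0xd0001)))) (.node 7899 (.node 7897 (.leaf 0xc0f0c0003) (.node 7898 (.leaf 0xb0a0c0003) (.leaf 0x110b0f0f0c0005))) (.node 7900 (.leaf 0xf100b0d0f0c0006) (.node 7901 (.leaf 0x1edb001eda001ed9001ed8001ed7001ed6) (.leaf 0x110b0002))))))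

def argWS_772 : Store := (.node 7881 argWS_770 argWS_771)

def argWS_773 : Store := (.node 7861 argWS_769 argWS_772)

def argWS_774 : Store := (.node 7912 (.node 7907 (.node 7904 (.node 7903 (.leaf 0xe100f0c0004) (.leaf 0xe110f0d0e0005)) (.node 7905 (.leaf 0x1edf) (.node 7906 (.leaf 0xf100b0f0004) (.leaf 0x0)))) (.node 7909 (.node 7908 (.leaf 0x0) (.leaf 0x0)) (.node 7910 (.leaf 0x0) (.node 7911 (.leaf 0xd100d0e0004) (.leaf 0xd110c0f0c0005))))) (.node 7917 (.node 7914 (.node 7913 (.leaf 0x100f0d0e0004) (.leaf 0xe110f0c0004)) (.node 7915 (.leaf 0x100b0d0e0004) (.node 7916 (.leaf 0xc100c0f0c0005) (.leaf 0xc100b0c0004)))) (.node 7919 (.node 7918 (.leaf 0x1eec001eeb001eea001ee9001ee8001ee7) (.leaf 0xc100d0003)) (.node 7920 (.leaf 0x0) (.node 7921 (.leaf 0x0) (.leaf 0xf100b0d0004))))))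

def argWS_775 : Store := (.node 7932 (.node 7927 (.node 7924 (.node 7923 (.leaf 0xe100002) (.leaf 0x100001)) (.node 7925 (.leaf 0xd100d0d0e0005) (.node 7926 (.leaf 0xc100002) (.leaf 0xc100d0e0004)))) (.node 7929 (.node 7928 (.leaf 0xb0a0f0d0e0005) (.leaf 0x1ef7001ef6001ef5001ef4001ef3001ef2)) (.node 7930 (.leaf 0xd110002) (.node 7931 (.leaf 0x0) (.leaf 0xf100b0d0d0e0006))))) (.node 7937 (.node 7934 (.node 7933 (.leaf 0x0) (.leaf 0x0)) (.node 7935 (.leaf 0x0) (.node 7936 (.leaf 0x0) (.leaf 0x0)))) (.node 7939 (.node 7938 (.leaf 0x0) (.leaf 0x0)) (.node 7940 (.leaf 0xb0f0c0003) (.node 7941 (.leaf 0xe100d0d0e0005) (.leaf 0x100d0d0e0004))))))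

def argWS_776 : Store := (.node 7922 argWS_774 argWS_775)

def argWS_777 : Store := (.node 7952 (.node 7947 (.node 7944 (.node 7943 (.leaf 0x110001) (.leaf 0x100b0d0d0e0005)) (.node 7945 (.leaf 0x100b0c0f0c0005) (.node 7946 (.leaf 0xe110d0f0c0005) (.leaf 0x1f09001f08001f07001f06001f05001f04)))) (.node 7949 (.node 7948 (.leaf 0xf100002) (.leaf 0x0)) (.node 7950 (.leaf 0x0) (.node 7951 (.leaf 0x40006070004) (.leaf 0xe100c0003))))) (.node 7957 (.node 7954 (.node 7953 (.leaf 0xc100002) (.leaf 0xf100c0f0c0005)) (.node 7955 (.leaf 0x110b0d0003) (.node 7956 (.leaf 0x100b0c0f0c0005) (.leaf 0x110b0f0003)))) (.node 7959 (.node 7958 (.leaf 0xf100b0d0f0c0006) (.leaf 0x1f15001f14001f13001f12001f11001f10)) (.node 7960 (.leaf 0x100001) (.node 7961 (.leaf 0x0) (.leaf 0xd100f0f0c0005))))))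

def argWS_778 : Store := (.node 7972 (.node 7967 (.node 7964 (.node 7963 (.leaf 0x0) (.leaf 0x0)) (.node 7965 (.leaf 0x0) (.node 7966 (.leaf 0x0) (.leaf 0x0)))) (.node 7969 (.node 7968 (.leaf 0x0) (.leaf 0x0)) (.node 7970 (.leaf 0x0) (.node 7971 (.leaf 0xd0e0002) (.leaf 0xb0c0002))))) (.node 7977 (.node 7974 (.node 7973 (.leaf 0xf0f0c0003) (.leaf 0x2030107090005)) (.node 7975 (.leaf 0x0) (.node 7976 (.leaf 0xc100d0e0004) (.leaf 0xc100b0f0004)))) (.node 7980 (.node 7978 (.leaf 0x0) (.node 7979 (.leaf 0x301060607090006) (.leaf 0x3040507050705080008))) (.node 7981 (.leaf 0x0) (.node 7982 (.leaf 0xa0f0002) (.leaf 0x0))))))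

def argWS_779 : Store := (.node 7962 argWS_777 argWS_778)

def argWS_780 : Store := (.node 7942 argWS_776 argWS_779)

def argWS_781 : Store := (.node 7902 argWS_773 argWS_780)

def argWS_782 : Store := (.node 7993 (.node 7988 (.node 7985 (.node 7984 (.leaf 0xc100c0003) (.leaf 0x1f2f001f2e001f28001f27001f26001f23)) (.node 7986 (.leaf 0xf100b0c0f0c0006) (.node 7987 (.leaf 0x0) (.leaf 0xc100b0c0004)))) (.node 7990 (.node 7989 (.leaf 0x0) (.leaf 0x0)) (.node 7991 (.leaf 0x0) (.node 7992 (.leaf 0x5070002) (.leaf 0x0))))) (.node 7998 (.node 7995 (.node 7994 (.leaf 0x0) (.leaf 0xc100e0003)) (.node 7996 (.leaf 0x70001) (.node 7997 (.leaf 0x0) (.leaf 0x0)))) (.node 8000 (.node 7999 (.leaf 0x110f0c0003) (.leaf 0x0)) (.node 8001 (.leaf 0x8060002) (.node 8002 (.leaf 0x0) (.leaf 0x0))))))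

def argWS_783 : Store := (.node 8013 (.node 8008 (.node 8005 (.node 8004 (.leaf 0x100b0d0e0004) (.leaf 0x0)) (.node 8006 (.leaf 0x0) (.node 8007 (.leaf 0x0) (.leaf 0x0)))) (.node 8010 (.node 8009 (.leaf 0x3040507050705080008) (.leaf 0x0)) (.node 8011 (.leaf 0x10306070607090007) (.node 8012 (.leaf 0x0) (.leaf 0x0))))) (.node 8018 (.node 8015 (.node 8014 (.leaf 0xb0a0d0e0004) (.leaf 0x0)) (.node 8016 (.leaf 0x0) (.node 8017 (.leaf 0xe100d0e0004) (.leaf 0x0)))) (.node 8020 (.node 8019 (.leaf 0x0) (.leaf 0x0)) (.node 8021 (.leaf 0x0) (.node 8022 (.leaf 0x0) (.leaf 0x0))))))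

def argWS_784 : Store := (.node 8003 argWS_782 argWS_783)

def argWS_785 : Store := (.node 8033 (.node 8028 (.node 8025 (.node 8024 (.leaf 0x0) (.leaf 0xf100e0003)) (.node 8026 (.leaf 0xf100d0003) (.node 8027 (.leaf 0x1f59) (.leaf 0xc100b0f0d0e0006)))) (.node 8030 (.node 8029 (.leaf 0x0) (.leaf 0x2010905080005)) (.node 8031 (.leaf 0x200080905080006) (.node 8032 (.leaf 0x0) (.leaf 0xc100d0003))))) (.node 8038 (.node 8035 (.node 8034 (.leaf 0x0) (.leaf 0x203060607090006)) (.node 8036 (.leaf 0x0) (.node 8037 (.leaf 0x110d0e0003) (.leaf 0xc100d0e0004)))) (.node 8040 (.node 8039 (.leaf 0xf100b0d0e0005) (.leaf 0xc100b0e0004)) (.node 8041 (.leaf 0x0) (.node 8042 (.leaf 0x1000507060607090008) (.leaf 0x1000507050005))))))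

def argWS_786 : Store := (.node 8053 (.node 8048 (.node 8045 (.node 8044 (.leaf 0x0) (.leaf 0xc0001)) (.node 8046 (.leaf 0x0) (.node 8047 (.leaf 0xa0f0f0c0004) (.leaf 0x1f6e001f6d001f67001f66001f65001f64)))) (.node 8050 (.node 8049 (.leaf 0xd100c0003) (.leaf 0x0)) (.node 8051 (.leaf 0xe100f0d0e0005) (.node 8052 (.leaf 0x0) (.leaf 0x0))))) (.node 8058 (.node 8055 (.node 8054 (.leaf 0x0) (.leaf 0x5070002)) (.node 8056 (.leaf 0x0) (.node 8057 (.leaf 0x0) (.leaf 0x110d0d0e0004)))) (.node 8061 (.node 8059 (.leaf 0x0) (.node 8060 (.leaf 0x10001) (.leaf 0x0))) (.node 8062 (.leaf 0x0) (.node 8063 (.leaf 0xd110d0e0004) (.leaf 0x0))))))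

def argWS_787 : Store := (.node 8043 argWS_785 argWS_786)

def argWS_788 : Store := (.node 8023 argWS_784 argWS_787)

def argWS_789 : Store := (.node 8074 (.node 8069 (.node 8066 (.node 8065 (.leaf 0x1080002) (.leaf 0x0)) (.node 8067 (.leaf 0x0) (.node 8068 (.leaf 0xf0c0002) (.leaf 0x0)))) (.node 8071 (.node 8070 (.leaf 0x0) (.leaf 0x0)) (.node 8072 (.leaf 0x110d0d0e0004) (.node 8073 (.leaf 0xf100e0003) (.leaf 0x8050002))))) (.node 8079 (.node 8076 (.node 8075 (.leaf 0x0) (.leaf 0x0)) (.node 8077 (.leaf 0xe100002) (.node 8078 (.leaf 0x108050003) (.leaf 0x0)))) (.node 8081 (.node 8080 (.leaf 0x0) (.leaf 0xe110002)) (.node 8082 (.leaf 0x0) (.node 8083 (.leaf 0x10001) (.leaf 0x0))))))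

def argWS_790 : Store := (.node 8094 (.node 8089 (.node 8086 (.node 8085 (.leaf 0xb0c0002) (.leaf 0xa0d0f0c0004)) (.node 8087 (.leaf 0xd100e0003) (.node 8088 (.leaf 0xa0001) (.leaf 0xf0d0e0003)))) (.node 8091 (.node 8090 (.leaf 0x110d0d0e0004) (.leaf 0x100f0c0003)) (.node 8092 (.leaf 0x1f9a001f99001f98001f97001f96001f95) (.node 8093 (.leaf 0xa0f0002) (.leaf 0x0))))) (.node 8099 (.node 8096 (.node 8095 (.leaf 0x0) (.leaf 0x0)) (.node 8097 (.leaf 0x0) (.node 8098 (.leaf 0x1030705080005) (.leaf 0x0)))) (.node 8102 (.node 8100 (.leaf 0x0) (.node 8101 (.leaf 0x0) (.leaf 0x110b0f0d0e0005))) (.node 8103 (.leaf 0xc100f0003) (.node 8104 (.leaf 0xd100002) (.leaf 0x100d0d0e0004))))))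

def argWS_791 : Store := (.node 8084 argWS_789 argWS_790)

def argWS_792 : Store := (.node 8115 (.node 8110 (.node 8107 (.node 8106 (.leaf 0x110d0d0e0004) (.leaf 0xb0001)) (.node 8108 (.leaf 0xf0001) (.node 8109 (.leaf 0x1fab001faa001fa9001fa8001fa7001fa6) (.leaf 0xb0c0002)))) (.node 8112 (.node 8111 (.leaf 0x0) (.leaf 0x0)) (.node 8113 (.leaf 0x0) (.node 8114 (.leaf 0x0) (.leaf 0x100d0f0c0004))))) (.node 8120 (.node 8117 (.node 8116 (.leaf 0xf100b0c0f0c0006) (.leaf 0x1fb3)) (.node 8118 (.leaf 0xa0f0c0003) (.node 8119 (.leaf 0x0) (.leaf 0x0)))) (.node 8122 (.node 8121 (.leaf 0x110b0d0e0004) (.leaf 0xc100c0f0c0005)) (.node 8123 (.leaf 0xb0a0d0f0c0005) (.node 8124 (.leaf 0xd100e0003) (.leaf 0xf0001))))))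

def argWS_793 : Store := (.node 8135 (.node 8130 (.node 8127 (.node 8126 (.leaf 0xb0a0d0003) (.leaf 0x1fbd001fbc000528001fbb001fba001fb9)) (.node 8128 (.leaf 0xc100002) (.node 8129 (.leaf 0x0) (.leaf 0x0)))) (.node 8132 (.node 8131 (.leaf 0xf100b0f0004) (.leaf 0x100f0d0e0004)) (.node 8133 (.leaf 0x110b0f0d0e0005) (.node 8134 (.leaf 0xc100f0c0004) (.leaf 0xd100d0d0e0005))))) (.node 8140 (.node 8137 (.node 8136 (.leaf 0xf100f0f0c0005) (.leaf 0x100b0002)) (.node 8138 (.leaf 0x1fc8001fc7001fc6001fc5001fc4001fc3) (.node 8139 (.leaf 0xc100c0003) (.leaf 0xa0e0002)))) (.node 8143 (.node 8141 (.leaf 0xc100d0f0c0005) (.node 8142 (.leaf 0x1fcc) (.leaf 0x100f0002))) (.node 8144 (.leaf 0xd110d0003) (.node 8145 (.leaf 0xd110e0003) (.leaf 0x1fd0))))))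

def argWS_794 : Store := (.node 8125 argWS_792 argWS_793)

def argWS_795 : Store := (.node 8105 argWS_791 argWS_794)

def argWS_796 : Store := (.node 8064 argWS_788 argWS_795)

def argWS_797 : Store := (.node 7983 argWS_781 argWS_796)

def argWS_798 : Store := (.node 8156 (.node 8151 (.node 8148 (.node 8147 (.leaf 0xc100b0d0e0005) (.leaf 0x0)) (.node 8149 (.leaf 0xb0f0002) (.node 8150 (.leaf 0x100d0e0003) (.leaf 0x1fd5)))) (.node 8153 (.node 8152 (.leaf 0x110d0002) (.leaf 0x0)) (.node 8154 (.leaf 0x0) (.node 8155 (.leaf 0x0) (.leaf 0x0))))) (.node 8161 (.node 8158 (.node 8157 (.leaf 0x0) (.leaf 0x0)) (.node 8159 (.leaf 0x0) (.node 8160 (.leaf 0x0) (.leaf 0x0)))) (.node 8163 (.node 8162 (.leaf 0x0) (.leaf 0x100b0e0003)) (.node 8164 (.leaf 0xd0001) (.node 8165 (.leaf 0xa0f0d0e0004) (.leaf 0x110f0f0c0004))))))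

def argWS_799 : Store := (.node 8176 (.node 8171 (.node 8168 (.node 8167 (.leaf 0xc100b0c0004) (.leaf 0xf100e0003)) (.node 8169 (.leaf 0xc100b0d0f0c0006) (.node 8170 (.leaf 0x1fe8001fe7001fe6001fe5001fe4001fe3) (.leaf 0xd0001)))) (.node 8173 (.node 8172 (.leaf 0x0) (.leaf 0xb0a0002)) (.node 8174 (.leaf 0x0) (.node 8175 (.leaf 0xd110002) (.leaf 0x0))))) (.node 8181 (.node 8178 (.node 8177 (.leaf 0x301060607090006) (.leaf 0x4000507060607090008)) (.node 8179 (.leaf 0x0) (.node 8180 (.leaf 0xd110d0003) (.leaf 0x0)))) (.node 8183 (.node 8182 (.leaf 0xf100b0e0004) (.leaf 0xe110f0003)) (.node 8184 (.leaf 0x0) (.node 8185 (.leaf 0x2010905080005) (.leaf 0x30007060004))))))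

def argWS_800 : Store := (.node 8166 argWS_798 argWS_799)

def argWS_801 : Store := (.node 8196 (.node 8191 (.node 8188 (.node 8187 (.leaf 0x0) (.leaf 0xb0a0d0f0c0005)) (.node 8189 (.leaf 0x0) (.node 8190 (.leaf 0x30109080004) (.leaf 0x0)))) (.node 8193 (.node 8192 (.leaf 0xc100b0d0e0005) (.leaf 0x110e0002)) (.node 8194 (.leaf 0x2000001fff001ffe001ff6001ff5001ff4) (.node 8195 (.leaf 0xe100f0c0004) (.leaf 0x0))))) (.node 8201 (.node 8198 (.node 8197 (.leaf 0xe100d0f0c0005) (.leaf 0x110001)) (.node 8199 (.leaf 0x2005) (.node 8200 (.leaf 0xa0f0f0c0004) (.leaf 0x0)))) (.node 8203 (.node 8202 (.leaf 0x0) (.leaf 0x0)) (.node 8204 (.leaf 0x0) (.node 8205 (.leaf 0x0) (.leaf 0x110b0d0e0004))))))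

def argWS_802 : Store := (.node 8216 (.node 8211 (.node 8208 (.node 8207 (.leaf 0xc100b0003) (.leaf 0x200e)) (.node 8209 (.leaf 0xb0a0e0003) (.node 8210 (.leaf 0x0) (.leaf 0x60607090004)))) (.node 8213 (.node 8212 (.leaf 0x100070705080006) (.leaf 0x0)) (.node 8214 (.leaf 0xe100d0003) (.node 8215 (.leaf 0x0) (.leaf 0x110001))))) (.node 8221 (.node 8218 (.node 8217 (.leaf 0x0) (.leaf 0x1000507060607090008)) (.node 8219 (.leaf 0x40107060607090007) (.node 8220 (.leaf 0x0) (.leaf 0x100b0d0003)))) (.node 8224 (.node 8222 (.leaf 0x0) (.node 8223 (.leaf 0xd110f0003) (.leaf 0xe100f0c0004))) (.node 8225 (.leaf 0x40209080004) (.node 8226 (.leaf 0x0) (.leaf 0x110d0002))))))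

def argWS_803 : Store := (.node 8206 argWS_801 argWS_802)

def argWS_804 : Store := (.node 8186 argWS_800 argWS_803)

def argWS_805 : Store := (.node 8237 (.node 8232 (.node 8229 (.node 8228 (.leaf 0xc100b0003) (.leaf 0x202300202200202100201e00201d002017)) (.node 8230 (.leaf 0xc100d0003) (.node 8231 (.leaf 0x0) (.leaf 0x0)))) (.node 8234 (.node 8233 (.leaf 0x60607090004) (.leaf 0x40106070607090007)) (.node 8235 (.leaf 0x0) (.node 8236 (.leaf 0xd110f0c0004) (.leaf 0x0))))) (.node 8242 (.node 8239 (.node 8238 (.leaf 0x0) (.leaf 0x0)) (.node 8240 (.leaf 0x0) (.node 8241 (.leaf 0x70001) (.leaf 0x0)))) (.node 8244 (.node 8243 (.leaf 0x0) (.leaf 0x100b0d0003)) (.node 8245 (.leaf 0x10001) (.node 8246 (.leaf 0x0) (.leaf 0x0))))))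

def argWS_806 : Store := (.node 8257 (.node 8252 (.node 8249 (.node 8248 (.leaf 0xb0d0002) (.leaf 0x80001)) (.node 8250 (.leaf 0x0) (.node 8251 (.leaf 0x0) (.leaf 0xf100d0003)))) (.node 8254 (.node 8253 (.leaf 0x0) (.leaf 0xc100b0f0d0e0006)) (.node 8255 (.leaf 0xe110f0f0c0005) (.node 8256 (.leaf 0xd110d0f0c0005) (.leaf 0xa0f0c0003))))) (.node 8262 (.node 8259 (.node 8258 (.leaf 0xc100c0003) (.leaf 0xc100d0003)) (.node 8260 (.leaf 0xc100002) (.node 8261 (.leaf 0x204300204200204100204000203f00203e) (.leaf 0xf100e0003)))) (.node 8265 (.node 8263 (.leaf 0x0) (.node 8264 (.leaf 0xe100002) (.leaf 0x0))) (.node 8266 (.leaf 0xc100b0d0e0005) (.node 8267 (.leaf 0xd110002) (.leaf 0x204a))))))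

def argWS_807 : Store := (.node 8247 argWS_805 argWS_806)

def argWS_808 : Store := (.node 8278 (.node 8273 (.node 8270 (.node 8269 (.leaf 0xa0d0f0c0004) (.leaf 0x0)) (.node 8271 (.leaf 0x0) (.node 8272 (.leaf 0xb0a0d0003) (.leaf 0xe110c0f0c0005)))) (.node 8275 (.node 8274 (.leaf 0x0) (.leaf 0x70100050707090007)) (.node 8276 (.leaf 0x30201070607090007) (.node 8277 (.leaf 0x0) (.leaf 0xb0a0c0f0c0005))))) (.node 8283 (.node 8280 (.node 8279 (.leaf 0x0) (.leaf 0x100c0002)) (.node 8281 (.leaf 0xd110d0003) (.node 8282 (.leaf 0xc100b0d0004) (.leaf 0x16bf002059002058002057002056002050)))) (.node 8285 (.node 8284 (.leaf 0xe0001) (.leaf 0x0)) (.node 8286 (.leaf 0x0) (.node 8287 (.leaf 0x0) (.leaf 0x0))))))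

def argWS_809 : Store := (.node 8298 (.node 8293 (.node 8290 (.node 8289 (.leaf 0x0) (.leaf 0x0)) (.node 8291 (.leaf 0x0) (.node 8292 (.leaf 0x0) (.leaf 0x0)))) (.node 8295 (.node 8294 (.leaf 0x0) (.leaf 0xb0f0c0003)) (.node 8296 (.leaf 0xf100d0e0004) (.node 8297 (.leaf 0x2067) (.leaf 0x110d0f0c0004))))) (.node 8303 (.node 8300 (.node 8299 (.leaf 0x0) (.leaf 0xf100b0f0004)) (.node 8301 (.leaf 0x100c0f0c0004) (.node 8302 (.leaf 0xb0a0f0c0004) (.leaf 0xc100e0003)))) (.node 8306 (.node 8304 (.leaf 0xc0001) (.node 8305 (.leaf 0x0) (.leaf 0x1000507060607090008))) (.node 8307 (.leaf 0x30005070905080007) (.node 8308 (.leaf 0x0) (.leaf 0xf0f0c0003))))))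

def argWS_810 : Store := (.node 8288 argWS_808 argWS_809)

def argWS_811 : Store := (.node 8268 argWS_807 argWS_810)

def argWS_812 : Store := (.node 8227 argWS_804 argWS_811)

def argWS_813 : Store := (.node 8319 (.node 8314 (.node 8311 (.node 8310 (.leaf 0x0) (.leaf 0xb0a0002)) (.node 8312 (.leaf 0x207600207500206f00206e00206d00206c) (.node 8313 (.leaf 0xc100d0003) (.leaf 0x0)))) (.node 8316 (.node 8315 (.leaf 0x0) (.leaf 0x0)) (.node 8317 (.leaf 0x0) (.node 8318 (.leaf 0x7020108060607090008) (.leaf 0x0))))) (.node 8324 (.node 8321 (.node 8320 (.leaf 0x100b0d0003) (.leaf 0xd110f0003)) (.node 8322 (.leaf 0x100b0d0e0004) (.node 8323 (.leaf 0xb0a0f0f0c0005) (.leaf 0x20305070705080007)))) (.node 8326 (.node 8325 (.leaf 0x0) (.leaf 0xc100b0f0d0e0006)) (.node 8327 (.leaf 0x100f0c0003) (.node 8328 (.leaf 0x100b0002) (.leaf 0x2087002086002085002084002081002080))))))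

def argWS_814 : Store := (.node 8339 (.node 8334 (.node 8331 (.node 8330 (.leaf 0xc100c0003) (.leaf 0x0)) (.node 8332 (.leaf 0xf100b0d0f0c0006) (.node 8333 (.leaf 0xb0a0002) (.leaf 0xf100b0d0004)))) (.node 8336 (.node 8335 (.leaf 0xe110f0c0004) (.leaf 0x0)) (.node 8337 (.leaf 0x301060705080006) (.node 8338 (.leaf 0x4030709080607090008) (.leaf 0x0))))) (.node 8344 (.node 8341 (.node 8340 (.leaf 0xd110c0003) (.leaf 0x0)) (.node 8342 (.leaf 0x0) (.node 8343 (.leaf 0x7020108050705080008) (.leaf 0x4030809080607090008)))) (.node 8346 (.node 8345 (.leaf 0x0) (.leaf 0xd110f0d0e0005)) (.node 8347 (.leaf 0x0) (.node 8348 (.leaf 0xd110f0003) (.leaf 0x70102080905080007))))))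

def argWS_815 : Store := (.node 8329 argWS_813 argWS_814)

def argWS_816 : Store := (.node 8359 (.node 8354 (.node 8351 (.node 8350 (.leaf 0x0) (.leaf 0xd100c0f0c0005)) (.node 8352 (.leaf 0x209e00209d00209a00209400208e00208d) (.node 8353 (.leaf 0xc100b0f0004) (.leaf 0x0)))) (.node 8356 (.node 8355 (.leaf 0x0) (.leaf 0x0)) (.node 8357 (.leaf 0x4090002) (.node 8358 (.leaf 0x0) (.leaf 0x0))))) (.node 8364 (.node 8361 (.node 8360 (.leaf 0xb0a0c0003) (.leaf 0x0)) (.node 8362 (.leaf 0x70001) (.node 8363 (.leaf 0x0) (.leaf 0x0)))) (.node 8366 (.node 8365 (.leaf 0x110b0f0c0004) (.leaf 0x0)) (.node 8367 (.leaf 0x0) (.node 8368 (.leaf 0x0) (.leaf 0x0))))))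

def argWS_817 : Store := (.node 8379 (.node 8374 (.node 8371 (.node 8370 (.leaf 0x0) (.leaf 0x3020108060607090008)) (.node 8372 (.leaf 0x0) (.node 8373 (.leaf 0x0) (.leaf 0x0)))) (.node 8376 (.node 8375 (.leaf 0x0) (.leaf 0x0)) (.node 8377 (.leaf 0x304070905080006) (.node 8378 (.leaf 0xb0a0d0003) (.leaf 0x4010607060005))))) (.node 8384 (.node 8381 (.node 8380 (.leaf 0x0) (.leaf 0x0)) (.node 8382 (.leaf 0x0) (.node 8383 (.leaf 0x0) (.leaf 0x100f0c0003)))) (.node 8387 (.node 8385 (.leaf 0x10001) (.node 8386 (.leaf 0x0) (.leaf 0x0))) (.node 8388 (.leaf 0xc100b0d0f0c0006) (.node 8389 (.leaf 0x0) (.leaf 0x80001))))))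

def argWS_818 : Store := (.node 8369 argWS_816 argWS_817)

def argWS_819 : Store := (.node 8349 argWS_815 argWS_818)

def argWS_820 : Store := (.node 8400 (.node 8395 (.node 8392 (.node 8391 (.leaf 0x0) (.leaf 0x0)) (.node 8393 (.leaf 0xf0d0e0003) (.node 8394 (.leaf 0x0) (.leaf 0x0)))) (.node 8397 (.node 8396 (.leaf 0xd0001) (.leaf 0x10001)) (.node 8398 (.leaf 0x0) (.node 8399 (.leaf 0x0) (.leaf 0x110d0002))))) (.node 8405 (.node 8402 (.node 8401 (.leaf 0x0) (.leaf 0x0)) (.node 8403 (.leaf 0x0) (.node 8404 (.leaf 0x0) (.leaf 0x0)))) (.node 8407 (.node 8406 (.leaf 0x109080003) (.leaf 0x0)) (.node 8408 (.leaf 0x0) (.node 8409 (.leaf 0x107090003) (.leaf 0x0))))))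

def argWS_821 : Store := (.node 8420 (.node 8415 (.node 8412 (.node 8411 (.leaf 0x0) (.leaf 0x80001)) (.node 8413 (.leaf 0x0) (.node 8414 (.leaf 0x0) (.leaf 0x0)))) (.node 8417 (.node 8416 (.leaf 0x301060607090006) (.leaf 0x20809080004)) (.node 8418 (.leaf 0x0) (.node 8419 (.leaf 0x0) (.leaf 0x0))))) (.node 8425 (.node 8422 (.node 8421 (.leaf 0xe100d0003) (.leaf 0xd110002)) (.node 8423 (.leaf 0x70001) (.node 8424 (.leaf 0x0) (.leaf 0x0)))) (.node 8428 (.node 8426 (.leaf 0x0) (.node 8427 (.leaf 0x0) (.leaf 0x0))) (.node 8429 (.leaf 0x0) (.node 8430 (.leaf 0x0) (.leaf 0x0))))))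

def argWS_822 : Store := (.node 8410 argWS_820 argWS_821)

def argWS_823 : Store := (.node 8441 (.node 8436 (.node 8433 (.node 8432 (.leaf 0x301060705080006) (.leaf 0x70001)) (.node 8434 (.leaf 0x0) (.node 8435 (.leaf 0x0) (.leaf 0xf100c0003)))) (.node 8438 (.node 8437 (.leaf 0x301060705080006) (.leaf 0x0)) (.node 8439 (.leaf 0x0) (.node 8440 (.leaf 0x301060705080006) (.leaf 0x1080002))))) (.node 8446 (.node 8443 (.node 8442 (.leaf 0x0) (.leaf 0x0)) (.node 8444 (.leaf 0x0) (.node 8445 (.leaf 0xc100c0f0c0005) (.leaf 0x0)))) (.node 8448 (.node 8447 (.leaf 0x0) (.leaf 0x0)) (.node 8449 (.leaf 0xd110002) (.node 8450 (.leaf 0xa0f0d0e0004) (.leaf 0x2101))))))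

def argWS_824 : Store := (.node 8461 (.node 8456 (.node 8453 (.node 8452 (.leaf 0xd100f0d0e0005) (.leaf 0x0)) (.node 8454 (.leaf 0xa0001) (.node 8455 (.leaf 0x4010002) (.leaf 0x0)))) (.node 8458 (.node 8457 (.leaf 0xd110f0f0c0005) (.leaf 0xf100d0f0c0005)) (.node 8459 (.leaf 0x110b0002) (.node 8460 (.leaf 0xd100002) (.leaf 0x100d0d0e0004))))) (.node 8466 (.node 8463 (.node 8462 (.leaf 0x100001) (.leaf 0x210d00210c00210b00210a002109002108)) (.node 8464 (.leaf 0x100b0e0003) (.node 8465 (.leaf 0x0) (.leaf 0x0)))) (.node 8469 (.node 8467 (.leaf 0x0) (.node 8468 (.leaf 0x1090002) (.leaf 0x0))) (.node 8470 (.leaf 0x0) (.node 8471 (.leaf 0xc100002) (.leaf 0x8050002))))))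

def argWS_825 : Store := (.node 8451 argWS_823 argWS_824)

def argWS_826 : Store := (.node 8431 argWS_822 argWS_825)

def argWS_827 : Store := (.node 8390 argWS_819 argWS_826)

def argWS_828 : Store := (.node 8309 argWS_812 argWS_827)

def argWS_829 : Store := (.node 8146 argWS_797 argWS_828)

def argWS_830 : Store := (.node 8482 (.node 8477 (.node 8474 (.node 8473 (.leaf 0x0) (.leaf 0x0)) (.node 8475 (.leaf 0xb0f0c0003) (.node 8476 (.leaf 0x10001) (.leaf 0x10001)))) (.node 8479 (.node 8478 (.leaf 0x0) (.leaf 0x0)) (.node 8480 (.leaf 0x0) (.node 8481 (.leaf 0xc0001) (.leaf 0x108050003))))) (.node 8487 (.node 8484 (.node 8483 (.leaf 0x0) (.leaf 0x0)) (.node 8485 (.leaf 0xd100c0f0c0005) (.node 8486 (.leaf 0x0) (.leaf 0x0)))) (.node 8489 (.node 8488 (.leaf 0x0) (.leaf 0xb0d0002)) (.node 8490 (.leaf 0xf100d0e0004) (.node 8491 (.leaf 0xf100b0d0f0c0006) (.leaf 0x100b0002))))))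

def argWS_831 : Store := (.node 8502 (.node 8497 (.node 8494 (.node 8493 (.leaf 0xd100d0d0e0005) (.leaf 0xf100d0f0c0005)) (.node 8495 (.leaf 0xc100b0c0f0c0006) (.node 8496 (.leaf 0x212e00212d00212c00212b00212a002129) (.leaf 0xd100f0003)))) (.node 8499 (.node 8498 (.leaf 0xf100f0d0e0005) (.leaf 0xf100b0c0004)) (.node 8500 (.leaf 0x110b0f0d0e0005) (.node 8501 (.leaf 0xc100f0c0004) (.leaf 0xe100d0e0004))))) (.node 8507 (.node 8504 (.node 8503 (.leaf 0xa0f0002) (.leaf 0x2136000481002135002134002133002132)) (.node 8505 (.leaf 0xd100d0003) (.node 8506 (.leaf 0x0) (.leaf 0x0)))) (.node 8509 (.node 8508 (.leaf 0xf100b0d0d0e0006) (.leaf 0xc100f0d0e0005)) (.node 8510 (.leaf 0xe110e0003) (.node 8511 (.leaf 0xd100f0003) (.leaf 0xc100d0e0004))))))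

def argWS_832 : Store := (.node 8492 argWS_830 argWS_831)

def argWS_833 : Store := (.node 8522 (.node 8517 (.node 8514 (.node 8513 (.leaf 0xd110002) (.leaf 0xe100d0d0e0005)) (.node 8515 (.leaf 0x214100214000213f00213e00213d00213c) (.node 8516 (.leaf 0xf100d0f0c0005) (.leaf 0x0)))) (.node 8519 (.node 8518 (.leaf 0x0) (.leaf 0x0)) (.node 8520 (.leaf 0x2010607060005) (.node 8521 (.leaf 0x10001) (.leaf 0x0))))) (.node 8527 (.node 8524 (.node 8523 (.leaf 0x0) (.leaf 0xb0a0d0f0c0005)) (.node 8525 (.leaf 0x0) (.node 8526 (.leaf 0x0) (.leaf 0x0)))) (.node 8529 (.node 8528 (.leaf 0x0) (.leaf 0x207090003)) (.node 8530 (.leaf 0x80001) (.node 8531 (.leaf 0x0) (.leaf 0x0))))))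

def argWS_834 : Store := (.node 8542 (.node 8537 (.node 8534 (.node 8533 (.leaf 0x110e0002) (.leaf 0x0)) (.node 8535 (.leaf 0xe100f0f0c0005) (.node 8536 (.leaf 0xd100d0f0c0005) (.leaf 0xf100e0003)))) (.node 8539 (.node 8538 (.leaf 0x7020108060607090008) (.leaf 0x0)) (.node 8540 (.leaf 0xa0d0002) (.node 8541 (.leaf 0xe110f0d0e0005) (.leaf 0xc100b0d0d0e0006))))) (.node 8547 (.node 8544 (.node 8543 (.leaf 0xd110002) (.leaf 0x215e00215d00215c00215b00215a002157)) (.node 8545 (.leaf 0xf100b0d0f0c0006) (.node 8546 (.leaf 0x0) (.leaf 0x0)))) (.node 8550 (.node 8548 (.leaf 0x0) (.node 8549 (.leaf 0xf100f0f0c0005) (.leaf 0x110b0002))) (.node 8551 (.leaf 0x100f0002) (.node 8552 (.leaf 0xa0d0f0c0004) (.leaf 0x110f0002))))))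

def argWS_835 : Store := (.node 8532 argWS_833 argWS_834)

def argWS_836 : Store := (.node 8512 argWS_832 argWS_835)

def argWS_837 : Store := (.node 8563 (.node 8558 (.node 8555 (.node 8554 (.leaf 0x4020109080005) (.leaf 0x0)) (.node 8556 (.leaf 0xc100e0003) (.node 8557 (.leaf 0xe0001) (.leaf 0x216c00216b00216a002167002166002165)))) (.node 8560 (.node 8559 (.leaf 0xb0001) (.leaf 0x0)) (.node 8561 (.leaf 0xc100b0f0c0005) (.node 8562 (.leaf 0x0) (.leaf 0x0))))) (.node 8568 (.node 8565 (.node 8564 (.leaf 0x0) (.leaf 0x701050709080607090009)) (.node 8566 (.leaf 0x0) (.node 8567 (.leaf 0x0) (.leaf 0x100c0f0c0004)))) (.node 8570 (.node 8569 (.leaf 0x10001) (.leaf 0x0)) (.node 8571 (.leaf 0x0) (.node 8572 (.leaf 0xc100b0f0c0005) (.leaf 0x0))))))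

def argWS_838 : Store := (.node 8583 (.node 8578 (.node 8575 (.node 8574 (.leaf 0xc100d0f0c0005) (.leaf 0xa0f0f0c0004)) (.node 8576 (.leaf 0x103060607090006) (.node 8577 (.leaf 0x0) (.leaf 0xf0d0e0003)))) (.node 8580 (.node 8579 (.leaf 0xe100c0003) (.leaf 0xf100f0f0c0005)) (.node 8581 (.leaf 0xd100d0003) (.node 8582 (.leaf 0xa0d0002) (.leaf 0x2185002184002183002182002181002180))))) (.node 8588 (.node 8585 (.node 8584 (.leaf 0xb0a0d0f0c0005) (.leaf 0x0)) (.node 8586 (.leaf 0xb0f0f0c0004) (.node 8587 (.leaf 0xd100d0e0004) (.leaf 0x218a)))) (.node 8591 (.node 8589 (.leaf 0x110001) (.node 8590 (.leaf 0x0) (.leaf 0x0))) (.node 8592 (.leaf 0x0) (.node 8593 (.leaf 0x0) (.leaf 0x0))))))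

def argWS_839 : Store := (.node 8573 argWS_837 argWS_838)

def argWS_840 : Store := (.node 8604 (.node 8599 (.node 8596 (.node 8595 (.leaf 0x0) (.leaf 0xb0a0f0c0004)) (.node 8597 (.leaf 0x110d0002) (.node 8598 (.leaf 0x110b0c0003) (.leaf 0x110d0e0003)))) (.node 8601 (.node 8600 (.leaf 0xc100f0d0e0005) (.leaf 0x402010003)) (.node 8602 (.leaf 0x0) (.node 8603 (.leaf 0xf100f0003) (.leaf 0x110c0f0c0004))))) (.node 8609 (.node 8606 (.node 8605 (.leaf 0x219b00219a002199002196002195002194) (.leaf 0xe100d0e0004)) (.node 8607 (.leaf 0xf0c0002) (.node 8608 (.leaf 0xd110f0003) (.leaf 0xf100d0003)))) (.node 8611 (.node 8610 (.leaf 0x4000905080005) (.leaf 0x0)) (.node 8612 (.leaf 0x100d0e0003) (.node 8613 (.leaf 0xe100c0003) (.leaf 0xc100d0e0004))))))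

def argWS_841 : Store := (.node 8624 (.node 8619 (.node 8616 (.node 8615 (.leaf 0xb0a0f0d0e0005) (.leaf 0x21a60021a50021a40021a30021a200219f)) (.node 8617 (.leaf 0xd110002) (.node 8618 (.leaf 0x0) (.leaf 0xc100b0c0f0c0006)))) (.node 8621 (.node 8620 (.leaf 0xe100c0003) (.leaf 0x100b0d0f0c0005)) (.node 8622 (.leaf 0x100f0f0c0004) (.node 8623 (.leaf 0x0) (.leaf 0x3020108060705080008))))) (.node 8629 (.node 8626 (.node 8625 (.leaf 0x5070003) (.leaf 0x0)) (.node 8627 (.leaf 0xf100c0003) (.node 8628 (.leaf 0x0) (.leaf 0x0)))) (.node 8632 (.node 8630 (.leaf 0x70100050707090007) (.node 8631 (.leaf 0x304010809080006) (.leaf 0x0))) (.node 8633 (.leaf 0xf100b0d0004) (.node 8634 (.leaf 0x0) (.leaf 0x100b0c0003))))))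

def argWS_842 : Store := (.node 8614 argWS_840 argWS_841)

def argWS_843 : Store := (.node 8594 argWS_839 argWS_842)

def argWS_844 : Store := (.node 8553 argWS_836 argWS_843)

def argWS_845 : Store := (.node 8645 (.node 8640 (.node 8637 (.node 8636 (.leaf 0x110b0f0f0c0005) (.leaf 0x21bb0021ba0021b90021b30021ad0021ac)) (.node 8638 (.leaf 0xe110f0f0c0005) (.node 8639 (.leaf 0x0) (.leaf 0x110b0d0e0004)))) (.node 8642 (.node 8641 (.leaf 0x0) (.leaf 0x0)) (.node 8643 (.leaf 0x0) (.node 8644 (.leaf 0x70001) (.leaf 0x8050002))))) (.node 8650 (.node 8647 (.node 8646 (.leaf 0x0) (.leaf 0x0)) (.node 8648 (.leaf 0xc100b0f0c0005) (.node 8649 (.leaf 0x108050003) (.leaf 0x3060002)))) (.node 8652 (.node 8651 (.leaf 0x0) (.leaf 0x0)) (.node 8653 (.leaf 0x0) (.node 8654 (.leaf 0x100c0f0c0004) (.leaf 0x0))))))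

def argWS_846 : Store := (.node 8665 (.node 8660 (.node 8657 (.node 8656 (.leaf 0x0) (.leaf 0x0)) (.node 8658 (.leaf 0x110b0c0f0c0005) (.node 8659 (.leaf 0x10001) (.leaf 0x0)))) (.node 8662 (.node 8661 (.leaf 0x0) (.leaf 0xc100f0c0004)) (.node 8663 (.leaf 0x80001) (.node 8664 (.leaf 0x0) (.leaf 0x0))))) (.node 8670 (.node 8667 (.node 8666 (.leaf 0xf100b0f0004) (.leaf 0x0)) (.node 8668 (.leaf 0x0) (.node 8669 (.leaf 0x0) (.leaf 0x0)))) (.node 8672 (.node 8671 (.leaf 0x100050709080607090009) (.leaf 0x0)) (.node 8673 (.leaf 0x0) (.node 8674 (.leaf 0x0) (.leaf 0x10001))))))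

def argWS_847 : Store := (.node 8655 argWS_845 argWS_846)

def argWS_848 : Store := (.node 8685 (.node 8680 (.node 8677 (.node 8676 (.leaf 0x0) (.leaf 0x0)) (.node 8678 (.leaf 0x0) (.node 8679 (.leaf 0x0) (.leaf 0x8050002)))) (.node 8682 (.node 8681 (.leaf 0x0) (.leaf 0x100070607090006)) (.node 8683 (.leaf 0x0) (.node 8684 (.leaf 0x0) (.leaf 0x8060002))))) (.node 8690 (.node 8687 (.node 8686 (.leaf 0x0) (.leaf 0x0)) (.node 8688 (.leaf 0xa0d0f0c0004) (.node 8689 (.leaf 0x0) (.leaf 0x0)))) (.node 8692 (.node 8691 (.leaf 0x0) (.leaf 0x400060607090006)) (.node 8693 (.leaf 0x8060003) (.node 8694 (.leaf 0x0) (.leaf 0x0))))))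

def argWS_849 : Store := (.node 8705 (.node 8700 (.node 8697 (.node 8696 (.leaf 0x0) (.leaf 0xc100d0e0004)) (.node 8698 (.leaf 0x10001) (.node 8699 (.leaf 0x0) (.leaf 0x0)))) (.node 8702 (.node 8701 (.leaf 0x0) (.leaf 0x400060607090006)) (.node 8703 (.leaf 0x10008060004) (.node 8704 (.leaf 0x0) (.leaf 0x0))))) (.node 8710 (.node 8707 (.node 8706 (.leaf 0x0) (.leaf 0xf100f0003)) (.node 8708 (.leaf 0x0) (.node 8709 (.leaf 0x0) (.leaf 0x0)))) (.node 8713 (.node 8711 (.leaf 0xd100f0d0e0005) (.node 8712 (.leaf 0x70001) (.leaf 0x0))) (.node 8714 (.leaf 0x0) (.node 8715 (.leaf 0x110b0d0e0004) (.leaf 0x0))))))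

def argWS_850 : Store := (.node 8695 argWS_848 argWS_849)

def argWS_851 : Store := (.node 8675 argWS_847 argWS_850)

def argWS_852 : Store := (.node 8726 (.node 8721 (.node 8718 (.node 8717 (.leaf 0x1070002) (.leaf 0x0)) (.node 8719 (.leaf 0x0) (.node 8720 (.leaf 0xb0a0d0e0004) (.leaf 0x0)))) (.node 8723 (.node 8722 (.leaf 0x80001) (.leaf 0x0)) (.node 8724 (.leaf 0x0) (.node 8725 (.leaf 0xc100b0d0e0005) (.leaf 0x1080002))))) (.node 8731 (.node 8728 (.node 8727 (.leaf 0x0) (.leaf 0x0)) (.node 8729 (.leaf 0xc100b0d0e0005) (.node 8730 (.leaf 0x0) (.leaf 0x8060002)))) (.node 8733 (.node 8732 (.leaf 0x0) (.leaf 0x0)) (.node 8734 (.leaf 0xf100b0d0004) (.node 8735 (.leaf 0x0) (.leaf 0x8050002))))))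

def argWS_853 : Store := (.node 8746 (.node 8741 (.node 8738 (.node 8737 (.leaf 0x0) (.leaf 0x0)) (.node 8739 (.leaf 0xd110c0f0c0005) (.node 8740 (.leaf 0x0) (.leaf 0x108060003)))) (.node 8743 (.node 8742 (.leaf 0x0) (.leaf 0x0)) (.node 8744 (.leaf 0xb0d0d0e0004) (.node 8745 (.leaf 0x0) (.leaf 0x108050003))))) (.node 8751 (.node 8748 (.node 8747 (.leaf 0x0) (.leaf 0x0)) (.node 8749 (.leaf 0xb0a0f0c0004) (.node 8750 (.leaf 0x0) (.leaf 0x0)))) (.node 8754 (.node 8752 (.leaf 0x0) (.node 8753 (.leaf 0x110f0002) (.leaf 0x10001))) (.node 8755 (.leaf 0x0) (.node 8756 (.leaf 0x0) (.leaf 0x100f0002))))))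

def argWS_854 : Store := (.node 8736 argWS_852 argWS_853)

def argWS_855 : Store := (.node 8767 (.node 8762 (.node 8759 (.node 8758 (.leaf 0x0) (.leaf 0x0)) (.node 8760 (.leaf 0x0) (.node 8761 (.leaf 0x0) (.leaf 0x7020108050705080008)))) (.node 8764 (.node 8763 (.leaf 0x0) (.leaf 0x0)) (.node 8765 (.leaf 0x0) (.node 8766 (.leaf 0x0) (.leaf 0x40905080004))))) (.node 8772 (.node 8769 (.node 8768 (.leaf 0x0) (.leaf 0x0)) (.node 8770 (.leaf 0x0) (.node 8771 (.leaf 0x0) (.leaf 0x203050003)))) (.node 8774 (.node 8773 (.leaf 0x0) (.leaf 0x0)) (.node 8775 (.leaf 0x0) (.node 8776 (.leaf 0x0) (.leaf 0x102060705080006))))))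

def argWS_856 : Store := (.node 8787 (.node 8782 (.node 8779 (.node 8778 (.leaf 0x0) (.leaf 0x0)) (.node 8780 (.leaf 0x0) (.node 8781 (.leaf 0x0) (.leaf 0x10007090004)))) (.node 8784 (.node 8783 (.leaf 0x0) (.leaf 0x0)) (.node 8785 (.leaf 0x0) (.node 8786 (.leaf 0x3040705080005) (.leaf 0x0))))) (.node 8792 (.node 8789 (.node 8788 (.leaf 0x0) (.leaf 0x0)) (.node 8790 (.leaf 0x0) (.node 8791 (.leaf 0x10407060705080007) (.leaf 0x0)))) (.node 8795 (.node 8793 (.leaf 0x0) (.node 8794 (.leaf 0x0) (.leaf 0x0))) (.node 8796 (.leaf 0x4000709080607090008) (.node 8797 (.leaf 0x100060003) (.leaf 0x0))))))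

def argWS_857 : Store := (.node 8777 argWS_855 argWS_856)

def argWS_858 : Store := (.node 8757 argWS_854 argWS_857)

def argWS_859 : Store := (.node 8716 argWS_851 argWS_858)

def argWS_860 : Store := (.node 8635 argWS_844 argWS_859)

def argWS_861 : Store := (.node 8808 (.node 8803 (.node 8800 (.node 8799 (.leaf 0x0) (.leaf 0x0)) (.node 8801 (.leaf 0x0) (.node 8802 (.leaf 0x200070905080006) (.leaf 0x0)))) (.node 8805 (.node 8804 (.leaf 0x0) (.leaf 0x0)) (.node 8806 (.leaf 0x0) (.node 8807 (.leaf 0x3040507050005) (.leaf 0x0))))) (.node 8813 (.node 8810 (.node 8809 (.leaf 0x0) (.leaf 0x0)) (.node 8811 (.leaf 0x0) (.node 8812 (.leaf 0x0) (.leaf 0x0)))) (.node 8815 (.node 8814 (.leaf 0x100060003) (.leaf 0x0)) (.node 8816 (.leaf 0x0) (.node 8817 (.leaf 0x0) (.leaf 0x7020108050705080008))))))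

def argWS_862 : Store := (.node 8828 (.node 8823 (.node 8820 (.node 8819 (.leaf 0x20108060004) (.leaf 0x0)) (.node 8821 (.leaf 0x0) (.node 8822 (.leaf 0x0) (.leaf 0xf100d0f0c0005)))) (.node 8825 (.node 8824 (.leaf 0x0) (.leaf 0x110b0f0c0004)) (.node 8826 (.leaf 0x0) (.node 8827 (.leaf 0x10009080004) (.leaf 0x0))))) (.node 8833 (.node 8830 (.node 8829 (.leaf 0x0) (.leaf 0xc100b0d0f0c0006)) (.node 8831 (.leaf 0x0) (.node 8832 (.leaf 0x10206070905080007) (.leaf 0x0)))) (.node 8835 (.node 8834 (.leaf 0x0) (.leaf 0x0)) (.node 8836 (.leaf 0x40905080004) (.node 8837 (.leaf 0x0) (.leaf 0x0))))))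

def argWS_863 : Store := (.node 8818 argWS_861 argWS_862)

def argWS_864 : Store := (.node 8848 (.node 8843 (.node 8840 (.node 8839 (.leaf 0xe110f0c0004) (.leaf 0x0)) (.node 8841 (.leaf 0x103060003) (.node 8842 (.leaf 0x0) (.leaf 0x0)))) (.node 8845 (.node 8844 (.leaf 0xc0001) (.leaf 0x0)) (.node 8846 (.leaf 0x7020108050705080008) (.node 8847 (.leaf 0x0) (.leaf 0x0))))) (.node 8853 (.node 8850 (.node 8849 (.leaf 0xb0a0c0003) (.leaf 0x0)) (.node 8851 (.leaf 0x20309080607090007) (.node 8852 (.leaf 0x0) (.leaf 0x0)))) (.node 8855 (.node 8854 (.leaf 0xd110c0003) (.leaf 0x0)) (.node 8856 (.leaf 0x10001) (.node 8857 (.leaf 0x10001) (.leaf 0x0))))))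

def argWS_865 : Store := (.node 8868 (.node 8863 (.node 8860 (.node 8859 (.leaf 0x0) (.leaf 0x0)) (.node 8861 (.leaf 0xc100b0c0f0c0006) (.node 8862 (.leaf 0x10001) (.leaf 0x10001)))) (.node 8865 (.node 8864 (.leaf 0x0) (.leaf 0x0)) (.node 8866 (.leaf 0x0) (.node 8867 (.leaf 0xd100c0003) (.leaf 0x8060002))))) (.node 8873 (.node 8870 (.node 8869 (.leaf 0x0) (.leaf 0x0)) (.node 8871 (.leaf 0xc100f0f0c0005) (.node 8872 (.leaf 0x0) (.leaf 0x108060003)))) (.node 8876 (.node 8874 (.leaf 0x0) (.node 8875 (.leaf 0x0) (.leaf 0xf100002))) (.node 8877 (.leaf 0x0) (.node 8878 (.leaf 0x0) (.leaf 0xd110c0003))))))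

def argWS_866 : Store := (.node 8858 argWS_864 argWS_865)

def argWS_867 : Store := (.node 8838 argWS_863 argWS_866)

def argWS_868 : Store := (.node 8889 (.node 8884 (.node 8881 (.node 8880 (.leaf 0x8060002) (.leaf 0x0)) (.node 8882 (.leaf 0x0) (.node 8883 (.leaf 0x100b0d0f0c0005) (.leaf 0x108060003)))) (.node 8886 (.node 8885 (.leaf 0x0) (.leaf 0x0)) (.node 8887 (.leaf 0xf100d0d0e0005) (.node 8888 (.leaf 0x0) (.leaf 0x80001))))) (.node 8894 (.node 8891 (.node 8890 (.leaf 0x0) (.leaf 0x0)) (.node 8892 (.leaf 0xc100b0d0f0c0006) (.node 8893 (.leaf 0x70001) (.leaf 0x0)))) (.node 8896 (.node 8895 (.leaf 0x0) (.leaf 0xd110002)) (.node 8897 (.leaf 0x0) (.node 8898 (.leaf 0x1080002) (.leaf 0x0))))))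

def argWS_869 : Store := (.node 8909 (.node 8904 (.node 8901 (.node 8900 (.leaf 0x0) (.leaf 0x100f0c0003)) (.node 8902 (.leaf 0x1070002) (.node 8903 (.leaf 0x0) (.leaf 0x0)))) (.node 8906 (.node 8905 (.leaf 0xf100d0f0c0005) (.leaf 0x108060003)) (.node 8907 (.leaf 0x0) (.node 8908 (.leaf 0x0) (.leaf 0x0))))) (.node 8914 (.node 8911 (.node 8910 (.leaf 0x0) (.leaf 0x7020108050705080008)) (.node 8912 (.leaf 0x10809080004) (.node 8913 (.leaf 0x0) (.leaf 0x0)))) (.node 8917 (.node 8915 (.leaf 0x0) (.node 8916 (.leaf 0xd100d0003) (.leaf 0x0))) (.node 8918 (.leaf 0x1080002) (.node 8919 (.leaf 0x7020109080005) (.leaf 0x0))))))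

def argWS_870 : Store := (.node 8899 argWS_868 argWS_869)

def argWS_871 : Store := (.node 8930 (.node 8925 (.node 8922 (.node 8921 (.leaf 0x0) (.leaf 0x0)) (.node 8923 (.leaf 0xd110f0f0c0005) (.node 8924 (.leaf 0x0) (.leaf 0x0)))) (.node 8927 (.node 8926 (.leaf 0x100b0f0d0e0005) (.leaf 0x10001)) (.node 8928 (.leaf 0x10001) (.node 8929 (.leaf 0x0) (.leaf 0x0))))) (.node 8935 (.node 8932 (.node 8931 (.leaf 0x0) (.leaf 0xe110c0f0c0005)) (.node 8933 (.leaf 0x0) (.node 8934 (.leaf 0x0) (.leaf 0x0)))) (.node 8937 (.node 8936 (.leaf 0x7020108050705080008) (.leaf 0x3040507060705080008)) (.node 8938 (.leaf 0x0) (.node 8939 (.leaf 0xf100f0d0e0005) (.leaf 0x0))))))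

def argWS_872 : Store := (.node 8950 (.node 8945 (.node 8942 (.node 8941 (.leaf 0x0) (.leaf 0x0)) (.node 8943 (.leaf 0x0) (.node 8944 (.leaf 0x0) (.leaf 0x301050705080006)))) (.node 8947 (.node 8946 (.leaf 0x10001) (.leaf 0x0)) (.node 8948 (.leaf 0x0) (.node 8949 (.leaf 0x0) (.leaf 0x7020108050705080008))))) (.node 8955 (.node 8952 (.node 8951 (.leaf 0x304010507060705080009) (.leaf 0x0)) (.node 8953 (.leaf 0x100b0c0f0c0005) (.node 8954 (.leaf 0x0) (.leaf 0x0)))) (.node 8958 (.node 8956 (.leaf 0x0) (.node 8957 (.leaf 0x0) (.leaf 0x0))) (.node 8959 (.leaf 0x70102080004) (.node 8960 (.leaf 0x70001) (.leaf 0x0))))))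

def argWS_873 : Store := (.node 8940 argWS_871 argWS_872)

def argWS_874 : Store := (.node 8920 argWS_870 argWS_873)

def argWS_875 : Store := (.node 8879 argWS_867 argWS_874)

def argWS_876 : Store := (.node 8971 (.node 8966 (.node 8963 (.node 8962 (.leaf 0x0) (.leaf 0xd110d0f0c0005)) (.node 8964 (.leaf 0x0) (.node 8965 (.leaf 0x0) (.leaf 0x0)))) (.node 8968 (.node 8967 (.leaf 0x1070002) (.leaf 0x0)) (.node 8969 (.leaf 0x0) (.node 8970 (.leaf 0xb0a0c0f0c0005) (.leaf 0x0))))) (.node 8976 (.node 8973 (.node 8972 (.leaf 0x0) (.leaf 0x0)) (.node 8974 (.leaf 0x8060002) (.node 8975 (.leaf 0x0) (.leaf 0x0)))) (.node 8978 (.node 8977 (.leaf 0x110f0d0e0004) (.leaf 0x0)) (.node 8979 (.leaf 0x8050002) (.node 8980 (.leaf 0x0) (.leaf 0x0))))))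

def argWS_877 : Store := (.node 8991 (.node 8986 (.node 8983 (.node 8982 (.leaf 0x110b0c0003) (.leaf 0x30401060705080007)) (.node 8984 (.leaf 0x0) (.node 8985 (.leaf 0x0) (.leaf 0x0)))) (.node 8988 (.node 8987 (.leaf 0x0) (.leaf 0x108060003)) (.node 8989 (.leaf 0x0) (.node 8990 (.leaf 0x0) (.leaf 0xd110f0f0c0005))))) (.node 8996 (.node 8993 (.node 8992 (.leaf 0x0) (.leaf 0x108050003)) (.node 8994 (.leaf 0x0) (.node 8995 (.leaf 0x0) (.leaf 0xe100f0c0004)))) (.node 8998 (.node 8997 (.leaf 0x2010607090005) (.leaf 0x0)) (.node 8999 (.leaf 0x0) (.node 9000 (.leaf 0x0) (.leaf 0x0))))))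

def argWS_878 : Store := (.node 8981 argWS_876 argWS_877)

def argWS_879 : Store := (.node 9011 (.node 9006 (.node 9003 (.node 9002 (.leaf 0x0) (.leaf 0x0)) (.node 9004 (.leaf 0xb0c0002) (.node 9005 (.leaf 0x10001) (.leaf 0x0)))) (.node 9008 (.node 9007 (.leaf 0x0) (.leaf 0xf100b0f0f0c0006)) (.node 9009 (.leaf 0x70001) (.node 9010 (.leaf 0x0) (.leaf 0x0))))) (.node 9016 (.node 9013 (.node 9012 (.leaf 0x100d0002) (.leaf 0x0)) (.node 9014 (.leaf 0x1070002) (.node 9015 (.leaf 0x0) (.leaf 0x0)))) (.node 9018 (.node 9017 (.leaf 0xa0d0002) (.leaf 0x8050002)) (.node 9019 (.leaf 0x0) (.node 9020 (.leaf 0x0) (.leaf 0xf100b0e0004))))))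

def argWS_880 : Store := (.node 9031 (.node 9026 (.node 9023 (.node 9022 (.leaf 0x0) (.leaf 0x108060003)) (.node 9024 (.leaf 0x0) (.node 9025 (.leaf 0x0) (.leaf 0x0)))) (.node 9028 (.node 9027 (.leaf 0xc100b0f0004) (.leaf 0x108050003)) (.node 9029 (.leaf 0x0) (.node 9030 (.leaf 0x0) (.leaf 0xf100b0e0004))))) (.node 9036 (.node 9033 (.node 9032 (.leaf 0x10001) (.leaf 0x10001)) (.node 9034 (.leaf 0x0) (.node 9035 (.leaf 0x0) (.leaf 0x0)))) (.node 9039 (.node 9037 (.leaf 0xd110d0d0e0005) (.node 9038 (.leaf 0x10001) (.leaf 0x10001))) (.node 9040 (.leaf 0x0) (.node 9041 (.leaf 0x0) (.leaf 0x0))))))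

def argWS_881 : Store := (.node 9021 argWS_879 argWS_880)

def argWS_882 : Store := (.node 9001 argWS_878 argWS_881)

def argWS_883 : Store := (.node 9052 (.node 9047 (.node 9044 (.node 9043 (.leaf 0xe100002) (.leaf 0x0)) (.node 9045 (.leaf 0x0) (.node 9046 (.leaf 0x0) (.leaf 0x30401060709080007)))) (.node 9049 (.node 9048 (.leaf 0x0) (.leaf 0x0)) (.node 9050 (.leaf 0x0) (.node 9051 (.leaf 0x209080003) (.leaf 0x0))))) (.node 9057 (.node 9054 (.node 9053 (.leaf 0x0) (.leaf 0x0)) (.node 9055 (.leaf 0x0) (.node 9056 (.leaf 0x302060607090006) (.leaf 0x0)))) (.node 9059 (.node 9058 (.leaf 0x0) (.leaf 0x0)) (.node 9060 (.leaf 0x0) (.node 9061 (.leaf 0x302060607090006) (.leaf 0x0))))))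

def argWS_884 : Store := (.node 9072 (.node 9067 (.node 9064 (.node 9063 (.leaf 0x0) (.leaf 0x0)) (.node 9065 (.leaf 0x0) (.node 9066 (.leaf 0x702010809080006) (.leaf 0x0)))) (.node 9069 (.node 9068 (.leaf 0x0) (.leaf 0x0)) (.node 9070 (.leaf 0x0) (.node 9071 (.leaf 0x4050002) (.leaf 0x0))))) (.node 9077 (.node 9074 (.node 9073 (.leaf 0x0) (.leaf 0x0)) (.node 9075 (.leaf 0x0) (.node 9076 (.leaf 0x102050003) (.leaf 0x0)))) (.node 9080 (.node 9078 (.leaf 0x0) (.node 9079 (.leaf 0x0) (.leaf 0x0))) (.node 9081 (.leaf 0x4000607090005) (.node 9082 (.leaf 0x0) (.leaf 0x0))))))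

def argWS_885 : Store := (.node 9062 argWS_883 argWS_884)

def argWS_886 : Store := (.node 9093 (.node 9088 (.node 9085 (.node 9084 (.leaf 0x0) (.leaf 0x30107050004)) (.node 9086 (.leaf 0x0) (.node 9087 (.leaf 0x0) (.leaf 0x0)))) (.node 9090 (.node 9089 (.leaf 0x0) (.leaf 0x40607060705080007)) (.node 9091 (.leaf 0x110d0e0003) (.node 9092 (.leaf 0x0) (.leaf 0x0))))) (.node 9098 (.node 9095 (.node 9094 (.leaf 0x0) (.leaf 0x0)) (.node 9096 (.leaf 0x0) (.node 9097 (.leaf 0x301060705080006) (.leaf 0x0)))) (.node 9100 (.node 9099 (.leaf 0x0) (.leaf 0x0)) (.node 9101 (.leaf 0x0) (.node 9102 (.leaf 0x1020607090005) (.leaf 0x0))))))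

def argWS_887 : Store := (.node 9113 (.node 9108 (.node 9105 (.node 9104 (.leaf 0x0) (.leaf 0x0)) (.node 9106 (.leaf 0x0) (.node 9107 (.leaf 0x403010607090006) (.leaf 0x0)))) (.node 9110 (.node 9109 (.leaf 0x0) (.leaf 0x0)) (.node 9111 (.leaf 0x0) (.node 9112 (.leaf 0x9080002) (.leaf 0x0))))) (.node 9118 (.node 9115 (.node 9114 (.leaf 0x0) (.leaf 0x0)) (.node 9116 (.leaf 0x0) (.node 9117 (.leaf 0x0) (.leaf 0x0)))) (.node 9121 (.node 9119 (.leaf 0x0) (.node 9120 (.leaf 0x100080003) (.leaf 0x204010507050705080009))) (.node 9122 (.leaf 0x0) (.node 9123 (.leaf 0x0) (.leaf 0xc100d0d0e0005))))))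

def argWS_888 : Store := (.node 9103 argWS_886 argWS_887)

def argWS_889 : Store := (.node 9083 argWS_885 argWS_888)

def argWS_890 : Store := (.node 9042 argWS_882 argWS_889)

def argWS_891 : Store := (.node 8961 argWS_875 argWS_890)

def argWS_892 : Store := (.node 8798 argWS_860 argWS_891)

def argWS_893 : Store := (.node 8472 argWS_829 argWS_892)

def argWS_894 : Store := (.node 9134 (.node 9129 (.node 9126 (.node 9125 (.leaf 0x0) (.leaf 0x0)) (.node 9127 (.leaf 0x0) (.node 9128 (.leaf 0x0) (.leaf 0x0)))) (.node 9131 (.node 9130 (.leaf 0x0) (.leaf 0x1070705080005)) (.node 9132 (.leaf 0x0) (.node 9133 (.leaf 0x0) (.leaf 0xf0001))))) (.node 9139 (.node 9136 (.node 9135 (.leaf 0x8050002) (.leaf 0x0)) (.node 9137 (.leaf 0x0) (.node 9138 (.leaf 0xd110f0c0004) (.leaf 0x108050003)))) (.node 9141 (.node 9140 (.leaf 0x0) (.leaf 0x0)) (.node 9142 (.leaf 0xb0a0d0f0c0005) (.node 9143 (.leaf 0x0) (.leaf 0x0))))))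

def argWS_895 : Store := (.node 9154 (.node 9149 (.node 9146 (.node 9145 (.leaf 0xc100b0f0c0005) (.leaf 0x0)) (.node 9147 (.leaf 0x80001) (.node 9148 (.leaf 0x0) (.leaf 0x0)))) (.node 9151 (.node 9150 (.leaf 0xd110d0d0e0005) (.leaf 0x0)) (.node 9152 (.leaf 0x1080002) (.node 9153 (.leaf 0x0) (.leaf 0x0))))) (.node 9159 (.node 9156 (.node 9155 (.leaf 0xd110d0d0e0005) (.leaf 0x70001)) (.node 9157 (.leaf 0x0) (.node 9158 (.leaf 0x0) (.leaf 0x0)))) (.node 9161 (.node 9160 (.leaf 0x110e0002) (.leaf 0x1070002)) (.node 9162 (.leaf 0x0) (.node 9163 (.leaf 0x0) (.leaf 0x0))))))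

def argWS_896 : Store := (.node 9144 argWS_894 argWS_895)

def argWS_897 : Store := (.node 9174 (.node 9169 (.node 9166 (.node 9165 (.leaf 0x100e0002) (.leaf 0x0)) (.node 9167 (.leaf 0x8060002) (.node 9168 (.leaf 0x0) (.leaf 0x0)))) (.node 9171 (.node 9170 (.leaf 0x100b0f0003) (.leaf 0x108060003)) (.node 9172 (.leaf 0x0) (.node 9173 (.leaf 0x0) (.leaf 0x100b0f0003))))) (.node 9179 (.node 9176 (.node 9175 (.leaf 0x0) (.leaf 0x0)) (.node 9177 (.leaf 0x0) (.node 9178 (.leaf 0xe110f0003) (.leaf 0x0)))) (.node 9181 (.node 9180 (.leaf 0x402010607060607090009) (.leaf 0x0)) (.node 9182 (.leaf 0x0) (.node 9183 (.leaf 0xd100c0f0c0005) (.leaf 0x5070002))))))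

def argWS_898 : Store := (.node 9194 (.node 9189 (.node 9186 (.node 9185 (.leaf 0x0) (.leaf 0x0)) (.node 9187 (.leaf 0xb0d0002) (.node 9188 (.leaf 0x0) (.leaf 0x3040809080005)))) (.node 9191 (.node 9190 (.leaf 0x0) (.leaf 0x0)) (.node 9192 (.leaf 0xb0a0d0003) (.node 9193 (.leaf 0x30507050004) (.leaf 0x0))))) (.node 9199 (.node 9196 (.node 9195 (.leaf 0x0) (.leaf 0x100b0c0f0c0005)) (.node 9197 (.leaf 0x0) (.node 9198 (.leaf 0xb0d0d0e0004) (.leaf 0x110d0d0e0004)))) (.node 9202 (.node 9200 (.leaf 0x2040109080607090008) (.node 9201 (.leaf 0x0) (.leaf 0x0))) (.node 9203 (.leaf 0xb0f0002) (.node 9204 (.leaf 0x0) (.leaf 0x1080002))))))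

def argWS_899 : Store := (.node 9184 argWS_897 argWS_898)

def argWS_900 : Store := (.node 9164 argWS_896 argWS_899)

def argWS_901 : Store := (.node 9215 (.node 9210 (.node 9207 (.node 9206 (.leaf 0x0) (.leaf 0x0)) (.node 9208 (.leaf 0x100b0f0003) (.node 9209 (.leaf 0x0) (.leaf 0x0)))) (.node 9212 (.node 9211 (.leaf 0x0) (.leaf 0x0)) (.node 9213 (.leaf 0x3050705080005) (.node 9214 (.leaf 0x80001) (.leaf 0x0))))) (.node 9220 (.node 9217 (.node 9216 (.leaf 0x0) (.leaf 0x100b0f0003)) (.node 9218 (.leaf 0x0) (.node 9219 (.leaf 0x0) (.leaf 0x0)))) (.node 9222 (.node 9221 (.leaf 0x4020607050705080008) (.leaf 0x1080002)) (.node 9223 (.leaf 0x0) (.node 9224 (.leaf 0x0) (.leaf 0x10001))))))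

def argWS_902 : Store := (.node 9235 (.node 9230 (.node 9227 (.node 9226 (.leaf 0x10001) (.leaf 0x0)) (.node 9228 (.leaf 0x0) (.node 9229 (.leaf 0x0) (.leaf 0xe110f0c0004)))) (.node 9232 (.node 9231 (.leaf 0x1080002) (.leaf 0x0)) (.node 9233 (.leaf 0x0) (.node 9234 (.leaf 0xb0a0d0f0c0005) (.leaf 0x8060002))))) (.node 9240 (.node 9237 (.node 9236 (.leaf 0x0) (.leaf 0x0)) (.node 9238 (.leaf 0xd100f0f0c0005) (.node 9239 (.leaf 0x80001) (.leaf 0x0)))) (.node 9243 (.node 9241 (.leaf 0x0) (.node 9242 (.leaf 0xd110f0c0004) (.leaf 0x108060003))) (.node 9244 (.leaf 0x0) (.node 9245 (.leaf 0x0) (.leaf 0x100f0d0e0004))))))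

def argWS_903 : Store := (.node 9225 argWS_901 argWS_902)

def argWS_904 : Store := (.node 9256 (.node 9251 (.node 9248 (.node 9247 (.leaf 0x1070002) (.leaf 0x0)) (.node 9249 (.leaf 0x0) (.node 9250 (.leaf 0x110c0f0c0004) (.leaf 0x302060003)))) (.node 9253 (.node 9252 (.leaf 0x0) (.leaf 0x0)) (.node 9254 (.leaf 0x0) (.node 9255 (.leaf 0x301060705080006) (.leaf 0x0))))) (.node 9261 (.node 9258 (.node 9257 (.leaf 0x1070002) (.leaf 0x0)) (.node 9259 (.leaf 0x0) (.node 9260 (.leaf 0xc100b0d0f0c0006) (.leaf 0x0)))) (.node 9263 (.node 9262 (.leaf 0x0) (.leaf 0x0)) (.node 9264 (.leaf 0x3000507060005) (.node 9265 (.leaf 0x1080002) (.leaf 0x0))))))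

def argWS_905 : Store := (.node 9276 (.node 9271 (.node 9268 (.node 9267 (.leaf 0x0) (.leaf 0x110b0d0d0e0005)) (.node 9269 (.leaf 0x0) (.node 9270 (.leaf 0x0) (.leaf 0x0)))) (.node 9273 (.node 9272 (.leaf 0x0) (.leaf 0x10005070004)) (.node 9274 (.leaf 0x4000705080005) (.node 9275 (.leaf 0x0) (.leaf 0x0))))) (.node 9281 (.node 9278 (.node 9277 (.leaf 0xd100c0f0c0005) (.leaf 0x0)) (.node 9279 (.leaf 0x108050003) (.node 9280 (.leaf 0x0) (.leaf 0x0)))) (.node 9284 (.node 9282 (.leaf 0x110f0002) (.node 9283 (.leaf 0x0) (.leaf 0x0))) (.node 9285 (.leaf 0x0) (.node 9286 (.leaf 0x405070003) (.leaf 0x8050002))))))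

def argWS_906 : Store := (.node 9266 argWS_904 argWS_905)

def argWS_907 : Store := (.node 9246 argWS_903 argWS_906)

def argWS_908 : Store := (.node 9205 argWS_900 argWS_907)

def argWS_909 : Store := (.node 9297 (.node 9292 (.node 9289 (.node 9288 (.leaf 0x0) (.leaf 0x0)) (.node 9290 (.leaf 0x100f0002) (.node 9291 (.leaf 0x0) (.leaf 0x0)))) (.node 9294 (.node 9293 (.leaf 0x0) (.leaf 0x304050705080006)) (.node 9295 (.leaf 0x30107090004) (.node 9296 (.leaf 0x0) (.leaf 0x0))))) (.node 9302 (.node 9299 (.node 9298 (.leaf 0x110b0f0d0e0005) (.leaf 0x7010208060607090008)) (.node 9300 (.leaf 0x0) (.node 9301 (.leaf 0x0) (.leaf 0x0)))) (.node 9304 (.node 9303 (.leaf 0x0) (.leaf 0x100d0002)) (.node 9305 (.leaf 0x0) (.node 9306 (.leaf 0x10001) (.leaf 0x10001))))))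

def argWS_910 : Store := (.node 9317 (.node 9312 (.node 9309 (.node 9308 (.leaf 0x0) (.leaf 0x0)) (.node 9310 (.leaf 0x0) (.node 9311 (.leaf 0xa0d0002) (.leaf 0x0)))) (.node 9314 (.node 9313 (.leaf 0x80001) (.leaf 0x0)) (.node 9315 (.leaf 0x0) (.node 9316 (.leaf 0x110b0f0d0e0005) (.leaf 0x70001))))) (.node 9322 (.node 9319 (.node 9318 (.leaf 0x0) (.leaf 0x0)) (.node 9320 (.leaf 0xd100f0c0004) (.node 9321 (.leaf 0x1080002) (.leaf 0x0)))) (.node 9324 (.node 9323 (.leaf 0x0) (.leaf 0xe100c0f0c0005)) (.node 9325 (.leaf 0x1070002) (.node 9326 (.leaf 0x0) (.leaf 0x0))))))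

def argWS_911 : Store := (.node 9307 argWS_909 argWS_910)

def argWS_912 : Store := (.node 9337 (.node 9332 (.node 9329 (.node 9328 (.leaf 0xb0d0f0c0004) (.leaf 0x0)) (.node 9330 (.leaf 0x8060002) (.node 9331 (.leaf 0x0) (.leaf 0x0)))) (.node 9334 (.node 9333 (.leaf 0xd100c0003) (.leaf 0x108060003)) (.node 9335 (.leaf 0x0) (.node 9336 (.leaf 0x0) (.leaf 0xd100c0003))))) (.node 9342 (.node 9339 (.node 9338 (.leaf 0x0) (.leaf 0x1080002)) (.node 9340 (.leaf 0x0) (.node 9341 (.leaf 0x0) (.leaf 0xe0001)))) (.node 9344 (.node 9343 (.leaf 0x10001) (.leaf 0x10001)) (.node 9345 (.leaf 0x0) (.node 9346 (.leaf 0x0) (.leaf 0x0))))))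

def argWS_913 : Store := (.node 9357 (.node 9352 (.node 9349 (.node 9348 (.leaf 0x110b0d0d0e0005) (.leaf 0x0)) (.node 9350 (.leaf 0x3040709080005) (.node 9351 (.leaf 0x0) (.leaf 0x0)))) (.node 9354 (.node 9353 (.leaf 0x0) (.leaf 0xb0a0d0d0e0005)) (.node 9355 (.leaf 0x0) (.node 9356 (.leaf 0x0) (.leaf 0x8060002))))) (.node 9362 (.node 9359 (.node 9358 (.leaf 0x0) (.leaf 0x0)) (.node 9360 (.leaf 0xf100b0e0004) (.node 9361 (.leaf 0x108060003) (.leaf 0x0)))) (.node 9365 (.node 9363 (.leaf 0x0) (.node 9364 (.leaf 0xf100b0e0004) (.leaf 0x10001))) (.node 9366 (.leaf 0x10001) (.node 9367 (.leaf 0x0) (.leaf 0x0))))))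

def argWS_914 : Store := (.node 9347 argWS_912 argWS_913)

def argWS_915 : Store := (.node 9327 argWS_911 argWS_914)

def argWS_916 : Store := (.node 9378 (.node 9373 (.node 9370 (.node 9369 (.leaf 0x0) (.leaf 0x0)) (.node 9371 (.leaf 0x2040109080607090008) (.node 9372 (.leaf 0x205070003) (.leaf 0x0)))) (.node 9375 (.node 9374 (.leaf 0x0) (.leaf 0x0)) (.node 9376 (.leaf 0xf100c0f0c0005) (.node 9377 (.leaf 0x1080002) (.leaf 0x0))))) (.node 9383 (.node 9380 (.node 9379 (.leaf 0x0) (.leaf 0x0)) (.node 9381 (.leaf 0x204050707090006) (.node 9382 (.leaf 0x20301070607090007) (.leaf 0x0)))) (.node 9385 (.node 9384 (.leaf 0x100b0c0f0c0005) (.leaf 0x0)) (.node 9386 (.leaf 0x0) (.node 9387 (.leaf 0x0) (.leaf 0x0))))))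

def argWS_917 : Store := (.node 9398 (.node 9393 (.node 9390 (.node 9389 (.leaf 0x0) (.leaf 0x7010607050005)) (.node 9391 (.leaf 0x80001) (.node 9392 (.leaf 0x0) (.leaf 0x0)))) (.node 9395 (.node 9394 (.leaf 0x0) (.leaf 0x204050707090006)) (.node 9396 (.leaf 0x203070607090006) (.node 9397 (.leaf 0x0) (.leaf 0xf100f0d0e0005))))) (.node 9403 (.node 9400 (.node 9399 (.leaf 0x0) (.leaf 0x0)) (.node 9401 (.leaf 0x0) (.node 9402 (.leaf 0x0) (.leaf 0x2000607050005)))) (.node 9406 (.node 9404 (.leaf 0x108050003) (.node 9405 (.leaf 0x0) (.leaf 0x0))) (.node 9407 (.leaf 0x100b0f0c0004) (.node 9408 (.leaf 0x0) (.leaf 0x0))))))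

def argWS_918 : Store := (.node 9388 argWS_916 argWS_917)

def argWS_919 : Store := (.node 9419 (.node 9414 (.node 9411 (.node 9410 (.leaf 0x0) (.leaf 0x2050707090005)) (.node 9412 (.leaf 0x8050002) (.node 9413 (.leaf 0x0) (.leaf 0x0)))) (.node 9416 (.node 9415 (.leaf 0x0) (.leaf 0x301060705080006)) (.node 9417 (.leaf 0x402050709080607090009) (.node 9418 (.leaf 0x0) (.leaf 0x110c0002))))) (.node 9424 (.node 9421 (.node 9420 (.leaf 0x0) (.leaf 0x0)) (.node 9422 (.leaf 0x0) (.node 9423 (.leaf 0x0) (.leaf 0x403070705080006)))) (.node 9426 (.node 9425 (.leaf 0x10001) (.leaf 0x10001)) (.node 9427 (.leaf 0x0) (.node 9428 (.leaf 0x0) (.leaf 0x0))))))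

def argWS_920 : Store := (.node 9439 (.node 9434 (.node 9431 (.node 9430 (.leaf 0xc100b0d0d0e0006) (.leaf 0x70001)) (.node 9432 (.leaf 0x0) (.node 9433 (.leaf 0x0) (.leaf 0x0)))) (.node 9436 (.node 9435 (.leaf 0x4050705080005) (.leaf 0x1070705080005)) (.node 9437 (.leaf 0x0) (.node 9438 (.leaf 0x0) (.leaf 0x0))))) (.node 9444 (.node 9441 (.node 9440 (.leaf 0x110b0f0c0004) (.leaf 0x1070002)) (.node 9442 (.leaf 0x403060607090006) (.node 9443 (.leaf 0x0) (.leaf 0x0)))) (.node 9447 (.node 9445 (.leaf 0x0) (.node 9446 (.leaf 0x0) (.leaf 0x4050705080005))) (.node 9448 (.leaf 0x70705080004) (.node 9449 (.leaf 0x0) (.leaf 0x0))))))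

def argWS_921 : Store := (.node 9429 argWS_919 argWS_920)

def argWS_922 : Store := (.node 9409 argWS_918 argWS_921)

def argWS_923 : Store := (.node 9368 argWS_915 argWS_922)

def argWS_924 : Store := (.node 9287 argWS_908 argWS_923)

def argWS_925 : Store := (.node 9460 (.node 9455 (.node 9452 (.node 9451 (.leaf 0x0) (.leaf 0xc100d0f0c0005)) (.node 9453 (.leaf 0x80001) (.node 9454 (.leaf 0x0) (.leaf 0x0)))) (.node 9457 (.node 9456 (.leaf 0xd0001) (.leaf 0x0)) (.node 9458 (.leaf 0x0) (.node 9459 (.leaf 0x100d0e0003) (.leaf 0x0))))) (.node 9465 (.node 9462 (.node 9461 (.leaf 0x0) (.leaf 0x0)) (.node 9463 (.leaf 0x0) (.node 9464 (.leaf 0x300070607090006) (.leaf 0x10001)))) (.node 9467 (.node 9466 (.leaf 0x10001) (.leaf 0x0)) (.node 9468 (.leaf 0x0) (.node 9469 (.leaf 0x0) (.leaf 0xa0d0e0003))))))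

def argWS_926 : Store := (.node 9480 (.node 9475 (.node 9472 (.node 9471 (.leaf 0x0) (.leaf 0x0)) (.node 9473 (.leaf 0x0) (.node 9474 (.leaf 0x702010607090006) (.leaf 0x8060002)))) (.node 9477 (.node 9476 (.leaf 0x0) (.leaf 0x0)) (.node 9478 (.leaf 0xd110e0003) (.node 9479 (.leaf 0x0) (.leaf 0x0))))) (.node 9485 (.node 9482 (.node 9481 (.leaf 0x0) (.leaf 0x108060003)) (.node 9483 (.leaf 0x0) (.node 9484 (.leaf 0x0) (.leaf 0xf100c0f0c0005)))) (.node 9487 (.node 9486 (.leaf 0x0) (.leaf 0x0)) (.node 9488 (.leaf 0x0) (.node 9489 (.leaf 0x0) (.leaf 0x0))))))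

def argWS_927 : Store := (.node 9470 argWS_925 argWS_926)

def argWS_928 : Store := (.node 9500 (.node 9495 (.node 9492 (.node 9491 (.leaf 0xf100e0003) (.leaf 0x0)) (.node 9493 (.leaf 0x0) (.node 9494 (.leaf 0x0) (.leaf 0x0)))) (.node 9497 (.node 9496 (.leaf 0x203060607090006) (.leaf 0x10001)) (.node 9498 (.leaf 0x0) (.node 9499 (.leaf 0x0) (.leaf 0xc100d0003))))) (.node 9505 (.node 9502 (.node 9501 (.leaf 0x0) (.leaf 0x0)) (.node 9503 (.leaf 0x0) (.node 9504 (.leaf 0x0) (.leaf 0x3040107060705080008)))) (.node 9507 (.node 9506 (.leaf 0x80001) (.leaf 0x0)) (.node 9508 (.leaf 0x0) (.node 9509 (.leaf 0x0) (.leaf 0x400060607090006))))))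

def argWS_929 : Store := (.node 9520 (.node 9515 (.node 9512 (.node 9511 (.leaf 0x40607060607090007) (.leaf 0x0)) (.node 9513 (.leaf 0x100b0d0003) (.node 9514 (.leaf 0x0) (.leaf 0x0)))) (.node 9517 (.node 9516 (.leaf 0x0) (.leaf 0x0)) (.node 9518 (.leaf 0x70001) (.node 9519 (.leaf 0x0) (.leaf 0x0))))) (.node 9525 (.node 9522 (.node 9521 (.leaf 0x100001) (.leaf 0x0)) (.node 9523 (.leaf 0x0) (.node 9524 (.leaf 0x0) (.leaf 0x1080002)))) (.node 9528 (.node 9526 (.leaf 0x0) (.node 9527 (.leaf 0x0) (.leaf 0x0))) (.node 9529 (.leaf 0x400060607090006) (.node 9530 (.leaf 0x1040607060607090008) (.leaf 0x0))))))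

def argWS_930 : Store := (.node 9510 argWS_928 argWS_929)

def argWS_931 : Store := (.node 9490 argWS_927 argWS_930)

def argWS_932 : Store := (.node 9541 (.node 9536 (.node 9533 (.node 9532 (.leaf 0xb0d0002) (.leaf 0x0)) (.node 9534 (.leaf 0x0) (.node 9535 (.leaf 0x0) (.leaf 0x0)))) (.node 9538 (.node 9537 (.leaf 0x1070002) (.leaf 0x0)) (.node 9539 (.leaf 0x0) (.node 9540 (.leaf 0x0) (.leaf 0x110001))))) (.node 9546 (.node 9543 (.node 9542 (.leaf 0x0) (.leaf 0x0)) (.node 9544 (.leaf 0x0) (.node 9545 (.leaf 0x204060709080607090009) (.leaf 0x108060003)))) (.node 9548 (.node 9547 (.leaf 0x0) (.leaf 0x0)) (.node 9549 (.leaf 0x0) (.node 9550 (.leaf 0x400060607090006) (.leaf 0x1020607060705080008))))))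

def argWS_933 : Store := (.node 9561 (.node 9556 (.node 9553 (.node 9552 (.leaf 0x0) (.leaf 0xd0e0002)) (.node 9554 (.leaf 0x0) (.node 9555 (.leaf 0x40201060705080007) (.leaf 0x0)))) (.node 9558 (.node 9557 (.leaf 0x0) (.leaf 0x0)) (.node 9559 (.leaf 0x0) (.node 9560 (.leaf 0xf100d0f0c0005) (.leaf 0x0))))) (.node 9566 (.node 9563 (.node 9562 (.leaf 0x10001) (.leaf 0x10001)) (.node 9564 (.leaf 0x0) (.node 9565 (.leaf 0x0) (.leaf 0x0)))) (.node 9569 (.node 9567 (.leaf 0xe100c0f0c0005) (.node 9568 (.leaf 0x10001) (.leaf 0x10001))) (.node 9570 (.leaf 0x0) (.node 9571 (.leaf 0x0) (.leaf 0x0))))))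

def argWS_934 : Store := (.node 9551 argWS_932 argWS_933)

def argWS_935 : Store := (.node 9582 (.node 9577 (.node 9574 (.node 9573 (.leaf 0xc100b0d0f0c0006) (.leaf 0x10001)) (.node 9575 (.leaf 0x10001) (.node 9576 (.leaf 0x701020003) (.leaf 0x0)))) (.node 9579 (.node 9578 (.leaf 0x0) (.leaf 0x0)) (.node 9580 (.leaf 0x0) (.node 9581 (.leaf 0xd110d0e0004) (.leaf 0x108060003))))) (.node 9587 (.node 9584 (.node 9583 (.leaf 0x0) (.leaf 0x0)) (.node 9585 (.leaf 0xd0e0002) (.node 9586 (.leaf 0x0) (.leaf 0x8060002)))) (.node 9589 (.node 9588 (.leaf 0x0) (.leaf 0x0)) (.node 9590 (.leaf 0x110d0e0003) (.node 9591 (.leaf 0x70001) (.leaf 0x300050705080006))))))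

def argWS_936 : Store := (.node 9602 (.node 9597 (.node 9594 (.node 9593 (.leaf 0x0) (.leaf 0x0)) (.node 9595 (.leaf 0x0) (.node 9596 (.leaf 0x0) (.leaf 0x0)))) (.node 9599 (.node 9598 (.leaf 0x0) (.leaf 0xf0c0002)) (.node 9600 (.leaf 0x0) (.node 9601 (.leaf 0x10001) (.leaf 0x0))))) (.node 9607 (.node 9604 (.node 9603 (.leaf 0x0) (.leaf 0xe110f0f0c0005)) (.node 9605 (.leaf 0x0) (.node 9606 (.leaf 0x108060003) (.leaf 0x0)))) (.node 9610 (.node 9608 (.leaf 0x0) (.node 9609 (.leaf 0xd110002) (.leaf 0x8060002))) (.node 9611 (.leaf 0x109080607090006) (.node 9612 (.leaf 0x0) (.leaf 0x0))))))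

def argWS_937 : Store := (.node 9592 argWS_935 argWS_936)

def argWS_938 : Store := (.node 9572 argWS_934 argWS_937)

def argWS_939 : Store := (.node 9531 argWS_931 argWS_938)

def argWS_940 : Store := (.node 9623 (.node 9618 (.node 9615 (.node 9614 (.leaf 0x0) (.leaf 0xf100d0f0c0005)) (.node 9616 (.leaf 0x0) (.node 9617 (.leaf 0x0) (.leaf 0xc100b0f0d0e0006)))) (.node 9620 (.node 9619 (.leaf 0x80001) (.leaf 0x0)) (.node 9621 (.leaf 0x0) (.node 9622 (.leaf 0x100b0f0d0e0005) (.leaf 0x70001))))) (.node 9628 (.node 9625 (.node 9624 (.leaf 0x0) (.leaf 0x0)) (.node 9626 (.leaf 0x100b0e0003) (.node 9627 (.leaf 0x1080002) (.leaf 0x0)))) (.node 9630 (.node 9629 (.leaf 0x0) (.leaf 0xe110c0f0c0005)) (.node 9631 (.leaf 0x8050002) (.node 9632 (.leaf 0x0) (.leaf 0x0))))))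

def argWS_941 : Store := (.node 9643 (.node 9638 (.node 9635 (.node 9634 (.leaf 0xd110f0003) (.leaf 0x0)) (.node 9636 (.leaf 0x108050003) (.node 9637 (.leaf 0x0) (.leaf 0x0)))) (.node 9640 (.node 9639 (.leaf 0xf100f0c0004) (.leaf 0x10001)) (.node 9641 (.leaf 0x10001) (.node 9642 (.leaf 0x0) (.leaf 0x0))))) (.node 9648 (.node 9645 (.node 9644 (.leaf 0x0) (.leaf 0xf100b0d0004)) (.node 9646 (.leaf 0x8060002) (.node 9647 (.leaf 0x0) (.leaf 0x0)))) (.node 9650 (.node 9649 (.leaf 0x100b0e0003) (.leaf 0x0)) (.node 9651 (.leaf 0x1070002) (.node 9652 (.leaf 0x3010607060005) (.leaf 0x0))))))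

def argWS_942 : Store := (.node 9633 argWS_940 argWS_941)

def argWS_943 : Store := (.node 9663 (.node 9658 (.node 9655 (.node 9654 (.leaf 0x0) (.leaf 0x0)) (.node 9656 (.leaf 0x110b0f0c0004) (.node 9657 (.leaf 0x0) (.leaf 0x80001)))) (.node 9660 (.node 9659 (.leaf 0x0) (.leaf 0x0)) (.node 9661 (.leaf 0x100b0f0c0004) (.node 9662 (.leaf 0x70001) (.leaf 0x0))))) (.node 9668 (.node 9665 (.node 9664 (.leaf 0x0) (.leaf 0xc100d0f0c0005)) (.node 9666 (.leaf 0x0) (.node 9667 (.leaf 0x1080002) (.leaf 0x0)))) (.node 9670 (.node 9669 (.leaf 0x0) (.leaf 0xf100c0003)) (.node 9671 (.leaf 0x0) (.node 9672 (.leaf 0x8050002) (.leaf 0x0))))))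

def argWS_944 : Store := (.node 9683 (.node 9678 (.node 9675 (.node 9674 (.leaf 0x0) (.leaf 0x110d0d0e0004)) (.node 9676 (.leaf 0x0) (.node 9677 (.leaf 0x108060003) (.leaf 0x4030105080005)))) (.node 9680 (.node 9679 (.leaf 0x0) (.leaf 0x0)) (.node 9681 (.leaf 0x0) (.node 9682 (.leaf 0x0) (.leaf 0x100b0e0003))))) (.node 9688 (.node 9685 (.node 9684 (.leaf 0x0) (.leaf 0x108050003)) (.node 9686 (.leaf 0x0) (.node 9687 (.leaf 0x0) (.leaf 0xd110d0e0004)))) (.node 9691 (.node 9689 (.leaf 0x0) (.node 9690 (.leaf 0x80001) (.leaf 0x0))) (.node 9692 (.leaf 0x0) (.node 9693 (.leaf 0x110b0f0003) (.leaf 0x0))))))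

def argWS_945 : Store := (.node 9673 argWS_943 argWS_944)

def argWS_946 : Store := (.node 9653 argWS_942 argWS_945)

def argWS_947 : Store := (.node 9704 (.node 9699 (.node 9696 (.node 9695 (.leaf 0x1080002) (.leaf 0x0)) (.node 9697 (.leaf 0x0) (.node 9698 (.leaf 0x110b0f0003) (.leaf 0x10001)))) (.node 9701 (.node 9700 (.leaf 0x10001) (.leaf 0x0)) (.node 9702 (.leaf 0x0) (.node 9703 (.leaf 0x0) (.leaf 0xd110f0c0004))))) (.node 9709 (.node 9706 (.node 9705 (.leaf 0x0) (.leaf 0x108060003)) (.node 9707 (.leaf 0x0) (.node 9708 (.leaf 0x0) (.leaf 0xd110f0003)))) (.node 9711 (.node 9710 (.leaf 0x0) (.leaf 0x70001)) (.node 9712 (.leaf 0x0) (.node 9713 (.leaf 0x0) (.leaf 0x100c0002))))))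

def argWS_948 : Store := (.node 9724 (.node 9719 (.node 9716 (.node 9715 (.leaf 0x0) (.leaf 0x1070002)) (.node 9717 (.leaf 0x0) (.node 9718 (.leaf 0x0) (.leaf 0xd100d0003)))) (.node 9721 (.node 9720 (.leaf 0x0) (.leaf 0x8060002)) (.node 9722 (.leaf 0x0) (.node 9723 (.leaf 0x0) (.leaf 0xf100f0c0004))))) (.node 9729 (.node 9726 (.node 9725 (.leaf 0x0) (.leaf 0x8050002)) (.node 9727 (.leaf 0x0) (.node 9728 (.leaf 0x0) (.leaf 0x110b0f0f0c0005)))) (.node 9732 (.node 9730 (.leaf 0x0) (.node 9731 (.leaf 0x108050003) (.leaf 0x0))) (.node 9733 (.leaf 0x0) (.node 9734 (.leaf 0xb0a0f0f0c0005) (.leaf 0x0))))))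

def argWS_949 : Store := (.node 9714 argWS_947 argWS_948)

def argWS_950 : Store := (.node 9745 (.node 9740 (.node 9737 (.node 9736 (.leaf 0x0) (.leaf 0x0)) (.node 9738 (.leaf 0x0) (.node 9739 (.leaf 0x0) (.leaf 0x30106070905080007)))) (.node 9742 (.node 9741 (.leaf 0x0) (.leaf 0x0)) (.node 9743 (.leaf 0x0) (.node 9744 (.leaf 0x0) (.leaf 0x105070905080006))))) (.node 9750 (.node 9747 (.node 9746 (.leaf 0x0) (.leaf 0x0)) (.node 9748 (.leaf 0x0) (.node 9749 (.leaf 0x0) (.leaf 0x304010607050006)))) (.node 9752 (.node 9751 (.leaf 0x2000507060607090008) (.leaf 0x0)) (.node 9753 (.leaf 0x0) (.node 9754 (.leaf 0x0) (.leaf 0x0))))))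

def argWS_951 : Store := (.node 9765 (.node 9760 (.node 9757 (.node 9756 (.leaf 0x0) (.leaf 0x10306070004)) (.node 9758 (.leaf 0x0) (.node 9759 (.leaf 0x0) (.leaf 0x0)))) (.node 9762 (.node 9761 (.leaf 0x0) (.leaf 0x70102090004)) (.node 9763 (.leaf 0x0) (.node 9764 (.leaf 0x0) (.leaf 0x0))))) (.node 9770 (.node 9767 (.node 9766 (.leaf 0x0) (.leaf 0x4000809080005)) (.node 9768 (.leaf 0x0) (.node 9769 (.leaf 0x0) (.leaf 0x0)))) (.node 9773 (.node 9771 (.leaf 0x0) (.node 9772 (.leaf 0x70102090004) (.leaf 0x10009080607090007))) (.node 9774 (.leaf 0x0) (.node 9775 (.leaf 0x0) (.leaf 0x0))))))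

def argWS_952 : Store := (.node 9755 argWS_950 argWS_951)

def argWS_953 : Store := (.node 9735 argWS_949 argWS_952)

def argWS_954 : Store := (.node 9694 argWS_946 argWS_953)

def argWS_955 : Store := (.node 9613 argWS_939 argWS_954)

def argWS_956 : Store := (.node 9450 argWS_924 argWS_955)

def argWS_957 : Store := (.node 9786 (.node 9781 (.node 9778 (.node 9777 (.leaf 0x0) (.leaf 0x0)) (.node 9779 (.leaf 0x4000709080607090008) (.node 9780 (.leaf 0xc100b0f0c0005) (.leaf 0x2000507060005)))) (.node 9783 (.node 9782 (.leaf 0x0) (.leaf 0x0)) (.node 9784 (.leaf 0x2000507060607090008) (.node 9785 (.leaf 0x30408050004) (.leaf 0x0))))) (.node 9791 (.node 9788 (.node 9787 (.leaf 0x0) (.leaf 0x0)) (.node 9789 (.leaf 0x0) (.node 9790 (.leaf 0x10209080004) (.leaf 0x0)))) (.node 9793 (.node 9792 (.leaf 0x0) (.leaf 0x0)) (.node 9794 (.leaf 0x10001) (.node 9795 (.leaf 0x0) (.leaf 0x100c0f0c0004))))))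

def argWS_958 : Store := (.node 9806 (.node 9801 (.node 9798 (.node 9797 (.leaf 0x0) (.leaf 0x70001)) (.node 9799 (.leaf 0x0) (.node 9800 (.leaf 0xa0c0002) (.leaf 0x0)))) (.node 9803 (.node 9802 (.leaf 0x0) (.leaf 0x1020905080005)) (.node 9804 (.leaf 0x10006070705080007) (.node 9805 (.leaf 0x0) (.leaf 0x0))))) (.node 9811 (.node 9808 (.node 9807 (.leaf 0x0) (.leaf 0x110d0f0c0004)) (.node 9809 (.leaf 0x0) (.node 9810 (.leaf 0x0) (.leaf 0x0)))) (.node 9813 (.node 9812 (.leaf 0x0) (.leaf 0x9080003)) (.node 9814 (.leaf 0x0) (.node 9815 (.leaf 0x0) (.leaf 0x300060705080006))))))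

def argWS_959 : Store := (.node 9796 argWS_957 argWS_958)

def argWS_960 : Store := (.node 9826 (.node 9821 (.node 9818 (.node 9817 (.leaf 0x0) (.leaf 0x0)) (.node 9819 (.leaf 0x0) (.node 9820 (.leaf 0x0) (.leaf 0x7060607090006)))) (.node 9823 (.node 9822 (.leaf 0x0) (.leaf 0x0)) (.node 9824 (.leaf 0x0) (.node 9825 (.leaf 0x10001) (.leaf 0x4020108050005))))) (.node 9831 (.node 9828 (.node 9827 (.leaf 0x0) (.leaf 0x0)) (.node 9829 (.leaf 0x0) (.node 9830 (.leaf 0x0) (.leaf 0x0)))) (.node 9833 (.node 9832 (.leaf 0x304010607090006) (.leaf 0x0)) (.node 9834 (.leaf 0x0) (.node 9835 (.leaf 0x0) (.leaf 0x0))))))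

def argWS_961 : Store := (.node 9846 (.node 9841 (.node 9838 (.node 9837 (.leaf 0x40009080004) (.leaf 0x0)) (.node 9839 (.leaf 0x0) (.node 9840 (.leaf 0x0) (.leaf 0x0)))) (.node 9843 (.node 9842 (.leaf 0x102060607090006) (.leaf 0x0)) (.node 9844 (.leaf 0x0) (.node 9845 (.leaf 0x0) (.leaf 0x0))))) (.node 9851 (.node 9848 (.node 9847 (.leaf 0x3010002) (.leaf 0x0)) (.node 9849 (.leaf 0x0) (.node 9850 (.leaf 0x0) (.leaf 0x0)))) (.node 9854 (.node 9852 (.leaf 0x4050705080005) (.node 9853 (.leaf 0x0) (.leaf 0x0))) (.node 9855 (.leaf 0x0) (.node 9856 (.leaf 0x0) (.leaf 0x301060607090006))))))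

def argWS_962 : Store := (.node 9836 argWS_960 argWS_961)

def argWS_963 : Store := (.node 9816 argWS_959 argWS_962)

def argWS_964 : Store := (.node 9867 (.node 9862 (.node 9859 (.node 9858 (.leaf 0x0) (.leaf 0x0)) (.node 9860 (.leaf 0x0) (.node 9861 (.leaf 0x0) (.leaf 0x0)))) (.node 9864 (.node 9863 (.leaf 0x0) (.leaf 0x0)) (.node 9865 (.leaf 0x0) (.node 9866 (.leaf 0x0) (.leaf 0x0))))) (.node 9872 (.node 9869 (.node 9868 (.leaf 0x0) (.leaf 0x2040109080607090008)) (.node 9870 (.leaf 0x0) (.node 9871 (.leaf 0x0) (.leaf 0x0)))) (.node 9874 (.node 9873 (.leaf 0x0) (.leaf 0x1020002)) (.node 9875 (.leaf 0x0) (.node 9876 (.leaf 0x0) (.leaf 0x0))))))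

def argWS_965 : Store := (.node 9887 (.node 9882 (.node 9879 (.node 9878 (.leaf 0x0) (.leaf 0x7020105080005)) (.node 9880 (.leaf 0x0) (.node 9881 (.leaf 0x0) (.leaf 0x0)))) (.node 9884 (.node 9883 (.leaf 0x0) (.leaf 0x0)) (.node 9885 (.leaf 0x20301050707090007) (.node 9886 (.leaf 0x0) (.leaf 0x0))))) (.node 9892 (.node 9889 (.node 9888 (.leaf 0x0) (.leaf 0x0)) (.node 9890 (.leaf 0x0) (.node 9891 (.leaf 0x0) (.leaf 0x0)))) (.node 9895 (.node 9893 (.leaf 0x0) (.node 9894 (.leaf 0x0) (.leaf 0x0))) (.node 9896 (.leaf 0x2040108050005) (.node 9897 (.leaf 0x10001) (.leaf 0x0))))))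

def argWS_966 : Store := (.node 9877 argWS_964 argWS_965)

def argWS_967 : Store := (.node 9908 (.node 9903 (.node 9900 (.node 9899 (.leaf 0x0) (.leaf 0x0)) (.node 9901 (.leaf 0x0) (.node 9902 (.leaf 0x0) (.leaf 0x4020507050705080008)))) (.node 9905 (.node 9904 (.leaf 0x2000607050005) (.leaf 0x0)) (.node 9906 (.leaf 0x0) (.node 9907 (.leaf 0x0) (.leaf 0x0))))) (.node 9913 (.node 9910 (.node 9909 (.leaf 0x0) (.leaf 0x4060002)) (.node 9911 (.leaf 0x0) (.node 9912 (.leaf 0x0) (.leaf 0x0)))) (.node 9915 (.node 9914 (.leaf 0x7010208060607090008) (.leaf 0x0)) (.node 9916 (.leaf 0x0) (.node 9917 (.leaf 0x7010208060607090008) (.leaf 0x0))))))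

def argWS_968 : Store := (.node 9928 (.node 9923 (.node 9920 (.node 9919 (.leaf 0xf100b0c0004) (.leaf 0x30401070905080007)) (.node 9921 (.leaf 0x7010205070908060709000a) (.node 9922 (.leaf 0x0) (.leaf 0x701020507060006)))) (.node 9925 (.node 9924 (.leaf 0x0) (.leaf 0x0)) (.node 9926 (.leaf 0x0) (.node 9927 (.leaf 0x0) (.leaf 0x10009080607090007))))) (.node 9933 (.node 9930 (.node 9929 (.leaf 0x701020507060006) (.leaf 0x0)) (.node 9931 (.leaf 0x70001) (.node 9932 (.leaf 0x0) (.leaf 0x0)))) (.node 9936 (.node 9934 (.leaf 0x0) (.node 9935 (.leaf 0xa0f0d0e0004) (.leaf 0x10001))) (.node 9937 (.leaf 0x701000507060006) (.node 9938 (.leaf 0x0) (.leaf 0x204060709080607090009))))))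

def argWS_969 : Store := (.node 9918 argWS_967 argWS_968)

def argWS_970 : Store := (.node 9898 argWS_966 argWS_969)

def argWS_971 : Store := (.node 9857 argWS_963 argWS_970)

def argWS_972 : Store := (.node 9949 (.node 9944 (.node 9941 (.node 9940 (.leaf 0x0) (.leaf 0x0)) (.node 9942 (.leaf 0x0) (.node 9943 (.leaf 0xf100d0e0004) (.leaf 0x8050002)))) (.node 9946 (.node 9945 (.leaf 0x1040905080005) (.leaf 0x0)) (.node 9947 (.leaf 0x0) (.node 9948 (.leaf 0x0) (.leaf 0x100d0002))))) (.node 9954 (.node 9951 (.node 9950 (.leaf 0x0) (.leaf 0x108050003)) (.node 9952 (.leaf 0x3010507050005) (.node 9953 (.leaf 0x0) (.leaf 0x201080607090006)))) (.node 9956 (.node 9955 (.leaf 0x0) (.leaf 0x0)) (.node 9957 (.leaf 0x0) (.node 9958 (.leaf 0xb0f0d0e0004) (.leaf 0x300050707090006))))))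

def argWS_973 : Store := (.node 9969 (.node 9964 (.node 9961 (.node 9960 (.leaf 0x0) (.leaf 0x0)) (.node 9962 (.leaf 0x0) (.node 9963 (.leaf 0x100d0f0c0004) (.leaf 0x0)))) (.node 9966 (.node 9965 (.leaf 0x10001) (.leaf 0x301050707090006)) (.node 9967 (.leaf 0x0) (.node 9968 (.leaf 0x0) (.leaf 0x0))))) (.node 9974 (.node 9971 (.node 9970 (.leaf 0xc100b0c0f0c0006) (.leaf 0x0)) (.node 9972 (.leaf 0x80001) (.node 9973 (.leaf 0x400070905080006) (.leaf 0x0)))) (.node 9976 (.node 9975 (.leaf 0x0) (.leaf 0x0)) (.node 9977 (.leaf 0xb0d0002) (.node 9978 (.leaf 0x70001) (.leaf 0x2000607050705080008))))))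

def argWS_974 : Store := (.node 9959 argWS_972 argWS_973)

def argWS_975 : Store := (.node 9989 (.node 9984 (.node 9981 (.node 9980 (.leaf 0x0) (.leaf 0x0)) (.node 9982 (.leaf 0x0) (.node 9983 (.leaf 0xf100f0f0c0005) (.leaf 0x1080002)))) (.node 9986 (.node 9985 (.leaf 0x401070905080006) (.leaf 0x0)) (.node 9987 (.leaf 0x0) (.node 9988 (.leaf 0x0) (.leaf 0x100b0d0003))))) (.node 9994 (.node 9991 (.node 9990 (.leaf 0x1070002) (.leaf 0x2010607050705080008)) (.node 9992 (.leaf 0x0) (.node 9993 (.leaf 0x0) (.leaf 0x0)))) (.node 9996 (.node 9995 (.leaf 0xa0c0002) (.leaf 0x8060002)) (.node 9997 (.leaf 0x20007090004) (.node 9998 (.leaf 0x0) (.leaf 0x0))))))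

def argWS_976 : Store := (.node 10009 (.node 10004 (.node 10001 (.node 10000 (.leaf 0x0) (.leaf 0xb0a0f0f0c0005)) (.node 10002 (.leaf 0x108060003) (.node 10003 (.leaf 0x20107090004) (.leaf 0x0)))) (.node 10006 (.node 10005 (.leaf 0x0) (.leaf 0x0)) (.node 10007 (.leaf 0x110b0f0f0c0005) (.node 10008 (.leaf 0x3020507060005) (.leaf 0x0))))) (.node 10014 (.node 10011 (.node 10010 (.leaf 0x0) (.leaf 0x0)) (.node 10012 (.leaf 0x0) (.node 10013 (.leaf 0x0) (.leaf 0x307050705080006)))) (.node 10017 (.node 10015 (.leaf 0xe110d0e0004) (.node 10016 (.leaf 0x0) (.leaf 0x0))) (.node 10018 (.leaf 0x4010607060005) (.node 10019 (.leaf 0x0) (.leaf 0x0))))))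

def argWS_977 : Store := (.node 9999 argWS_975 argWS_976)

def argWS_978 : Store := (.node 9979 argWS_974 argWS_977)

def argWS_979 : Store := (.node 10030 (.node 10025 (.node 10022 (.node 10021 (.leaf 0x0) (.leaf 0xa0d0002)) (.node 10023 (.leaf 0x10001) (.node 10024 (.leaf 0x4000607060005) (.leaf 0x0)))) (.node 10027 (.node 10026 (.leaf 0x0) (.leaf 0x0)) (.node 10028 (.leaf 0x100d0002) (.node 10029 (.leaf 0x0) (.leaf 0x1070002))))) (.node 10035 (.node 10032 (.node 10031 (.leaf 0x20405080004) (.leaf 0x0)) (.node 10033 (.leaf 0x30607060004) (.node 10034 (.leaf 0x0) (.leaf 0x0)))) (.node 10037 (.node 10036 (.leaf 0x0) (.leaf 0xf100d0003)) (.node 10038 (.leaf 0x70001) (.node 10039 (.leaf 0x2040105080005) (.leaf 0x0))))))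

def argWS_980 : Store := (.node 10050 (.node 10045 (.node 10042 (.node 10041 (.leaf 0x1000905080005) (.leaf 0x0)) (.node 10043 (.leaf 0x0) (.node 10044 (.leaf 0x0) (.leaf 0xa0d0d0e0004)))) (.node 10047 (.node 10046 (.leaf 0x30107060607090007) (.leaf 0x0)) (.node 10048 (.leaf 0x0) (.node 10049 (.leaf 0x0) (.leaf 0xb0a0d0d0e0005))))) (.node 10055 (.node 10052 (.node 10051 (.leaf 0x0) (.leaf 0x0)) (.node 10053 (.leaf 0xe110f0c0004) (.node 10054 (.leaf 0x8050002) (.leaf 0x2060709080607090008)))) (.node 10058 (.node 10056 (.leaf 0x0) (.node 10057 (.leaf 0x0) (.leaf 0x0))) (.node 10059 (.leaf 0xa0001) (.node 10060 (.leaf 0x108050003) (.leaf 0x0))))))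

def argWS_981 : Store := (.node 10040 argWS_979 argWS_980)

def argWS_982 : Store := (.node 10071 (.node 10066 (.node 10063 (.node 10062 (.leaf 0x0) (.leaf 0xa0001)) (.node 10064 (.leaf 0x0) (.node 10065 (.leaf 0x10001) (.leaf 0x10001)))) (.node 10068 (.node 10067 (.leaf 0x0) (.leaf 0x0)) (.node 10069 (.leaf 0x0) (.node 10070 (.leaf 0xa0f0002) (.leaf 0x0))))) (.node 10076 (.node 10073 (.node 10072 (.leaf 0x1080002) (.leaf 0x0)) (.node 10074 (.leaf 0x0) (.node 10075 (.leaf 0x100d0e0003) (.leaf 0x0)))) (.node 10078 (.node 10077 (.leaf 0x8060002) (.leaf 0x0)) (.node 10079 (.leaf 0x0) (.node 10080 (.leaf 0x0) (.leaf 0xa0d0d0e0004))))))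

def argWS_983 : Store := (.node 10091 (.node 10086 (.node 10083 (.node 10082 (.leaf 0x0) (.leaf 0x0)) (.node 10084 (.leaf 0x0) (.node 10085 (.leaf 0x0) (.leaf 0x20401050705080007)))) (.node 10088 (.node 10087 (.leaf 0x0) (.leaf 0x0)) (.node 10089 (.leaf 0x0) (.node 10090 (.leaf 0x0) (.leaf 0x20401050705080007))))) (.node 10096 (.node 10093 (.node 10092 (.leaf 0x0) (.leaf 0x0)) (.node 10094 (.leaf 0x0) (.node 10095 (.leaf 0x0) (.leaf 0x104050707090006)))) (.node 10099 (.node 10097 (.leaf 0x0) (.node 10098 (.leaf 0x0) (.leaf 0x0))) (.node 10100 (.leaf 0x0) (.node 10101 (.leaf 0x0) (.leaf 0x0))))))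

def argWS_984 : Store := (.node 10081 argWS_982 argWS_983)

def argWS_985 : Store := (.node 10061 argWS_981 argWS_984)

def argWS_986 : Store := (.node 10020 argWS_978 argWS_985)

def argWS_987 : Store := (.node 9939 argWS_971 argWS_986)

def argWS_988 : Store := (.node 10112 (.node 10107 (.node 10104 (.node 10103 (.leaf 0x0) (.leaf 0x0)) (.node 10105 (.leaf 0x0) (.node 10106 (.leaf 0x0) (.leaf 0x607090003)))) (.node 10109 (.node 10108 (.leaf 0x0) (.leaf 0x0)) (.node 10110 (.leaf 0x0) (.node 10111 (.leaf 0x0) (.leaf 0x0))))) (.node 10117 (.node 10114 (.node 10113 (.leaf 0x40007060607090007) (.leaf 0x0)) (.node 10115 (.leaf 0x0) (.node 10116 (.leaf 0x0) (.leaf 0x0)))) (.node 10119 (.node 10118 (.leaf 0x201050003) (.leaf 0x0)) (.node 10120 (.leaf 0x2030507060607090008) (.node 10121 (.leaf 0x0) (.leaf 0x0))))))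

def argWS_989 : Store := (.node 10132 (.node 10127 (.node 10124 (.node 10123 (.leaf 0x0) (.leaf 0x301060705080006)) (.node 10125 (.leaf 0x0) (.node 10126 (.leaf 0x0) (.leaf 0x301060705080006)))) (.node 10129 (.node 10128 (.leaf 0x401070905080006) (.leaf 0x0)) (.node 10130 (.leaf 0x0) (.node 10131 (.leaf 0x0) (.leaf 0xa0d0e0003))))) (.node 10137 (.node 10134 (.node 10133 (.leaf 0x0) (.leaf 0x10001)) (.node 10135 (.leaf 0x203010507060607090009) (.node 10136 (.leaf 0x0) (.leaf 0x0)))) (.node 10139 (.node 10138 (.leaf 0x0) (.leaf 0xb0a0f0f0c0005)) (.node 10140 (.leaf 0x0) (.node 10141 (.leaf 0x0) (.leaf 0x0))))))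

def argWS_990 : Store := (.node 10122 argWS_988 argWS_989)

def argWS_991 : Store := (.node 10152 (.node 10147 (.node 10144 (.node 10143 (.leaf 0x0) (.leaf 0xe110e0003)) (.node 10145 (.leaf 0x0) (.node 10146 (.leaf 0xb0a0f0c0004) (.leaf 0x40301050707090007)))) (.node 10149 (.node 10148 (.leaf 0x0) (.leaf 0x0)) (.node 10150 (.leaf 0xa0c0f0c0004) (.node 10151 (.leaf 0x0) (.leaf 0x102050705080006))))) (.node 10157 (.node 10154 (.node 10153 (.leaf 0x0) (.leaf 0x0)) (.node 10155 (.leaf 0x0) (.node 10156 (.leaf 0x0) (.leaf 0xe110d0f0c0005)))) (.node 10159 (.node 10158 (.leaf 0x0) (.leaf 0x304010709080006)) (.node 10160 (.leaf 0x0) (.node 10161 (.leaf 0x0) (.leaf 0xe110d0f0c0005))))))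

def argWS_992 : Store := (.node 10172 (.node 10167 (.node 10164 (.node 10163 (.leaf 0x0) (.leaf 0x0)) (.node 10165 (.leaf 0x0) (.node 10166 (.leaf 0x0) (.leaf 0x30401050004)))) (.node 10169 (.node 10168 (.leaf 0x0) (.leaf 0x1020607090005)) (.node 10170 (.leaf 0x0) (.node 10171 (.leaf 0x10001) (.leaf 0x3020107050705080008))))) (.node 10177 (.node 10174 (.node 10173 (.leaf 0x0) (.leaf 0x10001)) (.node 10175 (.leaf 0x0) (.node 10176 (.leaf 0x0) (.leaf 0x0)))) (.node 10180 (.node 10178 (.leaf 0xd110f0003) (.node 10179 (.leaf 0x0) (.leaf 0x1020607090005))) (.node 10181 (.leaf 0x0) (.node 10182 (.leaf 0xb0a0c0f0c0005) (.leaf 0x70001))))))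

def argWS_993 : Store := (.node 10162 argWS_991 argWS_992)

def argWS_994 : Store := (.node 10142 argWS_990 argWS_993)

def argWS_995 : Store := (.node 10193 (.node 10188 (.node 10185 (.node 10184 (.leaf 0x0) (.leaf 0x0)) (.node 10186 (.leaf 0x10001) (.node 10187 (.leaf 0x0) (.leaf 0x0)))) (.node 10190 (.node 10189 (.leaf 0x100b0c0f0c0005) (.leaf 0x0)) (.node 10191 (.leaf 0x0) (.node 10192 (.leaf 0x10001) (.leaf 0x1080002))))) (.node 10198 (.node 10195 (.node 10194 (.leaf 0x0) (.leaf 0x0)) (.node 10196 (.leaf 0x100b0d0f0c0005) (.node 10197 (.leaf 0x0) (.leaf 0x0)))) (.node 10200 (.node 10199 (.leaf 0x0) (.leaf 0x50707090004)) (.node 10201 (.leaf 0x80001) (.node 10202 (.leaf 0x0) (.leaf 0x0))))))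

def argWS_996 : Store := (.node 10213 (.node 10208 (.node 10205 (.node 10204 (.leaf 0xf100d0d0e0005) (.leaf 0x0)) (.node 10206 (.leaf 0x0) (.node 10207 (.leaf 0x0) (.leaf 0x2000705080005)))) (.node 10210 (.node 10209 (.leaf 0x8050002) (.leaf 0x0)) (.node 10211 (.leaf 0x0) (.node 10212 (.leaf 0x0) (.leaf 0x4050705080005))))) (.node 10218 (.node 10215 (.node 10214 (.leaf 0x3040507050705080008) (.leaf 0x0)) (.node 10216 (.leaf 0xe110f0c0004) (.node 10217 (.leaf 0x0) (.leaf 0x0)))) (.node 10221 (.node 10219 (.leaf 0x0) (.node 10220 (.leaf 0x0) (.leaf 0x108050003))) (.node 10222 (.leaf 0x0) (.node 10223 (.leaf 0x0) (.leaf 0x0))))))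

def argWS_997 : Store := (.node 10203 argWS_995 argWS_996)

def argWS_998 : Store := (.node 10234 (.node 10229 (.node 10226 (.node 10225 (.leaf 0x4050705080005) (.leaf 0x304010507050705080009)) (.node 10227 (.leaf 0x0) (.node 10228 (.leaf 0x0) (.leaf 0x0)))) (.node 10231 (.node 10230 (.leaf 0xe110d0d0e0005) (.leaf 0x0)) (.node 10232 (.leaf 0x0) (.node 10233 (.leaf 0xa0f0f0c0004) (.leaf 0x0))))) (.node 10239 (.node 10236 (.node 10235 (.leaf 0x0) (.leaf 0x0)) (.node 10237 (.leaf 0x0) (.node 10238 (.leaf 0x3010507060705080008) (.leaf 0x10001)))) (.node 10241 (.node 10240 (.leaf 0x0) (.leaf 0x0)) (.node 10242 (.leaf 0x100f0f0c0004) (.node 10243 (.leaf 0x0) (.leaf 0x0))))))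

def argWS_999 : Store := (.node 10254 (.node 10249 (.node 10246 (.node 10245 (.leaf 0x0) (.leaf 0x10001)) (.node 10247 (.leaf 0x1080002) (.node 10248 (.leaf 0x0) (.leaf 0x0)))) (.node 10251 (.node 10250 (.leaf 0xd110c0f0c0005) (.leaf 0x0)) (.node 10252 (.leaf 0x0) (.node 10253 (.leaf 0x0) (.leaf 0xf100e0003))))) (.node 10259 (.node 10256 (.node 10255 (.leaf 0x0) (.leaf 0x10001)) (.node 10257 (.leaf 0x0) (.node 10258 (.leaf 0x0) (.leaf 0xc100d0003)))) (.node 10262 (.node 10260 (.leaf 0x1080002) (.node 10261 (.leaf 0x0) (.leaf 0x0))) (.node 10263 (.leaf 0xd110d0d0e0005) (.node 10264 (.leaf 0x0) (.leaf 0x0))))))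

def argWS_1000 : Store := (.node 10244 argWS_998 argWS_999)

def argWS_1001 : Store := (.node 10224 argWS_997 argWS_1000)

def argWS_1002 : Store := (.node 10183 argWS_994 argWS_1001)

def argWS_1003 : Store := (.node 10275 (.node 10270 (.node 10267 (.node 10266 (.leaf 0x0) (.leaf 0xc100b0f0c0005)) (.node 10268 (.leaf 0x0) (.node 10269 (.leaf 0x10001) (.leaf 0x0)))) (.node 10272 (.node 10271 (.leaf 0x0) (.leaf 0x100c0f0c0004)) (.node 10273 (.leaf 0x70001) (.node 10274 (.leaf 0x0) (.leaf 0x0))))) (.node 10280 (.node 10277 (.node 10276 (.leaf 0xe100d0003) (.leaf 0x8060002)) (.node 10278 (.leaf 0x0) (.node 10279 (.leaf 0x0) (.leaf 0x100b0f0003)))) (.node 10282 (.node 10281 (.leaf 0x8050002) (.leaf 0x0)) (.node 10283 (.leaf 0x0) (.node 10284 (.leaf 0x110f0c0003) (.leaf 0x0))))))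

def argWS_1004 : Store := (.node 10295 (.node 10290 (.node 10287 (.node 10286 (.leaf 0x108060003) (.leaf 0x0)) (.node 10288 (.leaf 0x0) (.node 10289 (.leaf 0x100b0f0003) (.leaf 0x108050003)))) (.node 10292 (.node 10291 (.leaf 0x0) (.leaf 0x0)) (.node 10293 (.leaf 0xf100b0c0004) (.node 10294 (.leaf 0x0) (.leaf 0x10001))))) (.node 10300 (.node 10297 (.node 10296 (.leaf 0x10001) (.leaf 0x203050709080006)) (.node 10298 (.leaf 0x0) (.node 10299 (.leaf 0x0) (.leaf 0x0)))) (.node 10302 (.node 10301 (.leaf 0x0) (.leaf 0xd110f0f0c0005)) (.node 10303 (.leaf 0x0) (.node 10304 (.leaf 0x10001) (.leaf 0x203050709080006))))))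

def argWS_1005 : Store := (.node 10285 argWS_1003 argWS_1004)

def argWS_1006 : Store := (.node 10315 (.node 10310 (.node 10307 (.node 10306 (.leaf 0x0) (.leaf 0x10001)) (.node 10308 (.leaf 0x0) (.node 10309 (.leaf 0x0) (.leaf 0x0)))) (.node 10312 (.node 10311 (.leaf 0x110d0002) (.leaf 0x0)) (.node 10313 (.leaf 0x0) (.node 10314 (.leaf 0x0) (.leaf 0x401060709080607090009))))) (.node 10320 (.node 10317 (.node 10316 (.leaf 0x8050002) (.leaf 0x0)) (.node 10318 (.leaf 0x0) (.node 10319 (.leaf 0xe110d0f0c0005) (.leaf 0x108050003)))) (.node 10322 (.node 10321 (.leaf 0x6070002) (.leaf 0x0)) (.node 10323 (.leaf 0x0) (.node 10324 (.leaf 0x0) (.leaf 0x100b0d0d0e0005))))))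

def argWS_1007 : Store := (.node 10335 (.node 10330 (.node 10327 (.node 10326 (.leaf 0x8060002) (.leaf 0x0)) (.node 10328 (.leaf 0x0) (.node 10329 (.leaf 0xd110d0e0004) (.leaf 0x0)))) (.node 10332 (.node 10331 (.leaf 0x80001) (.leaf 0x0)) (.node 10333 (.leaf 0x0) (.node 10334 (.leaf 0xf100b0c0f0c0006) (.leaf 0x70001))))) (.node 10340 (.node 10337 (.node 10336 (.leaf 0x0) (.leaf 0x0)) (.node 10338 (.leaf 0xe110f0f0c0005) (.node 10339 (.leaf 0x1080002) (.leaf 0x0)))) (.node 10343 (.node 10341 (.leaf 0x0) (.node 10342 (.leaf 0xe100f0d0e0005) (.leaf 0x0))) (.node 10344 (.leaf 0x1070002) (.node 10345 (.leaf 0x0) (.leaf 0x0))))))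

def argWS_1008 : Store := (.node 10325 argWS_1006 argWS_1007)

def argWS_1009 : Store := (.node 10305 argWS_1005 argWS_1008)

def argWS_1010 : Store := (.node 10356 (.node 10351 (.node 10348 (.node 10347 (.leaf 0xf0c0002) (.leaf 0x0)) (.node 10349 (.leaf 0x108060003) (.node 10350 (.leaf 0x0) (.leaf 0x0)))) (.node 10353 (.node 10352 (.leaf 0x110d0d0e0004) (.leaf 0x0)) (.node 10354 (.leaf 0x108050003) (.node 10355 (.leaf 0x0) (.leaf 0x0))))) (.node 10361 (.node 10358 (.node 10357 (.leaf 0xf100b0f0c0005) (.leaf 0x0)) (.node 10359 (.leaf 0x0) (.node 10360 (.leaf 0x0) (.leaf 0x0)))) (.node 10363 (.node 10362 (.leaf 0x8050002) (.leaf 0x0)) (.node 10364 (.leaf 0x0) (.node 10365 (.leaf 0xe100c0003) (.leaf 0x0))))))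

def argWS_1011 : Store := (.node 10376 (.node 10371 (.node 10368 (.node 10367 (.leaf 0x0) (.leaf 0x0)) (.node 10369 (.leaf 0x0) (.node 10370 (.leaf 0x108060003) (.leaf 0x0)))) (.node 10373 (.node 10372 (.leaf 0x0) (.leaf 0x100c0002)) (.node 10374 (.leaf 0x0) (.node 10375 (.leaf 0x0) (.leaf 0x0))))) (.node 10381 (.node 10378 (.node 10377 (.leaf 0x203010507050006) (.leaf 0x70001)) (.node 10379 (.leaf 0x0) (.node 10380 (.leaf 0x0) (.leaf 0xc100b0f0f0c0006)))) (.node 10384 (.node 10382 (.leaf 0x0) (.node 10383 (.leaf 0x0) (.leaf 0x0))) (.node 10385 (.leaf 0x0) (.node 10386 (.leaf 0x8060002) (.leaf 0x0))))))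

def argWS_1012 : Store := (.node 10366 argWS_1010 argWS_1011)

def argWS_1013 : Store := (.node 10397 (.node 10392 (.node 10389 (.node 10388 (.leaf 0x0) (.leaf 0xd100d0003)) (.node 10390 (.leaf 0x0) (.node 10391 (.leaf 0x0) (.leaf 0x0)))) (.node 10394 (.node 10393 (.leaf 0x2040107050005) (.leaf 0x1070002)) (.node 10395 (.leaf 0x0) (.node 10396 (.leaf 0x0) (.leaf 0x100b0e0003))))) (.node 10402 (.node 10399 (.node 10398 (.leaf 0x0) (.leaf 0x80001)) (.node 10400 (.leaf 0x0) (.node 10401 (.leaf 0x0) (.leaf 0x100b0f0d0e0005)))) (.node 10404 (.node 10403 (.leaf 0x0) (.leaf 0x7010507050005)) (.node 10405 (.leaf 0x0) (.node 10406 (.leaf 0x80001) (.leaf 0x0))))))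

def argWS_1014 : Store := (.node 10417 (.node 10412 (.node 10409 (.node 10408 (.leaf 0x0) (.leaf 0x0)) (.node 10410 (.leaf 0x100001) (.node 10411 (.leaf 0x0) (.leaf 0x80001)))) (.node 10414 (.node 10413 (.leaf 0x30007060607090007) (.leaf 0x0)) (.node 10415 (.leaf 0x0) (.node 10416 (.leaf 0x0) (.leaf 0x0))))) (.node 10422 (.node 10419 (.node 10418 (.leaf 0x1020905080005) (.leaf 0x702010607050705080009)) (.node 10420 (.leaf 0x0) (.node 10421 (.leaf 0x0) (.leaf 0x0)))) (.node 10425 (.node 10423 (.leaf 0xb0001) (.node 10424 (.leaf 0x1080002) (.leaf 0x2070905080005))) (.node 10426 (.leaf 0x0) (.node 10427 (.leaf 0x0) (.leaf 0x0))))))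

def argWS_1015 : Store := (.node 10407 argWS_1013 argWS_1014)

def argWS_1016 : Store := (.node 10387 argWS_1012 argWS_1015)

def argWS_1017 : Store := (.node 10346 argWS_1009 argWS_1016)

def argWS_1018 : Store := (.node 10265 argWS_1002 argWS_1017)

def argWS_1019 : Store := (.node 10102 argWS_987 argWS_1018)

def argWS_1020 : Store := (.node 9776 argWS_956 argWS_1019)

def argWS_1021 : Store := (.node 9124 argWS_893 argWS_1020)

def argWS_1022 : Store := (.node 7821 argWS_766 argWS_1021)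

def argWS_1023 : Store := (.node 5214 argWS_511 argWS_1022)

def argWS_1024 : Store := (.node 10438 (.node 10433 (.node 10430 (.node 10429 (.leaf 0x0) (.leaf 0x1020905080005)) (.node 10431 (.leaf 0x7010607050705080008) (.node 10432 (.leaf 0x0) (.leaf 0x0)))) (.node 10435 (.node 10434 (.leaf 0x0) (.leaf 0xb0a0002)) (.node 10436 (.leaf 0x0) (.node 10437 (.leaf 0x70001) (.leaf 0x0))))) (.node 10443 (.node 10440 (.node 10439 (.leaf 0x0) (.leaf 0xe100c0003)) (.node 10441 (.leaf 0x0) (.node 10442 (.leaf 0x0) (.leaf 0x0)))) (.node 10445 (.node 10444 (.leaf 0x4000507060607090008) (.leaf 0x70001)) (.node 10446 (.leaf 0x0) (.node 10447 (.leaf 0x0) (.leaf 0x0))))))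

def argWS_1025 : Store := (.node 10458 (.node 10453 (.node 10450 (.node 10449 (.leaf 0xf100b0f0c0005) (.leaf 0x0)) (.node 10451 (.leaf 0x80001) (.node 10452 (.leaf 0x0) (.leaf 0x0)))) (.node 10455 (.node 10454 (.leaf 0x0) (.leaf 0x7020108050705080008)) (.node 10456 (.leaf 0x4020607060607090008) (.node 10457 (.leaf 0x0) (.leaf 0xb0a0f0d0e0005))))) (.node 10463 (.node 10460 (.node 10459 (.leaf 0x0) (.leaf 0x20401050707090007)) (.node 10461 (.leaf 0x0) (.node 10462 (.leaf 0x0) (.leaf 0x0)))) (.node 10465 (.node 10464 (.leaf 0x0) (.leaf 0x10507060607090007)) (.node 10466 (.leaf 0x0) (.node 10467 (.leaf 0x0) (.leaf 0x0))))))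

def argWS_1026 : Store := (.node 10448 argWS_1024 argWS_1025)

def argWS_1027 : Store := (.node 10478 (.node 10473 (.node 10470 (.node 10469 (.leaf 0x1020607090005) (.leaf 0x30108050004)) (.node 10471 (.leaf 0x0) (.node 10472 (.leaf 0xe110e0003) (.leaf 0x0)))) (.node 10475 (.node 10474 (.leaf 0x0) (.leaf 0x0)) (.node 10476 (.leaf 0x0) (.node 10477 (.leaf 0x0) (.leaf 0x201060003))))) (.node 10483 (.node 10480 (.node 10479 (.leaf 0x108060003) (.leaf 0x0)) (.node 10481 (.leaf 0x0) (.node 10482 (.leaf 0xe100002) (.leaf 0x0)))) (.node 10485 (.node 10484 (.leaf 0x0) (.leaf 0x0)) (.node 10486 (.leaf 0x0) (.node 10487 (.leaf 0x204010607060705080009) (.leaf 0x70201050004))))))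

def argWS_1028 : Store := (.node 10498 (.node 10493 (.node 10490 (.node 10489 (.leaf 0x0) (.leaf 0x0)) (.node 10491 (.leaf 0xb0d0002) (.node 10492 (.leaf 0x0) (.leaf 0x40306070004)))) (.node 10495 (.node 10494 (.leaf 0x0) (.leaf 0x0)) (.node 10496 (.leaf 0x0) (.node 10497 (.leaf 0x0) (.leaf 0x0))))) (.node 10503 (.node 10500 (.node 10499 (.leaf 0x0) (.leaf 0x103060705080006)) (.node 10501 (.leaf 0xc100b0f0d0e0006) (.node 10502 (.leaf 0x100b0d0f0c0005) (.leaf 0x0)))) (.node 10506 (.node 10504 (.leaf 0xd100d0003) (.node 10505 (.leaf 0x0) (.leaf 0x0))) (.node 10507 (.leaf 0x30205070607090007) (.node 10508 (.leaf 0x0) (.leaf 0x0))))))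

def argWS_1029 : Store := (.node 10488 argWS_1027 argWS_1028)

def argWS_1030 : Store := (.node 10468 argWS_1026 argWS_1029)

def argWS_1031 : Store := (.node 10519 (.node 10514 (.node 10511 (.node 10510 (.leaf 0x0) (.leaf 0x0)) (.node 10512 (.leaf 0x0) (.node 10513 (.leaf 0x0) (.leaf 0x4000507060705080008)))) (.node 10516 (.node 10515 (.leaf 0x70102080905080007) (.leaf 0x0)) (.node 10517 (.leaf 0x0) (.node 10518 (.leaf 0xb0a0e0003) (.leaf 0x50709080005))))) (.node 10524 (.node 10521 (.node 10520 (.leaf 0x0) (.leaf 0x0)) (.node 10522 (.leaf 0x0) (.node 10523 (.leaf 0x4030709080607090008) (.leaf 0x4080002)))) (.node 10526 (.node 10525 (.leaf 0x0) (.leaf 0x0)) (.node 10527 (.leaf 0x0) (.node 10528 (.leaf 0xf100d0d0e0005) (.leaf 0x0))))))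

def argWS_1032 : Store := (.node 10539 (.node 10534 (.node 10531 (.node 10530 (.leaf 0x7090003) (.leaf 0x0)) (.node 10532 (.leaf 0x0) (.node 10533 (.leaf 0x110d0e0003) (.leaf 0x0)))) (.node 10536 (.node 10535 (.leaf 0x40007090004) (.leaf 0x0)) (.node 10537 (.leaf 0x0) (.node 10538 (.leaf 0xc100b0d0e0005) (.leaf 0x0))))) (.node 10544 (.node 10541 (.node 10540 (.leaf 0x40201060607090007) (.leaf 0x0)) (.node 10542 (.leaf 0x0) (.node 10543 (.leaf 0x0) (.leaf 0x0)))) (.node 10546 (.node 10545 (.leaf 0x1020905080005) (.leaf 0x304010607060006)) (.node 10547 (.leaf 0x0) (.node 10548 (.leaf 0x100b0c0f0c0005) (.leaf 0x0))))))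

def argWS_1033 : Store := (.node 10529 argWS_1031 argWS_1032)

def argWS_1034 : Store := (.node 10559 (.node 10554 (.node 10551 (.node 10550 (.leaf 0x0) (.leaf 0x0)) (.node 10552 (.leaf 0x10001) (.node 10553 (.leaf 0x1030002) (.leaf 0x0)))) (.node 10556 (.node 10555 (.leaf 0x0) (.leaf 0x0)) (.node 10557 (.leaf 0xb0f0c0003) (.node 10558 (.leaf 0xb0e0002) (.leaf 0x0))))) (.node 10564 (.node 10561 (.node 10560 (.leaf 0x201050707090006) (.leaf 0x0)) (.node 10562 (.leaf 0x0) (.node 10563 (.leaf 0x110b0f0003) (.leaf 0x0)))) (.node 10566 (.node 10565 (.leaf 0x301060705080006) (.leaf 0x0)) (.node 10567 (.leaf 0x0) (.node 10568 (.leaf 0xc100b0003) (.leaf 0x0))))))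

def argWS_1035 : Store := (.node 10579 (.node 10574 (.node 10571 (.node 10570 (.leaf 0x1020607090005) (.leaf 0x0)) (.node 10572 (.leaf 0x0) (.node 10573 (.leaf 0x0) (.leaf 0x2010002)))) (.node 10576 (.node 10575 (.leaf 0x0) (.leaf 0x0)) (.node 10577 (.leaf 0x0) (.node 10578 (.leaf 0x4050705080005) (.leaf 0x0))))) (.node 10584 (.node 10581 (.node 10580 (.leaf 0x0) (.leaf 0x0)) (.node 10582 (.leaf 0x301060607090006) (.node 10583 (.leaf 0x0) (.leaf 0x0)))) (.node 10587 (.node 10585 (.leaf 0x0) (.node 10586 (.leaf 0x70001) (.leaf 0x0))) (.node 10588 (.leaf 0x0) (.node 10589 (.leaf 0xf100b0003) (.leaf 0x0))))))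

def argWS_1036 : Store := (.node 10569 argWS_1034 argWS_1035)

def argWS_1037 : Store := (.node 10549 argWS_1033 argWS_1036)

def argWS_1038 : Store := (.node 10509 argWS_1030 argWS_1037)

def argWS_1039 : Store := (.node 10600 (.node 10595 (.node 10592 (.node 10591 (.leaf 0x0) (.leaf 0x0)) (.node 10593 (.leaf 0x4020105070705080008) (.node 10594 (.leaf 0x0) (.leaf 0x0)))) (.node 10597 (.node 10596 (.leaf 0xf100b0f0c0005) (.leaf 0x0)) (.node 10598 (.leaf 0x10001) (.node 10599 (.leaf 0x0) (.leaf 0x0))))) (.node 10605 (.node 10602 (.node 10601 (.leaf 0xe100c0003) (.leaf 0x8060002)) (.node 10603 (.leaf 0x40008050004) (.node 10604 (.leaf 0x0) (.leaf 0x0)))) (.node 10607 (.node 10606 (.leaf 0x0) (.leaf 0xe110c0003)) (.node 10608 (.leaf 0x0) (.node 10609 (.leaf 0x1080002) (.leaf 0x1030607050705080008))))))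

def argWS_1040 : Store := (.node 10620 (.node 10615 (.node 10612 (.node 10611 (.leaf 0x0) (.leaf 0x0)) (.node 10613 (.leaf 0x0) (.node 10614 (.leaf 0x110b0f0f0c0005) (.leaf 0x0)))) (.node 10617 (.node 10616 (.leaf 0x80001) (.leaf 0x0)) (.node 10618 (.leaf 0x0) (.node 10619 (.leaf 0xb0a0f0f0c0005) (.leaf 0x0))))) (.node 10625 (.node 10622 (.node 10621 (.leaf 0x0) (.leaf 0x100e0002)) (.node 10623 (.leaf 0x10001) (.node 10624 (.leaf 0x0) (.leaf 0x0)))) (.node 10627 (.node 10626 (.leaf 0x110e0002) (.leaf 0x0)) (.node 10628 (.leaf 0x70001) (.node 10629 (.leaf 0x0) (.leaf 0x0))))))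

def argWS_1041 : Store := (.node 10610 argWS_1039 argWS_1040)

def argWS_1042 : Store := (.node 10640 (.node 10635 (.node 10632 (.node 10631 (.leaf 0xf100f0d0e0005) (.leaf 0x1070002)) (.node 10633 (.leaf 0x0) (.node 10634 (.leaf 0x0) (.leaf 0x100b0c0f0c0005)))) (.node 10637 (.node 10636 (.leaf 0x8050002) (.leaf 0x0)) (.node 10638 (.leaf 0x0) (.node 10639 (.leaf 0xd110f0d0e0005) (.leaf 0x108050003))))) (.node 10645 (.node 10642 (.node 10641 (.leaf 0x0) (.leaf 0x0)) (.node 10643 (.leaf 0x0) (.node 10644 (.leaf 0xd110f0d0e0005) (.leaf 0x0)))) (.node 10647 (.node 10646 (.leaf 0x1070002) (.leaf 0x0)) (.node 10648 (.leaf 0x0) (.node 10649 (.leaf 0xb0a0d0003) (.leaf 0x0))))))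

def argWS_1043 : Store := (.node 10660 (.node 10655 (.node 10652 (.node 10651 (.leaf 0x70001) (.leaf 0x0)) (.node 10653 (.leaf 0x0) (.node 10654 (.leaf 0x110b0d0003) (.leaf 0x0)))) (.node 10657 (.node 10656 (.leaf 0x0) (.leaf 0x0)) (.node 10658 (.leaf 0x100f0d0e0004) (.node 10659 (.leaf 0x10001) (.leaf 0x60707090005))))) (.node 10665 (.node 10662 (.node 10661 (.leaf 0x0) (.leaf 0x0)) (.node 10663 (.leaf 0x0) (.node 10664 (.leaf 0xd100f0f0c0005) (.leaf 0x0)))) (.node 10668 (.node 10666 (.leaf 0x0) (.node 10667 (.leaf 0x0) (.leaf 0xd110d0003))) (.node 10669 (.leaf 0x0) (.node 10670 (.leaf 0x10001) (.leaf 0x0))))))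

def argWS_1044 : Store := (.node 10650 argWS_1042 argWS_1043)

def argWS_1045 : Store := (.node 10630 argWS_1041 argWS_1044)

def argWS_1046 : Store := (.node 10681 (.node 10676 (.node 10673 (.node 10672 (.leaf 0x0) (.leaf 0x110c0002)) (.node 10674 (.leaf 0x0) (.node 10675 (.leaf 0x70102090004) (.leaf 0x0)))) (.node 10678 (.node 10677 (.leaf 0x108060003) (.leaf 0x0)) (.node 10679 (.leaf 0x0) (.node 10680 (.leaf 0x0) (.leaf 0x100b0e0003))))) (.node 10686 (.node 10683 (.node 10682 (.leaf 0x0) (.leaf 0x10001)) (.node 10684 (.leaf 0x70100090004) (.node 10685 (.leaf 0x0) (.leaf 0x10001)))) (.node 10688 (.node 10687 (.leaf 0x0) (.leaf 0x0)) (.node 10689 (.leaf 0x0) (.node 10690 (.leaf 0x100b0e0003) (.leaf 0x0))))))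

def argWS_1047 : Store := (.node 10701 (.node 10696 (.node 10693 (.node 10692 (.leaf 0x0) (.leaf 0x0)) (.node 10694 (.leaf 0xb0a0c0003) (.node 10695 (.leaf 0x0) (.leaf 0x0)))) (.node 10698 (.node 10697 (.leaf 0x0) (.leaf 0x0)) (.node 10699 (.leaf 0x9080607090006) (.node 10700 (.leaf 0x10001) (.leaf 0x10001))))) (.node 10706 (.node 10703 (.node 10702 (.leaf 0x0) (.leaf 0x0)) (.node 10704 (.leaf 0x0) (.node 10705 (.leaf 0xc100b0003) (.leaf 0x0)))) (.node 10709 (.node 10707 (.leaf 0x0) (.node 10708 (.leaf 0x0) (.leaf 0x0))) (.node 10710 (.leaf 0x40009080607090007) (.node 10711 (.leaf 0x80001) (.leaf 0x0))))))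

def argWS_1048 : Store := (.node 10691 argWS_1046 argWS_1047)

def argWS_1049 : Store := (.node 10722 (.node 10717 (.node 10714 (.node 10713 (.leaf 0x0) (.leaf 0xa0d0f0c0004)) (.node 10715 (.leaf 0x0) (.node 10716 (.leaf 0x0) (.leaf 0x0)))) (.node 10719 (.node 10718 (.leaf 0x0) (.leaf 0x301060607090006)) (.node 10720 (.leaf 0x1080002) (.node 10721 (.leaf 0x0) (.leaf 0x0))))) (.node 10727 (.node 10724 (.node 10723 (.leaf 0xe100d0003) (.leaf 0x0)) (.node 10725 (.leaf 0x0) (.node 10726 (.leaf 0x0) (.leaf 0x0)))) (.node 10729 (.node 10728 (.leaf 0x4050705080005) (.leaf 0x8050002)) (.node 10730 (.leaf 0x0) (.node 10731 (.leaf 0x0) (.leaf 0x0))))))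

def argWS_1050 : Store := (.node 10742 (.node 10737 (.node 10734 (.node 10733 (.leaf 0x110b0f0d0e0005) (.leaf 0x0)) (.node 10735 (.leaf 0x0) (.node 10736 (.leaf 0x0) (.leaf 0x0)))) (.node 10739 (.node 10738 (.leaf 0x70102080004) (.leaf 0x108050003)) (.node 10740 (.leaf 0x0) (.node 10741 (.leaf 0x0) (.leaf 0xe100c0f0c0005))))) (.node 10747 (.node 10744 (.node 10743 (.leaf 0x0) (.leaf 0x0)) (.node 10745 (.leaf 0x0) (.node 10746 (.leaf 0x0) (.leaf 0x301050705080006)))) (.node 10750 (.node 10748 (.leaf 0x10001) (.node 10749 (.leaf 0x0) (.leaf 0x0))) (.node 10751 (.leaf 0xd110f0c0004) (.node 10752 (.leaf 0x0) (.leaf 0x0))))))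

def argWS_1051 : Store := (.node 10732 argWS_1049 argWS_1050)

def argWS_1052 : Store := (.node 10712 argWS_1048 argWS_1051)

def argWS_1053 : Store := (.node 10671 argWS_1045 argWS_1052)

def argWS_1054 : Store := (.node 10590 argWS_1038 argWS_1053)

def argWS_1055 : Store := (.node 10763 (.node 10758 (.node 10755 (.node 10754 (.leaf 0x0) (.leaf 0x0)) (.node 10756 (.leaf 0x3020105070705080008) (.node 10757 (.leaf 0x0) (.leaf 0x0)))) (.node 10760 (.node 10759 (.leaf 0xb0a0f0d0e0005) (.leaf 0x0)) (.node 10761 (.leaf 0x8060002) (.node 10762 (.leaf 0x0) (.leaf 0x0))))) (.node 10768 (.node 10765 (.node 10764 (.leaf 0x0) (.leaf 0x90001)) (.node 10766 (.leaf 0x701000707090006) (.node 10767 (.leaf 0x0) (.leaf 0x0)))) (.node 10770 (.node 10769 (.leaf 0x0) (.leaf 0x100f0c0003)) (.node 10771 (.leaf 0x0) (.node 10772 (.leaf 0x108060003) (.leaf 0x0))))))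

def argWS_1056 : Store := (.node 10783 (.node 10778 (.node 10775 (.node 10774 (.leaf 0x0) (.leaf 0x0)) (.node 10776 (.leaf 0x90001) (.node 10777 (.leaf 0x701020707090006) (.leaf 0x0)))) (.node 10780 (.node 10779 (.leaf 0x0) (.leaf 0x0)) (.node 10781 (.leaf 0xc100b0d0f0c0006) (.node 10782 (.leaf 0x0) (.leaf 0x0))))) (.node 10788 (.node 10785 (.node 10784 (.leaf 0x0) (.leaf 0x0)) (.node 10786 (.leaf 0x70100080905080007) (.node 10787 (.leaf 0x30201050705080007) (.leaf 0x0)))) (.node 10790 (.node 10789 (.leaf 0x0) (.leaf 0x0)) (.node 10791 (.leaf 0x0) (.node 10792 (.leaf 0x0) (.leaf 0x1040507050005))))))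

def argWS_1057 : Store := (.node 10773 argWS_1055 argWS_1056)

def argWS_1058 : Store := (.node 10803 (.node 10798 (.node 10795 (.node 10794 (.leaf 0x0) (.leaf 0x0)) (.node 10796 (.leaf 0x0) (.node 10797 (.leaf 0x0) (.leaf 0x400070905080006)))) (.node 10800 (.node 10799 (.leaf 0x3020607050705080008) (.leaf 0x0)) (.node 10801 (.leaf 0x0) (.node 10802 (.leaf 0x0) (.leaf 0x0))))) (.node 10808 (.node 10805 (.node 10804 (.leaf 0x0) (.leaf 0x301050705080006)) (.node 10806 (.leaf 0x0) (.node 10807 (.leaf 0x0) (.leaf 0x0)))) (.node 10810 (.node 10809 (.leaf 0x0) (.leaf 0x0)) (.node 10811 (.leaf 0x304010507050006) (.node 10812 (.leaf 0x0) (.leaf 0x0))))))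

def argWS_1059 : Store := (.node 10823 (.node 10818 (.node 10815 (.node 10814 (.leaf 0x0) (.leaf 0x0)) (.node 10816 (.leaf 0x7010809080005) (.node 10817 (.leaf 0x0) (.leaf 0x0)))) (.node 10820 (.node 10819 (.leaf 0x1000507060607090008) (.leaf 0x30201050705080007)) (.node 10821 (.leaf 0x0) (.node 10822 (.leaf 0x0) (.leaf 0x0))))) (.node 10828 (.node 10825 (.node 10824 (.leaf 0x0) (.leaf 0x0)) (.node 10826 (.leaf 0x401060607090006) (.node 10827 (.leaf 0x0) (.leaf 0x0)))) (.node 10831 (.node 10829 (.leaf 0x0) (.node 10830 (.leaf 0x0) (.leaf 0x20507060607090007))) (.node 10832 (.leaf 0x0) (.node 10833 (.leaf 0x0) (.leaf 0x0))))))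

def argWS_1060 : Store := (.node 10813 argWS_1058 argWS_1059)

def argWS_1061 : Store := (.node 10793 argWS_1057 argWS_1060)

def argWS_1062 : Store := (.node 10844 (.node 10839 (.node 10836 (.node 10835 (.leaf 0x0) (.leaf 0x102060003)) (.node 10837 (.leaf 0x0) (.node 10838 (.leaf 0x0) (.leaf 0x0)))) (.node 10841 (.node 10840 (.leaf 0x0) (.leaf 0x10607050004)) (.node 10842 (.leaf 0x0) (.node 10843 (.leaf 0x0) (.leaf 0x0))))) (.node 10849 (.node 10846 (.node 10845 (.leaf 0x0) (.leaf 0x204080003)) (.node 10847 (.leaf 0x0) (.node 10848 (.leaf 0x0) (.leaf 0x0)))) (.node 10851 (.node 10850 (.leaf 0x0) (.leaf 0x70102080004)) (.node 10852 (.leaf 0x0) (.node 10853 (.leaf 0x0) (.leaf 0x0))))))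

def argWS_1063 : Store := (.node 10864 (.node 10859 (.node 10856 (.node 10855 (.leaf 0x0) (.leaf 0x2060607090005)) (.node 10857 (.leaf 0x702010809080006) (.node 10858 (.leaf 0x0) (.leaf 0x0)))) (.node 10861 (.node 10860 (.leaf 0x0) (.leaf 0x0)) (.node 10862 (.leaf 0x0) (.node 10863 (.leaf 0x705080003) (.leaf 0x10307090004))))) (.node 10869 (.node 10866 (.node 10865 (.leaf 0x0) (.leaf 0x0)) (.node 10867 (.leaf 0x0) (.node 10868 (.leaf 0x0) (.leaf 0x0)))) (.node 10872 (.node 10870 (.leaf 0x203060705080006) (.node 10871 (.leaf 0x4050002) (.leaf 0x0))) (.node 10873 (.leaf 0x0) (.node 10874 (.leaf 0x0) (.leaf 0x60002))))))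

def argWS_1064 : Store := (.node 10854 argWS_1062 argWS_1063)

def argWS_1065 : Store := (.node 10885 (.node 10880 (.node 10877 (.node 10876 (.leaf 0x0) (.leaf 0x0)) (.node 10878 (.leaf 0x0) (.node 10879 (.leaf 0x0) (.leaf 0x0)))) (.node 10882 (.node 10881 (.leaf 0x10309080004) (.leaf 0x4050705080005)) (.node 10883 (.leaf 0x0) (.node 10884 (.leaf 0x0) (.leaf 0x0))))) (.node 10890 (.node 10887 (.node 10886 (.leaf 0x0) (.leaf 0x301060607090006)) (.node 10888 (.leaf 0x0) (.node 10889 (.leaf 0x0) (.leaf 0x0)))) (.node 10892 (.node 10891 (.leaf 0x0) (.leaf 0x0)) (.node 10893 (.leaf 0x0) (.node 10894 (.leaf 0x0) (.leaf 0x0))))))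

def argWS_1066 : Store := (.node 10905 (.node 10900 (.node 10897 (.node 10896 (.leaf 0x90001) (.leaf 0x70001)) (.node 10898 (.leaf 0x0) (.node 10899 (.leaf 0xe0001) (.leaf 0x0)))) (.node 10902 (.node 10901 (.leaf 0x0) (.leaf 0x0)) (.node 10903 (.leaf 0x0) (.node 10904 (.leaf 0x1020707090005) (.leaf 0x10009080607090007))))) (.node 10910 (.node 10907 (.node 10906 (.leaf 0x0) (.leaf 0x0)) (.node 10908 (.leaf 0x0) (.node 10909 (.leaf 0x0) (.leaf 0x0)))) (.node 10913 (.node 10911 (.leaf 0x0) (.node 10912 (.leaf 0x90001) (.leaf 0x1070002))) (.node 10914 (.leaf 0x0) (.node 10915 (.leaf 0xe0001) (.leaf 0x0))))))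

def argWS_1067 : Store := (.node 10895 argWS_1065 argWS_1066)

def argWS_1068 : Store := (.node 10875 argWS_1064 argWS_1067)

def argWS_1069 : Store := (.node 10834 argWS_1061 argWS_1068)

def argWS_1070 : Store := (.node 10926 (.node 10921 (.node 10918 (.node 10917 (.leaf 0x0) (.leaf 0x0)) (.node 10919 (.leaf 0x0) (.node 10920 (.leaf 0x0) (.leaf 0x0)))) (.node 10923 (.node 10922 (.leaf 0x0) (.leaf 0x0)) (.node 10924 (.leaf 0x9080002) (.node 10925 (.leaf 0x0) (.leaf 0x90001))))) (.node 10931 (.node 10928 (.node 10927 (.leaf 0x8050002) (.leaf 0x0)) (.node 10929 (.leaf 0xc0f0c0003) (.node 10930 (.leaf 0x0) (.leaf 0x40201060004)))) (.node 10933 (.node 10932 (.leaf 0x0) (.leaf 0x0)) (.node 10934 (.leaf 0x0) (.node 10935 (.leaf 0x0) (.leaf 0x0))))))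

def argWS_1071 : Store := (.node 10946 (.node 10941 (.node 10938 (.node 10937 (.leaf 0x0) (.leaf 0x0)) (.node 10939 (.leaf 0x0) (.node 10940 (.leaf 0x403010607090006) (.leaf 0x0)))) (.node 10943 (.node 10942 (.leaf 0x0) (.leaf 0x90001)) (.node 10944 (.leaf 0x108050003) (.node 10945 (.leaf 0x0) (.leaf 0xe110d0e0004))))) (.node 10951 (.node 10948 (.node 10947 (.leaf 0x0) (.leaf 0x201060003)) (.node 10949 (.leaf 0x0) (.node 10950 (.leaf 0x0) (.leaf 0x0)))) (.node 10953 (.node 10952 (.leaf 0x0) (.leaf 0x0)) (.node 10954 (.leaf 0x4060607090005) (.node 10955 (.leaf 0x0) (.leaf 0x0))))))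

def argWS_1072 : Store := (.node 10936 argWS_1070 argWS_1071)

def argWS_1073 : Store := (.node 10966 (.node 10961 (.node 10958 (.node 10957 (.leaf 0x0) (.leaf 0x0)) (.node 10959 (.leaf 0x0) (.node 10960 (.leaf 0x0) (.leaf 0x0)))) (.node 10963 (.node 10962 (.leaf 0x0) (.leaf 0x0)) (.node 10964 (.leaf 0x0) (.node 10965 (.leaf 0x0) (.leaf 0x0))))) (.node 10971 (.node 10968 (.node 10967 (.leaf 0x0) (.leaf 0x0)) (.node 10969 (.leaf 0x0) (.node 10970 (.leaf 0x0) (.leaf 0x0)))) (.node 10973 (.node 10972 (.leaf 0x0) (.leaf 0x0)) (.node 10974 (.leaf 0x0) (.node 10975 (.leaf 0x0) (.leaf 0xe100e0003))))))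

def argWS_1074 : Store := (.node 10986 (.node 10981 (.node 10978 (.node 10977 (.leaf 0x10001) (.leaf 0x0)) (.node 10979 (.leaf 0x0) (.node 10980 (.leaf 0xe110e0003) (.leaf 0x8060002)))) (.node 10983 (.node 10982 (.leaf 0x200050709080607090009) (.leaf 0x0)) (.node 10984 (.leaf 0x0) (.node 10985 (.leaf 0x0) (.leaf 0xe100d0f0c0005))))) (.node 10991 (.node 10988 (.node 10987 (.leaf 0x108060003) (.leaf 0x0)) (.node 10989 (.leaf 0x0) (.node 10990 (.leaf 0x0) (.leaf 0x110b0d0d0e0005)))) (.node 10994 (.node 10992 (.leaf 0x108050003) (.node 10993 (.leaf 0x0) (.leaf 0x0))) (.node 10995 (.leaf 0x0) (.node 10996 (.leaf 0xc100d0003) (.leaf 0x0))))))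

def argWS_1075 : Store := (.node 10976 argWS_1073 argWS_1074)

def argWS_1076 : Store := (.node 10956 argWS_1072 argWS_1075)

def argWS_1077 : Store := (.node 11007 (.node 11002 (.node 10999 (.node 10998 (.leaf 0xb0a0f0f0c0005) (.leaf 0x0)) (.node 11000 (.leaf 0x0) (.node 11001 (.leaf 0x0) (.leaf 0x0)))) (.node 11004 (.node 11003 (.leaf 0x301060607090006) (.leaf 0x1080002)) (.node 11005 (.leaf 0x5070002) (.node 11006 (.leaf 0x405070003) (.leaf 0x0))))) (.node 11012 (.node 11009 (.node 11008 (.leaf 0x0) (.leaf 0x0)) (.node 11010 (.leaf 0x0) (.node 11011 (.leaf 0xb0a0f0c0004) (.leaf 0x0)))) (.node 11014 (.node 11013 (.leaf 0x80001) (.leaf 0x30401050707090007)) (.node 11015 (.leaf 0x0) (.node 11016 (.leaf 0x0) (.leaf 0x0))))))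

def argWS_1078 : Store := (.node 11027 (.node 11022 (.node 11019 (.node 11018 (.leaf 0xd110c0f0c0005) (.leaf 0x0)) (.node 11020 (.leaf 0x0) (.node 11021 (.leaf 0x100b0002) (.leaf 0x10001)))) (.node 11024 (.node 11023 (.leaf 0x0) (.leaf 0x0)) (.node 11025 (.leaf 0x100b0002) (.node 11026 (.leaf 0x1070002) (.leaf 0x0))))) (.node 11032 (.node 11029 (.node 11028 (.leaf 0x0) (.leaf 0xc100d0003)) (.node 11030 (.leaf 0x108060003) (.node 11031 (.leaf 0x0) (.leaf 0x0)))) (.node 11035 (.node 11033 (.leaf 0x100d0f0c0004) (.node 11034 (.leaf 0x1080002) (.leaf 0x0))) (.node 11036 (.leaf 0xd100f0f0c0005) (.node 11037 (.leaf 0x0) (.leaf 0x0))))))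

def argWS_1079 : Store := (.node 11017 argWS_1077 argWS_1078)

def argWS_1080 : Store := (.node 11048 (.node 11043 (.node 11040 (.node 11039 (.leaf 0x0) (.leaf 0x0)) (.node 11041 (.leaf 0x607090004) (.node 11042 (.leaf 0x108060003) (.leaf 0x30507050004)))) (.node 11045 (.node 11044 (.leaf 0x3040507050005) (.leaf 0x0)) (.node 11046 (.leaf 0x0) (.node 11047 (.leaf 0x0) (.leaf 0x0))))) (.node 11053 (.node 11050 (.node 11049 (.leaf 0xf100d0e0004) (.leaf 0x0)) (.node 11051 (.leaf 0x10001) (.node 11052 (.leaf 0x0) (.leaf 0x0)))) (.node 11055 (.node 11054 (.leaf 0xb0e0002) (.leaf 0x108060003)) (.node 11056 (.leaf 0x0) (.node 11057 (.leaf 0x0) (.leaf 0xc100b0f0c0005))))))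

def argWS_1081 : Store := (.node 11068 (.node 11063 (.node 11060 (.node 11059 (.leaf 0x0) (.leaf 0x0)) (.node 11061 (.leaf 0xa0d0e0003) (.node 11062 (.leaf 0x0) (.leaf 0x0)))) (.node 11065 (.node 11064 (.leaf 0x0) (.leaf 0x0)) (.node 11066 (.leaf 0x2010507060005) (.node 11067 (.leaf 0x10001) (.leaf 0x0))))) (.node 11073 (.node 11070 (.node 11069 (.leaf 0x0) (.leaf 0x0)) (.node 11071 (.leaf 0x1020905080005) (.node 11072 (.leaf 0x10006070705080007) (.leaf 0x0)))) (.node 11076 (.node 11074 (.leaf 0xd110f0f0c0005) (.node 11075 (.leaf 0x0) (.leaf 0x0))) (.node 11077 (.leaf 0x0) (.node 11078 (.leaf 0x0) (.leaf 0x10001))))))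

def argWS_1082 : Store := (.node 11058 argWS_1080 argWS_1081)

def argWS_1083 : Store := (.node 11038 argWS_1079 argWS_1082)

def argWS_1084 : Store := (.node 10997 argWS_1076 argWS_1083)

def argWS_1085 : Store := (.node 10916 argWS_1069 argWS_1084)

def argWS_1086 : Store := (.node 10753 argWS_1054 argWS_1085)

def argWS_1087 : Store := (.node 11089 (.node 11084 (.node 11081 (.node 11080 (.leaf 0x108060003) (.leaf 0x0)) (.node 11082 (.leaf 0x0) (.node 11083 (.leaf 0x0) (.leaf 0x1020905080005)))) (.node 11086 (.node 11085 (.leaf 0x40307050705080007) (.leaf 0x0)) (.node 11087 (.leaf 0xd110d0d0e0005) (.node 11088 (.leaf 0x0) (.leaf 0x0))))) (.node 11094 (.node 11091 (.node 11090 (.leaf 0x0) (.leaf 0x0)) (.node 11092 (.leaf 0x0) (.node 11093 (.leaf 0x4010607050705080008) (.leaf 0x8060002)))) (.node 11096 (.node 11095 (.leaf 0x0) (.leaf 0x0)) (.node 11097 (.leaf 0xf100b0d0d0e0006) (.node 11098 (.leaf 0x104070607090006) (.leaf 0x0))))))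

def argWS_1088 : Store := (.node 11109 (.node 11104 (.node 11101 (.node 11100 (.leaf 0x0) (.leaf 0x0)) (.node 11102 (.leaf 0x0) (.node 11103 (.leaf 0x10409080607090007) (.leaf 0x70001)))) (.node 11106 (.node 11105 (.leaf 0x0) (.leaf 0x0)) (.node 11107 (.leaf 0xd110d0003) (.node 11108 (.leaf 0x0) (.leaf 0x0))))) (.node 11114 (.node 11111 (.node 11110 (.leaf 0x0) (.leaf 0x8050002)) (.node 11112 (.leaf 0x0) (.node 11113 (.leaf 0x0) (.leaf 0x0)))) (.node 11116 (.node 11115 (.leaf 0xc100b0003) (.leaf 0x108050003)) (.node 11117 (.leaf 0x707090004) (.node 11118 (.leaf 0x0) (.leaf 0x20007090004))))))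

def argWS_1089 : Store := (.node 11099 argWS_1087 argWS_1088)

def argWS_1090 : Store := (.node 11129 (.node 11124 (.node 11121 (.node 11120 (.leaf 0x0) (.leaf 0x0)) (.node 11122 (.leaf 0x0) (.node 11123 (.leaf 0x0) (.leaf 0xb0a0c0003)))) (.node 11126 (.node 11125 (.leaf 0x10001) (.leaf 0x10001)) (.node 11127 (.leaf 0x0) (.node 11128 (.leaf 0x0) (.leaf 0x0))))) (.node 11134 (.node 11131 (.node 11130 (.leaf 0xc100f0f0c0005) (.leaf 0x0)) (.node 11132 (.leaf 0x10001) (.node 11133 (.leaf 0x10001) (.leaf 0x0)))) (.node 11136 (.node 11135 (.leaf 0x0) (.leaf 0x0)) (.node 11137 (.leaf 0xe110d0f0c0005) (.node 11138 (.leaf 0x0) (.leaf 0x10001))))))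

def argWS_1091 : Store := (.node 11149 (.node 11144 (.node 11141 (.node 11140 (.leaf 0x10001) (.leaf 0x0)) (.node 11142 (.leaf 0x0) (.node 11143 (.leaf 0x0) (.leaf 0xd100c0f0c0005)))) (.node 11146 (.node 11145 (.leaf 0x10001) (.leaf 0x10001)) (.node 11147 (.leaf 0x0) (.node 11148 (.leaf 0x0) (.leaf 0x0))))) (.node 11154 (.node 11151 (.node 11150 (.leaf 0xf100c0003) (.leaf 0x0)) (.node 11152 (.leaf 0x108060003) (.node 11153 (.leaf 0x0) (.leaf 0x0)))) (.node 11157 (.node 11155 (.leaf 0xf100b0e0004) (.node 11156 (.leaf 0x10001) (.leaf 0x0))) (.node 11158 (.leaf 0x0) (.node 11159 (.leaf 0x100b0f0d0e0005) (.leaf 0x1080002))))))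

def argWS_1092 : Store := (.node 11139 argWS_1090 argWS_1091)

def argWS_1093 : Store := (.node 11119 argWS_1089 argWS_1092)

def argWS_1094 : Store := (.node 11170 (.node 11165 (.node 11162 (.node 11161 (.leaf 0x0) (.leaf 0x0)) (.node 11163 (.leaf 0xb0a0f0c0004) (.node 11164 (.leaf 0x0) (.leaf 0x10001)))) (.node 11167 (.node 11166 (.leaf 0x10001) (.leaf 0x0)) (.node 11168 (.leaf 0x0) (.node 11169 (.leaf 0x0) (.leaf 0x100c0002))))) (.node 11175 (.node 11172 (.node 11171 (.leaf 0x0) (.leaf 0x0)) (.node 11173 (.leaf 0x0) (.node 11174 (.leaf 0x0) (.leaf 0x4050705080005)))) (.node 11177 (.node 11176 (.leaf 0x102070607090006) (.leaf 0x0)) (.node 11178 (.leaf 0x0) (.node 11179 (.leaf 0x0) (.leaf 0x100b0f0003))))))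

def argWS_1095 : Store := (.node 11190 (.node 11185 (.node 11182 (.node 11181 (.leaf 0x10001) (.leaf 0x0)) (.node 11183 (.leaf 0x0) (.node 11184 (.leaf 0x0) (.leaf 0x4050705080005)))) (.node 11187 (.node 11186 (.leaf 0x2070607090005) (.leaf 0x0)) (.node 11188 (.leaf 0x0) (.node 11189 (.leaf 0x0) (.leaf 0x100b0f0003))))) (.node 11195 (.node 11192 (.node 11191 (.leaf 0x70001) (.leaf 0x20401050707090007)) (.node 11193 (.leaf 0x0) (.node 11194 (.leaf 0x0) (.leaf 0x0)))) (.node 11198 (.node 11196 (.leaf 0xf100b0d0f0c0006) (.node 11197 (.leaf 0x0) (.leaf 0x0))) (.node 11199 (.leaf 0x0) (.node 11200 (.leaf 0x4050705080005) (.leaf 0x70102050709080007))))))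

def argWS_1096 : Store := (.node 11180 argWS_1094 argWS_1095)

def argWS_1097 : Store := (.node 11211 (.node 11206 (.node 11203 (.node 11202 (.leaf 0x0) (.leaf 0x100b0d0d0e0005)) (.node 11204 (.leaf 0x0) (.node 11205 (.leaf 0x7090002) (.leaf 0x0)))) (.node 11208 (.node 11207 (.leaf 0x0) (.leaf 0x0)) (.node 11209 (.leaf 0x0) (.node 11210 (.leaf 0x70001) (.leaf 0x10001))))) (.node 11216 (.node 11213 (.node 11212 (.leaf 0x0) (.leaf 0x0)) (.node 11214 (.leaf 0x0) (.node 11215 (.leaf 0x4050705080005) (.leaf 0x70100050709080007)))) (.node 11218 (.node 11217 (.leaf 0x0) (.leaf 0xe110d0f0c0005)) (.node 11219 (.leaf 0x0) (.node 11220 (.leaf 0x0) (.leaf 0x0))))))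

def argWS_1098 : Store := (.node 11231 (.node 11226 (.node 11223 (.node 11222 (.leaf 0x0) (.leaf 0x2030105070905080008)) (.node 11224 (.leaf 0x108060003) (.node 11225 (.leaf 0x201070607090006) (.leaf 0x0)))) (.node 11228 (.node 11227 (.leaf 0x0) (.leaf 0x0)) (.node 11229 (.leaf 0xc100d0003) (.node 11230 (.leaf 0x0) (.leaf 0x8060002))))) (.node 11236 (.node 11233 (.node 11232 (.leaf 0x3020507060005) (.leaf 0x0)) (.node 11234 (.leaf 0x0) (.node 11235 (.leaf 0x0) (.leaf 0xf100e0003)))) (.node 11239 (.node 11237 (.leaf 0x304050709080006) (.node 11238 (.leaf 0x0) (.leaf 0x0))) (.node 11240 (.leaf 0x0) (.node 11241 (.leaf 0x0) (.leaf 0x0))))))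

def argWS_1099 : Store := (.node 11221 argWS_1097 argWS_1098)

def argWS_1100 : Store := (.node 11201 argWS_1096 argWS_1099)

def argWS_1101 : Store := (.node 11160 argWS_1093 argWS_1100)

def argWS_1102 : Store := (.node 11252 (.node 11247 (.node 11244 (.node 11243 (.leaf 0x403060707090006) (.leaf 0x0)) (.node 11245 (.leaf 0x1070002) (.node 11246 (.leaf 0x408060607090006) (.leaf 0x0)))) (.node 11249 (.node 11248 (.leaf 0x10205070705080007) (.leaf 0x0)) (.node 11250 (.leaf 0x0) (.node 11251 (.leaf 0x0) (.leaf 0xd110d0d0e0005))))) (.node 11257 (.node 11254 (.node 11253 (.leaf 0x0) (.leaf 0x4030106070005)) (.node 11255 (.leaf 0x0) (.node 11256 (.leaf 0x0) (.leaf 0x0)))) (.node 11259 (.node 11258 (.leaf 0xd100d0f0c0005) (.leaf 0x1070002)) (.node 11260 (.leaf 0x408060607090006) (.node 11261 (.leaf 0x0) (.leaf 0x0))))))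

def argWS_1103 : Store := (.node 11272 (.node 11267 (.node 11264 (.node 11263 (.leaf 0xa0d0002) (.leaf 0x2030507060607090008)) (.node 11265 (.leaf 0x108050003) (.node 11266 (.leaf 0x2000002) (.leaf 0x0)))) (.node 11269 (.node 11268 (.leaf 0x0) (.leaf 0x0)) (.node 11270 (.leaf 0x0) (.node 11271 (.leaf 0x301060705080006) (.leaf 0x0))))) (.node 11277 (.node 11274 (.node 11273 (.leaf 0x0) (.leaf 0x301060705080006)) (.node 11275 (.leaf 0x401070905080006) (.node 11276 (.leaf 0x0) (.leaf 0x0)))) (.node 11279 (.node 11278 (.leaf 0x0) (.leaf 0xa0d0e0003)) (.node 11280 (.leaf 0x4030106070005) (.node 11281 (.leaf 0x0) (.leaf 0x0))))))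

def argWS_1104 : Store := (.node 11262 argWS_1102 argWS_1103)

def argWS_1105 : Store := (.node 11292 (.node 11287 (.node 11284 (.node 11283 (.leaf 0x0) (.leaf 0x1020707090005)) (.node 11285 (.leaf 0x10009080607090007) (.node 11286 (.leaf 0x0) (.leaf 0x0)))) (.node 11289 (.node 11288 (.leaf 0x0) (.leaf 0xd110f0d0e0005)) (.node 11290 (.leaf 0xb0a0c0f0c0005) (.node 11291 (.leaf 0x70001) (.leaf 0x0))))) (.node 11297 (.node 11294 (.node 11293 (.leaf 0x0) (.leaf 0xa0d0e0003)) (.node 11295 (.leaf 0x0) (.node 11296 (.leaf 0x0) (.leaf 0x0)))) (.node 11299 (.node 11298 (.leaf 0x0) (.leaf 0x20507060004)) (.node 11300 (.leaf 0x7010008050005) (.node 11301 (.leaf 0x0) (.leaf 0x0))))))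

def argWS_1106 : Store := (.node 11312 (.node 11307 (.node 11304 (.node 11303 (.leaf 0xd110002) (.leaf 0x2030607050705080008)) (.node 11305 (.leaf 0x10208060004) (.node 11306 (.leaf 0x0) (.leaf 0x0)))) (.node 11309 (.node 11308 (.leaf 0x0) (.leaf 0x0)) (.node 11310 (.leaf 0x0) (.node 11311 (.leaf 0x0) (.leaf 0x200080905080006))))) (.node 11317 (.node 11314 (.node 11313 (.leaf 0x0) (.leaf 0x0)) (.node 11315 (.leaf 0x0) (.node 11316 (.leaf 0x0) (.leaf 0x302050003)))) (.node 11320 (.node 11318 (.leaf 0x0) (.node 11319 (.leaf 0x0) (.leaf 0x0))) (.node 11321 (.leaf 0x0) (.node 11322 (.leaf 0x7090002) (.leaf 0x0))))))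

def argWS_1107 : Store := (.node 11302 argWS_1105 argWS_1106)

def argWS_1108 : Store := (.node 11282 argWS_1104 argWS_1107)

def argWS_1109 : Store := (.node 11333 (.node 11328 (.node 11325 (.node 11324 (.leaf 0x0) (.leaf 0x0)) (.node 11326 (.leaf 0x0) (.node 11327 (.leaf 0x40201060705080007) (.leaf 0x0)))) (.node 11330 (.node 11329 (.leaf 0x0) (.leaf 0x0)) (.node 11331 (.leaf 0x0) (.node 11332 (.leaf 0x2010705080005) (.leaf 0x0))))) (.node 11338 (.node 11335 (.node 11334 (.leaf 0x0) (.leaf 0x0)) (.node 11336 (.leaf 0x0) (.node 11337 (.leaf 0x4030106070005) (.leaf 0x0)))) (.node 11340 (.node 11339 (.leaf 0x0) (.leaf 0x0)) (.node 11341 (.leaf 0x0) (.node 11342 (.leaf 0x40205070705080007) (.leaf 0x7010207050705080008))))))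

def argWS_1110 : Store := (.node 11353 (.node 11348 (.node 11345 (.node 11344 (.leaf 0x702010607050006) (.leaf 0x0)) (.node 11346 (.leaf 0x0) (.node 11347 (.leaf 0x0) (.leaf 0x0)))) (.node 11350 (.node 11349 (.leaf 0x0) (.leaf 0x0)) (.node 11351 (.leaf 0x70102090004) (.node 11352 (.leaf 0x0) (.leaf 0x0))))) (.node 11358 (.node 11355 (.node 11354 (.leaf 0x0) (.leaf 0x0)) (.node 11356 (.leaf 0x70102090004) (.node 11357 (.leaf 0x0) (.leaf 0x0)))) (.node 11361 (.node 11359 (.leaf 0x0) (.node 11360 (.leaf 0x0) (.leaf 0x3010607090005))) (.node 11362 (.leaf 0x0) (.node 11363 (.leaf 0x0) (.leaf 0x0))))))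

def argWS_1111 : Store := (.node 11343 argWS_1109 argWS_1110)

def argWS_1112 : Store := (.node 11374 (.node 11369 (.node 11366 (.node 11365 (.leaf 0x0) (.leaf 0x409080003)) (.node 11367 (.leaf 0x0) (.node 11368 (.leaf 0x0) (.leaf 0x0)))) (.node 11371 (.node 11370 (.leaf 0x70100050707090007) (.leaf 0x0)) (.node 11372 (.leaf 0x0) (.node 11373 (.leaf 0x0) (.leaf 0x0))))) (.node 11379 (.node 11376 (.node 11375 (.leaf 0x3040109080607090008) (.leaf 0x0)) (.node 11377 (.leaf 0x0) (.node 11378 (.leaf 0x0) (.leaf 0x10001)))) (.node 11381 (.node 11380 (.leaf 0x10001) (.leaf 0x2040106070705080008)) (.node 11382 (.leaf 0x0) (.node 11383 (.leaf 0x0) (.leaf 0x0))))))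

def argWS_1113 : Store := (.node 11394 (.node 11389 (.node 11386 (.node 11385 (.leaf 0x0) (.leaf 0xe100e0003)) (.node 11387 (.leaf 0x70001) (.node 11388 (.leaf 0x0) (.leaf 0x0)))) (.node 11391 (.node 11390 (.leaf 0xe110f0d0e0005) (.leaf 0x1070002)) (.node 11392 (.leaf 0x0) (.node 11393 (.leaf 0x0) (.leaf 0xc100b0d0d0e0006))))) (.node 11399 (.node 11396 (.node 11395 (.leaf 0x0) (.leaf 0x8050002)) (.node 11397 (.leaf 0x0) (.node 11398 (.leaf 0x0) (.leaf 0xf100b0e0004)))) (.node 11402 (.node 11400 (.leaf 0x0) (.node 11401 (.leaf 0x108060003) (.leaf 0x0))) (.node 11403 (.leaf 0x0) (.node 11404 (.leaf 0x100b0d0d0e0005) (.leaf 0x108050003))))))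

def argWS_1114 : Store := (.node 11384 argWS_1112 argWS_1113)

def argWS_1115 : Store := (.node 11364 argWS_1111 argWS_1114)

def argWS_1116 : Store := (.node 11323 argWS_1108 argWS_1115)

def argWS_1117 : Store := (.node 11242 argWS_1101 argWS_1116)

def argWS_1118 : Store := (.node 11415 (.node 11410 (.node 11407 (.node 11406 (.leaf 0x0) (.leaf 0x0)) (.node 11408 (.leaf 0xf100b0e0004) (.node 11409 (.leaf 0x0) (.leaf 0x0)))) (.node 11412 (.node 11411 (.leaf 0x0) (.leaf 0x0)) (.node 11413 (.leaf 0x0) (.node 11414 (.leaf 0x70108060607090007) (.leaf 0x0))))) (.node 11420 (.node 11417 (.node 11416 (.leaf 0x0) (.leaf 0x0)) (.node 11418 (.leaf 0xf0d0e0003) (.node 11419 (.leaf 0x10001) (.leaf 0x10001)))) (.node 11422 (.node 11421 (.leaf 0x0) (.leaf 0x0)) (.node 11423 (.leaf 0x0) (.node 11424 (.leaf 0xc100f0003) (.leaf 0x0))))))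

def argWS_1119 : Store := (.node 11435 (.node 11430 (.node 11427 (.node 11426 (.leaf 0x108050003) (.leaf 0x0)) (.node 11428 (.leaf 0x0) (.node 11429 (.leaf 0x0) (.leaf 0x0)))) (.node 11432 (.node 11431 (.leaf 0x2040109080607090008) (.leaf 0x308060705080006)) (.node 11433 (.leaf 0x0) (.node 11434 (.leaf 0x0) (.leaf 0x0))))) (.node 11440 (.node 11437 (.node 11436 (.leaf 0xe110f0003) (.leaf 0x80001)) (.node 11438 (.leaf 0x304050709080006) (.node 11439 (.leaf 0x0) (.leaf 0x0)))) (.node 11442 (.node 11441 (.leaf 0x0) (.leaf 0xb0c0f0c0004)) (.node 11443 (.leaf 0x0) (.node 11444 (.leaf 0x70001) (.leaf 0x0))))))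

def argWS_1120 : Store := (.node 11425 argWS_1118 argWS_1119)

def argWS_1121 : Store := (.node 11455 (.node 11450 (.node 11447 (.node 11446 (.leaf 0x0) (.leaf 0x110f0d0e0004)) (.node 11448 (.leaf 0x0) (.node 11449 (.leaf 0x1080002) (.leaf 0x701020705080006)))) (.node 11452 (.node 11451 (.leaf 0x0) (.leaf 0x10205070905080007)) (.node 11453 (.leaf 0x0) (.node 11454 (.leaf 0x0) (.leaf 0x0))))) (.node 11460 (.node 11457 (.node 11456 (.leaf 0x0) (.leaf 0xd100d0f0c0005)) (.node 11458 (.leaf 0x0) (.node 11459 (.leaf 0x1070002) (.leaf 0x0)))) (.node 11462 (.node 11461 (.leaf 0x0) (.leaf 0xd110f0f0c0005)) (.node 11463 (.leaf 0x0) (.node 11464 (.leaf 0xf100d0d0e0005) (.leaf 0x0))))))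

def argWS_1122 : Store := (.node 11475 (.node 11470 (.node 11467 (.node 11466 (.leaf 0x0) (.leaf 0x8060002)) (.node 11468 (.leaf 0x0) (.node 11469 (.leaf 0x0) (.leaf 0x0)))) (.node 11472 (.node 11471 (.leaf 0x301060705080006) (.leaf 0x2060709080607090008)) (.node 11473 (.leaf 0x0) (.node 11474 (.leaf 0xe100d0d0e0005) (.leaf 0x0))))) (.node 11480 (.node 11477 (.node 11476 (.leaf 0x0) (.leaf 0x0)) (.node 11478 (.leaf 0x0) (.node 11479 (.leaf 0x108060003) (.leaf 0x0)))) (.node 11483 (.node 11481 (.leaf 0x0) (.node 11482 (.leaf 0x110c0f0c0004) (.leaf 0x0))) (.node 11484 (.leaf 0x0) (.node 11485 (.leaf 0x0) (.leaf 0x0))))))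

def argWS_1123 : Store := (.node 11465 argWS_1121 argWS_1122)

def argWS_1124 : Store := (.node 11445 argWS_1120 argWS_1123)

def argWS_1125 : Store := (.node 11496 (.node 11491 (.node 11488 (.node 11487 (.leaf 0x307090003) (.leaf 0x0)) (.node 11489 (.leaf 0x0) (.node 11490 (.leaf 0x0) (.leaf 0xf100f0d0e0005)))) (.node 11493 (.node 11492 (.leaf 0x0) (.leaf 0x0)) (.node 11494 (.leaf 0x0) (.node 11495 (.leaf 0x0) (.leaf 0x4030809080005))))) (.node 11501 (.node 11498 (.node 11497 (.leaf 0x0) (.leaf 0xc100b0f0c0005)) (.node 11499 (.leaf 0x40001) (.node 11500 (.leaf 0x402060607090006) (.leaf 0x0)))) (.node 11503 (.node 11502 (.leaf 0x1070002) (.leaf 0x0)) (.node 11504 (.leaf 0x0) (.node 11505 (.leaf 0x0) (.leaf 0xf0001))))))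

def argWS_1126 : Store := (.node 11516 (.node 11511 (.node 11508 (.node 11507 (.leaf 0x0) (.leaf 0x108050003)) (.node 11509 (.leaf 0x0) (.node 11510 (.leaf 0xd110f0f0c0005) (.leaf 0x0)))) (.node 11513 (.node 11512 (.leaf 0x0) (.leaf 0x0)) (.node 11514 (.leaf 0x0) (.node 11515 (.leaf 0x102070607090006) (.leaf 0x7010208050005))))) (.node 11521 (.node 11518 (.node 11517 (.leaf 0x10001) (.leaf 0x0)) (.node 11519 (.leaf 0x0) (.node 11520 (.leaf 0x0) (.leaf 0x110f0c0003)))) (.node 11524 (.node 11522 (.leaf 0x0) (.node 11523 (.leaf 0x8060002) (.leaf 0x0))) (.node 11525 (.leaf 0x0) (.node 11526 (.leaf 0x0) (.leaf 0x110c0f0c0004))))))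

def argWS_1127 : Store := (.node 11506 argWS_1125 argWS_1126)

def argWS_1128 : Store := (.node 11537 (.node 11532 (.node 11529 (.node 11528 (.leaf 0x10001) (.leaf 0x10001)) (.node 11530 (.leaf 0x0) (.node 11531 (.leaf 0x0) (.leaf 0x0)))) (.node 11534 (.node 11533 (.leaf 0xf100b0f0d0e0006) (.leaf 0x70001)) (.node 11535 (.leaf 0x0) (.node 11536 (.leaf 0x0) (.leaf 0xf100b0d0d0e0006))))) (.node 11542 (.node 11539 (.node 11538 (.leaf 0x0) (.leaf 0x0)) (.node 11540 (.leaf 0x0) (.node 11541 (.leaf 0x203010507060705080009) (.leaf 0x108060003)))) (.node 11544 (.node 11543 (.leaf 0x10001) (.leaf 0x7020107060607090008)) (.node 11545 (.leaf 0x0) (.node 11546 (.leaf 0x0) (.leaf 0x0))))))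

def argWS_1129 : Store := (.node 11557 (.node 11552 (.node 11549 (.node 11548 (.leaf 0x0) (.leaf 0x110b0d0f0c0005)) (.node 11550 (.leaf 0x0) (.node 11551 (.leaf 0x0) (.leaf 0x0)))) (.node 11554 (.node 11553 (.leaf 0xb0001) (.leaf 0x0)) (.node 11555 (.leaf 0x80001) (.node 11556 (.leaf 0x0) (.leaf 0x0))))) (.node 11562 (.node 11559 (.node 11558 (.leaf 0x110f0c0003) (.leaf 0x70001)) (.node 11560 (.leaf 0x0) (.node 11561 (.leaf 0x0) (.leaf 0xd0001)))) (.node 11565 (.node 11563 (.leaf 0x0) (.node 11564 (.leaf 0x1080002) (.leaf 0x0))) (.node 11566 (.leaf 0x0) (.node 11567 (.leaf 0xf100b0c0004) (.leaf 0x1070002))))))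

def argWS_1130 : Store := (.node 11547 argWS_1128 argWS_1129)

def argWS_1131 : Store := (.node 11527 argWS_1127 argWS_1130)

def argWS_1132 : Store := (.node 11486 argWS_1124 argWS_1131)

def argWS_1133 : Store := (.node 11578 (.node 11573 (.node 11570 (.node 11569 (.leaf 0x0) (.leaf 0x0)) (.node 11571 (.leaf 0x110d0002) (.node 11572 (.leaf 0x8050002) (.leaf 0x0)))) (.node 11575 (.node 11574 (.leaf 0x0) (.leaf 0xe110f0c0004)) (.node 11576 (.leaf 0x108050003) (.node 11577 (.leaf 0x0) (.leaf 0x0))))) (.node 11583 (.node 11580 (.node 11579 (.leaf 0x100b0c0003) (.leaf 0x10001)) (.node 11581 (.leaf 0x2040106070705080008) (.node 11582 (.leaf 0x0) (.leaf 0x10001)))) (.node 11585 (.node 11584 (.leaf 0x0) (.leaf 0x0)) (.node 11586 (.leaf 0x0) (.node 11587 (.leaf 0x100d0002) (.leaf 0x0))))))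

def argWS_1134 : Store := (.node 11598 (.node 11593 (.node 11590 (.node 11589 (.leaf 0x80001) (.leaf 0x20401050709080007)) (.node 11591 (.leaf 0x0) (.node 11592 (.leaf 0x0) (.leaf 0x0)))) (.node 11595 (.node 11594 (.leaf 0xb0a0f0d0e0005) (.leaf 0x8060002)) (.node 11596 (.leaf 0x30201070004) (.node 11597 (.leaf 0x0) (.leaf 0x0))))) (.node 11603 (.node 11600 (.node 11599 (.leaf 0x0) (.leaf 0x100001)) (.node 11601 (.leaf 0x0) (.node 11602 (.leaf 0x108060003) (.leaf 0x302070003)))) (.node 11605 (.node 11604 (.leaf 0x0) (.leaf 0x0)) (.node 11606 (.leaf 0x0) (.node 11607 (.leaf 0x110001) (.leaf 0x0))))))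

def argWS_1135 : Store := (.node 11588 argWS_1133 argWS_1134)

def argWS_1136 : Store := (.node 11618 (.node 11613 (.node 11610 (.node 11609 (.leaf 0x108050003) (.leaf 0x4030705080005)) (.node 11611 (.leaf 0x0) (.node 11612 (.leaf 0x0) (.leaf 0x0)))) (.node 11615 (.node 11614 (.leaf 0x0) (.leaf 0xd110e0003)) (.node 11616 (.leaf 0x0) (.node 11617 (.leaf 0x1080002) (.leaf 0x0))))) (.node 11623 (.node 11620 (.node 11619 (.leaf 0x0) (.leaf 0x0)) (.node 11621 (.leaf 0xe110f0c0004) (.node 11622 (.leaf 0x80001) (.leaf 0x2000809080005)))) (.node 11625 (.node 11624 (.leaf 0x0) (.leaf 0x0)) (.node 11626 (.leaf 0x0) (.node 11627 (.leaf 0x110d0e0003) (.leaf 0x1070002))))))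

def argWS_1137 : Store := (.node 11638 (.node 11633 (.node 11630 (.node 11629 (.leaf 0x0) (.leaf 0x0)) (.node 11631 (.leaf 0x100b0d0003) (.node 11632 (.leaf 0x0) (.leaf 0x0)))) (.node 11635 (.node 11634 (.leaf 0x0) (.leaf 0x0)) (.node 11636 (.leaf 0x4000607090005) (.node 11637 (.leaf 0x0) (.leaf 0x0))))) (.node 11643 (.node 11640 (.node 11639 (.leaf 0x0) (.leaf 0x0)) (.node 11641 (.leaf 0x102050003) (.node 11642 (.leaf 0x30407050705080007) (.leaf 0x1060705080005)))) (.node 11646 (.node 11644 (.leaf 0x0) (.node 11645 (.leaf 0x0) (.leaf 0x0))) (.node 11647 (.leaf 0x20306070705080007) (.node 11648 (.leaf 0x3000607050705080008) (.leaf 0x0))))))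

def argWS_1138 : Store := (.node 11628 argWS_1136 argWS_1137)

def argWS_1139 : Store := (.node 11608 argWS_1135 argWS_1138)

def argWS_1140 : Store := (.node 11659 (.node 11654 (.node 11651 (.node 11650 (.leaf 0x0) (.leaf 0x0)) (.node 11652 (.leaf 0x0) (.node 11653 (.leaf 0x0) (.leaf 0x0)))) (.node 11656 (.node 11655 (.leaf 0x0) (.leaf 0x40201060607090007)) (.node 11657 (.leaf 0x70100070004) (.node 11658 (.leaf 0x0) (.leaf 0x0))))) (.node 11664 (.node 11661 (.node 11660 (.leaf 0x0) (.leaf 0xd110d0003)) (.node 11662 (.leaf 0x0) (.node 11663 (.leaf 0x0) (.leaf 0x0)))) (.node 11666 (.node 11665 (.leaf 0x0) (.leaf 0x0)) (.node 11667 (.leaf 0x302060607090006) (.node 11668 (.leaf 0x0) (.leaf 0x0))))))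

def argWS_1141 : Store := (.node 11679 (.node 11674 (.node 11671 (.node 11670 (.leaf 0x0) (.leaf 0x0)) (.node 11672 (.leaf 0x302060607090006) (.node 11673 (.leaf 0x0) (.leaf 0x0)))) (.node 11676 (.node 11675 (.leaf 0x0) (.leaf 0x0)) (.node 11677 (.leaf 0x407090003) (.node 11678 (.leaf 0x0) (.leaf 0x0))))) (.node 11684 (.node 11681 (.node 11680 (.leaf 0x0) (.leaf 0x0)) (.node 11682 (.leaf 0x402010705080006) (.node 11683 (.leaf 0xf100f0f0c0005) (.leaf 0x0)))) (.node 11687 (.node 11685 (.leaf 0x0) (.node 11686 (.leaf 0x0) (.leaf 0x0))) (.node 11688 (.leaf 0x3080002) (.node 11689 (.leaf 0x70001) (.leaf 0x0))))))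

def argWS_1142 : Store := (.node 11669 argWS_1140 argWS_1141)

def argWS_1143 : Store := (.node 11700 (.node 11695 (.node 11692 (.node 11691 (.leaf 0x0) (.leaf 0xc100d0003)) (.node 11693 (.leaf 0x0) (.node 11694 (.leaf 0x0) (.leaf 0x0)))) (.node 11697 (.node 11696 (.leaf 0x0) (.leaf 0x102050705080006)) (.node 11698 (.leaf 0x1070002) (.node 11699 (.leaf 0x40001) (.leaf 0x402060607090006))))) (.node 11705 (.node 11702 (.node 11701 (.leaf 0x0) (.leaf 0x0)) (.node 11703 (.leaf 0x0) (.node 11704 (.leaf 0x0) (.leaf 0xf100e0003)))) (.node 11707 (.node 11706 (.leaf 0x0) (.leaf 0x0)) (.node 11708 (.leaf 0x0) (.node 11709 (.leaf 0x0) (.leaf 0x102050705080006))))))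

def argWS_1144 : Store := (.node 11720 (.node 11715 (.node 11712 (.node 11711 (.leaf 0x10001) (.leaf 0x7010208050005)) (.node 11713 (.leaf 0x0) (.node 11714 (.leaf 0x0) (.leaf 0x0)))) (.node 11717 (.node 11716 (.leaf 0x110b0002) (.leaf 0x0)) (.node 11718 (.leaf 0x0) (.node 11719 (.leaf 0x0) (.leaf 0x0))))) (.node 11725 (.node 11722 (.node 11721 (.leaf 0x70102070905080007) (.leaf 0x80001)) (.node 11723 (.leaf 0x30401050707090007) (.node 11724 (.leaf 0x0) (.leaf 0x0)))) (.node 11728 (.node 11726 (.leaf 0x0) (.node 11727 (.leaf 0x110b0d0e0004) (.leaf 0x0))) (.node 11729 (.leaf 0x0) (.node 11730 (.leaf 0x0) (.leaf 0x0))))))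

def argWS_1145 : Store := (.node 11710 argWS_1143 argWS_1144)

def argWS_1146 : Store := (.node 11690 argWS_1142 argWS_1145)

def argWS_1147 : Store := (.node 11649 argWS_1139 argWS_1146)

def argWS_1148 : Store := (.node 11568 argWS_1132 argWS_1147)

def argWS_1149 : Store := (.node 11405 argWS_1117 argWS_1148)

def argWS_1150 : Store := (.node 11079 argWS_1086 argWS_1149)

def argWS_1151 : Store := (.node 11741 (.node 11736 (.node 11733 (.node 11732 (.leaf 0x20401060607090007) (.leaf 0x0)) (.node 11734 (.leaf 0x0) (.node 11735 (.leaf 0x0) (.leaf 0x0)))) (.node 11738 (.node 11737 (.leaf 0x7060002) (.leaf 0x0)) (.node 11739 (.leaf 0x0) (.node 11740 (.leaf 0x0) (.leaf 0x0))))) (.node 11746 (.node 11743 (.node 11742 (.leaf 0x20309080004) (.leaf 0x0)) (.node 11744 (.leaf 0x0) (.node 11745 (.leaf 0x0) (.leaf 0x0)))) (.node 11748 (.node 11747 (.leaf 0x50001) (.leaf 0x0)) (.node 11749 (.leaf 0x0) (.node 11750 (.leaf 0x0) (.leaf 0x0))))))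

def argWS_1152 : Store := (.node 11761 (.node 11756 (.node 11753 (.node 11752 (.leaf 0x409080003) (.leaf 0x0)) (.node 11754 (.leaf 0x0) (.node 11755 (.leaf 0x0) (.leaf 0x0)))) (.node 11758 (.node 11757 (.leaf 0x4020109080607090008) (.leaf 0x0)) (.node 11759 (.leaf 0x0) (.node 11760 (.leaf 0x0) (.leaf 0x0))))) (.node 11766 (.node 11763 (.node 11762 (.leaf 0x3010607090005) (.leaf 0x0)) (.node 11764 (.leaf 0x0) (.node 11765 (.leaf 0x0) (.leaf 0x0)))) (.node 11768 (.node 11767 (.leaf 0x3020705080005) (.leaf 0x0)) (.node 11769 (.leaf 0x0) (.node 11770 (.leaf 0x0) (.leaf 0x0))))))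

def argWS_1153 : Store := (.node 11751 argWS_1151 argWS_1152)

def argWS_1154 : Store := (.node 11781 (.node 11776 (.node 11773 (.node 11772 (.leaf 0x0) (.leaf 0x0)) (.node 11774 (.leaf 0x100f0f0c0004) (.node 11775 (.leaf 0x0) (.leaf 0x0)))) (.node 11778 (.node 11777 (.leaf 0x3080002) (.leaf 0x0)) (.node 11779 (.leaf 0x0) (.node 11780 (.leaf 0x0) (.leaf 0x3020108060705080008))))) (.node 11786 (.node 11783 (.node 11782 (.leaf 0x203060707090006) (.leaf 0x0)) (.node 11784 (.leaf 0x0) (.node 11785 (.leaf 0x0) (.leaf 0xf100002)))) (.node 11788 (.node 11787 (.leaf 0x10001) (.leaf 0x30405080004)) (.node 11789 (.leaf 0x0) (.node 11790 (.leaf 0x0) (.leaf 0x0))))))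

def argWS_1155 : Store := (.node 11801 (.node 11796 (.node 11793 (.node 11792 (.leaf 0x0) (.leaf 0x3020108060705080008)) (.node 11794 (.leaf 0x403010707090006) (.node 11795 (.leaf 0x0) (.leaf 0x100b0d0d0e0005)))) (.node 11798 (.node 11797 (.leaf 0x0) (.leaf 0x0)) (.node 11799 (.leaf 0x0) (.node 11800 (.leaf 0x0) (.leaf 0x10001))))) (.node 11806 (.node 11803 (.node 11802 (.leaf 0x0) (.leaf 0x0)) (.node 11804 (.leaf 0xf100f0f0c0005) (.node 11805 (.leaf 0x0) (.leaf 0x20406070705080007)))) (.node 11809 (.node 11807 (.leaf 0x0) (.node 11808 (.leaf 0x0) (.leaf 0x0))) (.node 11810 (.leaf 0x0) (.node 11811 (.leaf 0x0) (.leaf 0x7010507060607090008))))))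

def argWS_1156 : Store := (.node 11791 argWS_1154 argWS_1155)

def argWS_1157 : Store := (.node 11771 argWS_1153 argWS_1156)

def argWS_1158 : Store := (.node 11822 (.node 11817 (.node 11814 (.node 11813 (.leaf 0x0) (.leaf 0x0)) (.node 11815 (.leaf 0xe100e0003) (.node 11816 (.leaf 0x108060003) (.leaf 0x0)))) (.node 11819 (.node 11818 (.leaf 0x0) (.leaf 0x0)) (.node 11820 (.leaf 0xf100f0f0c0005) (.node 11821 (.leaf 0x10001) (.leaf 0x10001))))) (.node 11827 (.node 11824 (.node 11823 (.leaf 0x0) (.leaf 0x0)) (.node 11825 (.leaf 0x0) (.node 11826 (.leaf 0xc100b0f0f0c0006) (.leaf 0x0)))) (.node 11829 (.node 11828 (.leaf 0x0) (.leaf 0x0)) (.node 11830 (.leaf 0x0) (.node 11831 (.leaf 0x20007050705080007) (.leaf 0x1080002))))))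

def argWS_1159 : Store := (.node 11842 (.node 11837 (.node 11834 (.node 11833 (.leaf 0x0) (.leaf 0x0)) (.node 11835 (.leaf 0x110b0c0f0c0005) (.node 11836 (.leaf 0x0) (.leaf 0x0)))) (.node 11839 (.node 11838 (.leaf 0x0) (.leaf 0x0)) (.node 11840 (.leaf 0x204080607090006) (.node 11841 (.leaf 0x3040107050005) (.leaf 0x0))))) (.node 11847 (.node 11844 (.node 11843 (.leaf 0x0) (.leaf 0x0)) (.node 11845 (.leaf 0x0) (.node 11846 (.leaf 0x0) (.leaf 0x40108060607090007)))) (.node 11850 (.node 11848 (.leaf 0x1070002) (.node 11849 (.leaf 0x408060607090006) (.leaf 0x0))) (.node 11851 (.leaf 0x0) (.node 11852 (.leaf 0x0) (.leaf 0x100b0f0003))))))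

def argWS_1160 : Store := (.node 11832 argWS_1158 argWS_1159)

def argWS_1161 : Store := (.node 11863 (.node 11858 (.node 11855 (.node 11854 (.leaf 0x0) (.leaf 0x0)) (.node 11856 (.leaf 0x70100060004) (.node 11857 (.leaf 0x70001) (.leaf 0x10408060607090007)))) (.node 11860 (.node 11859 (.leaf 0x0) (.leaf 0x0)) (.node 11861 (.leaf 0x0) (.node 11862 (.leaf 0x100b0f0003) (.leaf 0x0))))) (.node 11868 (.node 11865 (.node 11864 (.leaf 0x0) (.leaf 0x0)) (.node 11866 (.leaf 0x307090003) (.node 11867 (.leaf 0x4030106070005) (.leaf 0x0)))) (.node 11870 (.node 11869 (.leaf 0x0) (.leaf 0x0)) (.node 11871 (.leaf 0xd100d0f0c0005) (.node 11872 (.leaf 0x0) (.leaf 0x0))))))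

def argWS_1162 : Store := (.node 11883 (.node 11878 (.node 11875 (.node 11874 (.leaf 0x5070002) (.leaf 0x8060002)) (.node 11876 (.leaf 0x401070607090006) (.node 11877 (.leaf 0x0) (.leaf 0x0)))) (.node 11880 (.node 11879 (.leaf 0x0) (.leaf 0x110b0e0003)) (.node 11881 (.leaf 0x0) (.node 11882 (.leaf 0x0) (.leaf 0x0))))) (.node 11888 (.node 11885 (.node 11884 (.leaf 0x4000507050705080008) (.leaf 0x10001)) (.node 11886 (.leaf 0x40306070004) (.node 11887 (.leaf 0x0) (.leaf 0x0)))) (.node 11891 (.node 11889 (.leaf 0x0) (.node 11890 (.leaf 0xb0c0f0c0004) (.leaf 0x0))) (.node 11892 (.leaf 0x0) (.node 11893 (.leaf 0x0) (.leaf 0x302050709080607090009))))))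

def argWS_1163 : Store := (.node 11873 argWS_1161 argWS_1162)

def argWS_1164 : Store := (.node 11853 argWS_1160 argWS_1163)

def argWS_1165 : Store := (.node 11812 argWS_1157 argWS_1164)

def argWS_1166 : Store := (.node 11904 (.node 11899 (.node 11896 (.node 11895 (.leaf 0xd100d0f0c0005) (.leaf 0xd110d0e0004)) (.node 11897 (.leaf 0x0) (.node 11898 (.leaf 0xa0d0d0e0004) (.leaf 0xc100b0f0c0005)))) (.node 11901 (.node 11900 (.leaf 0x402010705080006) (.leaf 0x0)) (.node 11902 (.leaf 0x0) (.node 11903 (.leaf 0x407090003) (.leaf 0x0))))) (.node 11909 (.node 11906 (.node 11905 (.leaf 0x0) (.leaf 0xe0001)) (.node 11907 (.leaf 0x108050003) (.node 11908 (.leaf 0x0) (.leaf 0xf100b0f0004)))) (.node 11911 (.node 11910 (.leaf 0x304050709080006) (.leaf 0x304010507060705080009)) (.node 11912 (.leaf 0x0) (.node 11913 (.leaf 0x0) (.leaf 0x0))))))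

def argWS_1167 : Store := (.node 11924 (.node 11919 (.node 11916 (.node 11915 (.leaf 0x0) (.leaf 0x9080002)) (.node 11917 (.leaf 0x0) (.node 11918 (.leaf 0x0) (.leaf 0x0)))) (.node 11921 (.node 11920 (.leaf 0x701020809080607090009) (.leaf 0x0)) (.node 11922 (.leaf 0x0) (.node 11923 (.leaf 0x0) (.leaf 0x2030607050705080008))))) (.node 11929 (.node 11926 (.node 11925 (.leaf 0x10208060004) (.leaf 0x0)) (.node 11927 (.leaf 0x200080905080006) (.node 11928 (.leaf 0x0) (.leaf 0x0)))) (.node 11931 (.node 11930 (.leaf 0x0) (.leaf 0x0)) (.node 11932 (.leaf 0x10001) (.node 11933 (.leaf 0x10001) (.leaf 0x0))))))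

def argWS_1168 : Store := (.node 11914 argWS_1166 argWS_1167)

def argWS_1169 : Store := (.node 11944 (.node 11939 (.node 11936 (.node 11935 (.leaf 0x0) (.leaf 0x0)) (.node 11937 (.leaf 0xc100d0f0c0005) (.node 11938 (.leaf 0x0) (.leaf 0x10001)))) (.node 11941 (.node 11940 (.leaf 0x10001) (.leaf 0x0)) (.node 11942 (.leaf 0x0) (.node 11943 (.leaf 0x0) (.leaf 0x100f0c0003))))) (.node 11949 (.node 11946 (.node 11945 (.leaf 0x8060002) (.leaf 0x402010607060607090009)) (.node 11947 (.leaf 0x1040607060607090008) (.node 11948 (.leaf 0x0) (.leaf 0x0)))) (.node 11951 (.node 11950 (.leaf 0x0) (.leaf 0x0)) (.node 11952 (.leaf 0x100b0d0d0e0005) (.node 11953 (.leaf 0x0) (.leaf 0x0))))))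

def argWS_1170 : Store := (.node 11964 (.node 11959 (.node 11956 (.node 11955 (.leaf 0x0) (.leaf 0xc100b0f0f0c0006)) (.node 11957 (.leaf 0x10001) (.node 11958 (.leaf 0x0) (.leaf 0x0)))) (.node 11961 (.node 11960 (.leaf 0xc100b0f0f0c0006) (.leaf 0x10001)) (.node 11962 (.leaf 0x201080607090006) (.node 11963 (.leaf 0x0) (.leaf 0x0))))) (.node 11969 (.node 11966 (.node 11965 (.leaf 0x0) (.leaf 0xf100b0d0004)) (.node 11967 (.leaf 0x40201060004) (.node 11968 (.leaf 0x0) (.leaf 0x0)))) (.node 11972 (.node 11970 (.leaf 0x0) (.node 11971 (.leaf 0x0) (.leaf 0x10001))) (.node 11973 (.leaf 0x80001) (.node 11974 (.leaf 0x10507060607090007) (.leaf 0x0))))))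

def argWS_1171 : Store := (.node 11954 argWS_1169 argWS_1170)

def argWS_1172 : Store := (.node 11934 argWS_1168 argWS_1171)

def argWS_1173 : Store := (.node 11985 (.node 11980 (.node 11977 (.node 11976 (.leaf 0x0) (.leaf 0x0)) (.node 11978 (.leaf 0xa0c0002) (.node 11979 (.leaf 0x10001) (.leaf 0x0)))) (.node 11982 (.node 11981 (.leaf 0x0) (.leaf 0xa0d0002)) (.node 11983 (.leaf 0x70001) (.node 11984 (.leaf 0x0) (.leaf 0x0))))) (.node 11990 (.node 11987 (.node 11986 (.leaf 0x100d0d0e0004) (.leaf 0x1070002)) (.node 11988 (.leaf 0x0) (.node 11989 (.leaf 0x0) (.leaf 0xd100d0e0004)))) (.node 11992 (.node 11991 (.leaf 0x8050002) (.leaf 0x0)) (.node 11993 (.leaf 0x0) (.node 11994 (.leaf 0xb0a0d0f0c0005) (.leaf 0x108050003))))))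

def argWS_1174 : Store := (.node 12005 (.node 12000 (.node 11997 (.node 11996 (.leaf 0x0) (.leaf 0x0)) (.node 11998 (.leaf 0xd110f0c0004) (.node 11999 (.leaf 0x0) (.leaf 0x0)))) (.node 12002 (.node 12001 (.leaf 0x0) (.leaf 0x30507060004)) (.node 12003 (.leaf 0x0) (.node 12004 (.leaf 0x0) (.leaf 0x0))))) (.node 12010 (.node 12007 (.node 12006 (.leaf 0x0) (.leaf 0x104050003)) (.node 12008 (.leaf 0x7020108060005) (.node 12009 (.leaf 0x103080003) (.leaf 0x0)))) (.node 12013 (.node 12011 (.leaf 0x0) (.node 12012 (.leaf 0x0) (.leaf 0x0))) (.node 12014 (.leaf 0x0) (.node 12015 (.leaf 0x0) (.leaf 0x203070607090006))))))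

def argWS_1175 : Store := (.node 11995 argWS_1173 argWS_1174)

def argWS_1176 : Store := (.node 12026 (.node 12021 (.node 12018 (.node 12017 (.leaf 0x40705080004) (.leaf 0x0)) (.node 12019 (.leaf 0x0) (.node 12020 (.leaf 0x0) (.leaf 0x0)))) (.node 12023 (.node 12022 (.leaf 0x0) (.leaf 0x403010003)) (.node 12024 (.leaf 0x70102080905080007) (.node 12025 (.leaf 0x0) (.leaf 0x0))))) (.node 12031 (.node 12028 (.node 12027 (.leaf 0x0) (.leaf 0x0)) (.node 12029 (.leaf 0x0) (.node 12030 (.leaf 0x30109080607090007) (.leaf 0x2010002)))) (.node 12033 (.node 12032 (.leaf 0x0) (.leaf 0x0)) (.node 12034 (.leaf 0x0) (.node 12035 (.leaf 0x0) (.leaf 0x0))))))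

def argWS_1177 : Store := (.node 12046 (.node 12041 (.node 12038 (.node 12037 (.leaf 0x10207090004) (.leaf 0x100060707090006)) (.node 12039 (.leaf 0x0) (.node 12040 (.leaf 0x0) (.leaf 0x0)))) (.node 12043 (.node 12042 (.leaf 0x103080003) (.leaf 0x0)) (.node 12044 (.leaf 0x0) (.node 12045 (.leaf 0x0) (.leaf 0x3020108060705080008))))) (.node 12051 (.node 12048 (.node 12047 (.leaf 0x20301060707090007) (.leaf 0x0)) (.node 12049 (.leaf 0x0) (.node 12050 (.leaf 0x0) (.leaf 0xc100f0f0c0005)))) (.node 12054 (.node 12052 (.leaf 0x70001) (.node 12053 (.leaf 0x0) (.leaf 0x0))) (.node 12055 (.leaf 0xf100b0d0d0e0006) (.node 12056 (.leaf 0x0) (.leaf 0x0))))))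

def argWS_1178 : Store := (.node 12036 argWS_1176 argWS_1177)

def argWS_1179 : Store := (.node 12016 argWS_1175 argWS_1178)

def argWS_1180 : Store := (.node 11975 argWS_1172 argWS_1179)

def argWS_1181 : Store := (.node 11894 argWS_1165 argWS_1180)

def argWS_1182 : Store := (.node 12067 (.node 12062 (.node 12059 (.node 12058 (.leaf 0x0) (.leaf 0x1070002)) (.node 12060 (.leaf 0x0) (.node 12061 (.leaf 0x0) (.leaf 0x110d0f0c0004)))) (.node 12064 (.node 12063 (.leaf 0x0) (.leaf 0x0)) (.node 12065 (.leaf 0x0) (.node 12066 (.leaf 0x40301050707090007) (.leaf 0x8060002))))) (.node 12072 (.node 12069 (.node 12068 (.leaf 0x0) (.leaf 0x0)) (.node 12070 (.leaf 0x0) (.node 12071 (.leaf 0x0) (.leaf 0x3020108060705080008)))) (.node 12074 (.node 12073 (.leaf 0x2000607060005) (.leaf 0x0)) (.node 12075 (.leaf 0x0) (.node 12076 (.leaf 0x0) (.leaf 0xd110c0f0c0005))))))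

def argWS_1183 : Store := (.node 12087 (.node 12082 (.node 12079 (.node 12078 (.leaf 0x0) (.leaf 0xc100b0f0c0005)) (.node 12080 (.leaf 0x80001) (.node 12081 (.leaf 0x0) (.leaf 0x0)))) (.node 12084 (.node 12083 (.leaf 0x0) (.leaf 0x1020905080005)) (.node 12085 (.leaf 0x2030108050005) (.node 12086 (.leaf 0x0) (.leaf 0xc100b0003))))) (.node 12092 (.node 12089 (.node 12088 (.leaf 0x0) (.leaf 0x0)) (.node 12090 (.leaf 0x0) (.node 12091 (.leaf 0x0) (.leaf 0x3000002)))) (.node 12094 (.node 12093 (.leaf 0x70001) (.leaf 0x0)) (.node 12095 (.leaf 0x0) (.node 12096 (.leaf 0x0) (.leaf 0x1020905080005))))))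

def argWS_1184 : Store := (.node 12077 argWS_1182 argWS_1183)

def argWS_1185 : Store := (.node 12107 (.node 12102 (.node 12099 (.node 12098 (.leaf 0x30207050004) (.leaf 0x0)) (.node 12100 (.leaf 0x0) (.node 12101 (.leaf 0x0) (.leaf 0xf100b0003)))) (.node 12104 (.node 12103 (.leaf 0x0) (.leaf 0x0)) (.node 12105 (.leaf 0x0) (.node 12106 (.leaf 0x0) (.leaf 0x2040507060607090008))))) (.node 12112 (.node 12109 (.node 12108 (.leaf 0x10001) (.leaf 0x0)) (.node 12110 (.leaf 0x0) (.node 12111 (.leaf 0xa0c0002) (.leaf 0x40107060004)))) (.node 12114 (.node 12113 (.leaf 0x0) (.leaf 0x0)) (.node 12115 (.leaf 0x0) (.node 12116 (.leaf 0xd110d0d0e0005) (.leaf 0x0))))))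

def argWS_1186 : Store := (.node 12127 (.node 12122 (.node 12119 (.node 12118 (.leaf 0x0) (.leaf 0x0)) (.node 12120 (.leaf 0x70001) (.node 12121 (.leaf 0x0) (.leaf 0x0)))) (.node 12124 (.node 12123 (.leaf 0xf100f0f0c0005) (.leaf 0x108050003)) (.node 12125 (.leaf 0x30406070607090007) (.node 12126 (.leaf 0x0) (.leaf 0x2010607060005))))) (.node 12132 (.node 12129 (.node 12128 (.leaf 0x0) (.leaf 0x203060709080607090009)) (.node 12130 (.leaf 0x30006070705080007) (.node 12131 (.leaf 0x0) (.leaf 0x0)))) (.node 12135 (.node 12133 (.leaf 0x0) (.node 12134 (.leaf 0x0) (.leaf 0xb0a0c0f0c0005))) (.node 12136 (.leaf 0x402090003) (.node 12137 (.leaf 0x0) (.leaf 0x200080003))))))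

def argWS_1187 : Store := (.node 12117 argWS_1185 argWS_1186)

def argWS_1188 : Store := (.node 12097 argWS_1184 argWS_1187)

def argWS_1189 : Store := (.node 12148 (.node 12143 (.node 12140 (.node 12139 (.leaf 0x0) (.leaf 0x0)) (.node 12141 (.leaf 0x0) (.node 12142 (.leaf 0xf100b0f0004) (.leaf 0x10001)))) (.node 12145 (.node 12144 (.leaf 0x40201090004) (.leaf 0x0)) (.node 12146 (.leaf 0x201080003) (.node 12147 (.leaf 0x0) (.leaf 0x0))))) (.node 12153 (.node 12150 (.node 12149 (.leaf 0x0) (.leaf 0xf100b0f0004)) (.node 12151 (.leaf 0x0) (.node 12152 (.leaf 0x0) (.leaf 0x0)))) (.node 12155 (.node 12154 (.leaf 0x80607090005) (.leaf 0x0)) (.node 12156 (.leaf 0x0) (.node 12157 (.leaf 0x0) (.leaf 0x70100050707090007))))))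

def argWS_1190 : Store := (.node 12168 (.node 12163 (.node 12160 (.node 12159 (.leaf 0x70102050707090007) (.leaf 0x0)) (.node 12161 (.leaf 0x0) (.node 12162 (.leaf 0x0) (.leaf 0x0)))) (.node 12165 (.node 12164 (.leaf 0x701080003) (.leaf 0x108050003)) (.node 12166 (.leaf 0x0) (.node 12167 (.leaf 0x0) (.leaf 0x0))))) (.node 12173 (.node 12170 (.node 12169 (.leaf 0x0) (.leaf 0x0)) (.node 12171 (.leaf 0x0) (.node 12172 (.leaf 0x301070003) (.leaf 0xb0001)))) (.node 12176 (.node 12174 (.leaf 0x70001) (.node 12175 (.leaf 0x0) (.leaf 0x0))) (.node 12177 (.leaf 0x0) (.node 12178 (.leaf 0x0) (.leaf 0x701080003))))))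

def argWS_1191 : Store := (.node 12158 argWS_1189 argWS_1190)

def argWS_1192 : Store := (.node 12189 (.node 12184 (.node 12181 (.node 12180 (.leaf 0x1080002) (.leaf 0x0)) (.node 12182 (.leaf 0x0) (.node 12183 (.leaf 0x0) (.leaf 0x0)))) (.node 12186 (.node 12185 (.leaf 0x0) (.leaf 0x2010809080607090008)) (.node 12187 (.leaf 0x0) (.node 12188 (.leaf 0x0) (.leaf 0x20607060607090007))))) (.node 12194 (.node 12191 (.node 12190 (.leaf 0x0) (.leaf 0x0)) (.node 12192 (.leaf 0xa0d0e0003) (.node 12193 (.leaf 0x1020607060607090008) (.leaf 0x0)))) (.node 12196 (.node 12195 (.leaf 0x0) (.leaf 0x100d0e0003)) (.node 12197 (.leaf 0x100d0002) (.node 12198 (.leaf 0x0) (.leaf 0x0))))))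

def argWS_1193 : Store := (.node 12209 (.node 12204 (.node 12201 (.node 12200 (.leaf 0xb0d0e0003) (.leaf 0x0)) (.node 12202 (.leaf 0x70100080004) (.node 12203 (.leaf 0x1080002) (.leaf 0x0)))) (.node 12206 (.node 12205 (.leaf 0xa0001) (.leaf 0x0)) (.node 12207 (.leaf 0x0) (.node 12208 (.leaf 0x0) (.leaf 0x0))))) (.node 12214 (.node 12211 (.node 12210 (.leaf 0xb0001) (.leaf 0x1070002)) (.node 12212 (.leaf 0x0) (.node 12213 (.leaf 0x0) (.leaf 0x0)))) (.node 12217 (.node 12215 (.leaf 0x70100080004) (.node 12216 (.leaf 0x108050003) (.leaf 0x0))) (.node 12218 (.leaf 0xa0001) (.node 12219 (.leaf 0x0) (.leaf 0x0))))))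

def argWS_1194 : Store := (.node 12199 argWS_1192 argWS_1193)

def argWS_1195 : Store := (.node 12179 argWS_1191 argWS_1194)

def argWS_1196 : Store := (.node 12138 argWS_1188 argWS_1195)

def argWS_1197 : Store := (.node 12230 (.node 12225 (.node 12222 (.node 12221 (.leaf 0x0) (.leaf 0x0)) (.node 12223 (.leaf 0x108050003) (.node 12224 (.leaf 0x0) (.leaf 0x0)))) (.node 12227 (.node 12226 (.leaf 0xb0d0d0e0004) (.leaf 0x0)) (.node 12228 (.leaf 0x2010705080005) (.node 12229 (.leaf 0x0) (.leaf 0x7020105080005))))) (.node 12235 (.node 12232 (.node 12231 (.leaf 0x0) (.leaf 0x0)) (.node 12233 (.leaf 0x0) (.node 12234 (.leaf 0x701080003) (.leaf 0x3020108060607090008)))) (.node 12237 (.node 12236 (.leaf 0x0) (.leaf 0x0)) (.node 12238 (.leaf 0x0) (.node 12239 (.leaf 0xd110002) (.leaf 0x1080002))))))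

def argWS_1198 : Store := (.node 12250 (.node 12245 (.node 12242 (.node 12241 (.leaf 0x0) (.leaf 0x0)) (.node 12243 (.leaf 0xe110f0d0e0005) (.node 12244 (.leaf 0x80001) (.leaf 0x0)))) (.node 12247 (.node 12246 (.leaf 0x0) (.leaf 0xc100b0d0d0e0006)) (.node 12248 (.leaf 0xb0001) (.node 12249 (.leaf 0x70001) (.leaf 0x0))))) (.node 12255 (.node 12252 (.node 12251 (.leaf 0x0) (.leaf 0x0)) (.node 12253 (.leaf 0x0) (.node 12254 (.leaf 0xd100d0e0004) (.leaf 0x10001)))) (.node 12257 (.node 12256 (.leaf 0x0) (.leaf 0x0)) (.node 12258 (.leaf 0x0) (.node 12259 (.leaf 0x701080003) (.leaf 0x7010007050005))))))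

def argWS_1199 : Store := (.node 12240 argWS_1197 argWS_1198)

def argWS_1200 : Store := (.node 12270 (.node 12265 (.node 12262 (.node 12261 (.leaf 0x0) (.leaf 0x110b0d0d0e0005)) (.node 12263 (.leaf 0x0) (.node 12264 (.leaf 0x0) (.leaf 0x0)))) (.node 12267 (.node 12266 (.leaf 0x0) (.leaf 0x301050709080607090009)) (.node 12268 (.leaf 0x0) (.node 12269 (.leaf 0x0) (.leaf 0xd100d0003))))) (.node 12275 (.node 12272 (.node 12271 (.leaf 0x0) (.leaf 0x0)) (.node 12273 (.leaf 0x0) (.node 12274 (.leaf 0x0) (.leaf 0x70108060607090007)))) (.node 12277 (.node 12276 (.leaf 0x0) (.leaf 0x110b0d0003)) (.node 12278 (.leaf 0x0) (.node 12279 (.leaf 0x0) (.leaf 0x701050709080607090009))))))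

def argWS_1201 : Store := (.node 12290 (.node 12285 (.node 12282 (.node 12281 (.leaf 0x0) (.leaf 0x0)) (.node 12283 (.leaf 0x0) (.node 12284 (.leaf 0x0) (.leaf 0x701080003)))) (.node 12287 (.node 12286 (.leaf 0x108060003) (.leaf 0x0)) (.node 12288 (.leaf 0x0) (.node 12289 (.leaf 0x0) (.leaf 0x0))))) (.node 12295 (.node 12292 (.node 12291 (.leaf 0x0) (.leaf 0x30201050705080007)) (.node 12293 (.leaf 0x0) (.node 12294 (.leaf 0x0) (.leaf 0x50709080004)))) (.node 12298 (.node 12296 (.leaf 0x0) (.node 12297 (.leaf 0x0) (.leaf 0x0))) (.node 12299 (.leaf 0x0) (.node 12300 (.leaf 0x0) (.leaf 0x701080003))))))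

def argWS_1202 : Store := (.node 12280 argWS_1200 argWS_1201)

def argWS_1203 : Store := (.node 12260 argWS_1199 argWS_1202)

def argWS_1204 : Store := (.node 12311 (.node 12306 (.node 12303 (.node 12302 (.leaf 0x1080002) (.leaf 0x0)) (.node 12304 (.leaf 0x0) (.node 12305 (.leaf 0x0) (.leaf 0x0)))) (.node 12308 (.node 12307 (.leaf 0x0) (.leaf 0x0)) (.node 12309 (.leaf 0x20301070607090007) (.node 12310 (.leaf 0x4080002) (.leaf 0x0))))) (.node 12316 (.node 12313 (.node 12312 (.leaf 0x0) (.leaf 0x701080003)) (.node 12314 (.leaf 0x108050003) (.node 12315 (.leaf 0x0) (.leaf 0x0)))) (.node 12318 (.node 12317 (.leaf 0x701000809080607090009) (.leaf 0x0)) (.node 12319 (.leaf 0x0) (.node 12320 (.leaf 0x0) (.leaf 0x300080607090006))))))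

def argWS_1205 : Store := (.node 12331 (.node 12326 (.node 12323 (.node 12322 (.leaf 0x4030105070908060709000a) (.leaf 0x0)) (.node 12324 (.leaf 0x0) (.node 12325 (.leaf 0xe110d0e0004) (.leaf 0x0)))) (.node 12328 (.node 12327 (.leaf 0x0) (.leaf 0x0)) (.node 12329 (.leaf 0x0) (.node 12330 (.leaf 0x3040607060607090008) (.leaf 0x2040507060705080008))))) (.node 12336 (.node 12333 (.node 12332 (.leaf 0x0) (.leaf 0x0)) (.node 12334 (.leaf 0xa0f0c0003) (.node 12335 (.leaf 0x302050707090006) (.leaf 0x0)))) (.node 12339 (.node 12337 (.leaf 0x0) (.node 12338 (.leaf 0x100b0002) (.leaf 0x108060003))) (.node 12340 (.leaf 0x0) (.node 12341 (.leaf 0x0) (.leaf 0xc100b0f0f0c0006))))))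

def argWS_1206 : Store := (.node 12321 argWS_1204 argWS_1205)

def argWS_1207 : Store := (.node 12352 (.node 12347 (.node 12344 (.node 12343 (.leaf 0x0) (.leaf 0x8050002)) (.node 12345 (.leaf 0x0) (.node 12346 (.leaf 0x0) (.leaf 0xb0a0c0f0c0005)))) (.node 12349 (.node 12348 (.leaf 0x0) (.leaf 0x0)) (.node 12350 (.leaf 0xd110d0f0c0005) (.node 12351 (.leaf 0xf0f0c0003) (.leaf 0x80001))))) (.node 12357 (.node 12354 (.node 12353 (.leaf 0x0) (.leaf 0x0)) (.node 12355 (.leaf 0x110f0f0c0004) (.node 12356 (.leaf 0x1080002) (.leaf 0x0)))) (.node 12359 (.node 12358 (.leaf 0x0) (.leaf 0x10001)) (.node 12360 (.leaf 0x0) (.node 12361 (.leaf 0x0) (.leaf 0xb0a0c0f0c0005))))))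

def argWS_1208 : Store := (.node 12372 (.node 12367 (.node 12364 (.node 12363 (.leaf 0x10507060004) (.leaf 0x0)) (.node 12365 (.leaf 0x10405070905080007) (.node 12366 (.leaf 0x0) (.leaf 0x0)))) (.node 12369 (.node 12368 (.leaf 0x0) (.leaf 0xd110d0d0e0005)) (.node 12370 (.leaf 0x0) (.node 12371 (.leaf 0x0) (.leaf 0x0))))) (.node 12377 (.node 12374 (.node 12373 (.leaf 0x5070002) (.leaf 0x10001)) (.node 12375 (.leaf 0x507060003) (.node 12376 (.leaf 0x0) (.leaf 0x405070905080006)))) (.node 12380 (.node 12378 (.leaf 0x0) (.node 12379 (.leaf 0x0) (.leaf 0x0))) (.node 12381 (.leaf 0xd110d0d0e0005) (.node 12382 (.leaf 0x0) (.leaf 0x0))))))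

def argWS_1209 : Store := (.node 12362 argWS_1207 argWS_1208)

def argWS_1210 : Store := (.node 12342 argWS_1206 argWS_1209)

def argWS_1211 : Store := (.node 12301 argWS_1203 argWS_1210)

def argWS_1212 : Store := (.node 12220 argWS_1196 argWS_1211)

def argWS_1213 : Store := (.node 12057 argWS_1181 argWS_1212)

def argWS_1214 : Store := (.node 12393 (.node 12388 (.node 12385 (.node 12384 (.leaf 0x0) (.leaf 0x10001)) (.node 12386 (.leaf 0x7010206070905080008) (.node 12387 (.leaf 0x0) (.leaf 0x0)))) (.node 12390 (.node 12389 (.leaf 0x301070003) (.leaf 0x0)) (.node 12391 (.leaf 0x0) (.node 12392 (.leaf 0x304060607090006) (.leaf 0x0))))) (.node 12398 (.node 12395 (.node 12394 (.leaf 0x0) (.leaf 0x0)) (.node 12396 (.leaf 0x0) (.node 12397 (.leaf 0x0) (.leaf 0x0)))) (.node 12400 (.node 12399 (.leaf 0x70201060705080007) (.leaf 0x40507060607090007)) (.node 12401 (.leaf 0x0) (.node 12402 (.leaf 0x0) (.leaf 0xc100b0d0004))))))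

def argWS_1215 : Store := (.node 12413 (.node 12408 (.node 12405 (.node 12404 (.leaf 0x0) (.leaf 0x0)) (.node 12406 (.leaf 0x10008060705080007) (.node 12407 (.leaf 0x10008060705080007) (.leaf 0x0)))) (.node 12410 (.node 12409 (.leaf 0x0) (.leaf 0x0)) (.node 12411 (.leaf 0x0) (.node 12412 (.leaf 0x0) (.leaf 0x607060705080007))))) (.node 12418 (.node 12415 (.node 12414 (.leaf 0x607060705080007) (.leaf 0x0)) (.node 12416 (.leaf 0x0) (.node 12417 (.leaf 0x0) (.leaf 0x0)))) (.node 12420 (.node 12419 (.leaf 0xd110c0f0c0005) (.leaf 0x0)) (.node 12421 (.leaf 0x110f0d0e0004) (.node 12422 (.leaf 0x0) (.leaf 0x0))))))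

def argWS_1216 : Store := (.node 12403 argWS_1214 argWS_1215)

def argWS_1217 : Store := (.node 12433 (.node 12428 (.node 12425 (.node 12424 (.leaf 0x0) (.leaf 0x0)) (.node 12426 (.leaf 0x0) (.node 12427 (.leaf 0x0) (.leaf 0x0)))) (.node 12430 (.node 12429 (.leaf 0x100b0d0003) (.leaf 0x0)) (.node 12431 (.leaf 0x100d0002) (.node 12432 (.leaf 0x0) (.leaf 0x108060003))))) (.node 12438 (.node 12435 (.node 12434 (.leaf 0x20107090004) (.leaf 0x0)) (.node 12436 (.leaf 0x0) (.node 12437 (.leaf 0x0) (.leaf 0x0)))) (.node 12440 (.node 12439 (.leaf 0x0) (.leaf 0x507060607090007)) (.node 12441 (.leaf 0x30008060705080007) (.node 12442 (.leaf 0x0) (.leaf 0x0))))))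

def argWS_1218 : Store := (.node 12453 (.node 12448 (.node 12445 (.node 12444 (.leaf 0x0) (.leaf 0xe110c0003)) (.node 12446 (.leaf 0x10001) (.node 12447 (.leaf 0x10001) (.leaf 0x0)))) (.node 12450 (.node 12449 (.leaf 0x0) (.leaf 0x0)) (.node 12451 (.leaf 0x0) (.node 12452 (.leaf 0x507060607090007) (.leaf 0x30108060705080007))))) (.node 12458 (.node 12455 (.node 12454 (.leaf 0x0) (.leaf 0x0)) (.node 12456 (.leaf 0x0) (.node 12457 (.leaf 0xc100b0f0d0e0006) (.leaf 0x10001)))) (.node 12461 (.node 12459 (.leaf 0x300060607090006) (.node 12460 (.leaf 0x0) (.leaf 0x10001))) (.node 12462 (.leaf 0x104050705080006) (.node 12463 (.leaf 0x0) (.leaf 0x701000809080006))))))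

def argWS_1219 : Store := (.node 12443 argWS_1217 argWS_1218)

def argWS_1220 : Store := (.node 12423 argWS_1216 argWS_1219)

def argWS_1221 : Store := (.node 12474 (.node 12469 (.node 12466 (.node 12465 (.leaf 0x0) (.leaf 0x0)) (.node 12467 (.leaf 0x0) (.node 12468 (.leaf 0x0) (.leaf 0x100d0002)))) (.node 12471 (.node 12470 (.leaf 0x0) (.leaf 0x4050705080005)) (.node 12472 (.leaf 0x0) (.node 12473 (.leaf 0x701020809080006) (.leaf 0x0))))) (.node 12479 (.node 12476 (.node 12475 (.leaf 0x1080002) (.leaf 0x401070905080006)) (.node 12477 (.leaf 0x0) (.node 12478 (.leaf 0x0) (.leaf 0x0)))) (.node 12481 (.node 12480 (.leaf 0x0) (.leaf 0xc100b0f0d0e0006)) (.node 12482 (.leaf 0x0) (.node 12483 (.leaf 0x10001) (.leaf 0x104050705080006))))))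

def argWS_1222 : Store := (.node 12494 (.node 12489 (.node 12486 (.node 12485 (.leaf 0x0) (.leaf 0x701000809080006)) (.node 12487 (.leaf 0x0) (.node 12488 (.leaf 0x10001) (.leaf 0x300060607090006)))) (.node 12491 (.node 12490 (.leaf 0x0) (.leaf 0x0)) (.node 12492 (.leaf 0x0) (.node 12493 (.leaf 0x0) (.leaf 0xe110c0003))))) (.node 12499 (.node 12496 (.node 12495 (.leaf 0x0) (.leaf 0x10001)) (.node 12497 (.leaf 0x10001) (.node 12498 (.leaf 0x300050705080006) (.leaf 0x0)))) (.node 12502 (.node 12500 (.leaf 0x0) (.node 12501 (.leaf 0x0) (.leaf 0x0))) (.node 12503 (.leaf 0x0) (.node 12504 (.leaf 0x4020507060607090008) (.leaf 0x10307060607090007))))))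

def argWS_1223 : Store := (.node 12484 argWS_1221 argWS_1222)

def argWS_1224 : Store := (.node 12515 (.node 12510 (.node 12507 (.node 12506 (.leaf 0x0) (.leaf 0x0)) (.node 12508 (.leaf 0x0) (.node 12509 (.leaf 0xf100b0f0f0c0006) (.leaf 0x0)))) (.node 12512 (.node 12511 (.leaf 0x10001) (.leaf 0x70102070004)) (.node 12513 (.leaf 0x0) (.node 12514 (.leaf 0x0) (.leaf 0x0))))) (.node 12520 (.node 12517 (.node 12516 (.leaf 0x0) (.leaf 0x7010009080607090008)) (.node 12518 (.leaf 0x30809080607090007) (.node 12519 (.leaf 0x0) (.leaf 0x0)))) (.node 12522 (.node 12521 (.leaf 0x0) (.leaf 0xf100c0003)) (.node 12523 (.leaf 0xf100002) (.node 12524 (.leaf 0x0) (.leaf 0x2010705080005))))))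

def argWS_1225 : Store := (.node 12535 (.node 12530 (.node 12527 (.node 12526 (.leaf 0x0) (.leaf 0x0)) (.node 12528 (.leaf 0x0) (.node 12529 (.leaf 0xe110d0e0004) (.leaf 0x0)))) (.node 12532 (.node 12531 (.leaf 0x70001) (.leaf 0x10206070004)) (.node 12533 (.leaf 0x0) (.node 12534 (.leaf 0x0) (.leaf 0x0))))) (.node 12540 (.node 12537 (.node 12536 (.leaf 0x0) (.leaf 0x1000507060607090008)) (.node 12538 (.leaf 0x40108060705080007) (.node 12539 (.leaf 0x0) (.leaf 0x0)))) (.node 12543 (.node 12541 (.leaf 0x0) (.node 12542 (.leaf 0xb0a0f0f0c0005) (.leaf 0x0))) (.node 12544 (.leaf 0x1070002) (.node 12545 (.leaf 0x1060002) (.leaf 0x408050705080006))))))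

def argWS_1226 : Store := (.node 12525 argWS_1224 argWS_1225)

def argWS_1227 : Store := (.node 12505 argWS_1223 argWS_1226)

def argWS_1228 : Store := (.node 12464 argWS_1220 argWS_1227)

def argWS_1229 : Store := (.node 12556 (.node 12551 (.node 12548 (.node 12547 (.leaf 0x0) (.leaf 0x0)) (.node 12549 (.leaf 0x0) (.node 12550 (.leaf 0x0) (.leaf 0xb0a0f0d0e0005)))) (.node 12553 (.node 12552 (.leaf 0x0) (.leaf 0x0)) (.node 12554 (.leaf 0x0) (.node 12555 (.leaf 0x2000607060705080008) (.leaf 0x0))))) (.node 12561 (.node 12558 (.node 12557 (.leaf 0x0) (.leaf 0xd100d0f0c0005)) (.node 12559 (.leaf 0xd110d0f0c0005) (.node 12560 (.leaf 0x1070002) (.leaf 0x0)))) (.node 12563 (.node 12562 (.leaf 0x0) (.leaf 0x70001)) (.node 12564 (.leaf 0x0) (.node 12565 (.leaf 0x0) (.leaf 0x100b0f0d0e0005))))))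

def argWS_1230 : Store := (.node 12576 (.node 12571 (.node 12568 (.node 12567 (.leaf 0x0) (.leaf 0x0)) (.node 12569 (.leaf 0x0) (.node 12570 (.leaf 0x0) (.leaf 0x30705080004)))) (.node 12573 (.node 12572 (.leaf 0x1070002) (.leaf 0x0)) (.node 12574 (.leaf 0x0) (.node 12575 (.leaf 0x0) (.leaf 0x7010009080607090008))))) (.node 12581 (.node 12578 (.node 12577 (.leaf 0x402060707090006) (.leaf 0x0)) (.node 12579 (.leaf 0xe100d0f0c0005) (.node 12580 (.leaf 0x0) (.leaf 0x307060003)))) (.node 12583 (.node 12582 (.leaf 0x0) (.leaf 0x0)) (.node 12584 (.leaf 0x0) (.node 12585 (.leaf 0x0) (.leaf 0x0))))))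

def argWS_1231 : Store := (.node 12566 argWS_1229 argWS_1230)

def argWS_1232 : Store := (.node 12596 (.node 12591 (.node 12588 (.node 12587 (.leaf 0x0) (.leaf 0xc100b0d0f0c0006)) (.node 12589 (.leaf 0x0) (.node 12590 (.leaf 0x0) (.leaf 0x0)))) (.node 12593 (.node 12592 (.leaf 0x80001) (.leaf 0x0)) (.node 12594 (.leaf 0x10001) (.node 12595 (.leaf 0x0) (.leaf 0x0))))) (.node 12601 (.node 12598 (.node 12597 (.leaf 0x100c0f0c0004) (.leaf 0x0)) (.node 12599 (.leaf 0x0) (.node 12600 (.leaf 0x10001) (.leaf 0x8050002)))) (.node 12603 (.node 12602 (.leaf 0x0) (.leaf 0x0)) (.node 12604 (.leaf 0x110f0c0003) (.node 12605 (.leaf 0x0) (.leaf 0x0))))))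

def argWS_1233 : Store := (.node 12616 (.node 12611 (.node 12608 (.node 12607 (.leaf 0x0) (.leaf 0x108050003)) (.node 12609 (.leaf 0x0) (.node 12610 (.leaf 0x0) (.leaf 0x0)))) (.node 12613 (.node 12612 (.leaf 0x70100080004) (.leaf 0x20507050705080007)) (.node 12614 (.leaf 0x0) (.node 12615 (.leaf 0xc100b0d0f0c0006) (.leaf 0x0))))) (.node 12621 (.node 12618 (.node 12617 (.leaf 0x0) (.leaf 0x0)) (.node 12619 (.leaf 0x0) (.node 12620 (.leaf 0x108050003) (.leaf 0x809080607090006)))) (.node 12624 (.node 12622 (.leaf 0x0) (.node 12623 (.leaf 0x2030809080607090008) (.leaf 0x60001))) (.node 12625 (.leaf 0x0) (.node 12626 (.leaf 0x0) (.leaf 0x0))))))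

def argWS_1234 : Store := (.node 12606 argWS_1232 argWS_1233)

def argWS_1235 : Store := (.node 12586 argWS_1231 argWS_1234)

def argWS_1236 : Store := (.node 12637 (.node 12632 (.node 12629 (.node 12628 (.leaf 0x0) (.leaf 0xf100c0f0c0005)) (.node 12630 (.leaf 0x7010809080005) (.node 12631 (.leaf 0x0) (.leaf 0x8060002)))) (.node 12634 (.node 12633 (.leaf 0x0) (.leaf 0x0)) (.node 12635 (.leaf 0x0) (.node 12636 (.leaf 0xd110c0f0c0005) (.leaf 0x80001))))) (.node 12642 (.node 12639 (.node 12638 (.leaf 0x10809080004) (.leaf 0x0)) (.node 12640 (.leaf 0x0) (.node 12641 (.leaf 0x0) (.leaf 0xc100b0e0004)))) (.node 12644 (.node 12643 (.leaf 0x0) (.leaf 0x0)) (.node 12645 (.leaf 0xc100b0e0004) (.node 12646 (.leaf 0x0) (.leaf 0x0))))))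

def argWS_1237 : Store := (.node 12657 (.node 12652 (.node 12649 (.node 12648 (.leaf 0x0) (.leaf 0x0)) (.node 12650 (.leaf 0x1020002) (.node 12651 (.leaf 0x108060003) (.leaf 0x0)))) (.node 12654 (.node 12653 (.leaf 0x0) (.leaf 0xd110d0d0e0005)) (.node 12655 (.leaf 0x8060002) (.node 12656 (.leaf 0x0) (.leaf 0x0))))) (.node 12662 (.node 12659 (.node 12658 (.leaf 0xd110d0d0e0005) (.leaf 0x80001)) (.node 12660 (.leaf 0x0) (.node 12661 (.leaf 0x0) (.leaf 0xc100b0003)))) (.node 12665 (.node 12663 (.leaf 0x0) (.node 12664 (.leaf 0x0) (.leaf 0x0))) (.node 12666 (.leaf 0x70001) (.node 12667 (.leaf 0x0) (.leaf 0x0))))))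

def argWS_1238 : Store := (.node 12647 argWS_1236 argWS_1237)

def argWS_1239 : Store := (.node 12678 (.node 12673 (.node 12670 (.node 12669 (.leaf 0x110b0e0003) (.leaf 0x0)) (.node 12671 (.leaf 0x0) (.node 12672 (.leaf 0x0) (.leaf 0x1080002)))) (.node 12675 (.node 12674 (.leaf 0x0) (.leaf 0x0)) (.node 12676 (.leaf 0xb0a0c0003) (.node 12677 (.leaf 0x0) (.leaf 0x0))))) (.node 12683 (.node 12680 (.node 12679 (.leaf 0x0) (.leaf 0x1070002)) (.node 12681 (.leaf 0x0) (.node 12682 (.leaf 0x0) (.leaf 0xf100b0003)))) (.node 12685 (.node 12684 (.leaf 0x0) (.leaf 0x108060003)) (.node 12686 (.leaf 0x30201060705080007) (.node 12687 (.leaf 0x0) (.leaf 0x0))))))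

def argWS_1240 : Store := (.node 12698 (.node 12693 (.node 12690 (.node 12689 (.leaf 0x0) (.leaf 0xf100b0d0004)) (.node 12691 (.leaf 0x1080002) (.node 12692 (.leaf 0x1000705080005) (.leaf 0x0)))) (.node 12695 (.node 12694 (.leaf 0x0) (.leaf 0x0)) (.node 12696 (.leaf 0x0) (.node 12697 (.leaf 0xe110d0f0c0005) (.leaf 0x108060003))))) (.node 12703 (.node 12700 (.node 12699 (.leaf 0x0) (.leaf 0x0)) (.node 12701 (.leaf 0xc100c0f0c0005) (.node 12702 (.leaf 0x201060607090006) (.leaf 0x0)))) (.node 12706 (.node 12704 (.leaf 0x0) (.node 12705 (.leaf 0x0) (.leaf 0x0))) (.node 12707 (.leaf 0x0) (.node 12708 (.leaf 0x7020108060005) (.leaf 0x8050002))))))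

def argWS_1241 : Store := (.node 12688 argWS_1239 argWS_1240)

def argWS_1242 : Store := (.node 12668 argWS_1238 argWS_1241)

def argWS_1243 : Store := (.node 12627 argWS_1235 argWS_1242)

def argWS_1244 : Store := (.node 12546 argWS_1228 argWS_1243)

def argWS_1245 : Store := (.node 12719 (.node 12714 (.node 12711 (.node 12710 (.leaf 0x0) (.leaf 0x0)) (.node 12712 (.leaf 0x0) (.node 12713 (.leaf 0xe110d0003) (.leaf 0x40201060004)))) (.node 12716 (.node 12715 (.leaf 0x0) (.leaf 0x0)) (.node 12717 (.leaf 0x0) (.node 12718 (.leaf 0x0) (.leaf 0x0))))) (.node 12724 (.node 12721 (.node 12720 (.leaf 0x10309080607090007) (.leaf 0x10001)) (.node 12722 (.leaf 0x4010707090005) (.node 12723 (.leaf 0x0) (.leaf 0x0)))) (.node 12726 (.node 12725 (.leaf 0x0) (.leaf 0xd0f0c0003)) (.node 12727 (.leaf 0x201060003) (.node 12728 (.leaf 0x0) (.leaf 0x0))))))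

def argWS_1246 : Store := (.node 12739 (.node 12734 (.node 12731 (.node 12730 (.leaf 0x0) (.leaf 0x0)) (.node 12732 (.leaf 0x0) (.node 12733 (.leaf 0x4020107090005) (.leaf 0x108050003)))) (.node 12736 (.node 12735 (.leaf 0x102080607090006) (.leaf 0x0)) (.node 12737 (.leaf 0x0) (.node 12738 (.leaf 0x0) (.leaf 0x110b0d0e0004))))) (.node 12744 (.node 12741 (.node 12740 (.leaf 0x8050002) (.leaf 0x2080607090005)) (.node 12742 (.leaf 0x0) (.node 12743 (.leaf 0x107050705080006) (.leaf 0x0)))) (.node 12746 (.node 12745 (.leaf 0x0) (.leaf 0x0)) (.node 12747 (.leaf 0xb0a0d0e0004) (.node 12748 (.leaf 0x0) (.leaf 0x8060002))))))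

def argWS_1247 : Store := (.node 12729 argWS_1245 argWS_1246)

def argWS_1248 : Store := (.node 12759 (.node 12754 (.node 12751 (.node 12750 (.leaf 0x0) (.leaf 0x0)) (.node 12752 (.leaf 0x0) (.node 12753 (.leaf 0x507060607090007) (.leaf 0x30201070607090007)))) (.node 12756 (.node 12755 (.leaf 0x0) (.leaf 0x0)) (.node 12757 (.leaf 0x0) (.node 12758 (.leaf 0xf100b0f0004) (.leaf 0x108060003))))) (.node 12764 (.node 12761 (.node 12760 (.leaf 0x0) (.leaf 0x0)) (.node 12762 (.leaf 0x0) (.node 12763 (.leaf 0x507060607090007) (.leaf 0x302070607090006)))) (.node 12766 (.node 12765 (.leaf 0x0) (.leaf 0x0)) (.node 12767 (.leaf 0x0) (.node 12768 (.leaf 0xf100b0f0004) (.leaf 0x80001))))))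

def argWS_1249 : Store := (.node 12779 (.node 12774 (.node 12771 (.node 12770 (.leaf 0x0) (.leaf 0x0)) (.node 12772 (.leaf 0xc100b0c0f0c0006) (.node 12773 (.leaf 0x1080002) (.leaf 0x0)))) (.node 12776 (.node 12775 (.leaf 0x0) (.leaf 0x100d0f0c0004)) (.node 12777 (.leaf 0x108060003) (.node 12778 (.leaf 0x0) (.leaf 0x0))))) (.node 12784 (.node 12781 (.node 12780 (.leaf 0x0) (.leaf 0x1000507060607090008)) (.node 12782 (.leaf 0x401050709080006) (.node 12783 (.leaf 0x0) (.leaf 0xd100002)))) (.node 12787 (.node 12785 (.leaf 0x0) (.node 12786 (.leaf 0x0) (.leaf 0x0))) (.node 12788 (.leaf 0x0) (.node 12789 (.leaf 0x203010607090006) (.leaf 0x0))))))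

def argWS_1250 : Store := (.node 12769 argWS_1248 argWS_1249)

def argWS_1251 : Store := (.node 12749 argWS_1247 argWS_1250)

def argWS_1252 : Store := (.node 12800 (.node 12795 (.node 12792 (.node 12791 (.leaf 0x0) (.leaf 0xe100f0d0e0005)) (.node 12793 (.leaf 0x0) (.node 12794 (.leaf 0x10001) (.leaf 0x10001)))) (.node 12797 (.node 12796 (.leaf 0x0) (.leaf 0x0)) (.node 12798 (.leaf 0x0) (.node 12799 (.leaf 0xf100b0c0f0c0006) (.leaf 0x0))))) (.node 12805 (.node 12802 (.node 12801 (.leaf 0x80001) (.leaf 0x0)) (.node 12803 (.leaf 0x0) (.node 12804 (.leaf 0xf100d0d0e0005) (.leaf 0x70107050705080007)))) (.node 12807 (.node 12806 (.leaf 0x0) (.leaf 0x0)) (.node 12808 (.leaf 0x0) (.node 12809 (.leaf 0x0) (.leaf 0x70201060607090007))))))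

def argWS_1253 : Store := (.node 12820 (.node 12815 (.node 12812 (.node 12811 (.leaf 0x1080002) (.leaf 0x0)) (.node 12813 (.leaf 0x0) (.node 12814 (.leaf 0x0) (.leaf 0x7010009080607090008)))) (.node 12817 (.node 12816 (.leaf 0x30007050705080007) (.leaf 0x0)) (.node 12818 (.leaf 0x110b0c0f0c0005) (.node 12819 (.leaf 0x0) (.leaf 0x701090003))))) (.node 12825 (.node 12822 (.node 12821 (.leaf 0x0) (.leaf 0x0)) (.node 12823 (.leaf 0x0) (.node 12824 (.leaf 0x0) (.leaf 0x405070905080006)))) (.node 12828 (.node 12826 (.leaf 0x0) (.node 12827 (.leaf 0x0) (.leaf 0xe100f0d0e0005))) (.node 12829 (.leaf 0x10001) (.node 12830 (.leaf 0x10001) (.leaf 0x0))))))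

def argWS_1254 : Store := (.node 12810 argWS_1252 argWS_1253)

def argWS_1255 : Store := (.node 12841 (.node 12836 (.node 12833 (.node 12832 (.leaf 0x0) (.leaf 0x0)) (.node 12834 (.leaf 0xf100b0c0f0c0006) (.node 12835 (.leaf 0x0) (.leaf 0x10001)))) (.node 12838 (.node 12837 (.leaf 0x10001) (.leaf 0x4030607090005)) (.node 12839 (.leaf 0x0) (.node 12840 (.leaf 0x0) (.leaf 0x0))))) (.node 12846 (.node 12843 (.node 12842 (.leaf 0x0) (.leaf 0xe0001)) (.node 12844 (.leaf 0x0) (.node 12845 (.leaf 0x8060002) (.leaf 0x0)))) (.node 12848 (.node 12847 (.leaf 0x0) (.leaf 0xf0f0c0003)) (.node 12849 (.leaf 0x108060003) (.node 12850 (.leaf 0x102070607090006) (.leaf 0x10208060004))))))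

def argWS_1256 : Store := (.node 12861 (.node 12856 (.node 12853 (.node 12852 (.leaf 0x0) (.leaf 0x0)) (.node 12854 (.leaf 0x0) (.node 12855 (.leaf 0x0) (.leaf 0xc0001)))) (.node 12858 (.node 12857 (.leaf 0x0) (.leaf 0x10001)) (.node 12859 (.leaf 0x4030607090005) (.node 12860 (.leaf 0x0) (.leaf 0x10001))))) (.node 12866 (.node 12863 (.node 12862 (.leaf 0x0) (.leaf 0x0)) (.node 12864 (.leaf 0x0) (.node 12865 (.leaf 0xc100d0e0004) (.leaf 0x1080002)))) (.node 12869 (.node 12867 (.leaf 0x300080607090006) (.node 12868 (.leaf 0x0) (.leaf 0x0))) (.node 12870 (.leaf 0x0) (.node 12871 (.leaf 0xa0f0f0c0004) (.leaf 0x3020809080607090008))))))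

def argWS_1257 : Store := (.node 12851 argWS_1255 argWS_1256)

def argWS_1258 : Store := (.node 12831 argWS_1254 argWS_1257)

def argWS_1259 : Store := (.node 12790 argWS_1251 argWS_1258)

def argWS_1260 : Store := (.node 12882 (.node 12877 (.node 12874 (.node 12873 (.leaf 0x0) (.leaf 0x2000507060607090008)) (.node 12875 (.leaf 0x30408050004) (.node 12876 (.leaf 0x0) (.leaf 0x0)))) (.node 12879 (.node 12878 (.leaf 0x701020607060705080009) (.leaf 0x0)) (.node 12880 (.leaf 0x0) (.node 12881 (.leaf 0x0) (.leaf 0xd110d0d0e0005))))) (.node 12887 (.node 12884 (.node 12883 (.leaf 0x0) (.leaf 0x0)) (.node 12885 (.leaf 0x80001) (.node 12886 (.leaf 0x10001) (.leaf 0x701000607060705080009)))) (.node 12889 (.node 12888 (.leaf 0x0) (.leaf 0x0)) (.node 12890 (.leaf 0x0) (.node 12891 (.leaf 0xd110d0d0e0005) (.leaf 0x0))))))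

def argWS_1261 : Store := (.node 12902 (.node 12897 (.node 12894 (.node 12893 (.leaf 0x0) (.leaf 0x0)) (.node 12895 (.leaf 0x10001) (.node 12896 (.leaf 0x8050002) (.leaf 0x0)))) (.node 12899 (.node 12898 (.leaf 0x0) (.leaf 0x110d0d0e0004)) (.node 12900 (.leaf 0x0) (.node 12901 (.leaf 0x108050003) (.leaf 0x0))))) (.node 12907 (.node 12904 (.node 12903 (.leaf 0x0) (.leaf 0xd110d0e0004)) (.node 12905 (.leaf 0x10001) (.node 12906 (.leaf 0x10001) (.leaf 0x0)))) (.node 12909 (.node 12908 (.leaf 0x0) (.leaf 0x0)) (.node 12910 (.leaf 0xb0a0f0c0004) (.node 12911 (.leaf 0x0) (.leaf 0x1080002))))))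

def argWS_1262 : Store := (.node 12892 argWS_1260 argWS_1261)

def argWS_1263 : Store := (.node 12922 (.node 12917 (.node 12914 (.node 12913 (.leaf 0x0) (.leaf 0x0)) (.node 12915 (.leaf 0x100b0c0003) (.node 12916 (.leaf 0x80001) (.leaf 0x401060607090006)))) (.node 12919 (.node 12918 (.leaf 0x2010707090005) (.leaf 0x0)) (.node 12920 (.leaf 0x0) (.node 12921 (.leaf 0x0) (.leaf 0x0))))) (.node 12927 (.node 12924 (.node 12923 (.leaf 0xe110f0c0004) (.leaf 0x10001)) (.node 12925 (.leaf 0x10001) (.node 12926 (.leaf 0x0) (.leaf 0x0)))) (.node 12929 (.node 12928 (.leaf 0x0) (.leaf 0xd110f0f0c0005)) (.node 12930 (.leaf 0x0) (.node 12931 (.leaf 0x2030607050705080008) (.leaf 0x0))))))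

def argWS_1264 : Store := (.node 12942 (.node 12937 (.node 12934 (.node 12933 (.leaf 0x0) (.leaf 0x0)) (.node 12935 (.leaf 0xb0a0c0f0c0005) (.node 12936 (.leaf 0x0) (.leaf 0x10001)))) (.node 12939 (.node 12938 (.leaf 0x607060004) (.leaf 0x0)) (.node 12940 (.leaf 0x0) (.node 12941 (.leaf 0x0) (.leaf 0xe100e0003))))) (.node 12947 (.node 12944 (.node 12943 (.leaf 0x0) (.leaf 0x0)) (.node 12945 (.leaf 0x0) (.node 12946 (.leaf 0x0) (.leaf 0x0)))) (.node 12950 (.node 12948 (.leaf 0x0) (.node 12949 (.leaf 0x0) (.leaf 0x0))) (.node 12951 (.leaf 0xe110c0f0c0005) (.node 12952 (.leaf 0x10001) (.leaf 0x0))))))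

def argWS_1265 : Store := (.node 12932 argWS_1263 argWS_1264)

def argWS_1266 : Store := (.node 12912 argWS_1262 argWS_1265)

def argWS_1267 : Store := (.node 12963 (.node 12958 (.node 12955 (.node 12954 (.leaf 0x0) (.leaf 0xd100c0f0c0005)) (.node 12956 (.leaf 0x0) (.node 12957 (.leaf 0x0) (.leaf 0x0)))) (.node 12960 (.node 12959 (.leaf 0x10001) (.leaf 0x80001)) (.node 12961 (.leaf 0x0) (.node 12962 (.leaf 0x0) (.leaf 0xe100002))))) (.node 12968 (.node 12965 (.node 12964 (.leaf 0x0) (.leaf 0x0)) (.node 12966 (.leaf 0x0) (.node 12967 (.leaf 0x1030809080005) (.leaf 0x0)))) (.node 12970 (.node 12969 (.leaf 0x0) (.leaf 0x0)) (.node 12971 (.leaf 0xc100f0d0e0005) (.node 12972 (.leaf 0x0) (.leaf 0x0))))))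

def argWS_1268 : Store := (.node 12983 (.node 12978 (.node 12975 (.node 12974 (.leaf 0x0) (.leaf 0x0)) (.node 12976 (.leaf 0x2040607090005) (.node 12977 (.leaf 0x1080002) (.leaf 0x0)))) (.node 12980 (.node 12979 (.leaf 0x0) (.leaf 0x0)) (.node 12981 (.leaf 0xf100f0c0004) (.node 12982 (.leaf 0x8050002) (.leaf 0x0))))) (.node 12988 (.node 12985 (.node 12984 (.leaf 0x0) (.leaf 0x0)) (.node 12986 (.leaf 0xf100b0d0f0c0006) (.node 12987 (.leaf 0x108050003) (.leaf 0x0)))) (.node 12991 (.node 12989 (.leaf 0x0) (.node 12990 (.leaf 0xe100d0d0e0005) (.leaf 0x8050002))) (.node 12992 (.leaf 0x0) (.node 12993 (.leaf 0x0) (.leaf 0x0))))))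

def argWS_1269 : Store := (.node 12973 argWS_1267 argWS_1268)

def argWS_1270 : Store := (.node 13004 (.node 12999 (.node 12996 (.node 12995 (.leaf 0xc100d0e0004) (.leaf 0x0)) (.node 12997 (.leaf 0x1070002) (.node 12998 (.leaf 0x1050002) (.leaf 0x0)))) (.node 13001 (.node 13000 (.leaf 0x0) (.leaf 0x0)) (.node 13002 (.leaf 0xd100d0f0c0005) (.node 13003 (.leaf 0x0) (.leaf 0x70001))))) (.node 13009 (.node 13006 (.node 13005 (.leaf 0x50001) (.leaf 0x0)) (.node 13007 (.leaf 0x0) (.node 13008 (.leaf 0x0) (.leaf 0xb0c0f0c0004)))) (.node 13011 (.node 13010 (.leaf 0x8060002) (.leaf 0x60707090004)) (.node 13012 (.leaf 0x0) (.node 13013 (.leaf 0x2030105070607090008) (.leaf 0x0))))))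

def argWS_1271 : Store := (.node 13024 (.node 13019 (.node 13016 (.node 13015 (.leaf 0x0) (.leaf 0x0)) (.node 13017 (.leaf 0xc100f0d0e0005) (.node 13018 (.leaf 0x0) (.leaf 0x0)))) (.node 13021 (.node 13020 (.leaf 0x0) (.leaf 0x702010507050006)) (.node 13022 (.leaf 0x1080002) (.node 13023 (.leaf 0x0) (.leaf 0x0))))) (.node 13029 (.node 13026 (.node 13025 (.leaf 0x0) (.leaf 0x100f0002)) (.node 13027 (.leaf 0x0) (.node 13028 (.leaf 0x0) (.leaf 0x0)))) (.node 13032 (.node 13030 (.leaf 0xb0f0c0003) (.node 13031 (.leaf 0x0) (.leaf 0x0))) (.node 13033 (.leaf 0x0) (.node 13034 (.leaf 0x0) (.leaf 0x304080905080006))))))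

def argWS_1272 : Store := (.node 13014 argWS_1270 argWS_1271)

def argWS_1273 : Store := (.node 12994 argWS_1269 argWS_1272)

def argWS_1274 : Store := (.node 12953 argWS_1266 argWS_1273)

def argWS_1275 : Store := (.node 12872 argWS_1259 argWS_1274)

def argWS_1276 : Store := (.node 12709 argWS_1244 argWS_1275)

def argWS_1277 : Store := (.node 12383 argWS_1213 argWS_1276)

def argWS_1278 : Store := (.node 11731 argWS_1150 argWS_1277)

def argWS_1279 : Store := (.node 13045 (.node 13040 (.node 13037 (.node 13036 (.leaf 0x10001) (.leaf 0x0)) (.node 13038 (.leaf 0x0) (.node 13039 (.leaf 0xd100c0f0c0005) (.leaf 0x0)))) (.node 13042 (.node 13041 (.leaf 0x0) (.leaf 0x0)) (.node 13043 (.leaf 0x0) (.node 13044 (.leaf 0x2010607060005) (.leaf 0x402050707090006))))) (.node 13050 (.node 13047 (.node 13046 (.leaf 0x0) (.leaf 0x0)) (.node 13048 (.leaf 0x0) (.node 13049 (.leaf 0x2040607050005) (.leaf 0x0)))) (.node 13052 (.node 13051 (.leaf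 0x0) (.leaf 0x0)) (.node 13053 (.leaf 0x20709080004) (.node 13054 (.leaf 0x402010809080607090009) (.leaf 0x0))))))

def argWS_1280 : Store := (.node 13065 (.node 13060 (.node 13057 (.node 13056 (.leaf 0x0) (.leaf 0x0)) (.node 13058 (.leaf 0x110d0d0e0004) (.node 13059 (.leaf 0x10001) (.leaf 0x2040107060607090008)))) (.node 13062 (.node 13061 (.leaf 0x0) (.leaf 0x0)) (.node 13063 (.leaf 0x0) (.node 13064 (.leaf 0x0) (.leaf 0x20709080004))))) (.node 13070 (.node 13067 (.node 13066 (.leaf 0x4020809080607090008) (.leaf 0x0)) (.node 13068 (.leaf 0x0) (.node 13069 (.leaf 0x0) (.leaf 0xd110d0e0004)))) (.node 13072 (.node 13071 (.leaf 0x70001) (.leaf 0x0)) (.node 13073 (.leaf 0x0) (.node 13074 (.leaf 0x0) (.leaf 0xd110c0f0c0005))))))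

def argWS_1281 : Store := (.node 13055 argWS_1279 argWS_1280)

def argWS_1282 : Store := (.node 13085 (.node 13080 (.node 13077 (.node 13076 (.leaf 0x201070905080006) (.leaf 0x0)) (.node 13078 (.leaf 0x0) (.node 13079 (.leaf 0xa0d0f0c0004) (.leaf 0x10001)))) (.node 13082 (.node 13081 (.leaf 0x10001) (.leaf 0x0)) (.node 13083 (.leaf 0x0) (.node 13084 (.leaf 0x0) (.leaf 0xf100b0e0004))))) (.node 13090 (.node 13087 (.node 13086 (.leaf 0xb0a0d0003) (.leaf 0x20105070705080007)) (.node 13088 (.leaf 0x0) (.node 13089 (.leaf 0x0) (.leaf 0x0)))) (.node 13092 (.node 13091 (.leaf 0x0) (.leaf 0x0)) (.node 13093 (.leaf 0x0) (.node 13094 (.leaf 0xe100002) (.leaf 0x0))))))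

def argWS_1283 : Store := (.node 13105 (.node 13100 (.node 13097 (.node 13096 (.leaf 0x0) (.leaf 0x0)) (.node 13098 (.leaf 0x0) (.node 13099 (.leaf 0x4020109080005) (.leaf 0x10001)))) (.node 13102 (.node 13101 (.leaf 0x0) (.leaf 0x0)) (.node 13103 (.leaf 0x0) (.node 13104 (.leaf 0x701080003) (.leaf 0x70100060607090007))))) (.node 13110 (.node 13107 (.node 13106 (.leaf 0x0) (.leaf 0xe110002)) (.node 13108 (.leaf 0x0) (.node 13109 (.leaf 0x70201090004) (.leaf 0x0)))) (.node 13113 (.node 13111 (.leaf 0x0) (.node 13112 (.leaf 0x0) (.leaf 0x0))) (.node 13114 (.leaf 0x10001) (.node 13115 (.leaf 0x8060002) (.leaf 0x0))))))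

def argWS_1284 : Store := (.node 13095 argWS_1282 argWS_1283)

def argWS_1285 : Store := (.node 13075 argWS_1281 argWS_1284)

def argWS_1286 : Store := (.node 13126 (.node 13121 (.node 13118 (.node 13117 (.leaf 0x0) (.leaf 0xc100e0003)) (.node 13119 (.leaf 0x0) (.node 13120 (.leaf 0x0) (.leaf 0x0)))) (.node 13123 (.node 13122 (.leaf 0x8050002) (.leaf 0x0)) (.node 13124 (.leaf 0x0) (.node 13125 (.leaf 0xd100c0f0c0005) (.leaf 0x0))))) (.node 13131 (.node 13128 (.node 13127 (.leaf 0x0) (.leaf 0x0)) (.node 13129 (.leaf 0x108060003) (.node 13130 (.leaf 0x0) (.leaf 0x0)))) (.node 13133 (.node 13132 (.leaf 0x0) (.leaf 0x701080003)) (.node 13134 (.leaf 0x305070705080006) (.node 13135 (.leaf 0x0) (.leaf 0x0))))))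

def argWS_1287 : Store := (.node 13146 (.node 13141 (.node 13138 (.node 13137 (.leaf 0x0) (.leaf 0xd0d0e0003)) (.node 13139 (.leaf 0x108050003) (.node 13140 (.leaf 0x0) (.leaf 0x0)))) (.node 13143 (.node 13142 (.leaf 0xb0d0e0003) (.leaf 0x0)) (.node 13144 (.leaf 0x0) (.node 13145 (.leaf 0xc100c0003) (.leaf 0x10307060004))))) (.node 13151 (.node 13148 (.node 13147 (.leaf 0x40008060705080007) (.leaf 0x0)) (.node 13149 (.leaf 0x0) (.node 13150 (.leaf 0x0) (.leaf 0x0)))) (.node 13153 (.node 13152 (.leaf 0x0) (.leaf 0x0)) (.node 13154 (.leaf 0x204070705080006) (.node 13155 (.leaf 0x10001) (.leaf 0x0))))))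

def argWS_1288 : Store := (.node 13136 argWS_1286 argWS_1287)

def argWS_1289 : Store := (.node 13166 (.node 13161 (.node 13158 (.node 13157 (.leaf 0x0) (.leaf 0xd100002)) (.node 13159 (.leaf 0x0) (.node 13160 (.leaf 0x0) (.leaf 0x0)))) (.node 13163 (.node 13162 (.leaf 0x2080607090005) (.leaf 0x3040107050005)) (.node 13164 (.leaf 0x2010607060005) (.node 13165 (.leaf 0x0) (.leaf 0x3040105070908060709000a))))) (.node 13171 (.node 13168 (.node 13167 (.leaf 0x0) (.leaf 0x0)) (.node 13169 (.leaf 0x0) (.node 13170 (.leaf 0x0) (.leaf 0x400060707090006)))) (.node 13173 (.node 13172 (.leaf 0x0) (.leaf 0x0)) (.node 13174 (.leaf 0x0) (.node 13175 (.leaf 0x70100090004) (.leaf 0x0))))))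

def argWS_1290 : Store := (.node 13186 (.node 13181 (.node 13178 (.node 13177 (.leaf 0x701080003) (.leaf 0x701080003)) (.node 13179 (.leaf 0x0) (.node 13180 (.leaf 0x0) (.leaf 0x0)))) (.node 13183 (.node 13182 (.leaf 0x0) (.leaf 0x10001)) (.node 13184 (.leaf 0x0) (.node 13185 (.leaf 0x0) (.leaf 0x110d0f0c0004))))) (.node 13191 (.node 13188 (.node 13187 (.leaf 0x80001) (.leaf 0x0)) (.node 13189 (.leaf 0x0) (.node 13190 (.leaf 0xd110d0f0c0005) (.leaf 0x70001)))) (.node 13194 (.node 13192 (.leaf 0x0) (.node 13193 (.leaf 0x0) (.leaf 0x110b0c0003))) (.node 13195 (.leaf 0x1080002) (.node 13196 (.leaf 0x0) (.leaf 0x0))))))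

def argWS_1291 : Store := (.node 13176 argWS_1289 argWS_1290)

def argWS_1292 : Store := (.node 13156 argWS_1288 argWS_1291)

def argWS_1293 : Store := (.node 13116 argWS_1285 argWS_1292)

def argWS_1294 : Store := (.node 13207 (.node 13202 (.node 13199 (.node 13198 (.leaf 0xb0a0c0f0c0005) (.leaf 0x0)) (.node 13200 (.leaf 0x0) (.node 13201 (.leaf 0x0) (.leaf 0x0)))) (.node 13204 (.node 13203 (.leaf 0x0) (.leaf 0x400060607090006)) (.node 13205 (.leaf 0x0) (.node 13206 (.leaf 0x0) (.leaf 0x20406070705080007))))) (.node 13212 (.node 13209 (.node 13208 (.leaf 0x0) (.leaf 0x0)) (.node 13210 (.leaf 0x203060003) (.node 13211 (.leaf 0x0) (.leaf 0x0)))) (.node 13214 (.node 13213 (.leaf 0x304070905080006) (.leaf 0x108060003)) (.node 13215 (.leaf 0x0) (.node 13216 (.leaf 0xf100b0f0004) (.leaf 0x0))))))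

def argWS_1295 : Store := (.node 13227 (.node 13222 (.node 13219 (.node 13218 (.leaf 0x0) (.leaf 0x0)) (.node 13220 (.leaf 0x0) (.node 13221 (.leaf 0x200050709080006) (.leaf 0x0)))) (.node 13224 (.node 13223 (.leaf 0x0) (.leaf 0x705080003)) (.node 13225 (.leaf 0x0) (.node 13226 (.leaf 0x0) (.leaf 0x304070905080006))))) (.node 13232 (.node 13229 (.node 13228 (.leaf 0x8060002) (.leaf 0x0)) (.node 13230 (.leaf 0xf100b0f0004) (.node 13231 (.leaf 0x0) (.leaf 0x0)))) (.node 13234 (.node 13233 (.leaf 0x0) (.leaf 0x0)) (.node 13235 (.leaf 0x80001) (.node 13236 (.leaf 0x0) (.leaf 0x0))))))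

def argWS_1296 : Store := (.node 13217 argWS_1294 argWS_1295)

def argWS_1297 : Store := (.node 13247 (.node 13242 (.node 13239 (.node 13238 (.leaf 0xc100f0f0c0005) (.leaf 0x0)) (.node 13240 (.leaf 0x0) (.node 13241 (.leaf 0x0) (.leaf 0x0)))) (.node 13244 (.node 13243 (.leaf 0x3000905080005) (.leaf 0x70001)) (.node 13245 (.leaf 0x0) (.node 13246 (.leaf 0x0) (.leaf 0x100f0f0c0004))))) (.node 13252 (.node 13249 (.node 13248 (.leaf 0x0) (.leaf 0x0)) (.node 13250 (.leaf 0x0) (.node 13251 (.leaf 0x1070002) (.leaf 0x0)))) (.node 13254 (.node 13253 (.leaf 0x0) (.leaf 0xa0f0f0c0004)) (.node 13255 (.leaf 0x0) (.node 13256 (.leaf 0x0) (.leaf 0x0))))))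

def argWS_1298 : Store := (.node 13267 (.node 13262 (.node 13259 (.node 13258 (.leaf 0x8060002) (.leaf 0x0)) (.node 13260 (.leaf 0x0) (.node 13261 (.leaf 0xb0a0e0003) (.leaf 0x0)))) (.node 13264 (.node 13263 (.leaf 0x0) (.leaf 0x0)) (.node 13265 (.leaf 0x108060003) (.node 13266 (.leaf 0x0) (.leaf 0x0))))) (.node 13272 (.node 13269 (.node 13268 (.leaf 0xb0e0002) (.leaf 0x0)) (.node 13270 (.leaf 0x0) (.node 13271 (.leaf 0x0) (.leaf 0x0)))) (.node 13275 (.node 13273 (.leaf 0x701020507050705080009) (.node 13274 (.leaf 0x4030106070005) (.leaf 0x0))) (.node 13276 (.leaf 0x0) (.node 13277 (.leaf 0x0) (.leaf 0x507060607090007))))))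

def argWS_1299 : Store := (.node 13257 argWS_1297 argWS_1298)

def argWS_1300 : Store := (.node 13237 argWS_1296 argWS_1299)

def argWS_1301 : Store := (.node 13288 (.node 13283 (.node 13280 (.node 13279 (.leaf 0x8060002) (.leaf 0x0)) (.node 13281 (.leaf 0xa0d0d0e0004) (.node 13282 (.leaf 0x0) (.leaf 0x0)))) (.node 13285 (.node 13284 (.leaf 0x0) (.leaf 0x0)) (.node 13286 (.leaf 0x0) (.node 13287 (.leaf 0x402060705080006) (.leaf 0x40201070607090007))))) (.node 13293 (.node 13290 (.node 13289 (.leaf 0x0) (.leaf 0x0)) (.node 13291 (.leaf 0x507060607090007) (.node 13292 (.leaf 0x108060003) (.leaf 0x0)))) (.node 13295 (.node 13294 (.leaf 0xf100d0003) (.leaf 0x0)) (.node 13296 (.leaf 0x0) (.node 13297 (.leaf 0x0) (.leaf 0x0))))))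

def argWS_1302 : Store := (.node 13308 (.node 13303 (.node 13300 (.node 13299 (.leaf 0x0) (.leaf 0x1030507050005)) (.node 13301 (.leaf 0x0) (.node 13302 (.leaf 0x0) (.leaf 0x0)))) (.node 13305 (.node 13304 (.leaf 0x0) (.leaf 0x0)) (.node 13306 (.leaf 0x0) (.node 13307 (.leaf 0xa0d0d0e0004) (.leaf 0x8050002))))) (.node 13313 (.node 13310 (.node 13309 (.leaf 0x0) (.leaf 0x0)) (.node 13311 (.leaf 0xf100d0003) (.node 13312 (.leaf 0x108050003) (.leaf 0x0)))) (.node 13316 (.node 13314 (.leaf 0x0) (.node 13315 (.leaf 0xd100d0f0c0005) (.leaf 0x70001))) (.node 13317 (.leaf 0x0) (.node 13318 (.leaf 0x0) (.leaf 0xc100f0003))))))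

def argWS_1303 : Store := (.node 13298 argWS_1301 argWS_1302)

def argWS_1304 : Store := (.node 13329 (.node 13324 (.node 13321 (.node 13320 (.leaf 0x0) (.leaf 0x0)) (.node 13322 (.leaf 0x0) (.node 13323 (.leaf 0x0) (.leaf 0x30201050705080007)))) (.node 13326 (.node 13325 (.leaf 0x0) (.leaf 0x0)) (.node 13327 (.leaf 0xf100b0003) (.node 13328 (.leaf 0x110b0f0f0c0005) (.leaf 0x1070002))))) (.node 13334 (.node 13331 (.node 13330 (.leaf 0x0) (.leaf 0x0)) (.node 13332 (.leaf 0x10001) (.node 13333 (.leaf 0x0) (.leaf 0x0)))) (.node 13336 (.node 13335 (.leaf 0xf100b0003) (.leaf 0x0)) (.node 13337 (.leaf 0x7010008050005) (.node 13338 (.leaf 0x0) (.leaf 0x60002))))))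

def argWS_1305 : Store := (.node 13349 (.node 13344 (.node 13341 (.node 13340 (.leaf 0x20107090004) (.leaf 0x0)) (.node 13342 (.leaf 0x0) (.node 13343 (.leaf 0x0) (.leaf 0x702010809080006)))) (.node 13346 (.node 13345 (.leaf 0x607090003) (.leaf 0x0)) (.node 13347 (.leaf 0x0) (.node 13348 (.leaf 0x0) (.leaf 0x4050002))))) (.node 13354 (.node 13351 (.node 13350 (.leaf 0x0) (.leaf 0x0)) (.node 13352 (.leaf 0x301060607090006) (.node 13353 (.leaf 0x0) (.leaf 0x4050705080005)))) (.node 13357 (.node 13355 (.leaf 0x0) (.node 13356 (.leaf 0x0) (.leaf 0x0))) (.node 13358 (.leaf 0x0) (.node 13359 (.leaf 0x0) (.leaf 0x0))))))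

def argWS_1306 : Store := (.node 13339 argWS_1304 argWS_1305)

def argWS_1307 : Store := (.node 13319 argWS_1303 argWS_1306)

def argWS_1308 : Store := (.node 13278 argWS_1300 argWS_1307)

def argWS_1309 : Store := (.node 13197 argWS_1293 argWS_1308)

def argWS_1310 : Store := (.node 13370 (.node 13365 (.node 13362 (.node 13361 (.leaf 0x107060003) (.leaf 0x0)) (.node 13363 (.leaf 0x0) (.node 13364 (.leaf 0x0) (.leaf 0x10407090004)))) (.node 13367 (.node 13366 (.leaf 0x0) (.leaf 0x0)) (.node 13368 (.leaf 0x0) (.node 13369 (.leaf 0x0) (.leaf 0x0))))) (.node 13375 (.node 13372 (.node 13371 (.leaf 0x7020108060005) (.leaf 0x10709080607090007)) (.node 13373 (.leaf 0x0) (.node 13374 (.leaf 0x105080003) (.leaf 0x0)))) (.node 13377 (.node 13376 (.leaf 0x0) (.leaf 0x0)) (.node 13378 (.leaf 0x4010809080005) (.node 13379 (.leaf 0x108060003) (.leaf 0x30201050705080007))))))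

def argWS_1311 : Store := (.node 13390 (.node 13385 (.node 13382 (.node 13381 (.leaf 0x0) (.leaf 0x0)) (.node 13383 (.leaf 0x0) (.node 13384 (.leaf 0x100b0d0003) (.leaf 0x0)))) (.node 13387 (.node 13386 (.leaf 0x0) (.leaf 0x701060709080607090009)) (.node 13388 (.leaf 0x10001) (.node 13389 (.leaf 0x10001) (.leaf 0x0))))) (.node 13395 (.node 13392 (.node 13391 (.leaf 0x0) (.leaf 0x0)) (.node 13393 (.leaf 0x110f0f0c0004) (.node 13394 (.leaf 0x0) (.leaf 0x0)))) (.node 13397 (.node 13396 (.leaf 0x0) (.leaf 0x2000809080607090008)) (.node 13398 (.leaf 0x0) (.node 13399 (.leaf 0x8060002) (.leaf 0x203010705080006))))))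

def argWS_1312 : Store := (.node 13380 argWS_1310 argWS_1311)

def argWS_1313 : Store := (.node 13410 (.node 13405 (.node 13402 (.node 13401 (.leaf 0x0) (.leaf 0x0)) (.node 13403 (.leaf 0x0) (.node 13404 (.leaf 0xf100c0f0c0005) (.leaf 0x10001)))) (.node 13407 (.node 13406 (.leaf 0x10001) (.leaf 0x0)) (.node 13408 (.leaf 0x0) (.node 13409 (.leaf 0x0) (.leaf 0x100c0002))))) (.node 13415 (.node 13412 (.node 13411 (.leaf 0x0) (.leaf 0x0)) (.node 13413 (.leaf 0x0) (.node 13414 (.leaf 0x0) (.leaf 0x4020809080005)))) (.node 13417 (.node 13416 (.leaf 0x10001) (.leaf 0x10001)) (.node 13418 (.leaf 0x0) (.node 13419 (.leaf 0x0) (.leaf 0x0))))))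

def argWS_1314 : Store := (.node 13430 (.node 13425 (.node 13422 (.node 13421 (.leaf 0xe100f0d0e0005) (.leaf 0x0)) (.node 13423 (.leaf 0x80001) (.node 13424 (.leaf 0x0) (.leaf 0x0)))) (.node 13427 (.node 13426 (.leaf 0xd110e0003) (.leaf 0x0)) (.node 13428 (.leaf 0x8050002) (.node 13429 (.leaf 0x4020105070905080008) (.leaf 0x0))))) (.node 13435 (.node 13432 (.node 13431 (.leaf 0x0) (.leaf 0x0)) (.node 13433 (.leaf 0xc100b0e0004) (.node 13434 (.leaf 0x108050003) (.leaf 0x209080003)))) (.node 13438 (.node 13436 (.leaf 0x0) (.node 13437 (.leaf 0x0) (.leaf 0x0))) (.node 13439 (.leaf 0xb0a0d0d0e0005) (.node 13440 (.leaf 0x80001) (.leaf 0x0))))))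

def argWS_1315 : Store := (.node 13420 argWS_1313 argWS_1314)

def argWS_1316 : Store := (.node 13400 argWS_1312 argWS_1315)

def argWS_1317 : Store := (.node 13451 (.node 13446 (.node 13443 (.node 13442 (.leaf 0x0) (.leaf 0x110b0002)) (.node 13444 (.leaf 0x0) (.node 13445 (.leaf 0x70001) (.leaf 0x0)))) (.node 13448 (.node 13447 (.leaf 0x0) (.leaf 0x100b0f0c0004)) (.node 13449 (.leaf 0x0) (.node 13450 (.leaf 0x1080002) (.leaf 0x0))))) (.node 13456 (.node 13453 (.node 13452 (.leaf 0x0) (.leaf 0x110b0002)) (.node 13454 (.leaf 0x0) (.node 13455 (.leaf 0x1070002) (.leaf 0x0)))) (.node 13458 (.node 13457 (.leaf 0x0) (.leaf 0xf100c0003)) (.node 13459 (.leaf 0x108060003) (.node 13460 (.leaf 0x203070705080006) (.leaf 0x0))))))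

def argWS_1318 : Store := (.node 13471 (.node 13466 (.node 13463 (.node 13462 (.leaf 0x0) (.leaf 0x0)) (.node 13464 (.leaf 0x0) (.node 13465 (.leaf 0xb0d0e0003) (.leaf 0x0)))) (.node 13468 (.node 13467 (.leaf 0x10001) (.leaf 0x10001)) (.node 13469 (.leaf 0x0) (.node 13470 (.leaf 0x0) (.leaf 0x0))))) (.node 13476 (.node 13473 (.node 13472 (.leaf 0x100b0d0e0004) (.leaf 0x10001)) (.node 13474 (.leaf 0x10001) (.node 13475 (.leaf 0x0) (.leaf 0x0)))) (.node 13479 (.node 13477 (.leaf 0x0) (.node 13478 (.leaf 0x100f0002) (.leaf 0x0))) (.node 13480 (.leaf 0x108050003) (.node 13481 (.leaf 0x3040607090005) (.leaf 0x0))))))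

def argWS_1319 : Store := (.node 13461 argWS_1317 argWS_1318)

def argWS_1320 : Store := (.node 13492 (.node 13487 (.node 13484 (.node 13483 (.leaf 0x0) (.leaf 0x0)) (.node 13485 (.leaf 0x0) (.node 13486 (.leaf 0xb0f0002) (.leaf 0x0)))) (.node 13489 (.node 13488 (.leaf 0x10001) (.leaf 0x10001)) (.node 13490 (.leaf 0x0) (.node 13491 (.leaf 0x0) (.leaf 0x0))))) (.node 13497 (.node 13494 (.node 13493 (.leaf 0xb0a0f0003) (.leaf 0x8050002)) (.node 13495 (.leaf 0x50705080005) (.node 13496 (.leaf 0x0) (.leaf 0x3060607090005)))) (.node 13499 (.node 13498 (.leaf 0x0) (.leaf 0x0)) (.node 13500 (.leaf 0x0) (.node 13501 (.leaf 0xd0e0002) (.leaf 0x0))))))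

def argWS_1321 : Store := (.node 13512 (.node 13507 (.node 13504 (.node 13503 (.leaf 0x8060002) (.leaf 0x709080004)) (.node 13505 (.leaf 0x0) (.node 13506 (.leaf 0x0) (.leaf 0x0)))) (.node 13509 (.node 13508 (.leaf 0x110d0d0e0004) (.leaf 0x1070002)) (.node 13510 (.leaf 0x0) (.node 13511 (.leaf 0x0) (.leaf 0x110b0e0003))))) (.node 13517 (.node 13514 (.node 13513 (.leaf 0x70001) (.leaf 0x0)) (.node 13515 (.leaf 0x0) (.node 13516 (.leaf 0x110b0e0003) (.leaf 0x108060003)))) (.node 13520 (.node 13518 (.leaf 0x0) (.node 13519 (.leaf 0x0) (.leaf 0x100b0f0003))) (.node 13521 (.leaf 0x3010607090005) (.node 13522 (.leaf 0x0) (.leaf 0x0))))))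

def argWS_1322 : Store := (.node 13502 argWS_1320 argWS_1321)

def argWS_1323 : Store := (.node 13482 argWS_1319 argWS_1322)

def argWS_1324 : Store := (.node 13441 argWS_1316 argWS_1323)

def argWS_1325 : Store := (.node 13533 (.node 13528 (.node 13525 (.node 13524 (.leaf 0x0) (.leaf 0x7010208060607090008)) (.node 13526 (.leaf 0x0) (.node 13527 (.leaf 0x0) (.leaf 0x0)))) (.node 13530 (.node 13529 (.leaf 0x7010208060607090008) (.leaf 0x0)) (.node 13531 (.leaf 0x0) (.node 13532 (.leaf 0x0) (.leaf 0x8060002))))) (.node 13538 (.node 13535 (.node 13534 (.leaf 0x0) (.leaf 0x0)) (.node 13536 (.leaf 0x110f0002) (.node 13537 (.leaf 0x0) (.leaf 0x10001)))) (.node 13540 (.node 13539 (.leaf 0x10001) (.leaf 0x0)) (.node 13541 (.leaf 0x0) (.node 13542 (.leaf 0x0) (.leaf 0xd100d0f0c0005))))))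

def argWS_1326 : Store := (.node 13553 (.node 13548 (.node 13545 (.node 13544 (.leaf 0x0) (.leaf 0x0)) (.node 13546 (.leaf 0xf100b0e0004) (.node 13547 (.leaf 0x0) (.leaf 0x0)))) (.node 13550 (.node 13549 (.leaf 0x2080002) (.leaf 0x0)) (.node 13551 (.leaf 0x0) (.node 13552 (.leaf 0x204050707090006) (.leaf 0x204050707090006))))) (.node 13558 (.node 13555 (.node 13554 (.leaf 0x0) (.leaf 0x0)) (.node 13556 (.leaf 0x0) (.node 13557 (.leaf 0x302060003) (.leaf 0x0)))) (.node 13560 (.node 13559 (.leaf 0x0) (.leaf 0xc100b0f0c0005)) (.node 13561 (.leaf 0x0) (.node 13562 (.leaf 0x403070905080006) (.leaf 0x20709080004))))))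

def argWS_1327 : Store := (.node 13543 argWS_1325 argWS_1326)

def argWS_1328 : Store := (.node 13573 (.node 13568 (.node 13565 (.node 13564 (.leaf 0x0) (.leaf 0x0)) (.node 13566 (.leaf 0x0) (.node 13567 (.leaf 0x110d0e0003) (.leaf 0x4000705080005)))) (.node 13570 (.node 13569 (.leaf 0x0) (.leaf 0x0)) (.node 13571 (.leaf 0x20401050705080007) (.node 13572 (.leaf 0x0) (.leaf 0x10001))))) (.node 13578 (.node 13575 (.node 13574 (.leaf 0x10001) (.leaf 0x0)) (.node 13576 (.leaf 0x0) (.node 13577 (.leaf 0x0) (.leaf 0x100d0f0c0004)))) (.node 13580 (.node 13579 (.leaf 0x0) (.leaf 0x0)) (.node 13581 (.leaf 0xb0d0d0e0004) (.node 13582 (.leaf 0x7010206070905080008) (.leaf 0x0))))))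

def argWS_1329 : Store := (.node 13593 (.node 13588 (.node 13585 (.node 13584 (.leaf 0x1060002) (.leaf 0x0)) (.node 13586 (.leaf 0x0) (.node 13587 (.leaf 0x0) (.leaf 0x0)))) (.node 13590 (.node 13589 (.leaf 0x0) (.leaf 0x60705080005)) (.node 13591 (.leaf 0x0) (.node 13592 (.leaf 0x0) (.leaf 0x0))))) (.node 13598 (.node 13595 (.node 13594 (.leaf 0x40008050004) (.leaf 0x70001)) (.node 13596 (.leaf 0x0) (.node 13597 (.leaf 0x0) (.leaf 0xc100d0003)))) (.node 13601 (.node 13599 (.leaf 0x1070002) (.node 13600 (.leaf 0x0) (.leaf 0x0))) (.node 13602 (.leaf 0xf100e0003) (.node 13603 (.leaf 0x108060003) (.leaf 0x0))))))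

def argWS_1330 : Store := (.node 13583 argWS_1328 argWS_1329)

def argWS_1331 : Store := (.node 13563 argWS_1327 argWS_1330)

def argWS_1332 : Store := (.node 13614 (.node 13609 (.node 13606 (.node 13605 (.leaf 0x0) (.leaf 0xe100f0003)) (.node 13607 (.leaf 0x0) (.node 13608 (.leaf 0x2040109080607090008) (.leaf 0x40208060705080007)))) (.node 13611 (.node 13610 (.leaf 0x0) (.leaf 0x0)) (.node 13612 (.leaf 0x0) (.node 13613 (.leaf 0x0) (.leaf 0x80001))))) (.node 13619 (.node 13616 (.node 13615 (.leaf 0x0) (.leaf 0x0)) (.node 13617 (.leaf 0x0) (.node 13618 (.leaf 0x4050705080005) (.leaf 0x10008060004)))) (.node 13621 (.node 13620 (.leaf 0x0) (.leaf 0xe100f0c0004)) (.node 13622 (.leaf 0x0) (.node 13623 (.leaf 0x0) (.leaf 0x0))))))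

def argWS_1333 : Store := (.node 13634 (.node 13629 (.node 13626 (.node 13625 (.leaf 0x0) (.leaf 0x4000607050705080008)) (.node 13627 (.leaf 0x3040107050005) (.node 13628 (.leaf 0x2010607060005) (.leaf 0x0)))) (.node 13631 (.node 13630 (.leaf 0x3040105070908060709000a) (.leaf 0x0)) (.node 13632 (.leaf 0x0) (.node 13633 (.leaf 0x0) (.leaf 0xd110c0f0c0005))))) (.node 13639 (.node 13636 (.node 13635 (.leaf 0x0) (.leaf 0x0)) (.node 13637 (.leaf 0x0) (.node 13638 (.leaf 0x0) (.leaf 0x70102070905080007)))) (.node 13642 (.node 13640 (.leaf 0x2040507060607090008) (.node 13641 (.leaf 0x0) (.leaf 0x0))) (.node 13643 (.leaf 0x0) (.node 13644 (.leaf 0xc100c0f0c0005) (.leaf 0x10001))))))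

def argWS_1334 : Store := (.node 13624 argWS_1332 argWS_1333)

def argWS_1335 : Store := (.node 13655 (.node 13650 (.node 13647 (.node 13646 (.leaf 0x10001) (.leaf 0x4000507060607090008)) (.node 13648 (.leaf 0x0) (.node 13649 (.leaf 0x0) (.leaf 0x0)))) (.node 13652 (.node 13651 (.leaf 0x0) (.leaf 0x0)) (.node 13653 (.leaf 0x70102070905080007) (.node 13654 (.leaf 0x204010507060607090009) (.leaf 0x0))))) (.node 13660 (.node 13657 (.node 13656 (.leaf 0x0) (.leaf 0x0)) (.node 13658 (.leaf 0x110b0d0f0c0005) (.node 13659 (.leaf 0x0) (.leaf 0x1080002)))) (.node 13662 (.node 13661 (.leaf 0x0) (.leaf 0x0)) (.node 13663 (.leaf 0xd100e0003) (.node 13664 (.leaf 0x70001) (.leaf 0x0))))))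

def argWS_1336 : Store := (.node 13675 (.node 13670 (.node 13667 (.node 13666 (.leaf 0x0) (.leaf 0x110b0f0c0004)) (.node 13668 (.leaf 0x110f0f0c0004) (.node 13669 (.leaf 0x80001) (.leaf 0x0)))) (.node 13672 (.node 13671 (.leaf 0x0) (.leaf 0x1070002)) (.node 13673 (.leaf 0x0) (.node 13674 (.leaf 0x0) (.leaf 0xc100d0f0c0005))))) (.node 13680 (.node 13677 (.node 13676 (.leaf 0xf0f0c0003) (.leaf 0x1080002)) (.node 13678 (.leaf 0x0) (.node 13679 (.leaf 0x0) (.leaf 0x8060002)))) (.node 13683 (.node 13681 (.leaf 0x0) (.node 13682 (.leaf 0x0) (.leaf 0x100d0d0e0004))) (.node 13684 (.leaf 0x0) (.node 13685 (.leaf 0x0) (.leaf 0x0))))))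

def argWS_1337 : Store := (.node 13665 argWS_1335 argWS_1336)

def argWS_1338 : Store := (.node 13645 argWS_1334 argWS_1337)

def argWS_1339 : Store := (.node 13604 argWS_1331 argWS_1338)

def argWS_1340 : Store := (.node 13523 argWS_1324 argWS_1339)

def argWS_1341 : Store := (.node 13360 argWS_1309 argWS_1340)

def argWS_1342 : Store := (.node 13696 (.node 13691 (.node 13688 (.node 13687 (.leaf 0x8050002) (.leaf 0x0)) (.node 13689 (.leaf 0x0) (.node 13690 (.leaf 0x0) (.leaf 0x0)))) (.node 13693 (.node 13692 (.leaf 0x70102070905080007) (.leaf 0x4030105070705080008)) (.node 13694 (.leaf 0x0) (.node 13695 (.leaf 0x110f0f0c0004) (.leaf 0x0))))) (.node 13701 (.node 13698 (.node 13697 (.leaf 0x0) (.leaf 0x0)) (.node 13699 (.leaf 0x0) (.node 13700 (.leaf 0x402010809080006) (.leaf 0x108050003)))) (.node 13703 (.node 13702 (.leaf 0x0) (.leaf 0x0)) (.node 13704 (.leaf 0x0) (.node 13705 (.leaf 0x70102070905080007) (.leaf 0x40305070705080007))))))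

def argWS_1343 : Store := (.node 13716 (.node 13711 (.node 13708 (.node 13707 (.leaf 0x0) (.leaf 0xf0f0c0003)) (.node 13709 (.leaf 0x0) (.node 13710 (.leaf 0x0) (.leaf 0x0)))) (.node 13713 (.node 13712 (.leaf 0x0) (.leaf 0x204080003)) (.node 13714 (.leaf 0x0) (.node 13715 (.leaf 0x0) (.leaf 0x0))))) (.node 13721 (.node 13718 (.node 13717 (.leaf 0x0) (.leaf 0x0)) (.node 13719 (.leaf 0x7010208050705080008) (.node 13720 (.leaf 0xb0a0f0c0004) (.leaf 0x0)))) (.node 13723 (.node 13722 (.leaf 0x0) (.leaf 0xf100d0e0004)) (.node 13724 (.leaf 0x0) (.node 13725 (.leaf 0x0) (.leaf 0x0))))))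

def argWS_1344 : Store := (.node 13706 argWS_1342 argWS_1343)

def argWS_1345 : Store := (.node 13736 (.node 13731 (.node 13728 (.node 13727 (.leaf 0x0) (.leaf 0x4020607090005)) (.node 13729 (.leaf 0x10001) (.node 13730 (.leaf 0x0) (.leaf 0x0)))) (.node 13733 (.node 13732 (.leaf 0xa0f0d0e0004) (.leaf 0x0)) (.node 13734 (.leaf 0x0) (.node 13735 (.leaf 0x0) (.leaf 0x10001))))) (.node 13741 (.node 13738 (.node 13737 (.leaf 0x0) (.leaf 0x0)) (.node 13739 (.leaf 0x0) (.node 13740 (.leaf 0xe100f0d0e0005) (.leaf 0x402050003)))) (.node 13743 (.node 13742 (.leaf 0x0) (.leaf 0x0)) (.node 13744 (.leaf 0x0) (.node 13745 (.leaf 0x0) (.leaf 0x0))))))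

def argWS_1346 : Store := (.node 13756 (.node 13751 (.node 13748 (.node 13747 (.leaf 0x3040905080005) (.leaf 0x0)) (.node 13749 (.leaf 0x0) (.node 13750 (.leaf 0x0) (.leaf 0x7020108060607090008)))) (.node 13753 (.node 13752 (.leaf 0x100060607090006) (.leaf 0x0)) (.node 13754 (.leaf 0x0) (.node 13755 (.leaf 0x0) (.leaf 0x0))))) (.node 13761 (.node 13758 (.node 13757 (.leaf 0x705080004) (.leaf 0x0)) (.node 13759 (.leaf 0x0) (.node 13760 (.leaf 0xe100d0d0e0005) (.leaf 0x0)))) (.node 13764 (.node 13762 (.leaf 0x0) (.node 13763 (.leaf 0x0) (.leaf 0x0))) (.node 13765 (.leaf 0x30401060705080007) (.node 13766 (.leaf 0x1080002) (.leaf 0x701000709080006))))))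

def argWS_1347 : Store := (.node 13746 argWS_1345 argWS_1346)

def argWS_1348 : Store := (.node 13726 argWS_1344 argWS_1347)

def argWS_1349 : Store := (.node 13777 (.node 13772 (.node 13769 (.node 13768 (.leaf 0x0) (.leaf 0x0)) (.node 13770 (.leaf 0x0) (.node 13771 (.leaf 0xd110f0f0c0005) (.leaf 0x0)))) (.node 13774 (.node 13773 (.leaf 0x0) (.leaf 0x0)) (.node 13775 (.leaf 0x300060707090006) (.node 13776 (.leaf 0xd110e0003) (.leaf 0x0))))) (.node 13782 (.node 13779 (.node 13778 (.leaf 0xa0001) (.leaf 0x0)) (.node 13780 (.leaf 0x60001) (.node 13781 (.leaf 0x0) (.leaf 0x0)))) (.node 13784 (.node 13783 (.leaf 0x0) (.leaf 0xc100b0d0e0005)) (.node 13785 (.leaf 0x3010905080005) (.node 13786 (.leaf 0x0) (.leaf 0x0))))))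

def argWS_1350 : Store := (.node 13797 (.node 13792 (.node 13789 (.node 13788 (.leaf 0x110d0f0c0004) (.leaf 0x403010905080006)) (.node 13790 (.leaf 0x0) (.node 13791 (.leaf 0x0) (.leaf 0x1020607060607090008)))) (.node 13794 (.node 13793 (.leaf 0x0) (.leaf 0x0)) (.node 13795 (.leaf 0xe0001) (.node 13796 (.leaf 0x0) (.leaf 0x40201060607090007))))) (.node 13802 (.node 13799 (.node 13798 (.leaf 0x0) (.leaf 0x108060003)) (.node 13800 (.leaf 0x0) (.node 13801 (.leaf 0x0) (.leaf 0x0)))) (.node 13805 (.node 13803 (.leaf 0xf100d0d0e0005) (.node 13804 (.leaf 0x40107060004) (.leaf 0x0))) (.node 13806 (.leaf 0x0) (.node 13807 (.leaf 0xb0a0d0d0e0005) (.leaf 0x0))))))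

def argWS_1351 : Store := (.node 13787 argWS_1349 argWS_1350)

def argWS_1352 : Store := (.node 13818 (.node 13813 (.node 13810 (.node 13809 (.leaf 0x10001) (.leaf 0x10001)) (.node 13811 (.leaf 0x0) (.node 13812 (.leaf 0x0) (.leaf 0x0)))) (.node 13815 (.node 13814 (.leaf 0x110b0d0d0e0005) (.leaf 0x0)) (.node 13816 (.leaf 0x108050003) (.node 13817 (.leaf 0x402010709080607090009) (.leaf 0x302010507060006))))) (.node 13823 (.node 13820 (.node 13819 (.leaf 0x0) (.leaf 0x0)) (.node 13821 (.leaf 0x0) (.node 13822 (.leaf 0x0) (.leaf 0xd110d0003)))) (.node 13825 (.node 13824 (.leaf 0x0) (.leaf 0x10001)) (.node 13826 (.leaf 0x10001) (.node 13827 (.leaf 0x0) (.leaf 0x0))))))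

def argWS_1353 : Store := (.node 13838 (.node 13833 (.node 13830 (.node 13829 (.leaf 0x0) (.leaf 0xd110e0003)) (.node 13831 (.leaf 0x0) (.node 13832 (.leaf 0x10001) (.leaf 0x0)))) (.node 13835 (.node 13834 (.leaf 0x0) (.leaf 0x110b0f0c0004)) (.node 13836 (.leaf 0x80001) (.node 13837 (.leaf 0x0) (.leaf 0x0))))) (.node 13843 (.node 13840 (.node 13839 (.leaf 0xb0d0d0e0004) (.leaf 0x0)) (.node 13841 (.leaf 0x1080002) (.node 13842 (.leaf 0x0) (.leaf 0x0)))) (.node 13846 (.node 13844 (.leaf 0xf100b0d0004) (.node 13845 (.leaf 0x0) (.leaf 0x1070002))) (.node 13847 (.leaf 0x0) (.node 13848 (.leaf 0x0) (.leaf 0x0))))))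

def argWS_1354 : Store := (.node 13828 argWS_1352 argWS_1353)

def argWS_1355 : Store := (.node 13808 argWS_1351 argWS_1354)

def argWS_1356 : Store := (.node 13767 argWS_1348 argWS_1355)

def argWS_1357 : Store := (.node 13859 (.node 13854 (.node 13851 (.node 13850 (.leaf 0x100001) (.leaf 0x8060002)) (.node 13852 (.leaf 0x0) (.node 13853 (.leaf 0x0) (.leaf 0xf0c0002)))) (.node 13856 (.node 13855 (.leaf 0x0) (.leaf 0x108060003)) (.node 13857 (.leaf 0x0) (.node 13858 (.leaf 0x0) (.leaf 0xe110f0f0c0005))))) (.node 13864 (.node 13861 (.node 13860 (.leaf 0x0) (.leaf 0x10001)) (.node 13862 (.leaf 0x10001) (.node 13863 (.leaf 0x0) (.leaf 0x0)))) (.node 13866 (.node 13865 (.leaf 0x0) (.leaf 0xe110f0d0e0005)) (.node 13867 (.leaf 0x0) (.node 13868 (.leaf 0x0) (.leaf 0x0))))))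

def argWS_1358 : Store := (.node 13879 (.node 13874 (.node 13871 (.node 13870 (.leaf 0xc100f0d0e0005) (.leaf 0x10001)) (.node 13872 (.leaf 0x0) (.node 13873 (.leaf 0x0) (.leaf 0xd100f0003)))) (.node 13876 (.node 13875 (.leaf 0x10001) (.leaf 0x0)) (.node 13877 (.leaf 0x0) (.node 13878 (.leaf 0xe110f0f0c0005) (.leaf 0x10001))))) (.node 13884 (.node 13881 (.node 13880 (.leaf 0x10001) (.leaf 0x0)) (.node 13882 (.leaf 0x0) (.node 13883 (.leaf 0x0) (.leaf 0x110d0002)))) (.node 13886 (.node 13885 (.leaf 0x10001) (.leaf 0x10409080004)) (.node 13887 (.leaf 0x0) (.node 13888 (.leaf 0x4050707090005) (.leaf 0x0))))))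

def argWS_1359 : Store := (.node 13869 argWS_1357 argWS_1358)

def argWS_1360 : Store := (.node 13899 (.node 13894 (.node 13891 (.node 13890 (.leaf 0x10001) (.leaf 0x0)) (.node 13892 (.leaf 0x0) (.node 13893 (.leaf 0x0) (.leaf 0x100d0002)))) (.node 13896 (.node 13895 (.leaf 0x0) (.leaf 0x0)) (.node 13897 (.leaf 0x0) (.node 13898 (.leaf 0x3000705080005) (.leaf 0x10001))))) (.node 13904 (.node 13901 (.node 13900 (.leaf 0x10001) (.leaf 0x0)) (.node 13902 (.leaf 0x0) (.node 13903 (.leaf 0x0) (.leaf 0xa0001)))) (.node 13906 (.node 13905 (.leaf 0x0) (.leaf 0x70001)) (.node 13907 (.leaf 0x0) (.node 13908 (.leaf 0x0) (.leaf 0x100d0d0e0004))))))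

def argWS_1361 : Store := (.node 13919 (.node 13914 (.node 13911 (.node 13910 (.leaf 0x0) (.leaf 0x1070002)) (.node 13912 (.leaf 0x0) (.node 13913 (.leaf 0x0) (.leaf 0xd100d0e0004)))) (.node 13916 (.node 13915 (.leaf 0x8060002) (.leaf 0x0)) (.node 13917 (.leaf 0x0) (.node 13918 (.leaf 0xf100c0f0c0005) (.leaf 0x108060003))))) (.node 13924 (.node 13921 (.node 13920 (.leaf 0x0) (.leaf 0x0)) (.node 13922 (.leaf 0xd110e0003) (.node 13923 (.leaf 0x8060002) (.leaf 0x0)))) (.node 13927 (.node 13925 (.leaf 0x0) (.node 13926 (.leaf 0x100f0f0c0004) (.leaf 0x0))) (.node 13928 (.leaf 0x0) (.node 13929 (.leaf 0x0) (.leaf 0x8050002))))))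

def argWS_1362 : Store := (.node 13909 argWS_1360 argWS_1361)

def argWS_1363 : Store := (.node 13889 argWS_1359 argWS_1362)

def argWS_1364 : Store := (.node 13940 (.node 13935 (.node 13932 (.node 13931 (.leaf 0x0) (.leaf 0x0)) (.node 13933 (.leaf 0xe100d0003) (.node 13934 (.leaf 0x401060705080006) (.leaf 0x0)))) (.node 13937 (.node 13936 (.leaf 0x0) (.leaf 0x0)) (.node 13938 (.leaf 0x0) (.node 13939 (.leaf 0x108060003) (.leaf 0x0))))) (.node 13945 (.node 13942 (.node 13941 (.leaf 0x0) (.leaf 0xa0f0f0c0004)) (.node 13943 (.leaf 0x0) (.node 13944 (.leaf 0x0) (.leaf 0x0)))) (.node 13947 (.node 13946 (.leaf 0x0) (.leaf 0x1080002)) (.node 13948 (.leaf 0x0) (.node 13949 (.leaf 0x0) (.leaf 0x0))))))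

def argWS_1365 : Store := (.node 13960 (.node 13955 (.node 13952 (.node 13951 (.leaf 0xb0f0c0003) (.leaf 0x0)) (.node 13953 (.leaf 0xf100f0003) (.node 13954 (.leaf 0x1070002) (.leaf 0x0)))) (.node 13957 (.node 13956 (.leaf 0x0) (.leaf 0x0)) (.node 13958 (.leaf 0x110f0c0003) (.node 13959 (.leaf 0x0) (.leaf 0x0))))) (.node 13965 (.node 13962 (.node 13961 (.leaf 0x0) (.leaf 0x0)) (.node 13963 (.leaf 0x20401060607090007) (.node 13964 (.leaf 0x0) (.leaf 0x0)))) (.node 13968 (.node 13966 (.leaf 0x0) (.node 13967 (.leaf 0x0) (.leaf 0x403010003))) (.node 13969 (.leaf 0x0) (.node 13970 (.leaf 0x0) (.leaf 0x0))))))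

def argWS_1366 : Store := (.node 13950 argWS_1364 argWS_1365)

def argWS_1367 : Store := (.node 13981 (.node 13976 (.node 13973 (.node 13972 (.leaf 0x0) (.leaf 0x1020705080005)) (.node 13974 (.leaf 0x70107060607090007) (.node 13975 (.leaf 0x0) (.leaf 0x0)))) (.node 13978 (.node 13977 (.leaf 0x0) (.leaf 0x0)) (.node 13979 (.leaf 0x0) (.node 13980 (.leaf 0x40007090004) (.leaf 0x108050003))))) (.node 13986 (.node 13983 (.node 13982 (.leaf 0x0) (.leaf 0x0)) (.node 13984 (.leaf 0x100b0d0e0004) (.node 13985 (.leaf 0x0) (.leaf 0x0)))) (.node 13988 (.node 13987 (.leaf 0x0) (.leaf 0x0)) (.node 13989 (.leaf 0x403010607090006) (.node 13990 (.leaf 0x0) (.leaf 0x0))))))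

def argWS_1368 : Store := (.node 14001 (.node 13996 (.node 13993 (.node 13992 (.leaf 0xf100002) (.leaf 0x10001)) (.node 13994 (.leaf 0x0) (.node 13995 (.leaf 0x0) (.leaf 0x0)))) (.node 13998 (.node 13997 (.leaf 0x701080003) (.leaf 0x20709080004)) (.node 13999 (.leaf 0x0) (.node 14000 (.leaf 0x100e0002) (.leaf 0x0))))) (.node 14006 (.node 14003 (.node 14002 (.leaf 0x0) (.leaf 0x0)) (.node 14004 (.leaf 0x0) (.node 14005 (.leaf 0x10001) (.leaf 0x1070002)))) (.node 14009 (.node 14007 (.leaf 0x0) (.node 14008 (.leaf 0x0) (.leaf 0xc100d0003))) (.node 14010 (.leaf 0x0) (.node 14011 (.leaf 0x0) (.leaf 0x0))))))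

def argWS_1369 : Store := (.node 13991 argWS_1367 argWS_1368)

def argWS_1370 : Store := (.node 13971 argWS_1366 argWS_1369)

def argWS_1371 : Store := (.node 13930 argWS_1363 argWS_1370)

def argWS_1372 : Store := (.node 13849 argWS_1356 argWS_1371)

def argWS_1373 : Store := (.node 14022 (.node 14017 (.node 14014 (.node 14013 (.leaf 0x3000709080607090008) (.leaf 0x80001)) (.node 14015 (.leaf 0x3040106070905080008) (.node 14016 (.leaf 0x3040507060607090008) (.leaf 0x0)))) (.node 14019 (.node 14018 (.leaf 0x0) (.leaf 0x0)) (.node 14020 (.leaf 0x0) (.node 14021 (.leaf 0x100b0002) (.leaf 0x0))))) (.node 14027 (.node 14024 (.node 14023 (.leaf 0x0) (.leaf 0x0)) (.node 14025 (.leaf 0x0) (.node 14026 (.leaf 0x402060705080006) (.leaf 0x8050002)))) (.node 14029 (.node 14028 (.leaf 0x0) (.leaf 0x0)) (.node 14030 (.leaf 0xc100b0d0004) (.node 14031 (.leaf 0x0) (.leaf 0x0))))))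

def argWS_1374 : Store := (.node 14042 (.node 14037 (.node 14034 (.node 14033 (.leaf 0x0) (.leaf 0x108050003)) (.node 14035 (.leaf 0x0) (.node 14036 (.leaf 0x0) (.leaf 0xc100b0d0004)))) (.node 14039 (.node 14038 (.leaf 0x0) (.leaf 0x0)) (.node 14040 (.leaf 0x0) (.node 14041 (.leaf 0x80001) (.leaf 0x0))))) (.node 14047 (.node 14044 (.node 14043 (.leaf 0x0) (.leaf 0x100f0d0e0004)) (.node 14045 (.leaf 0x70001) (.node 14046 (.leaf 0x30705080004) (.leaf 0x0)))) (.node 14049 (.node 14048 (.leaf 0x0) (.leaf 0x0)) (.node 14050 (.leaf 0x0) (.node 14051 (.leaf 0xf100d0d0e0005) (.leaf 0x1080002))))))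

def argWS_1375 : Store := (.node 14032 argWS_1373 argWS_1374)

def argWS_1376 : Store := (.node 14062 (.node 14057 (.node 14054 (.node 14053 (.leaf 0x0) (.leaf 0x0)) (.node 14055 (.leaf 0xd100f0f0c0005) (.node 14056 (.leaf 0x8050002) (.leaf 0x0)))) (.node 14059 (.node 14058 (.leaf 0x0) (.leaf 0xb0a0d0e0004)) (.node 14060 (.leaf 0x70001) (.node 14061 (.leaf 0x203060705080006) (.leaf 0x0))))) (.node 14067 (.node 14064 (.node 14063 (.leaf 0x0) (.leaf 0x0)) (.node 14065 (.leaf 0xc100e0003) (.node 14066 (.leaf 0x4000707090005) (.leaf 0x0)))) (.node 14069 (.node 14068 (.leaf 0x0) (.leaf 0x0)) (.node 14070 (.leaf 0x0) (.node 14071 (.leaf 0x0) (.leaf 0x40009080004))))))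

def argWS_1377 : Store := (.node 14082 (.node 14077 (.node 14074 (.node 14073 (.leaf 0x0) (.leaf 0x0)) (.node 14075 (.leaf 0x0) (.node 14076 (.leaf 0x0) (.leaf 0x0)))) (.node 14079 (.node 14078 (.leaf 0x0) (.leaf 0x0)) (.node 14080 (.leaf 0x0) (.node 14081 (.leaf 0x0) (.leaf 0x0))))) (.node 14087 (.node 14084 (.node 14083 (.leaf 0x0) (.leaf 0x0)) (.node 14085 (.leaf 0x1030905080005) (.node 14086 (.leaf 0x0) (.leaf 0x0)))) (.node 14090 (.node 14088 (.leaf 0x0) (.node 14089 (.leaf 0x0) (.leaf 0x304010607090006))) (.node 14091 (.leaf 0x0) (.node 14092 (.leaf 0x10406070705080007) (.leaf 0x10308060004))))))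

def argWS_1378 : Store := (.node 14072 argWS_1376 argWS_1377)

def argWS_1379 : Store := (.node 14052 argWS_1375 argWS_1378)

def argWS_1380 : Store := (.node 14103 (.node 14098 (.node 14095 (.node 14094 (.leaf 0x0) (.leaf 0x0)) (.node 14096 (.leaf 0x0) (.node 14097 (.leaf 0xe100f0003) (.leaf 0x40208060705080007)))) (.node 14100 (.node 14099 (.leaf 0x0) (.leaf 0x0)) (.node 14101 (.leaf 0x0) (.node 14102 (.leaf 0xf100b0d0004) (.leaf 0x80001))))) (.node 14108 (.node 14105 (.node 14104 (.leaf 0x0) (.leaf 0x0)) (.node 14106 (.leaf 0x0) (.node 14107 (.leaf 0x0) (.leaf 0x0)))) (.node 14110 (.node 14109 (.leaf 0x409080003) (.leaf 0x0)) (.node 14111 (.leaf 0x0) (.node 14112 (.leaf 0x0) (.leaf 0x0))))))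

def argWS_1381 : Store := (.node 14123 (.node 14118 (.node 14115 (.node 14114 (.leaf 0x0) (.leaf 0x7020108050705080008)) (.node 14116 (.leaf 0x3010607090005) (.node 14117 (.leaf 0x0) (.leaf 0x0)))) (.node 14120 (.node 14119 (.leaf 0x0) (.leaf 0x0)) (.node 14121 (.leaf 0x0) (.node 14122 (.leaf 0x40905080004) (.leaf 0x7010208060607090008))))) (.node 14128 (.node 14125 (.node 14124 (.leaf 0x0) (.leaf 0x0)) (.node 14126 (.leaf 0x0) (.node 14127 (.leaf 0x0) (.leaf 0x0)))) (.node 14131 (.node 14129 (.leaf 0x40201060705080007) (.node 14130 (.leaf 0x7010208060607090008) (.leaf 0x0))) (.node 14132 (.leaf 0x0) (.node 14133 (.leaf 0x0) (.leaf 0x0))))))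

def argWS_1382 : Store := (.node 14113 argWS_1380 argWS_1381)

def argWS_1383 : Store := (.node 14144 (.node 14139 (.node 14136 (.node 14135 (.leaf 0x0) (.leaf 0x302050003)) (.node 14137 (.leaf 0x0) (.node 14138 (.leaf 0x0) (.leaf 0x0)))) (.node 14141 (.node 14140 (.leaf 0x0) (.leaf 0x0)) (.node 14142 (.leaf 0x20309080607090007) (.node 14143 (.leaf 0x0) (.leaf 0x0))))) (.node 14149 (.node 14146 (.node 14145 (.leaf 0x0) (.leaf 0x0)) (.node 14147 (.leaf 0x607090004) (.node 14148 (.leaf 0x0) (.leaf 0x0)))) (.node 14151 (.node 14150 (.leaf 0x0) (.leaf 0x0)) (.node 14152 (.leaf 0x0) (.node 14153 (.leaf 0x20401050004) (.leaf 0x0))))))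

def argWS_1384 : Store := (.node 14164 (.node 14159 (.node 14156 (.node 14155 (.leaf 0x0) (.leaf 0x0)) (.node 14157 (.leaf 0x0) (.node 14158 (.leaf 0x0) (.leaf 0xb0d0d0e0004)))) (.node 14161 (.node 14160 (.leaf 0x8060002) (.leaf 0x0)) (.node 14162 (.leaf 0x0) (.node 14163 (.leaf 0x0) (.leaf 0x304070905080006))))) (.node 14169 (.node 14166 (.node 14165 (.leaf 0x1080002) (.leaf 0x0)) (.node 14167 (.leaf 0x0) (.node 14168 (.leaf 0x0) (.leaf 0xe110c0003)))) (.node 14172 (.node 14170 (.leaf 0x0) (.node 14171 (.leaf 0x0) (.leaf 0x0))) (.node 14173 (.leaf 0x0) (.node 14174 (.leaf 0x110b0c0f0c0005) (.leaf 0x0))))))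

def argWS_1385 : Store := (.node 14154 argWS_1383 argWS_1384)

def argWS_1386 : Store := (.node 14134 argWS_1382 argWS_1385)

def argWS_1387 : Store := (.node 14093 argWS_1379 argWS_1386)

def argWS_1388 : Store := (.node 14185 (.node 14180 (.node 14177 (.node 14176 (.leaf 0x0) (.leaf 0x0)) (.node 14178 (.leaf 0x0) (.node 14179 (.leaf 0x203080905080006) (.leaf 0x0)))) (.node 14182 (.node 14181 (.leaf 0x0) (.leaf 0x0)) (.node 14183 (.leaf 0x0) (.node 14184 (.leaf 0x9080607090005) (.leaf 0xd110f0d0e0005))))) (.node 14190 (.node 14187 (.node 14186 (.leaf 0x4010607060705080008) (.leaf 0x401060709080607090009)) (.node 14188 (.leaf 0x0) (.node 14189 (.leaf 0x6070607090006) (.leaf 0x0)))) (.node 14192 (.node 14191 (.leaf 0x60705080004) (.leaf 0x0)) (.node 14193 (.leaf 0x1040905080005) (.node 14194 (.leaf 0x0) (.leaf 0x0))))))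

def argWS_1389 : Store := (.node 14205 (.node 14200 (.node 14197 (.node 14196 (.leaf 0x0) (.leaf 0x0)) (.node 14198 (.leaf 0x4030108060005) (.node 14199 (.leaf 0x60705080004) (.leaf 0x0)))) (.node 14202 (.node 14201 (.leaf 0x1040905080005) (.leaf 0x0)) (.node 14203 (.leaf 0x1070002) (.node 14204 (.leaf 0x0) (.leaf 0x0))))) (.node 14210 (.node 14207 (.node 14206 (.leaf 0x0) (.leaf 0x0)) (.node 14208 (.leaf 0x2010905080005) (.node 14209 (.leaf 0x40305070004) (.leaf 0x0)))) (.node 14212 (.node 14211 (.leaf 0x0) (.leaf 0x0)) (.node 14213 (.leaf 0xc100b0d0e0005) (.node 14214 (.leaf 0x203050705080006) (.leaf 0x0))))))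

def argWS_1390 : Store := (.node 14195 argWS_1388 argWS_1389)

def argWS_1391 : Store := (.node 14225 (.node 14220 (.node 14217 (.node 14216 (.leaf 0x103080003) (.leaf 0x0)) (.node 14218 (.leaf 0x0) (.node 14219 (.leaf 0x0) (.leaf 0x0)))) (.node 14222 (.node 14221 (.leaf 0x1000607060005) (.leaf 0x0)) (.node 14223 (.leaf 0x0) (.node 14224 (.leaf 0x7010208060705080008) (.leaf 0x0))))) (.node 14230 (.node 14227 (.node 14226 (.leaf 0x0) (.leaf 0xb0a0e0003)) (.node 14228 (.leaf 0x0) (.node 14229 (.leaf 0x1080002) (.leaf 0x100060707090006)))) (.node 14232 (.node 14231 (.leaf 0x105070705080006) (.leaf 0x0)) (.node 14233 (.leaf 0x0) (.node 14234 (.leaf 0x0) (.leaf 0x0))))))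

def argWS_1392 : Store := (.node 14245 (.node 14240 (.node 14237 (.node 14236 (.leaf 0xc100b0e0004) (.leaf 0x80001)) (.node 14238 (.leaf 0x0) (.node 14239 (.leaf 0x0) (.leaf 0x0)))) (.node 14242 (.node 14241 (.leaf 0xb0a0d0d0e0005) (.leaf 0x70001)) (.node 14243 (.leaf 0x20401070607090007) (.node 14244 (.leaf 0x0) (.leaf 0x0))))) (.node 14250 (.node 14247 (.node 14246 (.leaf 0x0) (.leaf 0x0)) (.node 14248 (.leaf 0xe100f0d0e0005) (.node 14249 (.leaf 0x0) (.leaf 0x1070002)))) (.node 14253 (.node 14251 (.leaf 0x0) (.node 14252 (.leaf 0x0) (.leaf 0xf100b0c0f0c0006))) (.node 14254 (.leaf 0x0) (.node 14255 (.leaf 0x108060003) (.leaf 0x0))))))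

def argWS_1393 : Store := (.node 14235 argWS_1391 argWS_1392)

def argWS_1394 : Store := (.node 14215 argWS_1390 argWS_1393)

def argWS_1395 : Store := (.node 14266 (.node 14261 (.node 14258 (.node 14257 (.leaf 0x0) (.leaf 0x0)) (.node 14259 (.leaf 0xe100f0f0c0005) (.node 14260 (.leaf 0x108050003) (.leaf 0x0)))) (.node 14263 (.node 14262 (.leaf 0x0) (.leaf 0xe100d0003)) (.node 14264 (.leaf 0x80001) (.node 14265 (.leaf 0x701000809080006) (.leaf 0x0))))) (.node 14271 (.node 14268 (.node 14267 (.leaf 0x0) (.leaf 0x0)) (.node 14269 (.leaf 0x0) (.node 14270 (.leaf 0x3020108060705080008) (.leaf 0x1030507060607090008)))) (.node 14273 (.node 14272 (.leaf 0x0) (.leaf 0x100f0f0c0004)) (.node 14274 (.leaf 0x0) (.node 14275 (.leaf 0x0) (.leaf 0x0))))))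

def argWS_1396 : Store := (.node 14286 (.node 14281 (.node 14278 (.node 14277 (.leaf 0x0) (.leaf 0x0)) (.node 14279 (.leaf 0x50705080005) (.node 14280 (.leaf 0x10001) (.leaf 0x201080607090006)))) (.node 14283 (.node 14282 (.leaf 0x0) (.leaf 0x0)) (.node 14284 (.leaf 0x0) (.node 14285 (.leaf 0xc100b0d0004) (.leaf 0x108060003))))) (.node 14291 (.node 14288 (.node 14287 (.leaf 0x401080905080006) (.leaf 0x0)) (.node 14289 (.leaf 0x0) (.node 14290 (.leaf 0x0) (.leaf 0xb0a0d0f0c0005)))) (.node 14294 (.node 14292 (.leaf 0x108060003) (.node 14293 (.leaf 0x0) (.leaf 0x0))) (.node 14295 (.leaf 0xe110e0003) (.node 14296 (.leaf 0x108050003) (.leaf 0x204080003))))))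

def argWS_1397 : Store := (.node 14276 argWS_1395 argWS_1396)

def argWS_1398 : Store := (.node 14307 (.node 14302 (.node 14299 (.node 14298 (.leaf 0x0) (.leaf 0x0)) (.node 14300 (.leaf 0x0) (.node 14301 (.leaf 0x0) (.leaf 0x40301060607090007)))) (.node 14304 (.node 14303 (.leaf 0x701000709080006) (.leaf 0x0)) (.node 14305 (.leaf 0xf0001) (.node 14306 (.leaf 0x0) (.leaf 0x0))))) (.node 14312 (.node 14309 (.node 14308 (.leaf 0x0) (.leaf 0x0)) (.node 14310 (.leaf 0x701080607090006) (.node 14311 (.leaf 0x304060003) (.leaf 0x0)))) (.node 14314 (.node 14313 (.leaf 0x0) (.leaf 0x10208050004)) (.node 14315 (.leaf 0x0) (.node 14316 (.leaf 0x4010607060607090008) (.leaf 0x0))))))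

def argWS_1399 : Store := (.node 14327 (.node 14322 (.node 14319 (.node 14318 (.leaf 0x403010607090006) (.leaf 0x0)) (.node 14320 (.leaf 0x9080002) (.node 14321 (.leaf 0x0) (.leaf 0x2030607050705080008)))) (.node 14324 (.node 14323 (.leaf 0x10208060004) (.leaf 0x0)) (.node 14325 (.leaf 0x200080905080006) (.node 14326 (.leaf 0x0) (.leaf 0x0))))) (.node 14332 (.node 14329 (.node 14328 (.leaf 0x70001) (.leaf 0x0)) (.node 14330 (.leaf 0x0) (.node 14331 (.leaf 0x0) (.leaf 0xd100002)))) (.node 14335 (.node 14333 (.leaf 0x0) (.node 14334 (.leaf 0x10001) (.leaf 0x10001))) (.node 14336 (.leaf 0x0) (.node 14337 (.leaf 0x0) (.leaf 0x0))))))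

def argWS_1400 : Store := (.node 14317 argWS_1398 argWS_1399)

def argWS_1401 : Store := (.node 14297 argWS_1397 argWS_1400)

def argWS_1402 : Store := (.node 14256 argWS_1394 argWS_1401)

def argWS_1403 : Store := (.node 14175 argWS_1387 argWS_1402)

def argWS_1404 : Store := (.node 14012 argWS_1372 argWS_1403)

def argWS_1405 : Store := (.node 13686 argWS_1341 argWS_1404)

def argWS_1406 : Store := (.node 14348 (.node 14343 (.node 14340 (.node 14339 (.leaf 0xc100c0003) (.leaf 0x0)) (.node 14341 (.leaf 0x4030105070908060709000a) (.node 14342 (.leaf 0x0) (.leaf 0x8050002)))) (.node 14345 (.node 14344 (.leaf 0x204080003) (.leaf 0x0)) (.node 14346 (.leaf 0x0) (.node 14347 (.leaf 0x0) (.leaf 0xc100e0003))))) (.node 14353 (.node 14350 (.node 14349 (.leaf 0x0) (.leaf 0x0)) (.node 14351 (.leaf 0x0) (.node 14352 (.leaf 0x0) (.leaf 0x905080004)))) (.node 14355 (.node 14354 (.leaf 0x108050003) (.leaf 0x1030607060705080008)) (.node 14356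 (.leaf 0x30201060709080007) (.node 14357 (.leaf 0x0) (.leaf 0x0))))))

def argWS_1407 : Store := (.node 14368 (.node 14363 (.node 14360 (.node 14359 (.leaf 0x0) (.leaf 0x0)) (.node 14361 (.leaf 0xd0d0e0003) (.node 14362 (.leaf 0x0) (.leaf 0x0)))) (.node 14365 (.node 14364 (.leaf 0x0) (.leaf 0x0)) (.node 14366 (.leaf 0x7010208050705080008) (.node 14367 (.leaf 0x10001) (.leaf 0x0))))) (.node 14373 (.node 14370 (.node 14369 (.leaf 0x0) (.leaf 0xd100f0003)) (.node 14371 (.leaf 0x301050003) (.node 14372 (.leaf 0x0) (.leaf 0x0)))) (.node 14375 (.node 14374 (.leaf 0x0) (.leaf 0x0)) (.node 14376 (.leaf 0x10001) (.node 14377 (.leaf 0x70001) (.leaf 0x0))))))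

def argWS_1408 : Store := (.node 14358 argWS_1406 argWS_1407)

def argWS_1409 : Store := (.node 14388 (.node 14383 (.node 14380 (.node 14379 (.leaf 0x0) (.leaf 0xc100b0f0f0c0006)) (.node 14381 (.leaf 0x204010905080006) (.node 14382 (.leaf 0x0) (.leaf 0x0)))) (.node 14385 (.node 14384 (.leaf 0x0) (.leaf 0x0)) (.node 14386 (.leaf 0x1070002) (.node 14387 (.leaf 0x0) (.leaf 0x0))))) (.node 14393 (.node 14390 (.node 14389 (.leaf 0xc100b0f0f0c0006) (.leaf 0x60607090005)) (.node 14391 (.leaf 0x0) (.node 14392 (.leaf 0x0) (.leaf 0x0)))) (.node 14395 (.node 14394 (.leaf 0x0) (.leaf 0x8050002)) (.node 14396 (.leaf 0x309080003) (.node 14397 (.leaf 0x0) (.leaf 0x0))))))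

def argWS_1410 : Store := (.node 14408 (.node 14403 (.node 14400 (.node 14399 (.leaf 0x0) (.leaf 0xf100f0f0c0005)) (.node 14401 (.leaf 0x0) (.node 14402 (.leaf 0x0) (.leaf 0x0)))) (.node 14405 (.node 14404 (.leaf 0x8060002) (.leaf 0x0)) (.node 14406 (.leaf 0x0) (.node 14407 (.leaf 0xf100f0f0c0005) (.leaf 0x108060003))))) (.node 14413 (.node 14410 (.node 14409 (.leaf 0x0) (.leaf 0x0)) (.node 14411 (.leaf 0xa0c0002) (.node 14412 (.leaf 0x10001) (.leaf 0x0)))) (.node 14416 (.node 14414 (.leaf 0x0) (.node 14415 (.leaf 0xc100b0d0f0c0006) (.leaf 0x0))) (.node 14417 (.leaf 0x20401060705080007) (.node 14418 (.leaf 0x0) (.leaf 0x0))))))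

def argWS_1411 : Store := (.node 14398 argWS_1409 argWS_1410)

def argWS_1412 : Store := (.node 14378 argWS_1408 argWS_1411)

def argWS_1413 : Store := (.node 14429 (.node 14424 (.node 14421 (.node 14420 (.leaf 0x0) (.leaf 0x30401070905080007)) (.node 14422 (.leaf 0x10001) (.node 14423 (.leaf 0x0) (.leaf 0x0)))) (.node 14426 (.node 14425 (.leaf 0x1070002) (.leaf 0x2000809080005)) (.node 14427 (.leaf 0x0) (.node 14428 (.leaf 0x0) (.leaf 0x0))))) (.node 14434 (.node 14431 (.node 14430 (.leaf 0x0) (.leaf 0x0)) (.node 14432 (.leaf 0x0) (.node 14433 (.leaf 0xd110d0d0e0005) (.leaf 0x709080607090006)))) (.node 14436 (.node 14435 (.leaf 0x0) (.leaf 0x0)) (.node 14437 (.leaf 0x70100080004) (.node 14438 (.leaf 0x1080002) (.leaf 0x0))))))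

def argWS_1414 : Store := (.node 14449 (.node 14444 (.node 14441 (.node 14440 (.leaf 0xa0001) (.leaf 0x0)) (.node 14442 (.leaf 0x0) (.node 14443 (.leaf 0x0) (.leaf 0x40709080607090007)))) (.node 14446 (.node 14445 (.leaf 0x0) (.leaf 0x0)) (.node 14447 (.leaf 0x0) (.node 14448 (.leaf 0x30205070705080007) (.leaf 0x30109080004))))) (.node 14454 (.node 14451 (.node 14450 (.leaf 0x0) (.leaf 0x0)) (.node 14452 (.leaf 0x70001) (.node 14453 (.leaf 0x0) (.leaf 0x0)))) (.node 14457 (.node 14455 (.leaf 0xc100d0003) (.node 14456 (.leaf 0xb0c0f0c0004) (.leaf 0x1070002))) (.node 14458 (.leaf 0x0) (.node 14459 (.leaf 0x0) (.leaf 0x1070002))))))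

def argWS_1415 : Store := (.node 14439 argWS_1413 argWS_1414)

def argWS_1416 : Store := (.node 14470 (.node 14465 (.node 14462 (.node 14461 (.leaf 0x0) (.leaf 0x0)) (.node 14463 (.leaf 0xf100e0003) (.node 14464 (.leaf 0xd100d0f0c0005) (.leaf 0x70001)))) (.node 14467 (.node 14466 (.leaf 0x0) (.leaf 0x0)) (.node 14468 (.leaf 0x8060002) (.node 14469 (.leaf 0x0) (.leaf 0x0))))) (.node 14475 (.node 14472 (.node 14471 (.leaf 0xe110f0003) (.leaf 0x0)) (.node 14473 (.leaf 0x8050002) (.node 14474 (.leaf 0x0) (.leaf 0x0)))) (.node 14477 (.node 14476 (.leaf 0x0) (.leaf 0x4030709080607090008)) (.node 14478 (.leaf 0x701060709080006) (.node 14479 (.leaf 0x0) (.leaf 0xf100f0003))))))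

def argWS_1417 : Store := (.node 14490 (.node 14485 (.node 14482 (.node 14481 (.leaf 0x0) (.leaf 0x0)) (.node 14483 (.leaf 0x0) (.node 14484 (.leaf 0x0) (.leaf 0x108060003)))) (.node 14487 (.node 14486 (.leaf 0x0) (.leaf 0x0)) (.node 14488 (.leaf 0xe100f0003) (.node 14489 (.leaf 0x108050003) (.leaf 0x0))))) (.node 14495 (.node 14492 (.node 14491 (.leaf 0x0) (.leaf 0x0)) (.node 14493 (.leaf 0x4030709080607090008) (.node 14494 (.leaf 0x70201060709080007) (.leaf 0x0)))) (.node 14498 (.node 14496 (.leaf 0xc100d0e0004) (.node 14497 (.leaf 0x0) (.leaf 0x0))) (.node 14499 (.leaf 0x0) (.node 14500 (.leaf 0x0) (.leaf 0x0))))))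

def argWS_1418 : Store := (.node 14480 argWS_1416 argWS_1417)

def argWS_1419 : Store := (.node 14460 argWS_1415 argWS_1418)

def argWS_1420 : Store := (.node 14419 argWS_1412 argWS_1419)

def argWS_1421 : Store := (.node 14511 (.node 14506 (.node 14503 (.node 14502 (.leaf 0x0) (.leaf 0x1)) (.node 14504 (.leaf 0x0) (.node 14505 (.leaf 0x0) (.leaf 0x0)))) (.node 14508 (.node 14507 (.leaf 0x0) (.leaf 0x6070705080006)) (.node 14509 (.leaf 0x8060002) (.node 14510 (.leaf 0x0) (.leaf 0x0))))) (.node 14516 (.node 14513 (.node 14512 (.leaf 0x0) (.leaf 0xa0001)) (.node 14514 (.leaf 0x0) (.node 14515 (.leaf 0x0) (.leaf 0x30401060707090007)))) (.node 14518 (.node 14517 (.leaf 0x0) (.leaf 0x0)) (.node 14519 (.leaf 0x0) (.node 14520 (.leaf 0x40307050705080007) (.leaf 0xf100d0f0c0005))))))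

def argWS_1422 : Store := (.node 14531 (.node 14526 (.node 14523 (.node 14522 (.leaf 0x0) (.leaf 0x10001)) (.node 14524 (.leaf 0x0) (.node 14525 (.leaf 0x0) (.leaf 0x0)))) (.node 14528 (.node 14527 (.leaf 0x6070705080006) (.leaf 0x4020507060607090008)) (.node 14529 (.leaf 0x0) (.node 14530 (.leaf 0x0) (.leaf 0x0))))) (.node 14536 (.node 14533 (.node 14532 (.leaf 0xd100d0e0004) (.leaf 0x110b0f0f0c0005)) (.node 14534 (.leaf 0x0) (.node 14535 (.leaf 0x40208060705080007) (.leaf 0x0)))) (.node 14538 (.node 14537 (.leaf 0x0) (.leaf 0x110c0002)) (.node 14539 (.leaf 0x0) (.node 14540 (.leaf 0x0) (.leaf 0x0))))))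

def argWS_1423 : Store := (.node 14521 argWS_1421 argWS_1422)

def argWS_1424 : Store := (.node 14551 (.node 14546 (.node 14543 (.node 14542 (.leaf 0xf100b0e0004) (.leaf 0x0)) (.node 14544 (.leaf 0x70001) (.node 14545 (.leaf 0x0) (.leaf 0x0)))) (.node 14548 (.node 14547 (.leaf 0x110b0f0f0c0005) (.leaf 0x4050705080005)) (.node 14549 (.leaf 0x0) (.node 14550 (.leaf 0x0) (.leaf 0x0))))) (.node 14556 (.node 14553 (.node 14552 (.leaf 0xd110d0f0c0005) (.leaf 0x10001)) (.node 14554 (.leaf 0x301060607090006) (.node 14555 (.leaf 0x0) (.leaf 0x0)))) (.node 14558 (.node 14557 (.leaf 0x0) (.leaf 0xb0a0c0f0c0005)) (.node 14559 (.leaf 0x0) (.node 14560 (.leaf 0x0) (.leaf 0x0))))))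

def argWS_1425 : Store := (.node 14571 (.node 14566 (.node 14563 (.node 14562 (.leaf 0x0) (.leaf 0x203010705080006)) (.node 14564 (.leaf 0x0) (.node 14565 (.leaf 0x0) (.leaf 0x0)))) (.node 14568 (.node 14567 (.leaf 0x0) (.leaf 0x0)) (.node 14569 (.leaf 0x0) (.node 14570 (.leaf 0x0) (.leaf 0x0))))) (.node 14576 (.node 14573 (.node 14572 (.leaf 0x0) (.leaf 0x4000507060607090008)) (.node 14574 (.leaf 0x0) (.node 14575 (.leaf 0x0) (.leaf 0x0)))) (.node 14579 (.node 14577 (.leaf 0xe100f0c0004) (.node 14578 (.leaf 0x0) (.leaf 0x10001))) (.node 14580 (.leaf 0x4010507060607090008) (.node 14581 (.leaf 0x0) (.leaf 0x0))))))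

def argWS_1426 : Store := (.node 14561 argWS_1424 argWS_1425)

def argWS_1427 : Store := (.node 14541 argWS_1423 argWS_1426)

def argWS_1428 : Store := (.node 14592 (.node 14587 (.node 14584 (.node 14583 (.leaf 0x0) (.leaf 0x110b0c0003)) (.node 14585 (.leaf 0x70905080004) (.node 14586 (.leaf 0x108060003) (.leaf 0x0)))) (.node 14589 (.node 14588 (.leaf 0x0) (.leaf 0x0)) (.node 14590 (.leaf 0xb0a0f0003) (.node 14591 (.leaf 0x0) (.leaf 0xf0f0c0003))))) (.node 14597 (.node 14594 (.node 14593 (.leaf 0x80001) (.leaf 0x0)) (.node 14595 (.leaf 0x0) (.node 14596 (.leaf 0x0) (.leaf 0x301070003)))) (.node 14599 (.node 14598 (.leaf 0x0) (.leaf 0x0)) (.node 14600 (.leaf 0x0) (.node 14601 (.leaf 0x70201080004) (.leaf 0x0))))))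

def argWS_1429 : Store := (.node 14612 (.node 14607 (.node 14604 (.node 14603 (.leaf 0x0) (.leaf 0x103050003)) (.node 14605 (.leaf 0x0) (.node 14606 (.leaf 0x0) (.leaf 0x40507060607090007)))) (.node 14609 (.node 14608 (.leaf 0x0) (.leaf 0x0)) (.node 14610 (.leaf 0x7020108060705080008) (.node 14611 (.leaf 0x0) (.leaf 0x701080607090006))))) (.node 14617 (.node 14614 (.node 14613 (.leaf 0x0) (.leaf 0x108060003)) (.node 14615 (.leaf 0x702010507050705080009) (.node 14616 (.leaf 0x0) (.leaf 0x0)))) (.node 14620 (.node 14618 (.leaf 0x0) (.node 14619 (.leaf 0x0) (.leaf 0x100f0002))) (.node 14621 (.leaf 0x0) (.node 14622 (.leaf 0x10001) (.leaf 0x70108060705080007))))))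

def argWS_1430 : Store := (.node 14602 argWS_1428 argWS_1429)

def argWS_1431 : Store := (.node 14633 (.node 14628 (.node 14625 (.node 14624 (.leaf 0x0) (.leaf 0x70201080607090007)) (.node 14626 (.leaf 0x0) (.node 14627 (.leaf 0x10001) (.leaf 0x507060003)))) (.node 14630 (.node 14629 (.leaf 0x0) (.leaf 0x405070905080006)) (.node 14631 (.leaf 0x0) (.node 14632 (.leaf 0x0) (.leaf 0x0))))) (.node 14638 (.node 14635 (.node 14634 (.leaf 0x0) (.leaf 0x110f0002)) (.node 14636 (.leaf 0x0) (.node 14637 (.leaf 0xc100b0e0004) (.leaf 0x108050003)))) (.node 14640 (.node 14639 (.leaf 0x0) (.leaf 0x0)) (.node 14641 (.leaf 0x100b0f0f0c0005) (.node 14642 (.leaf 0x108050003) (.leaf 0x0))))))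

def argWS_1432 : Store := (.node 14653 (.node 14648 (.node 14645 (.node 14644 (.leaf 0x0) (.leaf 0x108060003)) (.node 14646 (.leaf 0x0) (.node 14647 (.leaf 0x0) (.leaf 0x100b0c0003)))) (.node 14650 (.node 14649 (.leaf 0x0) (.leaf 0x0)) (.node 14651 (.leaf 0x0) (.node 14652 (.leaf 0x402050003) (.leaf 0x0))))) (.node 14658 (.node 14655 (.node 14654 (.leaf 0x0) (.leaf 0x0)) (.node 14656 (.leaf 0x0) (.node 14657 (.leaf 0x40008050705080007) (.leaf 0x0)))) (.node 14661 (.node 14659 (.leaf 0x0) (.node 14660 (.leaf 0x0) (.leaf 0x0))) (.node 14662 (.leaf 0x0) (.node 14663 (.leaf 0x0) (.leaf 0x0))))))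

def argWS_1433 : Store := (.node 14643 argWS_1431 argWS_1432)

def argWS_1434 : Store := (.node 14623 argWS_1430 argWS_1433)

def argWS_1435 : Store := (.node 14582 argWS_1427 argWS_1434)

def argWS_1436 : Store := (.node 14501 argWS_1420 argWS_1435)

def argWS_1437 : Store := (.node 14674 (.node 14669 (.node 14666 (.node 14665 (.leaf 0xe100d0f0c0005) (.leaf 0x0)) (.node 14667 (.leaf 0x10001) (.node 14668 (.leaf 0x0) (.leaf 0x0)))) (.node 14671 (.node 14670 (.leaf 0x0) (.leaf 0x102090003)) (.node 14672 (.leaf 0x108060003) (.node 14673 (.leaf 0x0) (.leaf 0x0))))) (.node 14679 (.node 14676 (.node 14675 (.leaf 0x0) (.leaf 0xf100f0d0e0005)) (.node 14677 (.leaf 0x0) (.node 14678 (.leaf 0x0) (.leaf 0x0)))) (.node 14681 (.node 14680 (.leaf 0x0) (.leaf 0x0)) (.node 14682 (.leaf 0x0) (.node 14683 (.leaf 0x0) (.leaf 0x300070705080006))))))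

def argWS_1438 : Store := (.node 14694 (.node 14689 (.node 14686 (.node 14685 (.leaf 0x80001) (.leaf 0x2010709080005)) (.node 14687 (.leaf 0x0) (.node 14688 (.leaf 0x0) (.leaf 0x0)))) (.node 14691 (.node 14690 (.leaf 0xa0e0002) (.leaf 0x1080002)) (.node 14692 (.leaf 0x0) (.node 14693 (.leaf 0x0) (.leaf 0xa0e0002))))) (.node 14699 (.node 14696 (.node 14695 (.leaf 0x8050002) (.leaf 0x100050705080006)) (.node 14697 (.leaf 0x0) (.node 14698 (.leaf 0x0) (.leaf 0x0)))) (.node 14701 (.node 14700 (.leaf 0x0) (.leaf 0x3040106070705080008)) (.node 14702 (.leaf 0x10008060607090007) (.node 14703 (.leaf 0x0) (.leaf 0x0))))))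

def argWS_1439 : Store := (.node 14684 argWS_1437 argWS_1438)

def argWS_1440 : Store := (.node 14714 (.node 14709 (.node 14706 (.node 14705 (.leaf 0x0) (.leaf 0x110c0f0c0004)) (.node 14707 (.leaf 0x0) (.node 14708 (.leaf 0x0) (.leaf 0x0)))) (.node 14711 (.node 14710 (.leaf 0x102090003) (.leaf 0x1070002)) (.node 14712 (.leaf 0x0) (.node 14713 (.leaf 0x0) (.leaf 0x0))))) (.node 14719 (.node 14716 (.node 14715 (.leaf 0x100f0002) (.leaf 0xc100c0003)) (.node 14717 (.leaf 0x0) (.node 14718 (.leaf 0x0) (.leaf 0x0)))) (.node 14721 (.node 14720 (.leaf 0x0) (.leaf 0x3020107050705080008)) (.node 14722 (.leaf 0xd100002) (.node 14723 (.leaf 0x0) (.leaf 0x0))))))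

def argWS_1441 : Store := (.node 14734 (.node 14729 (.node 14726 (.node 14725 (.leaf 0x0) (.leaf 0x10001)) (.node 14727 (.leaf 0x0) (.node 14728 (.leaf 0x0) (.leaf 0x20709080004)))) (.node 14731 (.node 14730 (.leaf 0x408050003) (.leaf 0x0)) (.node 14732 (.leaf 0x0) (.node 14733 (.leaf 0x0) (.leaf 0xb0f0c0003))))) (.node 14739 (.node 14736 (.node 14735 (.leaf 0x0) (.leaf 0x108060003)) (.node 14737 (.leaf 0x0) (.node 14738 (.leaf 0x0) (.leaf 0xb0a0d0e0004)))) (.node 14742 (.node 14740 (.leaf 0x0) (.node 14741 (.leaf 0x0) (.leaf 0x0))) (.node 14743 (.leaf 0x0) (.node 14744 (.leaf 0x60705080004) (.leaf 0x80001))))))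

def argWS_1442 : Store := (.node 14724 argWS_1440 argWS_1441)

def argWS_1443 : Store := (.node 14704 argWS_1439 argWS_1442)

def argWS_1444 : Store := (.node 14755 (.node 14750 (.node 14747 (.node 14746 (.leaf 0x0) (.leaf 0x0)) (.node 14748 (.leaf 0xf100d0d0e0005) (.node 14749 (.leaf 0x0) (.leaf 0x0)))) (.node 14752 (.node 14751 (.leaf 0x0) (.leaf 0x70201060004)) (.node 14753 (.leaf 0x1080002) (.node 14754 (.leaf 0x0) (.leaf 0x0))))) (.node 14760 (.node 14757 (.node 14756 (.leaf 0x100b0d0f0c0005) (.leaf 0x0)) (.node 14758 (.leaf 0x0) (.node 14759 (.leaf 0x0) (.leaf 0xe100e0003)))) (.node 14762 (.node 14761 (.leaf 0xe110e0003) (.leaf 0xb0a0d0e0004)) (.node 14763 (.leaf 0xc100c0003) (.node 14764 (.leaf 0x0) (.leaf 0xd110f0f0c0005))))))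

def argWS_1445 : Store := (.node 14775 (.node 14770 (.node 14767 (.node 14766 (.leaf 0x0) (.leaf 0x0)) (.node 14768 (.leaf 0x4000709080607090008) (.node 14769 (.leaf 0x0) (.leaf 0x0)))) (.node 14772 (.node 14771 (.leaf 0x100f0002) (.leaf 0x0)) (.node 14773 (.leaf 0x10001) (.node 14774 (.leaf 0x0) (.leaf 0x4030507060607090008))))) (.node 14780 (.node 14777 (.node 14776 (.leaf 0x0) (.leaf 0x0)) (.node 14778 (.leaf 0x0) (.node 14779 (.leaf 0x30105070607090007) (.leaf 0x2030106070607090008)))) (.node 14783 (.node 14781 (.leaf 0x0) (.node 14782 (.leaf 0x0) (.leaf 0x0))) (.node 14784 (.leaf 0x110d0002) (.node 14785 (.leaf 0x0) (.leaf 0x10001))))))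

def argWS_1446 : Store := (.node 14765 argWS_1444 argWS_1445)

def argWS_1447 : Store := (.node 14796 (.node 14791 (.node 14788 (.node 14787 (.leaf 0x10001) (.leaf 0x0)) (.node 14789 (.leaf 0x0) (.node 14790 (.leaf 0x0) (.leaf 0xd100f0c0004)))) (.node 14793 (.node 14792 (.leaf 0x0) (.leaf 0x0)) (.node 14794 (.leaf 0x0) (.node 14795 (.leaf 0x507050705080006) (.leaf 0x0))))) (.node 14801 (.node 14798 (.node 14797 (.leaf 0x20709080004) (.leaf 0x20709080004)) (.node 14799 (.leaf 0x0) (.node 14800 (.leaf 0x0) (.leaf 0x0)))) (.node 14803 (.node 14802 (.leaf 0x0) (.leaf 0x8050002)) (.node 14804 (.leaf 0x70108050705080007) (.node 14805 (.leaf 0x0) (.leaf 0x204070003))))))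

def argWS_1448 : Store := (.node 14816 (.node 14811 (.node 14808 (.node 14807 (.leaf 0x0) (.leaf 0x0)) (.node 14809 (.leaf 0x0) (.node 14810 (.leaf 0xd110002) (.leaf 0x108050003)))) (.node 14813 (.node 14812 (.leaf 0x7020108050705080008) (.leaf 0x0)) (.node 14814 (.leaf 0x20007060004) (.node 14815 (.leaf 0x0) (.leaf 0x0))))) (.node 14821 (.node 14818 (.node 14817 (.leaf 0x0) (.leaf 0xf100d0f0c0005)) (.node 14819 (.leaf 0x0) (.node 14820 (.leaf 0x80001) (.leaf 0x701070905080006)))) (.node 14824 (.node 14822 (.leaf 0x0) (.node 14823 (.leaf 0x7010209080607090008) (.leaf 0x0))) (.node 14825 (.leaf 0x0) (.node 14826 (.leaf 0x0) (.leaf 0xf100b0f0c0005))))))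

def argWS_1449 : Store := (.node 14806 argWS_1447 argWS_1448)

def argWS_1450 : Store := (.node 14786 argWS_1446 argWS_1449)

def argWS_1451 : Store := (.node 14745 argWS_1443 argWS_1450)

def argWS_1452 : Store := (.node 14837 (.node 14832 (.node 14829 (.node 14828 (.leaf 0x1080002) (.leaf 0x70201070905080007)) (.node 14830 (.leaf 0x0) (.node 14831 (.leaf 0x20308060607090007) (.leaf 0x0)))) (.node 14834 (.node 14833 (.leaf 0x0) (.leaf 0x0)) (.node 14835 (.leaf 0xe100c0003) (.node 14836 (.leaf 0x40607050705080007) (.leaf 0x0))))) (.node 14842 (.node 14839 (.node 14838 (.leaf 0x0) (.leaf 0x0)) (.node 14840 (.leaf 0x110b0e0003) (.node 14841 (.leaf 0x10001) (.leaf 0x1040607050705080008)))) (.node 14844 (.node 14843 (.leaf 0x0) (.leaf 0x0)) (.node 14845 (.leaf 0x0) (.node 14846 (.leaf 0x110b0e0003) (.leaf 0x70001))))))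

def argWS_1453 : Store := (.node 14857 (.node 14852 (.node 14849 (.node 14848 (.leaf 0x3080905080005) (.leaf 0x0)) (.node 14850 (.leaf 0x0) (.node 14851 (.leaf 0x0) (.leaf 0xd100d0f0c0005)))) (.node 14854 (.node 14853 (.leaf 0x1070002) (.leaf 0x103080905080006)) (.node 14855 (.leaf 0x0) (.node 14856 (.leaf 0x0) (.leaf 0x0))))) (.node 14862 (.node 14859 (.node 14858 (.leaf 0xb0c0f0c0004) (.leaf 0x0)) (.node 14860 (.leaf 0x8060002) (.node 14861 (.leaf 0x70109080004) (.leaf 0x0)))) (.node 14864 (.node 14863 (.leaf 0x0) (.leaf 0x0)) (.node 14865 (.leaf 0xc100b0f0004) (.node 14866 (.leaf 0x108060003) (.leaf 0x7020109080005))))))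

def argWS_1454 : Store := (.node 14847 argWS_1452 argWS_1453)

def argWS_1455 : Store := (.node 14877 (.node 14872 (.node 14869 (.node 14868 (.leaf 0x0) (.leaf 0x0)) (.node 14870 (.leaf 0x0) (.node 14871 (.leaf 0xb0a0f0d0e0005) (.leaf 0x0)))) (.node 14874 (.node 14873 (.leaf 0x1070002) (.leaf 0x0)) (.node 14875 (.leaf 0x0) (.node 14876 (.leaf 0x0) (.leaf 0xf0001))))) (.node 14882 (.node 14879 (.node 14878 (.leaf 0x8050002) (.leaf 0x0)) (.node 14880 (.leaf 0x0) (.node 14881 (.leaf 0x0) (.leaf 0xf100c0f0c0005)))) (.node 14884 (.node 14883 (.leaf 0x10001) (.leaf 0x10001)) (.node 14885 (.leaf 0x0) (.node 14886 (.leaf 0x0) (.leaf 0x0))))))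

def argWS_1456 : Store := (.node 14897 (.node 14892 (.node 14889 (.node 14888 (.leaf 0xd110e0003) (.leaf 0x0)) (.node 14890 (.leaf 0x8060002) (.node 14891 (.leaf 0x0) (.leaf 0x0)))) (.node 14894 (.node 14893 (.leaf 0xb0a0f0d0e0005) (.leaf 0x0)) (.node 14895 (.leaf 0x0) (.node 14896 (.leaf 0x0) (.leaf 0x20305070004))))) (.node 14902 (.node 14899 (.node 14898 (.leaf 0x80001) (.leaf 0x0)) (.node 14900 (.leaf 0x0) (.node 14901 (.leaf 0x0) (.leaf 0x50707090004)))) (.node 14905 (.node 14903 (.leaf 0x70102060709080007) (.node 14904 (.leaf 0x0) (.leaf 0x0))) (.node 14906 (.leaf 0x0) (.node 14907 (.leaf 0xe100d0e0004) (.leaf 0x108060003))))))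

def argWS_1457 : Store := (.node 14887 argWS_1455 argWS_1456)

def argWS_1458 : Store := (.node 14867 argWS_1454 argWS_1457)

def argWS_1459 : Store := (.node 14918 (.node 14913 (.node 14910 (.node 14909 (.leaf 0x107050003) (.leaf 0x0)) (.node 14911 (.leaf 0x0) (.node 14912 (.leaf 0x0) (.leaf 0xe110f0003)))) (.node 14915 (.node 14914 (.leaf 0x0) (.leaf 0x0)) (.node 14916 (.leaf 0x0) (.node 14917 (.leaf 0x3080607090005) (.leaf 0x10001))))) (.node 14923 (.node 14920 (.node 14919 (.leaf 0x0) (.leaf 0x0)) (.node 14921 (.leaf 0x0) (.node 14922 (.leaf 0x701080003) (.leaf 0x1050709080607090008)))) (.node 14925 (.node 14924 (.leaf 0x0) (.leaf 0xe110f0f0c0005)) (.node 14926 (.leaf 0x0) (.node 14927 (.leaf 0x0) (.leaf 0x0))))))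

def argWS_1460 : Store := (.node 14938 (.node 14933 (.node 14930 (.node 14929 (.leaf 0x0) (.leaf 0x10001)) (.node 14931 (.leaf 0x108050003) (.node 14932 (.leaf 0x0) (.leaf 0x0)))) (.node 14935 (.node 14934 (.leaf 0x0) (.leaf 0x701080003)) (.node 14936 (.leaf 0x10507060705080007) (.node 14937 (.leaf 0x0) (.leaf 0xf0001))))) (.node 14943 (.node 14940 (.node 14939 (.leaf 0x0) (.leaf 0x0)) (.node 14941 (.leaf 0x0) (.node 14942 (.leaf 0x0) (.leaf 0x103070705080006)))) (.node 14946 (.node 14944 (.leaf 0x108060003) (.node 14945 (.leaf 0x0) (.leaf 0x0))) (.node 14947 (.leaf 0x0) (.node 14948 (.leaf 0x701080003) (.leaf 0x109080607090006))))))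

def argWS_1461 : Store := (.node 14928 argWS_1459 argWS_1460)

def argWS_1462 : Store := (.node 14959 (.node 14954 (.node 14951 (.node 14950 (.leaf 0x0) (.leaf 0xf0d0e0003)) (.node 14952 (.leaf 0x0) (.node 14953 (.leaf 0x0) (.leaf 0x0)))) (.node 14956 (.node 14955 (.leaf 0x0) (.leaf 0x20005070004)) (.node 14957 (.leaf 0x1080002) (.node 14958 (.leaf 0x0) (.leaf 0x0))))) (.node 14964 (.node 14961 (.node 14960 (.leaf 0x0) (.leaf 0xd0e0002)) (.node 14962 (.leaf 0x0) (.node 14963 (.leaf 0x0) (.leaf 0x0)))) (.node 14966 (.node 14965 (.leaf 0x0) (.leaf 0x30207090004)) (.node 14967 (.leaf 0x10001) (.node 14968 (.leaf 0x10001) (.leaf 0x0))))))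

def argWS_1463 : Store := (.node 14979 (.node 14974 (.node 14971 (.node 14970 (.leaf 0x0) (.leaf 0x0)) (.node 14972 (.leaf 0x110d0e0003) (.node 14973 (.leaf 0x0) (.leaf 0x0)))) (.node 14976 (.node 14975 (.leaf 0x0) (.leaf 0x0)) (.node 14977 (.leaf 0x30207090004) (.node 14978 (.leaf 0x4060705080005) (.leaf 0x0))))) (.node 14984 (.node 14981 (.node 14980 (.leaf 0x0) (.leaf 0x110d0d0e0004)) (.node 14982 (.leaf 0x10008060004) (.node 14983 (.leaf 0x0) (.leaf 0x0)))) (.node 14987 (.node 14985 (.leaf 0x0) (.node 14986 (.leaf 0xb0a0f0d0e0005) (.leaf 0x10001))) (.node 14988 (.leaf 0x8060003) (.node 14989 (.leaf 0x0) (.leaf 0x10001))))))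

def argWS_1464 : Store := (.node 14969 argWS_1462 argWS_1463)

def argWS_1465 : Store := (.node 14949 argWS_1461 argWS_1464)

def argWS_1466 : Store := (.node 14908 argWS_1458 argWS_1465)

def argWS_1467 : Store := (.node 14827 argWS_1451 argWS_1466)

def argWS_1468 : Store := (.node 14664 argWS_1436 argWS_1467)

def argWS_1469 : Store := (.node 15000 (.node 14995 (.node 14992 (.node 14991 (.leaf 0x0) (.leaf 0x0)) (.node 14993 (.leaf 0x0) (.node 14994 (.leaf 0xc100b0f0004) (.leaf 0x8060002)))) (.node 14997 (.node 14996 (.leaf 0x30006070905080007) (.leaf 0x0)) (.node 14998 (.leaf 0x0) (.node 14999 (.leaf 0x0) (.leaf 0x100b0c0003))))) (.node 15005 (.node 15002 (.node 15001 (.leaf 0x0) (.leaf 0x108060003)) (.node 15003 (.leaf 0x30106070905080007) (.node 15004 (.leaf 0x0) (.leaf 0x0)))) (.node 15007 (.node 15006 (.leaf 0x0) (.leaf 0xe110f0c0004)) (.node 15008 (.leaf 0x80001) (.node 15009 (.leaf 0x0) (.leaf 0x0))))))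

def argWS_1470 : Store := (.node 15020 (.node 15015 (.node 15012 (.node 15011 (.leaf 0x100b0c0f0c0005) (.leaf 0x0)) (.node 15013 (.leaf 0x0) (.node 15014 (.leaf 0x0) (.leaf 0x70001)))) (.node 15017 (.node 15016 (.leaf 0x0) (.leaf 0x0)) (.node 15018 (.leaf 0xf100d0d0e0005) (.node 15019 (.leaf 0x0) (.leaf 0x0))))) (.node 15025 (.node 15022 (.node 15021 (.leaf 0x0) (.leaf 0x1080002)) (.node 15023 (.leaf 0x0) (.node 15024 (.leaf 0x0) (.leaf 0xf100f0d0e0005)))) (.node 15027 (.node 15026 (.leaf 0x0) (.leaf 0x0)) (.node 15028 (.leaf 0x0) (.node 15029 (.leaf 0x1070002) (.leaf 0x0))))))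

def argWS_1471 : Store := (.node 15010 argWS_1469 argWS_1470)

def argWS_1472 : Store := (.node 15040 (.node 15035 (.node 15032 (.node 15031 (.leaf 0x0) (.leaf 0x100b0d0f0c0005)) (.node 15033 (.leaf 0x0) (.node 15034 (.leaf 0x0) (.leaf 0x0)))) (.node 15037 (.node 15036 (.leaf 0x0) (.leaf 0x0)) (.node 15038 (.leaf 0xd100d0d0e0005) (.node 15039 (.leaf 0x10001) (.leaf 0x10001))))) (.node 15045 (.node 15042 (.node 15041 (.leaf 0x0) (.leaf 0x0)) (.node 15043 (.leaf 0x0) (.node 15044 (.leaf 0xd100d0d0e0005) (.leaf 0x8060002)))) (.node 15047 (.node 15046 (.leaf 0x0) (.leaf 0x0)) (.node 15048 (.leaf 0xb0f0d0e0004) (.node 15049 (.leaf 0x108060003) (.leaf 0x0))))))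

def argWS_1473 : Store := (.node 15060 (.node 15055 (.node 15052 (.node 15051 (.leaf 0x0) (.leaf 0xf100b0d0e0005)) (.node 15053 (.leaf 0x0) (.node 15054 (.leaf 0x0) (.leaf 0x0)))) (.node 15057 (.node 15056 (.leaf 0x0) (.leaf 0x4020109080607090008)) (.node 15058 (.leaf 0x0) (.node 15059 (.leaf 0x0) (.leaf 0x0))))) (.node 15065 (.node 15062 (.node 15061 (.leaf 0x0) (.leaf 0x3020705080005)) (.node 15063 (.leaf 0xb0d0e0003) (.node 15064 (.leaf 0x0) (.leaf 0x1080002)))) (.node 15068 (.node 15066 (.leaf 0x40208060607090007) (.node 15067 (.leaf 0x0) (.leaf 0x0))) (.node 15069 (.leaf 0x0) (.node 15070 (.leaf 0x100b0f0c0004) (.leaf 0x0))))))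

def argWS_1474 : Store := (.node 15050 argWS_1472 argWS_1473)

def argWS_1475 : Store := (.node 15030 argWS_1471 argWS_1474)

def argWS_1476 : Store := (.node 15081 (.node 15076 (.node 15073 (.node 15072 (.leaf 0x0) (.leaf 0x0)) (.node 15074 (.leaf 0x701000809080607090009) (.node 15075 (.leaf 0x90001) (.leaf 0x0)))) (.node 15078 (.node 15077 (.leaf 0x0) (.leaf 0xb0a0d0d0e0005)) (.node 15079 (.leaf 0x0) (.node 15080 (.leaf 0x0) (.leaf 0x0))))) (.node 15086 (.node 15083 (.node 15082 (.leaf 0x0) (.leaf 0x302060705080006)) (.node 15084 (.leaf 0x10001) (.node 15085 (.leaf 0x0) (.leaf 0x0)))) (.node 15088 (.node 15087 (.leaf 0xe110d0e0004) (.leaf 0x0)) (.node 15089 (.leaf 0x0) (.node 15090 (.leaf 0x0) (.leaf 0x10001))))))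

def argWS_1477 : Store := (.node 15101 (.node 15096 (.node 15093 (.node 15092 (.leaf 0x2030507060705080008) (.leaf 0x0)) (.node 15094 (.leaf 0x0) (.node 15095 (.leaf 0x0) (.leaf 0xf100f0003)))) (.node 15098 (.node 15097 (.leaf 0x0) (.leaf 0x10001)) (.node 15099 (.leaf 0x203010507060705080009) (.node 15100 (.leaf 0x0) (.leaf 0x10001))))) (.node 15106 (.node 15103 (.node 15102 (.leaf 0x0) (.leaf 0x0)) (.node 15104 (.leaf 0x0) (.node 15105 (.leaf 0xc100d0e0004) (.leaf 0x0)))) (.node 15109 (.node 15107 (.leaf 0x0) (.node 15108 (.leaf 0x6070607090005) (.leaf 0x10001))) (.node 15110 (.leaf 0x0) (.node 15111 (.leaf 0x0) (.leaf 0x0))))))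

def argWS_1478 : Store := (.node 15091 argWS_1476 argWS_1477)

def argWS_1479 : Store := (.node 15122 (.node 15117 (.node 15114 (.node 15113 (.leaf 0xf100b0d0e0005) (.leaf 0x0)) (.node 15115 (.leaf 0x108050003) (.node 15116 (.leaf 0x0) (.leaf 0x100f0002)))) (.node 15119 (.node 15118 (.leaf 0x0) (.leaf 0x40008050705080007)) (.node 15120 (.leaf 0x0) (.node 15121 (.leaf 0x0) (.leaf 0xb0001))))) (.node 15127 (.node 15124 (.node 15123 (.leaf 0x0) (.leaf 0x102090003)) (.node 15125 (.leaf 0x108060003) (.node 15126 (.leaf 0x0) (.leaf 0x0)))) (.node 15129 (.node 15128 (.leaf 0x0) (.leaf 0xf100f0d0e0005)) (.node 15130 (.leaf 0xd110d0f0c0005) (.node 15131 (.leaf 0x80001) (.leaf 0x0))))))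

def argWS_1480 : Store := (.node 15142 (.node 15137 (.node 15134 (.node 15133 (.leaf 0x0) (.leaf 0x0)) (.node 15135 (.leaf 0x0) (.node 15136 (.leaf 0x0) (.leaf 0x0)))) (.node 15139 (.node 15138 (.leaf 0x208050003) (.leaf 0x0)) (.node 15140 (.leaf 0x0) (.node 15141 (.leaf 0x110001) (.leaf 0x0))))) (.node 15147 (.node 15144 (.node 15143 (.leaf 0x0) (.leaf 0x0)) (.node 15145 (.leaf 0x0) (.node 15146 (.leaf 0x0) (.leaf 0x0)))) (.node 15150 (.node 15148 (.leaf 0x3040106070705080008) (.node 15149 (.leaf 0x1020707090005) (.leaf 0x0))) (.node 15151 (.leaf 0x0) (.node 15152 (.leaf 0x0) (.leaf 0x100b0f0f0c0005))))))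

def argWS_1481 : Store := (.node 15132 argWS_1479 argWS_1480)

def argWS_1482 : Store := (.node 15112 argWS_1478 argWS_1481)

def argWS_1483 : Store := (.node 15071 argWS_1475 argWS_1482)

def argWS_1484 : Store := (.node 15163 (.node 15158 (.node 15155 (.node 15154 (.leaf 0x2060705080005) (.leaf 0x0)) (.node 15156 (.leaf 0x0) (.node 15157 (.leaf 0x0) (.leaf 0x70109080607090007)))) (.node 15160 (.node 15159 (.leaf 0x0) (.leaf 0x1080002)) (.node 15161 (.leaf 0x0) (.node 15162 (.leaf 0x0) (.leaf 0xd100e0003))))) (.node 15168 (.node 15165 (.node 15164 (.leaf 0x104050003) (.leaf 0x0)) (.node 15166 (.leaf 0x0) (.node 15167 (.leaf 0xa0d0002) (.leaf 0x1080002)))) (.node 15170 (.node 15169 (.leaf 0x0) (.leaf 0x0)) (.node 15171 (.leaf 0x0) (.node 15172 (.leaf 0x304070905080006) (.leaf 0x402050709080607090009))))))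

def argWS_1485 : Store := (.node 15183 (.node 15178 (.node 15175 (.node 15174 (.leaf 0x0) (.leaf 0xa0e0002)) (.node 15176 (.leaf 0x0) (.node 15177 (.leaf 0x0) (.leaf 0x0)))) (.node 15180 (.node 15179 (.leaf 0x0) (.leaf 0x1070002)) (.node 15181 (.leaf 0x0) (.node 15182 (.leaf 0x0) (.leaf 0xa0c0002))))) (.node 15188 (.node 15185 (.node 15184 (.leaf 0x0) (.leaf 0x0)) (.node 15186 (.leaf 0x0) (.node 15187 (.leaf 0x1080002) (.leaf 0x701000003)))) (.node 15190 (.node 15189 (.leaf 0x0) (.leaf 0x0)) (.node 15191 (.leaf 0x0) (.node 15192 (.leaf 0xb0a0d0f0c0005) (.leaf 0x0))))))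

def argWS_1486 : Store := (.node 15173 argWS_1484 argWS_1485)

def argWS_1487 : Store := (.node 15203 (.node 15198 (.node 15195 (.node 15194 (.leaf 0x1080002) (.leaf 0x0)) (.node 15196 (.leaf 0x0) (.node 15197 (.leaf 0xe100d0f0c0005) (.leaf 0x8050002)))) (.node 15200 (.node 15199 (.leaf 0x0) (.leaf 0x0)) (.node 15201 (.leaf 0x110c0002) (.node 15202 (.leaf 0x0) (.leaf 0x0))))) (.node 15208 (.node 15205 (.node 15204 (.leaf 0x0) (.leaf 0x108050003)) (.node 15206 (.leaf 0x0) (.node 15207 (.leaf 0x0) (.leaf 0xc100c0003)))) (.node 15210 (.node 15209 (.leaf 0x0) (.leaf 0x0)) (.node 15211 (.leaf 0x0) (.node 15212 (.leaf 0x6070705080006) (.leaf 0x8060002))))))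

def argWS_1488 : Store := (.node 15223 (.node 15218 (.node 15215 (.node 15214 (.leaf 0x0) (.leaf 0x0)) (.node 15216 (.leaf 0x0) (.node 15217 (.leaf 0xa0001) (.leaf 0x0)))) (.node 15220 (.node 15219 (.leaf 0x6070705080006) (.leaf 0x108050003)) (.node 15221 (.leaf 0x0) (.node 15222 (.leaf 0xe100f0f0c0005) (.leaf 0x0))))) (.node 15228 (.node 15225 (.node 15224 (.leaf 0x0) (.leaf 0x0)) (.node 15226 (.leaf 0x0) (.node 15227 (.leaf 0x1080002) (.leaf 0x0)))) (.node 15231 (.node 15229 (.leaf 0x0) (.node 15230 (.leaf 0xb0a0d0003) (.leaf 0x0))) (.node 15232 (.leaf 0x0) (.node 15233 (.leaf 0x0) (.leaf 0x0))))))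

def argWS_1489 : Store := (.node 15213 argWS_1487 argWS_1488)

def argWS_1490 : Store := (.node 15193 argWS_1486 argWS_1489)

def argWS_1491 : Store := (.node 15244 (.node 15239 (.node 15236 (.node 15235 (.leaf 0x20307090004) (.leaf 0x0)) (.node 15237 (.leaf 0x20709080004) (.node 15238 (.leaf 0x402010809080607090009) (.leaf 0x0)))) (.node 15241 (.node 15240 (.leaf 0x0) (.leaf 0x0)) (.node 15242 (.leaf 0x110d0d0e0004) (.node 15243 (.leaf 0x20809080607090007) (.leaf 0x0))))) (.node 15249 (.node 15246 (.node 15245 (.leaf 0x0) (.leaf 0xc100b0c0004)) (.node 15247 (.leaf 0x70001) (.node 15248 (.leaf 0x0) (.leaf 0x0)))) (.node 15251 (.node 15250 (.leaf 0xf100f0003) (.leaf 0x0)) (.node 15252 (.leaf 0x0) (.node 15253 (.leaf 0x0) (.leaf 0x304090003))))))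

def argWS_1492 : Store := (.node 15264 (.node 15259 (.node 15256 (.node 15255 (.leaf 0xf100d0003) (.leaf 0x0)) (.node 15257 (.leaf 0x0) (.node 15258 (.leaf 0xb0a0c0f0c0005) (.leaf 0x10001)))) (.node 15261 (.node 15260 (.leaf 0x0) (.leaf 0x0)) (.node 15262 (.leaf 0xd110d0f0c0005) (.node 15263 (.leaf 0x1070002) (.leaf 0x2040108060607090008))))) (.node 15269 (.node 15266 (.node 15265 (.leaf 0x0) (.leaf 0x0)) (.node 15267 (.leaf 0x0) (.node 15268 (.leaf 0xf100b0f0c0005) (.leaf 0x8050002)))) (.node 15272 (.node 15270 (.leaf 0x3020108060705080008) (.node 15271 (.leaf 0x0) (.leaf 0x0))) (.node 15273 (.leaf 0x0) (.node 15274 (.leaf 0xb0a0c0003) (.leaf 0x0))))))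

def argWS_1493 : Store := (.node 15254 argWS_1491 argWS_1492)

def argWS_1494 : Store := (.node 15285 (.node 15280 (.node 15277 (.node 15276 (.leaf 0x0) (.leaf 0x0)) (.node 15278 (.leaf 0x0) (.node 15279 (.leaf 0x102070607090006) (.leaf 0xb0d0d0e0004)))) (.node 15282 (.node 15281 (.leaf 0x8060002) (.leaf 0x0)) (.node 15283 (.leaf 0x0) (.node 15284 (.leaf 0xf100b0d0004) (.leaf 0x108060003))))) (.node 15290 (.node 15287 (.node 15286 (.leaf 0x0) (.leaf 0x0)) (.node 15288 (.leaf 0x0) (.node 15289 (.leaf 0x0) (.leaf 0x40001)))) (.node 15292 (.node 15291 (.leaf 0x108050003) (.leaf 0x0)) (.node 15293 (.leaf 0x0) (.node 15294 (.leaf 0x0) (.leaf 0xe100f0003))))))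

def argWS_1495 : Store := (.node 15305 (.node 15300 (.node 15297 (.node 15296 (.leaf 0xa0001) (.leaf 0x10001)) (.node 15298 (.leaf 0x0) (.node 15299 (.leaf 0x0) (.leaf 0x0)))) (.node 15302 (.node 15301 (.leaf 0x0) (.leaf 0x0)) (.node 15303 (.leaf 0x0) (.node 15304 (.leaf 0x30109080004) (.leaf 0x0))))) (.node 15310 (.node 15307 (.node 15306 (.leaf 0x0) (.leaf 0x0)) (.node 15308 (.leaf 0x0) (.node 15309 (.leaf 0x104060705080006) (.leaf 0x108050003)))) (.node 15313 (.node 15311 (.leaf 0x7010005070908060709000a) (.node 15312 (.leaf 0x0) (.leaf 0x0))) (.node 15314 (.leaf 0x0) (.node 15315 (.leaf 0xd100002) (.leaf 0x0))))))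

def argWS_1496 : Store := (.node 15295 argWS_1494 argWS_1495)

def argWS_1497 : Store := (.node 15275 argWS_1493 argWS_1496)

def argWS_1498 : Store := (.node 15234 argWS_1490 argWS_1497)

def argWS_1499 : Store := (.node 15153 argWS_1483 argWS_1498)

def argWS_1500 : Store := (.node 15326 (.node 15321 (.node 15318 (.node 15317 (.leaf 0x1070002) (.leaf 0x0)) (.node 15319 (.leaf 0x0) (.node 15320 (.leaf 0x0) (.leaf 0xc100b0f0004)))) (.node 15323 (.node 15322 (.leaf 0x0) (.leaf 0x108050003)) (.node 15324 (.leaf 0x0) (.node 15325 (.leaf 0xd110d0f0c0005) (.leaf 0x8060002))))) (.node 15331 (.node 15328 (.node 15327 (.leaf 0x0) (.leaf 0x0)) (.node 15329 (.leaf 0xf100d0d0e0005) (.node 15330 (.leaf 0x0) (.leaf 0x108060003)))) (.node 15333 (.node 15332 (.leaf 0x0) (.leaf 0x0)) (.node 15334 (.leaf 0x100b0d0f0c0005) (.node 15335 (.leaf 0x80001) (.leaf 0x0))))))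

def argWS_1501 : Store := (.node 15346 (.node 15341 (.node 15338 (.node 15337 (.leaf 0x0) (.leaf 0x100f0c0003)) (.node 15339 (.leaf 0x8050002) (.node 15340 (.leaf 0x0) (.leaf 0x0)))) (.node 15343 (.node 15342 (.leaf 0x0) (.leaf 0xf100002)) (.node 15344 (.leaf 0x10001) (.node 15345 (.leaf 0x10001) (.leaf 0x0))))) (.node 15351 (.node 15348 (.node 15347 (.leaf 0x0) (.leaf 0x0)) (.node 15349 (.leaf 0xc100f0f0c0005) (.node 15350 (.leaf 0x0) (.leaf 0x108060003)))) (.node 15353 (.node 15352 (.leaf 0x301070705080006) (.leaf 0x0)) (.node 15354 (.leaf 0x0) (.node 15355 (.leaf 0x0) (.leaf 0x0))))))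

def argWS_1502 : Store := (.node 15336 argWS_1500 argWS_1501)

def argWS_1503 : Store := (.node 15366 (.node 15361 (.node 15358 (.node 15357 (.leaf 0x701080003) (.leaf 0x401060003)) (.node 15359 (.leaf 0x0) (.node 15360 (.leaf 0x0) (.leaf 0x0)))) (.node 15363 (.node 15362 (.leaf 0x100c0002) (.leaf 0x0)) (.node 15364 (.leaf 0x0) (.node 15365 (.leaf 0x0) (.leaf 0xc100f0f0c0005))))) (.node 15371 (.node 15368 (.node 15367 (.leaf 0x0) (.leaf 0x0)) (.node 15369 (.leaf 0x0) (.node 15370 (.leaf 0x0) (.leaf 0x209080003)))) (.node 15373 (.node 15372 (.leaf 0x10001) (.leaf 0x0)) (.node 15374 (.leaf 0x0) (.node 15375 (.leaf 0xf100002) (.leaf 0x0))))))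

def argWS_1504 : Store := (.node 15386 (.node 15381 (.node 15378 (.node 15377 (.leaf 0x0) (.leaf 0x0)) (.node 15379 (.leaf 0x10001) (.node 15380 (.leaf 0x8050002) (.leaf 0x0)))) (.node 15383 (.node 15382 (.leaf 0x0) (.leaf 0x110f0002)) (.node 15384 (.leaf 0x2040705080005) (.node 15385 (.leaf 0x0) (.leaf 0x0))))) (.node 15391 (.node 15388 (.node 15387 (.leaf 0x0) (.leaf 0x0)) (.node 15389 (.leaf 0x1040507060607090008) (.node 15390 (.leaf 0x30206070905080007) (.leaf 0x0)))) (.node 15394 (.node 15392 (.leaf 0x0) (.node 15393 (.leaf 0x0) (.leaf 0x300050707090006))) (.node 15395 (.leaf 0x1020905080005) (.node 15396 (.leaf 0x0) (.leaf 0x0))))))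

def argWS_1505 : Store := (.node 15376 argWS_1503 argWS_1504)

def argWS_1506 : Store := (.node 15356 argWS_1502 argWS_1505)

def argWS_1507 : Store := (.node 15407 (.node 15402 (.node 15399 (.node 15398 (.leaf 0xb0d0e0003) (.leaf 0x0)) (.node 15400 (.leaf 0x108060003) (.node 15401 (.leaf 0x30007060607090007) (.leaf 0x0)))) (.node 15404 (.node 15403 (.leaf 0x0) (.leaf 0x0)) (.node 15405 (.leaf 0xc100d0e0004) (.node 15406 (.leaf 0x8060002) (.leaf 0x200060003))))) (.node 15412 (.node 15409 (.node 15408 (.leaf 0x0) (.leaf 0x0)) (.node 15410 (.leaf 0x0) (.node 15411 (.leaf 0xf100f0003) (.leaf 0x8050002)))) (.node 15414 (.node 15413 (.leaf 0x0) (.leaf 0x0)) (.node 15415 (.leaf 0xe100f0c0004) (.node 15416 (.leaf 0x108050003) (.leaf 0x0))))))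

def argWS_1508 : Store := (.node 15427 (.node 15422 (.node 15419 (.node 15418 (.leaf 0x0) (.leaf 0x110b0c0003)) (.node 15420 (.leaf 0x0) (.node 15421 (.leaf 0x40206070607090007) (.leaf 0x0)))) (.node 15424 (.node 15423 (.leaf 0x0) (.leaf 0x104060709080607090009)) (.node 15425 (.leaf 0x0) (.node 15426 (.leaf 0x0) (.leaf 0x10406070705080007))))) (.node 15432 (.node 15429 (.node 15428 (.leaf 0x8050002) (.leaf 0x0)) (.node 15430 (.leaf 0x0) (.node 15431 (.leaf 0x0) (.leaf 0xb0d0e0003)))) (.node 15435 (.node 15433 (.leaf 0x0) (.node 15434 (.leaf 0x0) (.leaf 0xe110e0003))) (.node 15436 (.leaf 0x0) (.node 15437 (.leaf 0xa0d0002) (.leaf 0x0))))))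

def argWS_1509 : Store := (.node 15417 argWS_1507 argWS_1508)

def argWS_1510 : Store := (.node 15448 (.node 15443 (.node 15440 (.node 15439 (.leaf 0x1080002) (.leaf 0x0)) (.node 15441 (.leaf 0x0) (.node 15442 (.leaf 0xf100e0003) (.leaf 0x1070002)))) (.node 15445 (.node 15444 (.leaf 0x7010208050705080008) (.leaf 0x0)) (.node 15446 (.leaf 0x0) (.node 15447 (.leaf 0x0) (.leaf 0x0))))) (.node 15453 (.node 15450 (.node 15449 (.leaf 0xd0d0e0003) (.leaf 0x8060002)) (.node 15451 (.leaf 0x0) (.node 15452 (.leaf 0x0) (.leaf 0xb0d0e0003)))) (.node 15455 (.node 15454 (.leaf 0x108060003) (.leaf 0x0)) (.node 15456 (.leaf 0x0) (.node 15457 (.leaf 0x100b0d0e0004) (.leaf 0xd100002))))))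

def argWS_1511 : Store := (.node 15468 (.node 15463 (.node 15460 (.node 15459 (.leaf 0x0) (.leaf 0x0)) (.node 15461 (.leaf 0x0) (.node 15462 (.leaf 0x0) (.leaf 0x1)))) (.node 15465 (.node 15464 (.leaf 0x8050002) (.leaf 0x4030105070908060709000a)) (.node 15466 (.leaf 0x0) (.node 15467 (.leaf 0x0) (.leaf 0x0))))) (.node 15473 (.node 15470 (.node 15469 (.leaf 0xa0d0e0003) (.leaf 0x1080002)) (.node 15471 (.leaf 0x0) (.node 15472 (.leaf 0x0) (.leaf 0xf100d0003)))) (.node 15476 (.node 15474 (.leaf 0x0) (.node 15475 (.leaf 0x1070002) (.leaf 0x0))) (.node 15477 (.leaf 0x0) (.node 15478 (.leaf 0xa0001) (.leaf 0x8060002))))))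

def argWS_1512 : Store := (.node 15458 argWS_1510 argWS_1511)

def argWS_1513 : Store := (.node 15438 argWS_1509 argWS_1512)

def argWS_1514 : Store := (.node 15397 argWS_1506 argWS_1513)

def argWS_1515 : Store := (.node 15489 (.node 15484 (.node 15481 (.node 15480 (.leaf 0x0) (.leaf 0x0)) (.node 15482 (.leaf 0xa0001) (.node 15483 (.leaf 0x108060003) (.leaf 0x0)))) (.node 15486 (.node 15485 (.leaf 0x0) (.leaf 0xa0001)) (.node 15487 (.leaf 0x8050002) (.node 15488 (.leaf 0x3000809080005) (.leaf 0x0))))) (.node 15494 (.node 15491 (.node 15490 (.leaf 0x3020108060705080008) (.leaf 0x2030106070005)) (.node 15492 (.leaf 0x0) (.node 15493 (.leaf 0x0) (.leaf 0x0)))) (.node 15496 (.node 15495 (.leaf 0x0) (.leaf 0x0)) (.node 15497 (.leaf 0x7010009080607090008) (.node 15498 (.leaf 0x308060003) (.leaf 0x0))))))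

def argWS_1516 : Store := (.node 15509 (.node 15504 (.node 15501 (.node 15500 (.leaf 0x0) (.leaf 0x0)) (.node 15502 (.leaf 0x100e0002) (.node 15503 (.leaf 0x0) (.leaf 0x70001)))) (.node 15506 (.node 15505 (.leaf 0x0) (.leaf 0x0)) (.node 15507 (.leaf 0xa0f0d0e0004) (.node 15508 (.leaf 0x80001) (.leaf 0x0))))) (.node 15514 (.node 15511 (.node 15510 (.leaf 0x0) (.leaf 0xe100f0c0004)) (.node 15512 (.leaf 0x0) (.node 15513 (.leaf 0x0) (.leaf 0x0)))) (.node 15516 (.node 15515 (.leaf 0x1080002) (.leaf 0x0)) (.node 15517 (.leaf 0x0) (.node 15518 (.leaf 0x110b0c0003) (.leaf 0x0))))))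

def argWS_1517 : Store := (.node 15499 argWS_1515 argWS_1516)

def argWS_1518 : Store := (.node 15529 (.node 15524 (.node 15521 (.node 15520 (.leaf 0x0) (.leaf 0x0)) (.node 15522 (.leaf 0x8060002) (.node 15523 (.leaf 0x302060709080607090009) (.leaf 0x0)))) (.node 15526 (.node 15525 (.leaf 0x0) (.leaf 0x0)) (.node 15527 (.leaf 0x0) (.node 15528 (.leaf 0xd100f0d0e0005) (.leaf 0x0))))) (.node 15534 (.node 15531 (.node 15530 (.leaf 0x0) (.leaf 0x0)) (.node 15532 (.leaf 0x201070705080006) (.node 15533 (.leaf 0x8050002) (.leaf 0x0)))) (.node 15536 (.node 15535 (.leaf 0x0) (.leaf 0xe100d0d0e0005)) (.node 15537 (.leaf 0x0) (.node 15538 (.leaf 0x0) (.leaf 0x0))))))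

def argWS_1519 : Store := (.node 15549 (.node 15544 (.node 15541 (.node 15540 (.leaf 0x108060003) (.leaf 0x0)) (.node 15542 (.leaf 0x0) (.node 15543 (.leaf 0x0) (.leaf 0xd100f0d0e0005)))) (.node 15546 (.node 15545 (.leaf 0x0) (.leaf 0x0)) (.node 15547 (.leaf 0x408060705080006) (.node 15548 (.leaf 0x8060002) (.leaf 0x0))))) (.node 15554 (.node 15551 (.node 15550 (.leaf 0x0) (.leaf 0xd110f0f0c0005)) (.node 15552 (.leaf 0x0) (.node 15553 (.leaf 0x0) (.leaf 0x0)))) (.node 15557 (.node 15555 (.leaf 0x10208050705080007) (.node 15556 (.leaf 0x108060003) (.leaf 0x0))) (.node 15558 (.leaf 0x0) (.node 15559 (.leaf 0x0) (.leaf 0x100b0d0003))))))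

def argWS_1520 : Store := (.node 15539 argWS_1518 argWS_1519)

def argWS_1521 : Store := (.node 15519 argWS_1517 argWS_1520)

def argWS_1522 : Store := (.node 15570 (.node 15565 (.node 15562 (.node 15561 (.leaf 0x0) (.leaf 0x1070002)) (.node 15563 (.leaf 0x0) (.node 15564 (.leaf 0x0) (.leaf 0xf100c0f0c0005)))) (.node 15567 (.node 15566 (.leaf 0x403010003) (.leaf 0x0)) (.node 15568 (.leaf 0x0) (.node 15569 (.leaf 0x0) (.leaf 0x0))))) (.node 15575 (.node 15572 (.node 15571 (.leaf 0x108050003) (.leaf 0x0)) (.node 15573 (.leaf 0x0) (.node 15574 (.leaf 0xe100d0f0c0005) (.leaf 0x7010208060705080008)))) (.node 15577 (.node 15576 (.leaf 0x0) (.leaf 0x0)) (.node 15578 (.leaf 0x0) (.node 15579 (.leaf 0x0) (.leaf 0x302050709080607090009))))))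

def argWS_1523 : Store := (.node 15590 (.node 15585 (.node 15582 (.node 15581 (.leaf 0x0) (.leaf 0x0)) (.node 15583 (.leaf 0x0) (.node 15584 (.leaf 0xf100002) (.leaf 0x0)))) (.node 15587 (.node 15586 (.leaf 0x70001) (.leaf 0x20106070004)) (.node 15588 (.leaf 0x0) (.node 15589 (.leaf 0x0) (.leaf 0x0))))) (.node 15595 (.node 15592 (.node 15591 (.leaf 0x100d0e0003) (.leaf 0x0)) (.node 15593 (.leaf 0x8060002) (.node 15594 (.leaf 0x2010507060705080008) (.leaf 0x0)))) (.node 15598 (.node 15596 (.leaf 0x0) (.node 15597 (.leaf 0x0) (.leaf 0x100d0f0c0004))) (.node 15599 (.leaf 0x0) (.node 15600 (.leaf 0x70001) (.leaf 0x0))))))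

def argWS_1524 : Store := (.node 15580 argWS_1522 argWS_1523)

def argWS_1525 : Store := (.node 15611 (.node 15606 (.node 15603 (.node 15602 (.leaf 0x0) (.leaf 0xe110f0c0004)) (.node 15604 (.leaf 0x1070002) (.node 15605 (.leaf 0x0) (.leaf 0x0)))) (.node 15608 (.node 15607 (.leaf 0x100b0c0003) (.leaf 0x0)) (.node 15609 (.leaf 0x0) (.node 15610 (.leaf 0x0) (.leaf 0x0))))) (.node 15616 (.node 15613 (.node 15612 (.leaf 0x100b0002) (.leaf 0x10001)) (.node 15614 (.leaf 0x10001) (.node 15615 (.leaf 0x607060004) (.leaf 0x0)))) (.node 15618 (.node 15617 (.leaf 0x0) (.leaf 0x0)) (.node 15619 (.leaf 0x0) (.node 15620 (.leaf 0x100b0002) (.leaf 0x0))))))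

def argWS_1526 : Store := (.node 15631 (.node 15626 (.node 15623 (.node 15622 (.leaf 0x110b0f0f0c0005) (.leaf 0x1070002)) (.node 15624 (.leaf 0x0) (.node 15625 (.leaf 0x0) (.leaf 0xe100f0c0004)))) (.node 15628 (.node 15627 (.leaf 0x0) (.leaf 0x1090002)) (.node 15629 (.leaf 0x0) (.node 15630 (.leaf 0x0) (.leaf 0x0))))) (.node 15636 (.node 15633 (.node 15632 (.leaf 0x0) (.leaf 0x0)) (.node 15634 (.leaf 0x4020109080607090008) (.node 15635 (.leaf 0x0) (.leaf 0x0)))) (.node 15639 (.node 15637 (.leaf 0x0) (.node 15638 (.leaf 0x0) (.leaf 0x3020705080005))) (.node 15640 (.leaf 0x0) (.node 15641 (.leaf 0x0) (.leaf 0x0))))))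

def argWS_1527 : Store := (.node 15621 argWS_1525 argWS_1526)

def argWS_1528 : Store := (.node 15601 argWS_1524 argWS_1527)

def argWS_1529 : Store := (.node 15560 argWS_1521 argWS_1528)

def argWS_1530 : Store := (.node 15479 argWS_1514 argWS_1529)

def argWS_1531 : Store := (.node 15316 argWS_1499 argWS_1530)

def argWS_1532 : Store := (.node 14990 argWS_1468 argWS_1531)

def argWS_1533 : Store := (.node 14338 argWS_1405 argWS_1532)

def argWS_1534 : Store := (.node 13035 argWS_1278 argWS_1533)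

def argWS_1535 : Store := (.node 15652 (.node 15647 (.node 15644 (.node 15643 (.leaf 0x4020507060607090008) (.leaf 0x4020507060607090008)) (.node 15645 (.leaf 0x0) (.node 15646 (.leaf 0x0) (.leaf 0x0)))) (.node 15649 (.node 15648 (.leaf 0x0) (.leaf 0x1080002)) (.node 15650 (.leaf 0x1020707090005) (.node 15651 (.leaf 0x10009080607090007) (.leaf 0x0))))) (.node 15657 (.node 15654 (.node 15653 (.leaf 0x0) (.leaf 0x0)) (.node 15655 (.leaf 0x0) (.node 15656 (.leaf 0xb0a0d0003) (.leaf 0xf100b0d0004)))) (.node 15659 (.node 15658 (.leaf 0x70001) (.leaf 0x0)) (.node 15660 (.leaf 0x0) (.node 15661 (.leaf 0x70001) (.leaf 0x7020107050005))))))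

def argWS_1536 : Store := (.node 15672 (.node 15667 (.node 15664 (.node 15663 (.leaf 0x0) (.leaf 0x0)) (.node 15665 (.leaf 0x0) (.node 15666 (.leaf 0xf100c0f0c0005) (.leaf 0x0)))) (.node 15669 (.node 15668 (.leaf 0x0) (.leaf 0x0)) (.node 15670 (.leaf 0x4000809080005) (.node 15671 (.leaf 0x108060003) (.leaf 0x0))))) (.node 15677 (.node 15674 (.node 15673 (.leaf 0x0) (.leaf 0x0)) (.node 15675 (.leaf 0xe110f0d0e0005) (.node 15676 (.leaf 0x0) (.leaf 0x10001)))) (.node 15679 (.node 15678 (.leaf 0x10001) (.leaf 0x0)) (.node 15680 (.leaf 0x0) (.node 15681 (.leaf 0x0) (.leaf 0xc100b0d0d0e0006))))))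

def argWS_1537 : Store := (.node 15662 argWS_1535 argWS_1536)

def argWS_1538 : Store := (.node 15692 (.node 15687 (.node 15684 (.node 15683 (.leaf 0x0) (.leaf 0x80001)) (.node 15685 (.leaf 0x1040507060005) (.node 15686 (.leaf 0x0) (.leaf 0x0)))) (.node 15689 (.node 15688 (.leaf 0x0) (.leaf 0x0)) (.node 15690 (.leaf 0x100d0002) (.node 15691 (.leaf 0x0) (.leaf 0x8060002))))) (.node 15697 (.node 15694 (.node 15693 (.leaf 0x0) (.leaf 0x0)) (.node 15695 (.leaf 0x0) (.node 15696 (.leaf 0xd110f0c0004) (.leaf 0x0)))) (.node 15699 (.node 15698 (.leaf 0x108050003) (.leaf 0x0)) (.node 15700 (.leaf 0x0) (.node 15701 (.leaf 0xa0c0002) (.leaf 0x0))))))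

def argWS_1539 : Store := (.node 15712 (.node 15707 (.node 15704 (.node 15703 (.leaf 0x402010705080006) (.leaf 0x0)) (.node 15705 (.leaf 0x0) (.node 15706 (.leaf 0x0) (.leaf 0x20709080004)))) (.node 15709 (.node 15708 (.leaf 0x1080002) (.leaf 0x0)) (.node 15710 (.leaf 0x0) (.node 15711 (.leaf 0x0) (.leaf 0x100e0002))))) (.node 15717 (.node 15714 (.node 15713 (.leaf 0x0) (.leaf 0x3070607090005)) (.node 15715 (.leaf 0x0) (.node 15716 (.leaf 0x0) (.leaf 0xd0001)))) (.node 15720 (.node 15718 (.leaf 0x0) (.node 15719 (.leaf 0x0) (.leaf 0x80001))) (.node 15721 (.leaf 0x0) (.node 15722 (.leaf 0x0) (.leaf 0xc100b0d0004))))))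

def argWS_1540 : Store := (.node 15702 argWS_1538 argWS_1539)

def argWS_1541 : Store := (.node 15682 argWS_1537 argWS_1540)

def argWS_1542 : Store := (.node 15733 (.node 15728 (.node 15725 (.node 15724 (.leaf 0x70001) (.leaf 0x1070905080005)) (.node 15726 (.leaf 0x0) (.node 15727 (.leaf 0x0) (.leaf 0x0)))) (.node 15730 (.node 15729 (.leaf 0xf100b0f0f0c0006) (.leaf 0x80001)) (.node 15731 (.leaf 0x0) (.node 15732 (.leaf 0x0) (.leaf 0x100b0f0c0004))))) (.node 15738 (.node 15735 (.node 15734 (.leaf 0x1080002) (.leaf 0x0)) (.node 15736 (.leaf 0x0) (.node 15737 (.leaf 0xf100c0003) (.leaf 0x1070002)))) (.node 15740 (.node 15739 (.leaf 0x3020106070607090008) (.leaf 0x0)) (.node 15741 (.leaf 0x0) (.node 15742 (.leaf 0x0) (.leaf 0x0))))))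

def argWS_1543 : Store := (.node 15753 (.node 15748 (.node 15745 (.node 15744 (.leaf 0xb0c0002) (.leaf 0x8050002)) (.node 15746 (.leaf 0x0) (.node 15747 (.leaf 0x0) (.leaf 0xd100f0f0c0005)))) (.node 15750 (.node 15749 (.leaf 0x108060003) (.leaf 0x3040108060705080008)) (.node 15751 (.leaf 0x0) (.node 15752 (.leaf 0x0) (.leaf 0x0))))) (.node 15758 (.node 15755 (.node 15754 (.leaf 0x0) (.leaf 0xb0a0d0f0c0005)) (.node 15756 (.leaf 0x0) (.node 15757 (.leaf 0x108050003) (.leaf 0x0)))) (.node 15760 (.node 15759 (.leaf 0x0) (.leaf 0x100f0d0e0004)) (.node 15761 (.leaf 0x40208060705080007) (.node 15762 (.leaf 0x0) (.leaf 0x0))))))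

def argWS_1544 : Store := (.node 15743 argWS_1542 argWS_1543)

def argWS_1545 : Store := (.node 15773 (.node 15768 (.node 15765 (.node 15764 (.leaf 0x0) (.leaf 0x0)) (.node 15766 (.leaf 0x0) (.node 15767 (.leaf 0x607090004) (.leaf 0x0)))) (.node 15770 (.node 15769 (.leaf 0x0) (.leaf 0x0)) (.node 15771 (.leaf 0x0) (.node 15772 (.leaf 0x0) (.leaf 0x20401050004))))) (.node 15778 (.node 15775 (.node 15774 (.leaf 0x0) (.leaf 0x0)) (.node 15776 (.leaf 0x0) (.node 15777 (.leaf 0x0) (.leaf 0x304010607090006)))) (.node 15780 (.node 15779 (.leaf 0x0) (.leaf 0x0)) (.node 15781 (.leaf 0x0) (.node 15782 (.leaf 0x0) (.leaf 0x40009080004))))))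

def argWS_1546 : Store := (.node 15793 (.node 15788 (.node 15785 (.node 15784 (.leaf 0xb0a0e0003) (.leaf 0x0)) (.node 15786 (.leaf 0x3090002) (.node 15787 (.leaf 0x3090002) (.leaf 0x0)))) (.node 15790 (.node 15789 (.leaf 0x0) (.leaf 0x0)) (.node 15791 (.leaf 0x0) (.node 15792 (.leaf 0x1020705080005) (.leaf 0x0))))) (.node 15798 (.node 15795 (.node 15794 (.leaf 0x0) (.leaf 0x0)) (.node 15796 (.leaf 0x304010905080006) (.node 15797 (.leaf 0x0) (.leaf 0x0)))) (.node 15801 (.node 15799 (.leaf 0x0) (.node 15800 (.leaf 0x0) (.leaf 0x0))) (.node 15802 (.leaf 0x0) (.node 15803 (.leaf 0x0) (.leaf 0x203060607090006))))))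

def argWS_1547 : Store := (.node 15783 argWS_1545 argWS_1546)

def argWS_1548 : Store := (.node 15763 argWS_1544 argWS_1547)

def argWS_1549 : Store := (.node 15723 argWS_1541 argWS_1548)

def argWS_1550 : Store := (.node 15814 (.node 15809 (.node 15806 (.node 15805 (.leaf 0x0) (.leaf 0x0)) (.node 15807 (.leaf 0x0) (.node 15808 (.leaf 0x0) (.leaf 0x0)))) (.node 15811 (.node 15810 (.leaf 0x702010809080607090009) (.leaf 0x0)) (.node 15812 (.leaf 0x0) (.node 15813 (.leaf 0x0) (.leaf 0x0))))) (.node 15819 (.node 15816 (.node 15815 (.leaf 0x30401060004) (.leaf 0x110b0e0003)) (.node 15817 (.leaf 0x10001) (.node 15818 (.leaf 0x0) (.leaf 0xb0a0f0f0c0005)))) (.node 15821 (.node 15820 (.leaf 0x0) (.leaf 0x0)) (.node 15822 (.leaf 0x0) (.node 15823 (.leaf 0x0) (.leaf 0x203010705080006))))))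

def argWS_1551 : Store := (.node 15834 (.node 15829 (.node 15826 (.node 15825 (.leaf 0x100b0002) (.leaf 0xd100e0003)) (.node 15827 (.leaf 0x0) (.node 15828 (.leaf 0x0) (.leaf 0x0)))) (.node 15831 (.node 15830 (.leaf 0x0) (.leaf 0x4060002)) (.node 15832 (.leaf 0x0) (.node 15833 (.leaf 0x0) (.leaf 0x0))))) (.node 15839 (.node 15836 (.node 15835 (.leaf 0x0) (.leaf 0x0)) (.node 15837 (.leaf 0x0) (.node 15838 (.leaf 0x0) (.leaf 0x40001)))) (.node 15841 (.node 15840 (.leaf 0x0) (.leaf 0x0)) (.node 15842 (.leaf 0x0) (.node 15843 (.leaf 0x0) (.leaf 0x0))))))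

def argWS_1552 : Store := (.node 15824 argWS_1550 argWS_1551)

def argWS_1553 : Store := (.node 15854 (.node 15849 (.node 15846 (.node 15845 (.leaf 0x0) (.leaf 0x40001)) (.node 15847 (.leaf 0x0) (.node 15848 (.leaf 0x0) (.leaf 0x0)))) (.node 15851 (.node 15850 (.leaf 0x0) (.leaf 0x0)) (.node 15852 (.leaf 0x40001) (.node 15853 (.leaf 0x7010009080005) (.leaf 0x0))))) (.node 15859 (.node 15856 (.node 15855 (.leaf 0x0) (.leaf 0x110f0002)) (.node 15857 (.leaf 0x0) (.node 15858 (.leaf 0x0) (.leaf 0xb0d0d0e0004)))) (.node 15861 (.node 15860 (.leaf 0x0) (.leaf 0x0)) (.node 15862 (.leaf 0x0) (.node 15863 (.leaf 0x0) (.leaf 0x4000002))))))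

def argWS_1554 : Store := (.node 15874 (.node 15869 (.node 15866 (.node 15865 (.leaf 0xd100c0f0c0005) (.leaf 0x8050002)) (.node 15867 (.leaf 0x0) (.node 15868 (.leaf 0x0) (.leaf 0x0)))) (.node 15871 (.node 15870 (.leaf 0x7010009080607090008) (.leaf 0x5080003)) (.node 15872 (.leaf 0x0) (.node 15873 (.leaf 0xd100f0003) (.leaf 0x0))))) (.node 15879 (.node 15876 (.node 15875 (.leaf 0x0) (.leaf 0x0)) (.node 15877 (.leaf 0x0) (.node 15878 (.leaf 0x108050003) (.leaf 0x0)))) (.node 15882 (.node 15880 (.leaf 0x0) (.node 15881 (.leaf 0x0) (.leaf 0x7010009080607090008))) (.node 15883 (.leaf 0x10005080004) (.node 15884 (.leaf 0x0) (.leaf 0xc100f0d0e0005))))))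

def argWS_1555 : Store := (.node 15864 argWS_1553 argWS_1554)

def argWS_1556 : Store := (.node 15844 argWS_1552 argWS_1555)

def argWS_1557 : Store := (.node 15895 (.node 15890 (.node 15887 (.node 15886 (.leaf 0x0) (.leaf 0x0)) (.node 15888 (.leaf 0x0) (.node 15889 (.leaf 0x0) (.leaf 0x10001)))) (.node 15892 (.node 15891 (.leaf 0x0) (.leaf 0x0)) (.node 15893 (.leaf 0xf100b0d0004) (.node 15894 (.leaf 0x0) (.leaf 0x0))))) (.node 15900 (.node 15897 (.node 15896 (.leaf 0x0) (.leaf 0x10001)) (.node 15898 (.leaf 0x1080002) (.node 15899 (.leaf 0x102070607090006) (.leaf 0x1040002)))) (.node 15902 (.node 15901 (.leaf 0x0) (.leaf 0x0)) (.node 15903 (.leaf 0x0) (.node 15904 (.leaf 0x0) (.leaf 0xd100f0d0e0005))))))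

def argWS_1558 : Store := (.node 15915 (.node 15910 (.node 15907 (.node 15906 (.leaf 0x70201050004) (.leaf 0x0)) (.node 15908 (.leaf 0x701000809080607090009) (.node 15909 (.leaf 0x0) (.leaf 0x0)))) (.node 15912 (.node 15911 (.leaf 0x302010607090006) (.leaf 0x0)) (.node 15913 (.leaf 0x0) (.node 15914 (.leaf 0x70102070905080007) (.leaf 0x8060002))))) (.node 15920 (.node 15917 (.node 15916 (.leaf 0x0) (.leaf 0xc100d0e0004)) (.node 15918 (.leaf 0x0) (.node 15919 (.leaf 0x0) (.leaf 0x0)))) (.node 15923 (.node 15921 (.leaf 0x0) (.node 15922 (.leaf 0x4000507060607090008) (.leaf 0xd110d0003))) (.node 15924 (.leaf 0x0) (.node 15925 (.leaf 0x0) (.leaf 0x0))))))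

def argWS_1559 : Store := (.node 15905 argWS_1557 argWS_1558)

def argWS_1560 : Store := (.node 15936 (.node 15931 (.node 15928 (.node 15927 (.leaf 0x4030109080005) (.leaf 0x0)) (.node 15929 (.leaf 0x0) (.node 15930 (.leaf 0x0) (.leaf 0x302060705080006)))) (.node 15933 (.node 15932 (.leaf 0x10001) (.leaf 0x0)) (.node 15934 (.leaf 0x0) (.node 15935 (.leaf 0xd100f0d0e0005) (.leaf 0x0))))) (.node 15941 (.node 15938 (.node 15937 (.leaf 0x0) (.leaf 0x0)) (.node 15939 (.leaf 0x10001) (.node 15940 (.leaf 0x10001) (.leaf 0x10001)))) (.node 15943 (.node 15942 (.leaf 0x2030507060005) (.leaf 0x0)) (.node 15944 (.leaf 0x0) (.node 15945 (.leaf 0x0) (.leaf 0x0))))))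

def argWS_1561 : Store := (.node 15956 (.node 15951 (.node 15948 (.node 15947 (.leaf 0x100b0d0e0004) (.leaf 0x108060003)) (.node 15949 (.leaf 0x0) (.node 15950 (.leaf 0x0) (.leaf 0x0)))) (.node 15953 (.node 15952 (.leaf 0xc100f0d0e0005) (.leaf 0x10001)) (.node 15954 (.leaf 0x10001) (.node 15955 (.leaf 0x0) (.leaf 0x0))))) (.node 15961 (.node 15958 (.node 15957 (.leaf 0x0) (.leaf 0xd100f0003)) (.node 15959 (.leaf 0x0) (.node 15960 (.leaf 0x0) (.leaf 0x0)))) (.node 15964 (.node 15962 (.leaf 0xb0001) (.node 15963 (.leaf 0xb0a0002) (.leaf 0x0))) (.node 15965 (.leaf 0x0) (.node 15966 (.leaf 0x0) (.leaf 0x2010905080005))))))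

def argWS_1562 : Store := (.node 15946 argWS_1560 argWS_1561)

def argWS_1563 : Store := (.node 15926 argWS_1559 argWS_1562)

def argWS_1564 : Store := (.node 15885 argWS_1556 argWS_1563)

def argWS_1565 : Store := (.node 15804 argWS_1549 argWS_1564)

def argWS_1566 : Store := (.node 15977 (.node 15972 (.node 15969 (.node 15968 (.leaf 0x304010607050006) (.leaf 0x0)) (.node 15970 (.leaf 0x0) (.node 15971 (.leaf 0x0) (.leaf 0xc100d0f0c0005)))) (.node 15974 (.node 15973 (.leaf 0x1080002) (.leaf 0x304070003)) (.node 15975 (.leaf 0x0) (.node 15976 (.leaf 0x0) (.leaf 0x0))))) (.node 15982 (.node 15979 (.node 15978 (.leaf 0xc100f0d0e0005) (.leaf 0x40001)) (.node 15980 (.leaf 0x0) (.node 15981 (.leaf 0x0) (.leaf 0x0)))) (.node 15984 (.node 15983 (.leaf 0x701050707090006) (.leaf 0x40001)) (.node 15985 (.leaf 0x0) (.node 15986 (.leaf 0x0) (.leaf 0x0))))))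

def argWS_1567 : Store := (.node 15997 (.node 15992 (.node 15989 (.node 15988 (.leaf 0x0) (.leaf 0x403060607090006)) (.node 15990 (.leaf 0x40001) (.node 15991 (.leaf 0x0) (.leaf 0x0)))) (.node 15994 (.node 15993 (.leaf 0x0) (.leaf 0x0)) (.node 15995 (.leaf 0x40105070607090007) (.node 15996 (.leaf 0x0) (.leaf 0x0))))) (.node 16002 (.node 15999 (.node 15998 (.leaf 0x0) (.leaf 0x0)) (.node 16000 (.leaf 0x302070905080006) (.node 16001 (.leaf 0x0) (.leaf 0x0)))) (.node 16004 (.node 16003 (.leaf 0x0) (.leaf 0x0)) (.node 16005 (.leaf 0x7010205080005) (.node 16006 (.leaf 0x5080002) (.leaf 0x0))))))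

def argWS_1568 : Store := (.node 15987 argWS_1566 argWS_1567)

def argWS_1569 : Store := (.node 16017 (.node 16012 (.node 16009 (.node 16008 (.leaf 0x0) (.leaf 0x300050707090006)) (.node 16010 (.leaf 0x108050003) (.node 16011 (.leaf 0x0) (.leaf 0xf100f0d0e0005)))) (.node 16014 (.node 16013 (.leaf 0x0) (.leaf 0x0)) (.node 16015 (.leaf 0x0) (.node 16016 (.leaf 0x0) (.leaf 0xb0a0e0003))))) (.node 16022 (.node 16019 (.node 16018 (.leaf 0x0) (.leaf 0x0)) (.node 16020 (.leaf 0x20709080004) (.node 16021 (.leaf 0x408050003) (.leaf 0x0)))) (.node 16024 (.node 16023 (.leaf 0x0) (.leaf 0x0)) (.node 16025 (.leaf 0xb0f0c0003) (.node 16026 (.leaf 0x0) (.leaf 0x0))))))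

def argWS_1570 : Store := (.node 16037 (.node 16032 (.node 16029 (.node 16028 (.leaf 0x304060003) (.leaf 0x0)) (.node 16030 (.leaf 0x0) (.node 16031 (.leaf 0x0) (.leaf 0x0)))) (.node 16034 (.node 16033 (.leaf 0x0) (.leaf 0x0)) (.node 16035 (.leaf 0x0) (.node 16036 (.leaf 0x0) (.leaf 0xe100f0d0e0005))))) (.node 16042 (.node 16039 (.node 16038 (.leaf 0x0) (.leaf 0x0)) (.node 16040 (.leaf 0xd110d0f0c0005) (.node 16041 (.leaf 0xe110e0003) (.leaf 0x0)))) (.node 16045 (.node 16043 (.leaf 0x0) (.node 16044 (.leaf 0x0) (.leaf 0x0))) (.node 16046 (.leaf 0x4060709080005) (.node 16047 (.leaf 0x7020108050705080008) (.leaf 0x0))))))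

def argWS_1571 : Store := (.node 16027 argWS_1569 argWS_1570)

def argWS_1572 : Store := (.node 16007 argWS_1568 argWS_1571)

def argWS_1573 : Store := (.node 16058 (.node 16053 (.node 16050 (.node 16049 (.leaf 0x0) (.leaf 0x0)) (.node 16051 (.leaf 0x40905080004) (.node 16052 (.leaf 0x0) (.leaf 0x0)))) (.node 16055 (.node 16054 (.leaf 0x0) (.leaf 0x701020809080607090009)) (.node 16056 (.leaf 0x0) (.node 16057 (.leaf 0x0) (.leaf 0x0))))) (.node 16063 (.node 16060 (.node 16059 (.leaf 0x301060003) (.leaf 0x0)) (.node 16061 (.leaf 0x0) (.node 16062 (.leaf 0x0) (.leaf 0xd100002)))) (.node 16065 (.node 16064 (.leaf 0x0) (.leaf 0x100d0f0c0004)) (.node 16066 (.leaf 0x201060607090006) (.node 16067 (.leaf 0x0) (.leaf 0x0))))))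

def argWS_1574 : Store := (.node 16078 (.node 16073 (.node 16070 (.node 16069 (.leaf 0x100b0d0003) (.leaf 0x0)) (.node 16071 (.leaf 0x10001) (.node 16072 (.leaf 0x4020106070905080008) (.leaf 0x0)))) (.node 16075 (.node 16074 (.leaf 0x10001) (.leaf 0x0)) (.node 16076 (.leaf 0x0) (.node 16077 (.leaf 0x0) (.leaf 0x100c0002))))) (.node 16083 (.node 16080 (.node 16079 (.leaf 0x8050002) (.leaf 0x0)) (.node 16081 (.leaf 0x0) (.node 16082 (.leaf 0x0) (.leaf 0x0)))) (.node 16086 (.node 16084 (.leaf 0x30105070607090007) (.node 16085 (.leaf 0x40308050004) (.leaf 0x0))) (.node 16087 (.leaf 0x0) (.node 16088 (.leaf 0x0) (.leaf 0xe0001))))))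

def argWS_1575 : Store := (.node 16068 argWS_1573 argWS_1574)

def argWS_1576 : Store := (.node 16099 (.node 16094 (.node 16091 (.node 16090 (.leaf 0x307050003) (.leaf 0x0)) (.node 16092 (.leaf 0x0) (.node 16093 (.leaf 0x0) (.leaf 0x0)))) (.node 16096 (.node 16095 (.leaf 0x701050707090006) (.leaf 0x30401070705080007)) (.node 16097 (.leaf 0x0) (.node 16098 (.leaf 0xb0a0f0d0e0005) (.leaf 0x0))))) (.node 16104 (.node 16101 (.node 16100 (.leaf 0x0) (.leaf 0x0)) (.node 16102 (.leaf 0x80001) (.node 16103 (.leaf 0x10001) (.leaf 0x10001)))) (.node 16106 (.node 16105 (.leaf 0x30401050004) (.leaf 0x0)) (.node 16107 (.leaf 0x0) (.node 16108 (.leaf 0x0) (.leaf 0x0))))))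

def argWS_1577 : Store := (.node 16119 (.node 16114 (.node 16111 (.node 16110 (.leaf 0xc100b0d0e0005) (.leaf 0x0)) (.node 16112 (.leaf 0x1080002) (.node 16113 (.leaf 0x0) (.leaf 0x0)))) (.node 16116 (.node 16115 (.leaf 0x110d0f0c0004) (.leaf 0x0)) (.node 16117 (.leaf 0x0) (.node 16118 (.leaf 0x40205070905080007) (.leaf 0x90001))))) (.node 16124 (.node 16121 (.node 16120 (.leaf 0x0) (.leaf 0x0)) (.node 16122 (.leaf 0x204010705080006) (.node 16123 (.leaf 0x0) (.leaf 0x0)))) (.node 16127 (.node 16125 (.leaf 0x0) (.node 16126 (.leaf 0x400050705080006) (.leaf 0x0))) (.node 16128 (.leaf 0x30007060607090007) (.node 16129 (.leaf 0x30007060607090007) (.leaf 0x0))))))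

def argWS_1578 : Store := (.node 16109 argWS_1576 argWS_1577)

def argWS_1579 : Store := (.node 16089 argWS_1575 argWS_1578)

def argWS_1580 : Store := (.node 16048 argWS_1572 argWS_1579)

def argWS_1581 : Store := (.node 16140 (.node 16135 (.node 16132 (.node 16131 (.leaf 0x70001) (.leaf 0x0)) (.node 16133 (.leaf 0x0) (.node 16134 (.leaf 0x100b0f0003) (.leaf 0x0)))) (.node 16137 (.node 16136 (.leaf 0x0) (.leaf 0x0)) (.node 16138 (.leaf 0x1070002) (.node 16139 (.leaf 0x0) (.leaf 0x0))))) (.node 16145 (.node 16142 (.node 16141 (.leaf 0x100b0f0003) (.leaf 0x0)) (.node 16143 (.leaf 0x0) (.node 16144 (.leaf 0x0) (.leaf 0x8060002)))) (.node 16147 (.node 16146 (.leaf 0x0) (.leaf 0x0)) (.node 16148 (.leaf 0x110b0c0f0c0005) (.node 16149 (.leaf 0x0) (.leaf 0x0))))))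

def argWS_1582 : Store := (.node 16160 (.node 16155 (.node 16152 (.node 16151 (.leaf 0x0) (.leaf 0x108050003)) (.node 16153 (.leaf 0x0) (.node 16154 (.leaf 0x0) (.leaf 0x0)))) (.node 16157 (.node 16156 (.leaf 0xd100e0003) (.leaf 0x0)) (.node 16158 (.leaf 0x10001) (.node 16159 (.leaf 0x10001) (.leaf 0x0))))) (.node 16165 (.node 16162 (.node 16161 (.leaf 0x0) (.leaf 0x0)) (.node 16163 (.leaf 0xc100d0d0e0005) (.node 16164 (.leaf 0x1070002) (.leaf 0x0)))) (.node 16167 (.node 16166 (.leaf 0x0) (.leaf 0x0)) (.node 16168 (.leaf 0xf100b0f0c0005) (.node 16169 (.leaf 0x0) (.leaf 0x0))))))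

def argWS_1583 : Store := (.node 16150 argWS_1581 argWS_1582)

def argWS_1584 : Store := (.node 16180 (.node 16175 (.node 16172 (.node 16171 (.leaf 0x0) (.leaf 0x0)) (.node 16173 (.leaf 0x2010002) (.node 16174 (.leaf 0x10001) (.leaf 0x10001)))) (.node 16177 (.node 16176 (.leaf 0x0) (.leaf 0x0)) (.node 16178 (.leaf 0x0) (.node 16179 (.leaf 0xe100c0003) (.leaf 0x0))))) (.node 16185 (.node 16182 (.node 16181 (.leaf 0x0) (.leaf 0x0)) (.node 16183 (.leaf 0x4030705080005) (.node 16184 (.leaf 0x10001) (.leaf 0x10001)))) (.node 16187 (.node 16186 (.leaf 0x0) (.leaf 0x0)) (.node 16188 (.leaf 0x0) (.node 16189 (.leaf 0x110b0f0f0c0005) (.leaf 0x0))))))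

def argWS_1585 : Store := (.node 16200 (.node 16195 (.node 16192 (.node 16191 (.leaf 0x110c0002) (.leaf 0x0)) (.node 16193 (.leaf 0x0) (.node 16194 (.leaf 0xb0a0d0e0004) (.leaf 0x0)))) (.node 16197 (.node 16196 (.leaf 0x0) (.leaf 0x108060003)) (.node 16198 (.leaf 0x1040809080005) (.node 16199 (.leaf 0x0) (.leaf 0x0))))) (.node 16205 (.node 16202 (.node 16201 (.leaf 0x0) (.leaf 0xd110f0d0e0005)) (.node 16203 (.leaf 0x0) (.node 16204 (.leaf 0x10001) (.leaf 0x10001)))) (.node 16208 (.node 16206 (.leaf 0x0) (.node 16207 (.leaf 0x0) (.leaf 0x0))) (.node 16209 (.leaf 0xe110e0003) (.node 16210 (.leaf 0x0) (.leaf 0x30201070004))))))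

def argWS_1586 : Store := (.node 16190 argWS_1584 argWS_1585)

def argWS_1587 : Store := (.node 16170 argWS_1583 argWS_1586)

def argWS_1588 : Store := (.node 16221 (.node 16216 (.node 16213 (.node 16212 (.leaf 0x0) (.leaf 0x0)) (.node 16214 (.leaf 0xf100b0003) (.node 16215 (.leaf 0x0) (.leaf 0xd100d0f0c0005)))) (.node 16218 (.node 16217 (.leaf 0x0) (.leaf 0x0)) (.node 16219 (.leaf 0x0) (.node 16220 (.leaf 0x0) (.leaf 0x40007090004))))) (.node 16226 (.node 16223 (.node 16222 (.leaf 0x0) (.leaf 0x0)) (.node 16224 (.leaf 0xe100f0f0c0005) (.node 16225 (.leaf 0x0) (.leaf 0x0)))) (.node 16228 (.node 16227 (.leaf 0xa0001) (.leaf 0x0)) (.node 16229 (.leaf 0x0) (.node 16230 (.leaf 0xc100b0f0f0c0006) (.leaf 0x0))))))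

def argWS_1589 : Store := (.node 16241 (.node 16236 (.node 16233 (.node 16232 (.leaf 0x0) (.leaf 0x0)) (.node 16234 (.leaf 0x0) (.node 16235 (.leaf 0x9080607090005) (.leaf 0x20809080607090007)))) (.node 16238 (.node 16237 (.leaf 0x0) (.leaf 0x0)) (.node 16239 (.leaf 0x10001) (.node 16240 (.leaf 0x20406070004) (.leaf 0x0))))) (.node 16246 (.node 16243 (.node 16242 (.leaf 0x0) (.leaf 0x0)) (.node 16244 (.leaf 0xd110d0d0e0005) (.node 16245 (.leaf 0x0) (.leaf 0x3040607050005)))) (.node 16249 (.node 16247 (.leaf 0x0) (.node 16248 (.leaf 0x0) (.leaf 0x0))) (.node 16250 (.leaf 0x0) (.node 16251 (.leaf 0x0) (.leaf 0x0))))))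

def argWS_1590 : Store := (.node 16231 argWS_1588 argWS_1589)

def argWS_1591 : Store := (.node 16262 (.node 16257 (.node 16254 (.node 16253 (.leaf 0x0) (.leaf 0x0)) (.node 16255 (.leaf 0x0) (.node 16256 (.leaf 0x100b0d0d0e0005) (.leaf 0xb0d0e0003)))) (.node 16259 (.node 16258 (.leaf 0x1020905080005) (.leaf 0x0)) (.node 16260 (.leaf 0x0) (.node 16261 (.leaf 0x0) (.leaf 0x0))))) (.node 16267 (.node 16264 (.node 16263 (.leaf 0x108060003) (.leaf 0x0)) (.node 16265 (.leaf 0xd110e0003) (.node 16266 (.leaf 0x403010607090006) (.leaf 0x0)))) (.node 16269 (.node 16268 (.leaf 0x0) (.leaf 0x0)) (.node 16270 (.leaf 0x1070002) (.node 16271 (.leaf 0x0) (.leaf 0x0))))))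

def argWS_1592 : Store := (.node 16282 (.node 16277 (.node 16274 (.node 16273 (.leaf 0x100d0002) (.leaf 0x0)) (.node 16275 (.leaf 0x8060002) (.node 16276 (.leaf 0x0) (.leaf 0x0)))) (.node 16279 (.node 16278 (.leaf 0xf100f0003) (.leaf 0x80001)) (.node 16280 (.leaf 0x0) (.node 16281 (.leaf 0x0) (.leaf 0x100f0c0003))))) (.node 16287 (.node 16284 (.node 16283 (.leaf 0x1080002) (.leaf 0x0)) (.node 16285 (.leaf 0x0) (.node 16286 (.leaf 0xc100b0d0f0c0006) (.leaf 0x0)))) (.node 16290 (.node 16288 (.leaf 0x0) (.node 16289 (.leaf 0x0) (.leaf 0x0))) (.node 16291 (.leaf 0x403010607090006) (.node 16292 (.leaf 0x0) (.leaf 0x0))))))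

def argWS_1593 : Store := (.node 16272 argWS_1591 argWS_1592)

def argWS_1594 : Store := (.node 16252 argWS_1590 argWS_1593)

def argWS_1595 : Store := (.node 16211 argWS_1587 argWS_1594)

def argWS_1596 : Store := (.node 16130 argWS_1580 argWS_1595)

def argWS_1597 : Store := (.node 15967 argWS_1565 argWS_1596)

def argWS_1598 : Store := (.node 16303 (.node 16298 (.node 16295 (.node 16294 (.leaf 0x0) (.leaf 0x0)) (.node 16296 (.leaf 0x30205070607090007) (.node 16297 (.leaf 0x0) (.leaf 0x0)))) (.node 16300 (.node 16299 (.leaf 0x0) (.leaf 0x0)) (.node 16301 (.leaf 0x302080607090006) (.node 16302 (.leaf 0x0) (.leaf 0x0))))) (.node 16308 (.node 16305 (.node 16304 (.leaf 0x0) (.leaf 0x0)) (.node 16306 (.leaf 0x9080002) (.node 16307 (.leaf 0x70001) (.leaf 0x0)))) (.node 16310 (.node 16309 (.leaf 0x0) (.leaf 0x100b0d0e0004)) (.node 16311 (.leaf 0x0) (.node 16312 (.leaf 0x0) (.leaf 0x0))))))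

def argWS_1599 : Store := (.node 16323 (.node 16318 (.node 16315 (.node 16314 (.leaf 0x0) (.leaf 0x0)) (.node 16316 (.leaf 0x7010809080005) (.node 16317 (.leaf 0x0) (.leaf 0x0)))) (.node 16320 (.node 16319 (.leaf 0x10001) (.leaf 0x10001)) (.node 16321 (.leaf 0x0) (.node 16322 (.leaf 0x0) (.leaf 0x0))))) (.node 16328 (.node 16325 (.node 16324 (.leaf 0x100b0f0d0e0005) (.leaf 0x0)) (.node 16326 (.leaf 0x8060002) (.node 16327 (.leaf 0x0) (.leaf 0x0)))) (.node 16330 (.node 16329 (.leaf 0xe110e0003) (.leaf 0x8050002)) (.node 16331 (.leaf 0x0) (.node 16332 (.leaf 0x0) (.leaf 0xb0c0f0c0004))))))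

def argWS_1600 : Store := (.node 16313 argWS_1598 argWS_1599)

def argWS_1601 : Store := (.node 16343 (.node 16338 (.node 16335 (.node 16334 (.leaf 0x108060003) (.leaf 0x0)) (.node 16336 (.leaf 0x0) (.node 16337 (.leaf 0xe100e0003) (.leaf 0x108050003)))) (.node 16340 (.node 16339 (.leaf 0x0) (.leaf 0x0)) (.node 16341 (.leaf 0xd100d0f0c0005) (.node 16342 (.leaf 0x10001) (.leaf 0x10001))))) (.node 16348 (.node 16345 (.node 16344 (.leaf 0x0) (.leaf 0x0)) (.node 16346 (.leaf 0x0) (.node 16347 (.leaf 0xd100d0003) (.leaf 0x0)))) (.node 16350 (.node 16349 (.leaf 0x0) (.leaf 0x1070002)) (.node 16351 (.leaf 0x0) (.node 16352 (.leaf 0x0) (.leaf 0x100d0d0e0004))))))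

def argWS_1602 : Store := (.node 16363 (.node 16358 (.node 16355 (.node 16354 (.leaf 0x0) (.leaf 0x0)) (.node 16356 (.leaf 0x0) (.node 16357 (.leaf 0x40208060004) (.leaf 0x0)))) (.node 16360 (.node 16359 (.leaf 0x0) (.leaf 0x0)) (.node 16361 (.leaf 0x10205070905080007) (.node 16362 (.leaf 0xf0001) (.leaf 0xb0001))))) (.node 16368 (.node 16365 (.node 16364 (.leaf 0x0) (.leaf 0x0)) (.node 16366 (.leaf 0x1070002) (.node 16367 (.leaf 0x0) (.leaf 0x110b0d0003)))) (.node 16371 (.node 16369 (.leaf 0x0) (.node 16370 (.leaf 0x4020108060005) (.leaf 0x0))) (.node 16372 (.leaf 0x0) (.node 16373 (.leaf 0x0) (.leaf 0x0))))))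

def argWS_1603 : Store := (.node 16353 argWS_1601 argWS_1602)

def argWS_1604 : Store := (.node 16333 argWS_1600 argWS_1603)

def argWS_1605 : Store := (.node 16384 (.node 16379 (.node 16376 (.node 16375 (.leaf 0x0) (.leaf 0x60607090005)) (.node 16377 (.leaf 0x0) (.node 16378 (.leaf 0x0) (.leaf 0x0)))) (.node 16381 (.node 16380 (.leaf 0x0) (.leaf 0x204010905080006)) (.node 16382 (.leaf 0x108050003) (.node 16383 (.leaf 0x0) (.leaf 0x0))))) (.node 16389 (.node 16386 (.node 16385 (.leaf 0x110b0c0f0c0005) (.leaf 0x0)) (.node 16387 (.leaf 0x8050002) (.node 16388 (.leaf 0x200070003) (.leaf 0x0)))) (.node 16391 (.node 16390 (.leaf 0x0) (.leaf 0x0)) (.node 16392 (.leaf 0xc100f0c0004) (.node 16393 (.leaf 0x70001) (.leaf 0x0))))))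

def argWS_1606 : Store := (.node 16404 (.node 16399 (.node 16396 (.node 16395 (.leaf 0x0) (.leaf 0xe110d0e0004)) (.node 16397 (.leaf 0x0) (.node 16398 (.leaf 0x0) (.leaf 0x0)))) (.node 16401 (.node 16400 (.leaf 0x0) (.leaf 0x4030709080607090008)) (.node 16402 (.leaf 0x30205070705080007) (.node 16403 (.leaf 0x0) (.leaf 0xf100d0e0004))))) (.node 16409 (.node 16406 (.node 16405 (.leaf 0x0) (.leaf 0x3040109080607090008)) (.node 16407 (.leaf 0x0) (.node 16408 (.leaf 0x0) (.leaf 0x0)))) (.node 16412 (.node 16410 (.leaf 0x7010002) (.node 16411 (.leaf 0x10001) (.leaf 0x10001))) (.node 16413 (.leaf 0x0) (.node 16414 (.leaf 0x0) (.leaf 0x0))))))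

def argWS_1607 : Store := (.node 16394 argWS_1605 argWS_1606)

def argWS_1608 : Store := (.node 16425 (.node 16420 (.node 16417 (.node 16416 (.leaf 0x0) (.leaf 0x4030709080607090008)) (.node 16418 (.leaf 0x3020105070705080008) (.node 16419 (.leaf 0x0) (.leaf 0xa0f0d0e0004)))) (.node 16422 (.node 16421 (.leaf 0x0) (.leaf 0x0)) (.node 16423 (.leaf 0x0) (.node 16424 (.leaf 0x0) (.leaf 0x0))))) (.node 16430 (.node 16427 (.node 16426 (.leaf 0x301070607090006) (.leaf 0x8060002)) (.node 16428 (.leaf 0x100050709080006) (.node 16429 (.leaf 0x0) (.leaf 0x0)))) (.node 16432 (.node 16431 (.leaf 0x0) (.leaf 0xd100e0003)) (.node 16433 (.leaf 0x0) (.node 16434 (.leaf 0x0) (.leaf 0x0))))))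

def argWS_1609 : Store := (.node 16445 (.node 16440 (.node 16437 (.node 16436 (.leaf 0x30107090004) (.leaf 0x0)) (.node 16438 (.leaf 0x0) (.node 16439 (.leaf 0x0) (.leaf 0x4060002)))) (.node 16442 (.node 16441 (.leaf 0xf100c0003) (.leaf 0x0)) (.node 16443 (.leaf 0x0) (.node 16444 (.leaf 0x0) (.leaf 0x40301050705080007))))) (.node 16450 (.node 16447 (.node 16446 (.leaf 0x0) (.leaf 0x0)) (.node 16448 (.leaf 0x0) (.node 16449 (.leaf 0x3020002) (.leaf 0x40201050705080007)))) (.node 16453 (.node 16451 (.leaf 0x0) (.node 16452 (.leaf 0x0) (.leaf 0xf100f0c0004))) (.node 16454 (.leaf 0x10001) (.node 16455 (.leaf 0x3040705080005) (.leaf 0x0))))))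

def argWS_1610 : Store := (.node 16435 argWS_1608 argWS_1609)

def argWS_1611 : Store := (.node 16415 argWS_1607 argWS_1610)

def argWS_1612 : Store := (.node 16374 argWS_1604 argWS_1611)

def argWS_1613 : Store := (.node 16466 (.node 16461 (.node 16458 (.node 16457 (.leaf 0x10001) (.leaf 0x3040705080005)) (.node 16459 (.leaf 0x0) (.node 16460 (.leaf 0x0) (.leaf 0x0)))) (.node 16463 (.node 16462 (.leaf 0x0) (.leaf 0xd100f0c0004)) (.node 16464 (.leaf 0x8060002) (.node 16465 (.leaf 0x10408060705080007) (.leaf 0x0))))) (.node 16471 (.node 16468 (.node 16467 (.leaf 0x103070003) (.leaf 0x0)) (.node 16469 (.leaf 0x0) (.node 16470 (.leaf 0x0) (.leaf 0xc100f0d0e0005)))) (.node 16473 (.node 16472 (.leaf 0x0) (.leaf 0x70100080004)) (.node 16474 (.leaf 0x108060003) (.node 16475 (.leaf 0x0) (.leaf 0xa0001))))))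

def argWS_1614 : Store := (.node 16486 (.node 16481 (.node 16478 (.node 16477 (.leaf 0x0) (.leaf 0x0)) (.node 16479 (.leaf 0x0) (.node 16480 (.leaf 0x0) (.leaf 0x0)))) (.node 16483 (.node 16482 (.leaf 0x70100080004) (.leaf 0x108050003)) (.node 16484 (.leaf 0x0) (.node 16485 (.leaf 0xa0001) (.leaf 0x0))))) (.node 16491 (.node 16488 (.node 16487 (.leaf 0x0) (.leaf 0x0)) (.node 16489 (.leaf 0x0) (.node 16490 (.leaf 0xd110c0003) (.leaf 0x0)))) (.node 16493 (.node 16492 (.leaf 0x10001) (.leaf 0x0)) (.node 16494 (.leaf 0x0) (.node 16495 (.leaf 0x0) (.leaf 0x6070705080006))))))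

def argWS_1615 : Store := (.node 16476 argWS_1613 argWS_1614)

def argWS_1616 : Store := (.node 16506 (.node 16501 (.node 16498 (.node 16497 (.leaf 0x302010507060705080009) (.leaf 0x0)) (.node 16499 (.leaf 0xf100f0c0004) (.node 16500 (.leaf 0x0) (.leaf 0x0)))) (.node 16503 (.node 16502 (.leaf 0x0) (.leaf 0x0)) (.node 16504 (.leaf 0x10001) (.node 16505 (.leaf 0x0) (.leaf 0x6070705080006))))) (.node 16511 (.node 16508 (.node 16507 (.leaf 0x105070607090006) (.leaf 0x0)) (.node 16509 (.leaf 0x0) (.node 16510 (.leaf 0x0) (.leaf 0x100d0e0003)))) (.node 16513 (.node 16512 (.leaf 0x0) (.leaf 0x1020705080005)) (.node 16514 (.leaf 0x0) (.node 16515 (.leaf 0x0) (.leaf 0x0))))))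

def argWS_1617 : Store := (.node 16526 (.node 16521 (.node 16518 (.node 16517 (.leaf 0x304010905080006) (.leaf 0x0)) (.node 16519 (.leaf 0x0) (.node 16520 (.leaf 0x40007090004) (.leaf 0x0)))) (.node 16523 (.node 16522 (.leaf 0xb0c0f0c0004) (.leaf 0x0)) (.node 16524 (.leaf 0x110f0d0e0004) (.node 16525 (.leaf 0x80001) (.leaf 0x4030108060705080008))))) (.node 16531 (.node 16528 (.node 16527 (.leaf 0x0) (.leaf 0x0)) (.node 16529 (.leaf 0x0) (.node 16530 (.leaf 0xd110f0c0004) (.leaf 0x70001)))) (.node 16534 (.node 16532 (.leaf 0x4020107060705080008) (.node 16533 (.leaf 0x0) (.leaf 0x0))) (.node 16535 (.leaf 0x0) (.node 16536 (.leaf 0x110c0f0c0004) (.leaf 0x1080002))))))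

def argWS_1618 : Store := (.node 16516 argWS_1616 argWS_1617)

def argWS_1619 : Store := (.node 16496 argWS_1615 argWS_1618)

def argWS_1620 : Store := (.node 16547 (.node 16542 (.node 16539 (.node 16538 (.leaf 0x40308060705080007) (.leaf 0x0)) (.node 16540 (.leaf 0x0) (.node 16541 (.leaf 0x0) (.leaf 0xb0a0d0f0c0005)))) (.node 16544 (.node 16543 (.leaf 0x1070002) (.leaf 0x40207060705080007)) (.node 16545 (.leaf 0x0) (.node 16546 (.leaf 0x0) (.leaf 0x0))))) (.node 16552 (.node 16549 (.node 16548 (.leaf 0xf100b0f0d0e0006) (.leaf 0x1080002)) (.node 16550 (.leaf 0x40308060705080007) (.node 16551 (.leaf 0x0) (.leaf 0x0)))) (.node 16554 (.node 16553 (.leaf 0xd100d0e0004) (.leaf 0x0)) (.node 16555 (.leaf 0x304080607090006) (.node 16556 (.leaf 0x0) (.leaf 0x0))))))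

def argWS_1621 : Store := (.node 16567 (.node 16562 (.node 16559 (.node 16558 (.leaf 0x0) (.leaf 0x10001)) (.node 16560 (.leaf 0x0) (.node 16561 (.leaf 0x0) (.leaf 0xd110f0f0c0005)))) (.node 16564 (.node 16563 (.leaf 0x0) (.leaf 0x8060002)) (.node 16565 (.leaf 0x0) (.node 16566 (.leaf 0x0) (.leaf 0xd110f0c0004))))) (.node 16572 (.node 16569 (.node 16568 (.leaf 0x0) (.leaf 0x0)) (.node 16570 (.leaf 0x0) (.node 16571 (.leaf 0x108060003) (.leaf 0x0)))) (.node 16575 (.node 16573 (.leaf 0x0) (.node 16574 (.leaf 0x0) (.leaf 0xb0a0f0d0e0005))) (.node 16576 (.leaf 0x80001) (.node 16577 (.leaf 0x3020108050705080008) (.leaf 0x0))))))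

def argWS_1622 : Store := (.node 16557 argWS_1620 argWS_1621)

def argWS_1623 : Store := (.node 16588 (.node 16583 (.node 16580 (.node 16579 (.leaf 0x0) (.leaf 0x0)) (.node 16581 (.leaf 0xf0f0c0003) (.node 16582 (.leaf 0x0) (.leaf 0x1080002)))) (.node 16585 (.node 16584 (.leaf 0x305070705080006) (.leaf 0x0)) (.node 16586 (.leaf 0x0) (.node 16587 (.leaf 0x0) (.leaf 0x110f0f0c0004))))) (.node 16593 (.node 16590 (.node 16589 (.leaf 0x0) (.leaf 0x70001)) (.node 16591 (.leaf 0x0) (.node 16592 (.leaf 0x0) (.leaf 0xc100b0f0d0e0006)))) (.node 16595 (.node 16594 (.leaf 0x0) (.leaf 0x0)) (.node 16596 (.leaf 0x0) (.node 16597 (.leaf 0x1070002) (.leaf 0x0))))))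

def argWS_1624 : Store := (.node 16608 (.node 16603 (.node 16600 (.node 16599 (.leaf 0x0) (.leaf 0xd100f0003)) (.node 16601 (.leaf 0xf0f0c0003) (.node 16602 (.leaf 0x80001) (.leaf 0x0)))) (.node 16605 (.node 16604 (.leaf 0x0) (.leaf 0x108060003)) (.node 16606 (.leaf 0x0) (.node 16607 (.leaf 0x0) (.leaf 0x0))))) (.node 16613 (.node 16610 (.node 16609 (.leaf 0x50707090004) (.leaf 0x1030809080607090008)) (.node 16611 (.leaf 0x0) (.node 16612 (.leaf 0xc100d0f0c0005) (.leaf 0x0)))) (.node 16616 (.node 16614 (.leaf 0x0) (.node 16615 (.leaf 0x0) (.leaf 0x0))) (.node 16617 (.leaf 0x10001) (.node 16618 (.leaf 0x10001) (.leaf 0x0))))))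

def argWS_1625 : Store := (.node 16598 argWS_1623 argWS_1624)

def argWS_1626 : Store := (.node 16578 argWS_1622 argWS_1625)

def argWS_1627 : Store := (.node 16537 argWS_1619 argWS_1626)

def argWS_1628 : Store := (.node 16456 argWS_1612 argWS_1627)

def argWS_1629 : Store := (.node 16629 (.node 16624 (.node 16621 (.node 16620 (.leaf 0x0) (.leaf 0x0)) (.node 16622 (.leaf 0xc100b0e0004) (.node 16623 (.leaf 0xe100f0f0c0005) (.leaf 0x0)))) (.node 16626 (.node 16625 (.leaf 0xb0a0d0d0e0005) (.leaf 0xb0a0d0d0e0005)) (.node 16627 (.leaf 0x8050002) (.node 16628 (.leaf 0x0) (.leaf 0x0))))) (.node 16634 (.node 16631 (.node 16630 (.leaf 0x0) (.leaf 0x0)) (.node 16632 (.leaf 0x0) (.node 16633 (.leaf 0x905080004) (.leaf 0x0)))) (.node 16636 (.node 16635 (.leaf 0x0) (.leaf 0x0)) (.node 16637 (.leaf 0x1000507060607090008) (.node 16638 (.leaf 0x0) (.leaf 0x0))))))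

def argWS_1630 : Store := (.node 16649 (.node 16644 (.node 16641 (.node 16640 (.leaf 0x8060705080006) (.leaf 0x8060705080006)) (.node 16642 (.leaf 0x0) (.node 16643 (.leaf 0x0) (.leaf 0x0)))) (.node 16646 (.node 16645 (.leaf 0x0) (.leaf 0x0)) (.node 16647 (.leaf 0x0) (.node 16648 (.leaf 0x0) (.leaf 0x0))))) (.node 16654 (.node 16651 (.node 16650 (.leaf 0x1000507060607090008) (.leaf 0x507060607090007)) (.node 16652 (.leaf 0x0) (.node 16653 (.leaf 0x0) (.leaf 0x0)))) (.node 16656 (.node 16655 (.leaf 0x0) (.leaf 0x0)) (.node 16657 (.leaf 0x0) (.node 16658 (.leaf 0x50705080004) (.leaf 0x0))))))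

def argWS_1631 : Store := (.node 16639 argWS_1629 argWS_1630)

def argWS_1632 : Store := (.node 16669 (.node 16664 (.node 16661 (.node 16660 (.leaf 0x0) (.leaf 0x0)) (.node 16662 (.leaf 0x0) (.node 16663 (.leaf 0x300090003) (.leaf 0x3020105070607090008)))) (.node 16666 (.node 16665 (.leaf 0x0) (.leaf 0x0)) (.node 16667 (.leaf 0x0) (.node 16668 (.leaf 0x100c0002) (.leaf 0x0))))) (.node 16674 (.node 16671 (.node 16670 (.leaf 0x100e0002) (.leaf 0x0)) (.node 16672 (.leaf 0x10001) (.node 16673 (.leaf 0x3040107090005) (.leaf 0x0)))) (.node 16676 (.node 16675 (.leaf 0x10001) (.leaf 0x0)) (.node 16677 (.leaf 0x0) (.node 16678 (.leaf 0x0) (.leaf 0xd0f0c0003))))))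

def argWS_1633 : Store := (.node 16689 (.node 16684 (.node 16681 (.node 16680 (.leaf 0x0) (.leaf 0x0)) (.node 16682 (.leaf 0x0) (.node 16683 (.leaf 0x0) (.leaf 0x3020809080005)))) (.node 16686 (.node 16685 (.leaf 0x403080003) (.leaf 0x0)) (.node 16687 (.leaf 0x0) (.node 16688 (.leaf 0xf100b0c0004) (.leaf 0x40301080004))))) (.node 16694 (.node 16691 (.node 16690 (.leaf 0x10001) (.leaf 0x0)) (.node 16692 (.leaf 0x0) (.node 16693 (.leaf 0x0) (.leaf 0x110f0c0003)))) (.node 16697 (.node 16695 (.leaf 0x30401050705080007) (.node 16696 (.leaf 0x0) (.leaf 0x0))) (.node 16698 (.leaf 0xd110d0f0c0005) (.node 16699 (.leaf 0x0) (.leaf 0x80001))))))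

def argWS_1634 : Store := (.node 16679 argWS_1632 argWS_1633)

def argWS_1635 : Store := (.node 16659 argWS_1631 argWS_1634)

def argWS_1636 : Store := (.node 16710 (.node 16705 (.node 16702 (.node 16701 (.leaf 0x200050707090006) (.leaf 0x0)) (.node 16703 (.leaf 0x0) (.node 16704 (.leaf 0x0) (.leaf 0xd110f0f0c0005)))) (.node 16707 (.node 16706 (.leaf 0x10001) (.leaf 0x0)) (.node 16708 (.leaf 0x0) (.node 16709 (.leaf 0x110b0f0003) (.leaf 0x0))))) (.node 16715 (.node 16712 (.node 16711 (.leaf 0x102090003) (.leaf 0x2090002)) (.node 16713 (.leaf 0x0) (.node 16714 (.leaf 0x0) (.leaf 0x0)))) (.node 16717 (.node 16716 (.leaf 0xe110c0f0c0005) (.leaf 0x0)) (.node 16718 (.leaf 0x0) (.node 16719 (.leaf 0x0) (.leaf 0x0))))))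

def argWS_1637 : Store := (.node 16730 (.node 16725 (.node 16722 (.node 16721 (.leaf 0x401050709080607090009) (.leaf 0x70001)) (.node 16723 (.leaf 0x7010905080005) (.node 16724 (.leaf 0x0) (.leaf 0x400070607090006)))) (.node 16727 (.node 16726 (.leaf 0x0) (.leaf 0x0)) (.node 16728 (.leaf 0x0) (.node 16729 (.leaf 0xd110f0c0004) (.leaf 0x0))))) (.node 16735 (.node 16732 (.node 16731 (.leaf 0x0) (.leaf 0x0)) (.node 16733 (.leaf 0x0) (.node 16734 (.leaf 0x3050707090005) (.leaf 0x1070002)))) (.node 16738 (.node 16736 (.leaf 0x702010905080006) (.node 16737 (.leaf 0x0) (.leaf 0x7010008060705080008))) (.node 16739 (.leaf 0x0) (.node 16740 (.leaf 0x0) (.leaf 0x0))))))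

def argWS_1638 : Store := (.node 16720 argWS_1636 argWS_1637)

def argWS_1639 : Store := (.node 16751 (.node 16746 (.node 16743 (.node 16742 (.leaf 0xb0a0d0f0c0005) (.leaf 0x0)) (.node 16744 (.leaf 0x0) (.node 16745 (.leaf 0x0) (.leaf 0x0)))) (.node 16748 (.node 16747 (.leaf 0x10207090004) (.leaf 0x10001)) (.node 16749 (.leaf 0x10001) (.node 16750 (.leaf 0x0) (.leaf 0x0))))) (.node 16756 (.node 16753 (.node 16752 (.leaf 0x0) (.leaf 0x100e0002)) (.node 16754 (.leaf 0x0) (.node 16755 (.leaf 0x0) (.leaf 0x0)))) (.node 16758 (.node 16757 (.leaf 0x30407060607090007) (.leaf 0x1080002)) (.node 16759 (.leaf 0x0) (.node 16760 (.leaf 0x0) (.leaf 0x0))))))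

def argWS_1640 : Store := (.node 16771 (.node 16766 (.node 16763 (.node 16762 (.leaf 0x0) (.leaf 0x3040106070705080008)) (.node 16764 (.leaf 0x702010709080006) (.node 16765 (.leaf 0x0) (.leaf 0x0)))) (.node 16768 (.node 16767 (.leaf 0x0) (.leaf 0xf0c0002)) (.node 16769 (.leaf 0x304010607090006) (.node 16770 (.leaf 0x0) (.leaf 0x110b0d0e0004))))) (.node 16776 (.node 16773 (.node 16772 (.leaf 0x0) (.leaf 0xb0a0d0e0004)) (.node 16774 (.leaf 0x0) (.node 16775 (.leaf 0x10001) (.leaf 0x10001)))) (.node 16779 (.node 16777 (.leaf 0x0) (.node 16778 (.leaf 0x0) (.leaf 0x0))) (.node 16780 (.leaf 0xb0a0d0e0004) (.node 16781 (.leaf 0xe110002) (.leaf 0x40307060607090007))))))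

def argWS_1641 : Store := (.node 16761 argWS_1639 argWS_1640)

def argWS_1642 : Store := (.node 16741 argWS_1638 argWS_1641)

def argWS_1643 : Store := (.node 16700 argWS_1635 argWS_1642)

def argWS_1644 : Store := (.node 16792 (.node 16787 (.node 16784 (.node 16783 (.leaf 0x0) (.leaf 0x0)) (.node 16785 (.leaf 0x8060002) (.node 16786 (.leaf 0x1040905080005) (.leaf 0x0)))) (.node 16789 (.node 16788 (.leaf 0x0) (.leaf 0x0)) (.node 16790 (.leaf 0xf100b0f0004) (.node 16791 (.leaf 0x80001) (.leaf 0x0))))) (.node 16797 (.node 16794 (.node 16793 (.leaf 0x0) (.leaf 0xb0f0c0003)) (.node 16795 (.leaf 0x0) (.node 16796 (.leaf 0x0) (.leaf 0xf100d0003)))) (.node 16799 (.node 16798 (.leaf 0x0) (.leaf 0x10001)) (.node 16800 (.leaf 0x0) (.node 16801 (.leaf 0x0) (.leaf 0xa0d0d0e0004))))))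

def argWS_1645 : Store := (.node 16812 (.node 16807 (.node 16804 (.node 16803 (.leaf 0x0) (.leaf 0x110d0f0c0004)) (.node 16805 (.leaf 0x204010905080006) (.node 16806 (.leaf 0x0) (.leaf 0x0)))) (.node 16809 (.node 16808 (.leaf 0xb0001) (.leaf 0x0)) (.node 16810 (.leaf 0x0) (.node 16811 (.leaf 0x7020108060607090008) (.leaf 0x0))))) (.node 16817 (.node 16814 (.node 16813 (.leaf 0x0) (.leaf 0x0)) (.node 16815 (.leaf 0x60607090005) (.node 16816 (.leaf 0x0) (.leaf 0x5070607090006)))) (.node 16819 (.node 16818 (.leaf 0x5070607090006) (.leaf 0x0)) (.node 16820 (.leaf 0xc100e0003) (.node 16821 (.leaf 0x1070002) (.leaf 0x0))))))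

def argWS_1646 : Store := (.node 16802 argWS_1644 argWS_1645)

def argWS_1647 : Store := (.node 16832 (.node 16827 (.node 16824 (.node 16823 (.leaf 0x0) (.leaf 0xd0d0e0003)) (.node 16825 (.leaf 0x70001) (.node 16826 (.leaf 0x0) (.leaf 0x0)))) (.node 16829 (.node 16828 (.leaf 0x0) (.leaf 0x5070607090005)) (.node 16830 (.leaf 0x8060002) (.node 16831 (.leaf 0x0) (.leaf 0x0))))) (.node 16837 (.node 16834 (.node 16833 (.leaf 0x0) (.leaf 0xf0c0002)) (.node 16835 (.leaf 0xb0a0002) (.node 16836 (.leaf 0x8050002) (.leaf 0x0)))) (.node 16839 (.node 16838 (.leaf 0x0) (.leaf 0x0)) (.node 16840 (.leaf 0x905080003) (.node 16841 (.leaf 0x0) (.leaf 0x0))))))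

def argWS_1648 : Store := (.node 16852 (.node 16847 (.node 16844 (.node 16843 (.leaf 0x50705080004) (.leaf 0x30401050707090007)) (.node 16845 (.leaf 0x0) (.node 16846 (.leaf 0x0) (.leaf 0x0)))) (.node 16849 (.node 16848 (.leaf 0xe100f0d0e0005) (.leaf 0x0)) (.node 16850 (.leaf 0x0) (.node 16851 (.leaf 0x0) (.leaf 0xc100002))))) (.node 16857 (.node 16854 (.node 16853 (.leaf 0x10001) (.leaf 0x10001)) (.node 16855 (.leaf 0x0) (.node 16856 (.leaf 0x0) (.leaf 0x0)))) (.node 16860 (.node 16858 (.leaf 0xc0001) (.node 16859 (.leaf 0x10001) (.leaf 0x10001))) (.node 16861 (.leaf 0x0) (.node 16862 (.leaf 0x0) (.leaf 0x0))))))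

def argWS_1649 : Store := (.node 16842 argWS_1647 argWS_1648)

def argWS_1650 : Store := (.node 16822 argWS_1646 argWS_1649)

def argWS_1651 : Store := (.node 16873 (.node 16868 (.node 16865 (.node 16864 (.leaf 0xb0a0d0e0004) (.leaf 0x0)) (.node 16866 (.leaf 0x8060002) (.node 16867 (.leaf 0x0) (.leaf 0x0)))) (.node 16870 (.node 16869 (.leaf 0x0) (.leaf 0x6070705080006)) (.node 16871 (.leaf 0x30407050705080007) (.node 16872 (.leaf 0x0) (.leaf 0xb0d0d0e0004))))) (.node 16878 (.node 16875 (.node 16874 (.leaf 0x0) (.leaf 0x0)) (.node 16876 (.leaf 0x0) (.node 16877 (.leaf 0x0) (.leaf 0x7010607050705080008)))) (.node 16880 (.node 16879 (.leaf 0x80001) (.leaf 0x0)) (.node 16881 (.leaf 0x0) (.node 16882 (.leaf 0x0) (.leaf 0x100c0f0c0004))))))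

def argWS_1652 : Store := (.node 16893 (.node 16888 (.node 16885 (.node 16884 (.leaf 0x10001) (.leaf 0x10001)) (.node 16886 (.leaf 0x2030105070908060709000a) (.node 16887 (.leaf 0x0) (.leaf 0x0)))) (.node 16890 (.node 16889 (.leaf 0x0) (.leaf 0x0)) (.node 16891 (.leaf 0x0) (.node 16892 (.leaf 0x1020905080005) (.leaf 0x4020607050705080008))))) (.node 16898 (.node 16895 (.node 16894 (.leaf 0x0) (.leaf 0x0)) (.node 16896 (.leaf 0x0) (.node 16897 (.leaf 0xc100d0f0c0005) (.leaf 0x0)))) (.node 16901 (.node 16899 (.leaf 0x8060002) (.node 16900 (.leaf 0x10408060004) (.leaf 0x0))) (.node 16902 (.leaf 0x0) (.node 16903 (.leaf 0x0) (.leaf 0xf100002))))))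

def argWS_1653 : Store := (.node 16883 argWS_1651 argWS_1652)

def argWS_1654 : Store := (.node 16914 (.node 16909 (.node 16906 (.node 16905 (.leaf 0x0) (.leaf 0x103060705080006)) (.node 16907 (.leaf 0x0) (.node 16908 (.leaf 0x0) (.leaf 0x10001)))) (.node 16911 (.node 16910 (.leaf 0x70108050004) (.leaf 0x0)) (.node 16912 (.leaf 0x10001) (.node 16913 (.leaf 0x204060705080006) (.leaf 0x0))))) (.node 16919 (.node 16916 (.node 16915 (.leaf 0x0) (.leaf 0x0)) (.node 16917 (.leaf 0x0) (.node 16918 (.leaf 0x100b0c0f0c0005) (.leaf 0x0)))) (.node 16921 (.node 16920 (.leaf 0x10001) (.leaf 0x10001)) (.node 16922 (.leaf 0x0) (.node 16923 (.leaf 0x0) (.leaf 0x0))))))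

def argWS_1655 : Store := (.node 16934 (.node 16929 (.node 16926 (.node 16925 (.leaf 0x0) (.leaf 0x20709080004)) (.node 16927 (.leaf 0x403070905080006) (.node 16928 (.leaf 0x0) (.leaf 0x0)))) (.node 16931 (.node 16930 (.leaf 0x0) (.leaf 0xe110f0f0c0005)) (.node 16932 (.leaf 0x0) (.node 16933 (.leaf 0xe110c0f0c0005) (.leaf 0x0))))) (.node 16939 (.node 16936 (.node 16935 (.leaf 0x8050002) (.leaf 0x0)) (.node 16937 (.leaf 0x0) (.node 16938 (.leaf 0xf100b0f0d0e0006) (.leaf 0x0)))) (.node 16942 (.node 16940 (.leaf 0x0) (.node 16941 (.leaf 0x0) (.leaf 0x108050003))) (.node 16943 (.leaf 0x0) (.node 16944 (.leaf 0x0) (.leaf 0x110c0f0c0004))))))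

def argWS_1656 : Store := (.node 16924 argWS_1654 argWS_1655)

def argWS_1657 : Store := (.node 16904 argWS_1653 argWS_1656)

def argWS_1658 : Store := (.node 16863 argWS_1650 argWS_1657)

def argWS_1659 : Store := (.node 16782 argWS_1643 argWS_1658)

def argWS_1660 : Store := (.node 16619 argWS_1628 argWS_1659)

def argWS_1661 : Store := (.node 16293 argWS_1597 argWS_1660)

def argWS_1662 : Store := (.node 16955 (.node 16950 (.node 16947 (.node 16946 (.leaf 0x0) (.leaf 0x0)) (.node 16948 (.leaf 0x0) (.node 16949 (.leaf 0x70001) (.leaf 0x3020107050705080008)))) (.node 16952 (.node 16951 (.leaf 0x0) (.leaf 0x204010709080006)) (.node 16953 (.leaf 0x0) (.node 16954 (.leaf 0x0) (.leaf 0x0))))) (.node 16960 (.node 16957 (.node 16956 (.leaf 0x100b0c0f0c0005) (.leaf 0x0)) (.node 16958 (.leaf 0x0) (.node 16959 (.leaf 0x0) (.leaf 0x0)))) (.node 16962 (.node 16961 (.leaf 0x4020106070607090008) (.leaf 0x1070002)) (.node 16963 (.leaf 0x30207050705080007)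 (.node 16964 (.leaf 0x0) (.leaf 0x2040709080005))))))

def argWS_1663 : Store := (.node 16975 (.node 16970 (.node 16967 (.node 16966 (.leaf 0x0) (.leaf 0x0)) (.node 16968 (.leaf 0x0) (.node 16969 (.leaf 0xf100f0d0e0005) (.leaf 0x0)))) (.node 16972 (.node 16971 (.leaf 0x0) (.leaf 0x0)) (.node 16973 (.leaf 0x30205070705080007) (.node 16974 (.leaf 0x10001) (.leaf 0x0))))) (.node 16980 (.node 16977 (.node 16976 (.leaf 0x0) (.leaf 0xb0d0f0c0004)) (.node 16978 (.leaf 0x0) (.node 16979 (.leaf 0x0) (.leaf 0x0)))) (.node 16982 (.node 16981 (.leaf 0x10001) (.leaf 0x70001)) (.node 16983 (.leaf 0x0) (.node 16984 (.leaf 0x0) (.leaf 0x100c0f0c0004))))))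

def argWS_1664 : Store := (.node 16965 argWS_1662 argWS_1663)

def argWS_1665 : Store := (.node 16995 (.node 16990 (.node 16987 (.node 16986 (.leaf 0x1070002) (.leaf 0x0)) (.node 16988 (.leaf 0x0) (.node 16989 (.leaf 0xc100b0f0c0005) (.leaf 0xf100f0f0c0005)))) (.node 16992 (.node 16991 (.leaf 0x400050709080006) (.leaf 0x0)) (.node 16993 (.leaf 0x0) (.node 16994 (.leaf 0x204010809080607090009) (.leaf 0x4020607050005))))) (.node 17000 (.node 16997 (.node 16996 (.leaf 0x0) (.leaf 0x0)) (.node 16998 (.leaf 0x0) (.node 16999 (.leaf 0x0) (.leaf 0x0)))) (.node 17002 (.node 17001 (.leaf 0x403080003) (.leaf 0x0)) (.node 17003 (.leaf 0x0) (.node 17004 (.leaf 0x30401050705080007) (.leaf 0x4010607050705080008))))))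

def argWS_1666 : Store := (.node 17015 (.node 17010 (.node 17007 (.node 17006 (.leaf 0x0) (.leaf 0x0)) (.node 17008 (.leaf 0x0) (.node 17009 (.leaf 0x0) (.leaf 0x40005070905080007)))) (.node 17012 (.node 17011 (.leaf 0x0) (.leaf 0x0)) (.node 17013 (.leaf 0x70001) (.node 17014 (.leaf 0x40507060607090007) (.leaf 0x0))))) (.node 17020 (.node 17017 (.node 17016 (.leaf 0x0) (.leaf 0x0)) (.node 17018 (.leaf 0xe100f0f0c0005) (.node 17019 (.leaf 0x0) (.leaf 0x1070002)))) (.node 17023 (.node 17021 (.leaf 0x1040905080005) (.node 17022 (.leaf 0x0) (.leaf 0x0))) (.node 17024 (.leaf 0x0) (.node 17025 (.leaf 0xa0f0c0003) (.leaf 0x0))))))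

def argWS_1667 : Store := (.node 17005 argWS_1665 argWS_1666)

def argWS_1668 : Store := (.node 16985 argWS_1664 argWS_1667)

def argWS_1669 : Store := (.node 17036 (.node 17031 (.node 17028 (.node 17027 (.leaf 0x0) (.leaf 0x10001)) (.node 17029 (.leaf 0x10208050004) (.node 17030 (.leaf 0x0) (.leaf 0x40301080004)))) (.node 17033 (.node 17032 (.leaf 0x0) (.leaf 0x0)) (.node 17034 (.leaf 0x0) (.node 17035 (.leaf 0xb0f0f0c0004) (.leaf 0x0))))) (.node 17041 (.node 17038 (.node 17037 (.leaf 0x110001) (.leaf 0x0)) (.node 17039 (.leaf 0x10001) (.node 17040 (.leaf 0x0) (.leaf 0x0)))) (.node 17043 (.node 17042 (.leaf 0xe100c0003) (.leaf 0x0)) (.node 17044 (.leaf 0x0) (.node 17045 (.leaf 0x0) (.leaf 0x10001))))))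

def argWS_1670 : Store := (.node 17056 (.node 17051 (.node 17048 (.node 17047 (.leaf 0x204010607060705080009) (.leaf 0x0)) (.node 17049 (.leaf 0x0) (.node 17050 (.leaf 0xf100b0d0004) (.leaf 0x0)))) (.node 17053 (.node 17052 (.leaf 0x0) (.leaf 0x0)) (.node 17054 (.leaf 0x1080002) (.node 17055 (.leaf 0x0) (.leaf 0x0))))) (.node 17061 (.node 17058 (.node 17057 (.leaf 0x0) (.leaf 0xd100e0003)) (.node 17059 (.leaf 0x1070002) (.node 17060 (.leaf 0x0) (.leaf 0x0)))) (.node 17064 (.node 17062 (.leaf 0x0) (.node 17063 (.leaf 0xb0a0f0d0e0005) (.leaf 0x10001))) (.node 17065 (.leaf 0x0) (.node 17066 (.leaf 0x0) (.leaf 0xf100002))))))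

def argWS_1671 : Store := (.node 17046 argWS_1669 argWS_1670)

def argWS_1672 : Store := (.node 17077 (.node 17072 (.node 17069 (.node 17068 (.leaf 0x0) (.leaf 0x0)) (.node 17070 (.leaf 0x0) (.node 17071 (.leaf 0x10001) (.leaf 0x2030705080005)))) (.node 17074 (.node 17073 (.leaf 0x0) (.leaf 0x0)) (.node 17075 (.leaf 0x1070705080005) (.node 17076 (.leaf 0x0) (.leaf 0x0))))) (.node 17082 (.node 17079 (.node 17078 (.leaf 0x10001) (.leaf 0x10001)) (.node 17080 (.leaf 0x0) (.node 17081 (.leaf 0x0) (.leaf 0x0)))) (.node 17084 (.node 17083 (.leaf 0x0) (.leaf 0x10406070705080007)) (.node 17085 (.leaf 0x302010809080607090009) (.node 17086 (.leaf 0x0) (.leaf 0x0))))))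

def argWS_1673 : Store := (.node 17097 (.node 17092 (.node 17089 (.node 17088 (.leaf 0x0) (.leaf 0xa0f0d0e0004)) (.node 17090 (.leaf 0x108060003) (.node 17091 (.leaf 0x0) (.leaf 0x0)))) (.node 17094 (.node 17093 (.leaf 0x0) (.leaf 0x0)) (.node 17095 (.leaf 0x3090002) (.node 17096 (.leaf 0x70106070607090007) (.leaf 0x0))))) (.node 17102 (.node 17099 (.node 17098 (.leaf 0x0) (.leaf 0x0)) (.node 17100 (.leaf 0x110b0d0003) (.node 17101 (.leaf 0x0) (.leaf 0x10001)))) (.node 17105 (.node 17103 (.leaf 0x10001) (.node 17104 (.leaf 0x3020106070908060709000a) (.leaf 0x0))) (.node 17106 (.leaf 0x402060709080006) (.node 17107 (.leaf 0x0) (.leaf 0x0))))))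

def argWS_1674 : Store := (.node 17087 argWS_1672 argWS_1673)

def argWS_1675 : Store := (.node 17067 argWS_1671 argWS_1674)

def argWS_1676 : Store := (.node 17026 argWS_1668 argWS_1675)

def argWS_1677 : Store := (.node 17118 (.node 17113 (.node 17110 (.node 17109 (.leaf 0x0) (.leaf 0x0)) (.node 17111 (.leaf 0x0) (.node 17112 (.leaf 0x3090002) (.leaf 0x7020106070607090008)))) (.node 17115 (.node 17114 (.leaf 0x0) (.leaf 0x0)) (.node 17116 (.leaf 0x0) (.node 17117 (.leaf 0xb0a0d0003) (.leaf 0x0))))) (.node 17123 (.node 17120 (.node 17119 (.leaf 0x0) (.leaf 0x0)) (.node 17121 (.leaf 0x0) (.node 17122 (.leaf 0x0) (.leaf 0x409080003)))) (.node 17125 (.node 17124 (.leaf 0x0) (.leaf 0x0)) (.node 17126 (.leaf 0x0) (.node 17127 (.leaf 0x0) (.leaf 0x70102060607090007))))))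

def argWS_1678 : Store := (.node 17138 (.node 17133 (.node 17130 (.node 17129 (.leaf 0x2030709080005) (.leaf 0x0)) (.node 17131 (.leaf 0x0) (.node 17132 (.leaf 0x0) (.leaf 0x0)))) (.node 17135 (.node 17134 (.leaf 0x1030607090005) (.leaf 0xf100b0e0004)) (.node 17136 (.leaf 0x0) (.node 17137 (.leaf 0x0) (.leaf 0x0))))) (.node 17143 (.node 17140 (.node 17139 (.leaf 0x1040002) (.leaf 0x10001)) (.node 17141 (.leaf 0x10001) (.node 17142 (.leaf 0x0) (.leaf 0x0)))) (.node 17145 (.node 17144 (.leaf 0x0) (.leaf 0x100e0002)) (.node 17146 (.leaf 0x0) (.node 17147 (.leaf 0x0) (.leaf 0x0))))))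

def argWS_1679 : Store := (.node 17128 argWS_1677 argWS_1678)

def argWS_1680 : Store := (.node 17158 (.node 17153 (.node 17150 (.node 17149 (.leaf 0x0) (.leaf 0x20408060705080007)) (.node 17151 (.leaf 0xf100b0c0f0c0006) (.node 17152 (.leaf 0x0) (.leaf 0x100b0f0c0004)))) (.node 17155 (.node 17154 (.leaf 0xd110d0f0c0005) (.leaf 0x10001)) (.node 17156 (.leaf 0x0) (.node 17157 (.leaf 0x0) (.leaf 0x0))))) (.node 17163 (.node 17160 (.node 17159 (.leaf 0x0) (.leaf 0x0)) (.node 17161 (.leaf 0x0) (.node 17162 (.leaf 0x207050003) (.leaf 0xf100f0c0004)))) (.node 17165 (.node 17164 (.leaf 0x70001) (.leaf 0x0)) (.node 17166 (.leaf 0x0) (.node 17167 (.leaf 0xb0a0d0e0004) (.leaf 0x1070002))))))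

def argWS_1681 : Store := (.node 17178 (.node 17173 (.node 17170 (.node 17169 (.leaf 0x0) (.leaf 0x0)) (.node 17171 (.leaf 0x110b0d0e0004) (.node 17172 (.leaf 0x8060002) (.leaf 0x0)))) (.node 17175 (.node 17174 (.leaf 0x0) (.leaf 0xf100d0003)) (.node 17176 (.leaf 0x0) (.node 17177 (.leaf 0x0) (.leaf 0xd100f0f0c0005))))) (.node 17183 (.node 17180 (.node 17179 (.leaf 0x0) (.leaf 0x0)) (.node 17181 (.leaf 0x0) (.node 17182 (.leaf 0x0) (.leaf 0x400060705080006)))) (.node 17186 (.node 17184 (.leaf 0x0) (.node 17185 (.leaf 0x0) (.leaf 0xe110c0f0c0005))) (.node 17187 (.leaf 0x30401060705080007) (.node 17188 (.leaf 0x0) (.leaf 0x0))))))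

def argWS_1682 : Store := (.node 17168 argWS_1680 argWS_1681)

def argWS_1683 : Store := (.node 17148 argWS_1679 argWS_1682)

def argWS_1684 : Store := (.node 17199 (.node 17194 (.node 17191 (.node 17190 (.leaf 0x110f0d0e0004) (.leaf 0x0)) (.node 17192 (.leaf 0xb0d0d0e0004) (.node 17193 (.leaf 0x1080002) (.leaf 0x0)))) (.node 17196 (.node 17195 (.leaf 0x0) (.leaf 0x0)) (.node 17197 (.leaf 0x100d0002) (.node 17198 (.leaf 0xb0c0002) (.leaf 0x10001))))) (.node 17204 (.node 17201 (.node 17200 (.leaf 0x10001) (.leaf 0x0)) (.node 17202 (.leaf 0x0) (.node 17203 (.leaf 0x0) (.leaf 0xa0001)))) (.node 17206 (.node 17205 (.leaf 0x4000905080005) (.leaf 0x0)) (.node 17207 (.leaf 0x0) (.node 17208 (.leaf 0xa0f0002) (.leaf 0xb0a0d0d0e0005))))))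

def argWS_1685 : Store := (.node 17219 (.node 17214 (.node 17211 (.node 17210 (.leaf 0x70002) (.leaf 0x0)) (.node 17212 (.leaf 0x0) (.node 17213 (.leaf 0x0) (.leaf 0x0)))) (.node 17216 (.node 17215 (.leaf 0x2040108060705080008) (.leaf 0x0)) (.node 17217 (.leaf 0x1080002) (.node 17218 (.leaf 0x0) (.leaf 0x0))))) (.node 17224 (.node 17221 (.node 17220 (.leaf 0x0) (.leaf 0x100f0d0e0004)) (.node 17222 (.leaf 0x0) (.node 17223 (.leaf 0x10001) (.leaf 0x10001)))) (.node 17227 (.node 17225 (.leaf 0x0) (.node 17226 (.leaf 0x0) (.leaf 0x0))) (.node 17228 (.leaf 0xd100f0f0c0005) (.node 17229 (.leaf 0x0) (.leaf 0x0))))))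

def argWS_1686 : Store := (.node 17209 argWS_1684 argWS_1685)

def argWS_1687 : Store := (.node 17240 (.node 17235 (.node 17232 (.node 17231 (.leaf 0x0) (.leaf 0x0)) (.node 17233 (.leaf 0x103060003) (.node 17234 (.leaf 0x1080002) (.leaf 0x30201070607090007)))) (.node 17237 (.node 17236 (.leaf 0x0) (.leaf 0x0)) (.node 17238 (.leaf 0x0) (.node 17239 (.leaf 0x110d0d0e0004) (.leaf 0x0))))) (.node 17245 (.node 17242 (.node 17241 (.leaf 0x0) (.leaf 0x0)) (.node 17243 (.leaf 0x0) (.node 17244 (.leaf 0x7020108060607090008) (.leaf 0x0)))) (.node 17247 (.node 17246 (.leaf 0x0) (.leaf 0x0)) (.node 17248 (.leaf 0x0) (.node 17249 (.leaf 0x0) (.leaf 0x0))))))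

def argWS_1688 : Store := (.node 17260 (.node 17255 (.node 17252 (.node 17251 (.leaf 0x4060607090005) (.leaf 0x0)) (.node 17253 (.leaf 0x0) (.node 17254 (.leaf 0x0) (.leaf 0xb0a0f0d0e0005)))) (.node 17257 (.node 17256 (.leaf 0x0) (.leaf 0xc100b0d0d0e0006)) (.node 17258 (.leaf 0x0) (.node 17259 (.leaf 0x0) (.leaf 0x0))))) (.node 17265 (.node 17262 (.node 17261 (.leaf 0x2040107090005) (.leaf 0x0)) (.node 17263 (.leaf 0x0) (.node 17264 (.leaf 0x4030109080607090008) (.leaf 0x0)))) (.node 17268 (.node 17266 (.leaf 0x0) (.node 17267 (.leaf 0xa0d0002) (.leaf 0xb0a0f0f0c0005))) (.node 17269 (.leaf 0x0) (.node 17270 (.leaf 0xb0c0002) (.leaf 0x0))))))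

def argWS_1689 : Store := (.node 17250 argWS_1687 argWS_1688)

def argWS_1690 : Store := (.node 17230 argWS_1686 argWS_1689)

def argWS_1691 : Store := (.node 17189 argWS_1683 argWS_1690)

def argWS_1692 : Store := (.node 17108 argWS_1676 argWS_1691)

def argWS_1693 : Store := (.node 17281 (.node 17276 (.node 17273 (.node 17272 (.leaf 0xe100f0f0c0005) (.leaf 0x10001)) (.node 17274 (.leaf 0x10001) (.node 17275 (.leaf 0x0) (.leaf 0x0)))) (.node 17278 (.node 17277 (.leaf 0x0) (.leaf 0xb0f0c0003)) (.node 17279 (.leaf 0x0) (.node 17280 (.leaf 0x0) (.leaf 0x0))))) (.node 17286 (.node 17283 (.node 17282 (.leaf 0x0) (.leaf 0x102050003)) (.node 17284 (.leaf 0x0) (.node 17285 (.leaf 0x0) (.leaf 0x0)))) (.node 17288 (.node 17287 (.leaf 0x0) (.leaf 0x20309080607090007)) (.node 17289 (.leaf 0xb0d0d0e0004) (.node 17290 (.leaf 0x1070002) (.leaf 0x0))))))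

def argWS_1694 : Store := (.node 17301 (.node 17296 (.node 17293 (.node 17292 (.leaf 0x0) (.leaf 0x0)) (.node 17294 (.leaf 0x103060705080006) (.node 17295 (.leaf 0x0) (.leaf 0x0)))) (.node 17298 (.node 17297 (.leaf 0x0) (.leaf 0x0)) (.node 17299 (.leaf 0x402010607090006) (.node 17300 (.leaf 0x0) (.leaf 0x0))))) (.node 17306 (.node 17303 (.node 17302 (.leaf 0x0) (.leaf 0x0)) (.node 17304 (.leaf 0x0) (.node 17305 (.leaf 0x0) (.leaf 0x0)))) (.node 17308 (.node 17307 (.leaf 0x0) (.leaf 0x0)) (.node 17309 (.leaf 0xf100b0d0004) (.node 17310 (.leaf 0x70001) (.leaf 0x0))))))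

def argWS_1695 : Store := (.node 17291 argWS_1693 argWS_1694)

def argWS_1696 : Store := (.node 17321 (.node 17316 (.node 17313 (.node 17312 (.leaf 0x0) (.leaf 0x0)) (.node 17314 (.leaf 0x0) (.node 17315 (.leaf 0xc100b0f0d0e0006) (.leaf 0x0)))) (.node 17318 (.node 17317 (.leaf 0x4020105070905080008) (.leaf 0x0)) (.node 17319 (.leaf 0x0) (.node 17320 (.leaf 0x0) (.leaf 0x4050002))))) (.node 17326 (.node 17323 (.node 17322 (.leaf 0x0) (.leaf 0x0)) (.node 17324 (.leaf 0xe110002) (.node 17325 (.leaf 0x0) (.leaf 0x0)))) (.node 17328 (.node 17327 (.leaf 0xf100002) (.leaf 0x0)) (.node 17329 (.leaf 0x3090002) (.node 17330 (.leaf 0x70001) (.leaf 0x0))))))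

def argWS_1697 : Store := (.node 17341 (.node 17336 (.node 17333 (.node 17332 (.leaf 0x100e0002) (.leaf 0x0)) (.node 17334 (.leaf 0x0) (.node 17335 (.leaf 0x0) (.leaf 0x0)))) (.node 17338 (.node 17337 (.leaf 0x0) (.leaf 0x3090002)) (.node 17339 (.leaf 0x1070002) (.node 17340 (.leaf 0x0) (.leaf 0x110e0002))))) (.node 17346 (.node 17343 (.node 17342 (.leaf 0x0) (.leaf 0x0)) (.node 17344 (.leaf 0x0) (.node 17345 (.leaf 0x0) (.leaf 0x10001)))) (.node 17349 (.node 17347 (.leaf 0x10001) (.node 17348 (.leaf 0x0) (.leaf 0x0))) (.node 17350 (.leaf 0x0) (.node 17351 (.leaf 0xc100b0f0c0005) (.leaf 0x0))))))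

def argWS_1698 : Store := (.node 17331 argWS_1696 argWS_1697)

def argWS_1699 : Store := (.node 17311 argWS_1695 argWS_1698)

def argWS_1700 : Store := (.node 17362 (.node 17357 (.node 17354 (.node 17353 (.leaf 0x0) (.leaf 0xb0a0f0f0c0005)) (.node 17355 (.leaf 0x70001) (.node 17356 (.leaf 0x0) (.leaf 0x0)))) (.node 17359 (.node 17358 (.leaf 0x0) (.leaf 0x110b0f0f0c0005)) (.node 17360 (.leaf 0x1070002) (.node 17361 (.leaf 0x0) (.leaf 0x0))))) (.node 17367 (.node 17364 (.node 17363 (.leaf 0x0) (.leaf 0x70100050707090007)) (.node 17365 (.leaf 0x8060002) (.node 17366 (.leaf 0x0) (.leaf 0xa0e0002)))) (.node 17369 (.node 17368 (.leaf 0x0) (.leaf 0x0)) (.node 17370 (.leaf 0x0) (.node 17371 (.leaf 0x0) (.leaf 0x0))))))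

def argWS_1701 : Store := (.node 17382 (.node 17377 (.node 17374 (.node 17373 (.leaf 0x70100050707090007) (.leaf 0x108060003)) (.node 17375 (.leaf 0x0) (.node 17376 (.leaf 0xa0e0002) (.leaf 0x0)))) (.node 17379 (.node 17378 (.leaf 0x0) (.leaf 0x0)) (.node 17380 (.leaf 0x0) (.node 17381 (.leaf 0x10001) (.leaf 0x0))))) (.node 17387 (.node 17384 (.node 17383 (.leaf 0x0) (.leaf 0xd110d0d0e0005)) (.node 17385 (.leaf 0x30205070607090007) (.node 17386 (.leaf 0x0) (.leaf 0x0)))) (.node 17390 (.node 17388 (.leaf 0x0) (.node 17389 (.leaf 0x0) (.leaf 0x10001))) (.node 17391 (.leaf 0x0) (.node 17392 (.leaf 0x108060003) (.leaf 0x2040709080005))))))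

def argWS_1702 : Store := (.node 17372 argWS_1700 argWS_1701)

def argWS_1703 : Store := (.node 17403 (.node 17398 (.node 17395 (.node 17394 (.leaf 0x0) (.leaf 0x0)) (.node 17396 (.leaf 0x0) (.node 17397 (.leaf 0xb0a0c0003) (.leaf 0x0)))) (.node 17400 (.node 17399 (.leaf 0x0) (.leaf 0x0)) (.node 17401 (.leaf 0x0) (.node 17402 (.leaf 0x0) (.leaf 0x0))))) (.node 17408 (.node 17405 (.node 17404 (.leaf 0x6070705080006) (.leaf 0x30106070607090007)) (.node 17406 (.leaf 0x0) (.node 17407 (.leaf 0x0) (.leaf 0x0)))) (.node 17410 (.node 17409 (.leaf 0xf100b0f0d0e0006) (.leaf 0x0)) (.node 17411 (.leaf 0x10001) (.node 17412 (.leaf 0x10001) (.leaf 0x0))))))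

def argWS_1704 : Store := (.node 17423 (.node 17418 (.node 17415 (.node 17414 (.leaf 0x0) (.leaf 0x0)) (.node 17416 (.leaf 0x0) (.node 17417 (.leaf 0x6070705080006) (.leaf 0x30006070607090007)))) (.node 17420 (.node 17419 (.leaf 0x0) (.leaf 0x0)) (.node 17421 (.leaf 0x0) (.node 17422 (.leaf 0x110c0f0c0004) (.leaf 0x0))))) (.node 17428 (.node 17425 (.node 17424 (.leaf 0x0) (.leaf 0x0)) (.node 17426 (.leaf 0x0) (.node 17427 (.leaf 0x0) (.leaf 0x0)))) (.node 17431 (.node 17429 (.leaf 0x702010607060006) (.node 17430 (.leaf 0x40109080004) (.leaf 0x0))) (.node 17432 (.leaf 0x0) (.node 17433 (.leaf 0x0) (.leaf 0x10001))))))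

def argWS_1705 : Store := (.node 17413 argWS_1703 argWS_1704)

def argWS_1706 : Store := (.node 17393 argWS_1702 argWS_1705)

def argWS_1707 : Store := (.node 17352 argWS_1699 argWS_1706)

def argWS_1708 : Store := (.node 17444 (.node 17439 (.node 17436 (.node 17435 (.leaf 0x10001) (.leaf 0x0)) (.node 17437 (.leaf 0x0) (.node 17438 (.leaf 0x0) (.leaf 0x100b0d0d0e0005)))) (.node 17441 (.node 17440 (.leaf 0x0) (.leaf 0x0)) (.node 17442 (.leaf 0x0) (.node 17443 (.leaf 0x0) (.leaf 0x4050002))))) (.node 17449 (.node 17446 (.node 17445 (.leaf 0x0) (.leaf 0x40309080607090007)) (.node 17447 (.leaf 0x0) (.node 17448 (.leaf 0x0) (.leaf 0x60607090005)))) (.node 17451 (.node 17450 (.leaf 0x0) (.leaf 0x204010905080006)) (.node 17452 (.leaf 0x0) (.node 17453 (.leaf 0x30109080607090007) (.leaf 0x0))))))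

def argWS_1709 : Store := (.node 17464 (.node 17459 (.node 17456 (.node 17455 (.leaf 0x10207090004) (.leaf 0x0)) (.node 17457 (.leaf 0x0) (.node 17458 (.leaf 0x8050002) (.leaf 0x0)))) (.node 17461 (.node 17460 (.leaf 0x0) (.leaf 0xa0d0d0e0004)) (.node 17462 (.leaf 0x0) (.node 17463 (.leaf 0x0) (.leaf 0x0))))) (.node 17469 (.node 17466 (.node 17465 (.leaf 0x0) (.leaf 0x0)) (.node 17467 (.leaf 0x40301070905080007) (.node 17468 (.leaf 0x20109080607090007) (.leaf 0x0)))) (.node 17471 (.node 17470 (.leaf 0x2030709080005) (.leaf 0x0)) (.node 17472 (.leaf 0x0) (.node 17473 (.leaf 0x0) (.leaf 0x4030108060005))))))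

def argWS_1710 : Store := (.node 17454 argWS_1708 argWS_1709)

def argWS_1711 : Store := (.node 17484 (.node 17479 (.node 17476 (.node 17475 (.leaf 0x0) (.leaf 0x7010208060005)) (.node 17477 (.leaf 0x0) (.node 17478 (.leaf 0x705080004) (.leaf 0x0)))) (.node 17481 (.node 17480 (.leaf 0x0) (.leaf 0x0)) (.node 17482 (.leaf 0x40201050709080007) (.node 17483 (.leaf 0x100050707090006) (.leaf 0x0))))) (.node 17489 (.node 17486 (.node 17485 (.leaf 0x0) (.leaf 0x0)) (.node 17487 (.leaf 0xe100e0003) (.node 17488 (.leaf 0x1070002) (.leaf 0x0)))) (.node 17491 (.node 17490 (.leaf 0x0) (.leaf 0x0)) (.node 17492 (.leaf 0xb0001) (.node 17493 (.leaf 0x108050003) (.leaf 0x0))))))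

def argWS_1712 : Store := (.node 17504 (.node 17499 (.node 17496 (.node 17495 (.leaf 0x0) (.leaf 0x0)) (.node 17497 (.leaf 0x4030709080607090008) (.node 17498 (.leaf 0x70201060709080007) (.leaf 0x0)))) (.node 17501 (.node 17500 (.leaf 0x0) (.leaf 0x0)) (.node 17502 (.leaf 0xe100e0003) (.node 17503 (.leaf 0xb0a0002) (.leaf 0x400050709080006))))) (.node 17509 (.node 17506 (.node 17505 (.leaf 0x0) (.leaf 0x0)) (.node 17507 (.leaf 0x204010809080607090009) (.node 17508 (.leaf 0x10307050004) (.leaf 0x0)))) (.node 17512 (.node 17510 (.leaf 0x0) (.node 17511 (.leaf 0x0) (.leaf 0xb0d0002))) (.node 17513 (.leaf 0x40208060607090007) (.node 17514 (.leaf 0x0) (.leaf 0x0))))))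

def argWS_1713 : Store := (.node 17494 argWS_1711 argWS_1712)

def argWS_1714 : Store := (.node 17474 argWS_1710 argWS_1713)

def argWS_1715 : Store := (.node 17525 (.node 17520 (.node 17517 (.node 17516 (.leaf 0x0) (.leaf 0x0)) (.node 17518 (.leaf 0x0) (.node 17519 (.leaf 0x7010207060005) (.leaf 0x0)))) (.node 17522 (.node 17521 (.leaf 0x0) (.leaf 0xb0a0002)) (.node 17523 (.leaf 0x10001) (.node 17524 (.leaf 0x0) (.leaf 0x0))))) (.node 17530 (.node 17527 (.node 17526 (.leaf 0xb0001) (.leaf 0x108060003)) (.node 17528 (.leaf 0x0) (.node 17529 (.leaf 0x0) (.leaf 0x0)))) (.node 17532 (.node 17531 (.leaf 0x3090002) (.leaf 0x2040607060705080008)) (.node 17533 (.leaf 0x0) (.node 17534 (.leaf 0x0) (.leaf 0x0))))))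

def argWS_1716 : Store := (.node 17545 (.node 17540 (.node 17537 (.node 17536 (.leaf 0xe100e0003) (.leaf 0x10001)) (.node 17538 (.leaf 0x10001) (.node 17539 (.leaf 0x0) (.leaf 0x0)))) (.node 17542 (.node 17541 (.leaf 0x0) (.leaf 0x0)) (.node 17543 (.leaf 0x1000507060607090008) (.node 17544 (.leaf 0x2030106070607090008) (.leaf 0x0))))) (.node 17550 (.node 17547 (.node 17546 (.leaf 0x0) (.leaf 0x0)) (.node 17548 (.leaf 0xc100b0f0d0e0006) (.node 17549 (.leaf 0x0) (.leaf 0x10001)))) (.node 17553 (.node 17551 (.leaf 0x1030809080607090008) (.node 17552 (.leaf 0x0) (.leaf 0x10001))) (.node 17554 (.leaf 0x0) (.node 17555 (.leaf 0x0) (.leaf 0x0))))))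

def argWS_1717 : Store := (.node 17535 argWS_1715 argWS_1716)

def argWS_1718 : Store := (.node 17566 (.node 17561 (.node 17558 (.node 17557 (.leaf 0xb0a0f0f0c0005) (.leaf 0x0)) (.node 17559 (.leaf 0x0) (.node 17560 (.leaf 0x0) (.leaf 0x10309080004)))) (.node 17563 (.node 17562 (.leaf 0xb0a0f0c0004) (.leaf 0x0)) (.node 17564 (.leaf 0x0) (.node 17565 (.leaf 0x0) (.leaf 0x0))))) (.node 17571 (.node 17568 (.node 17567 (.leaf 0xd110c0f0c0005) (.leaf 0x0)) (.node 17569 (.leaf 0x0) (.node 17570 (.leaf 0x0) (.leaf 0x0)))) (.node 17573 (.node 17572 (.leaf 0x203050003) (.leaf 0x108060003)) (.node 17574 (.leaf 0x0) (.node 17575 (.leaf 0x0) (.leaf 0x0))))))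

def argWS_1719 : Store := (.node 17586 (.node 17581 (.node 17578 (.node 17577 (.leaf 0x100b0d0003) (.leaf 0x0)) (.node 17579 (.leaf 0x1070002) (.node 17580 (.leaf 0x0) (.leaf 0x0)))) (.node 17583 (.node 17582 (.leaf 0xd110c0f0c0005) (.leaf 0x0)) (.node 17584 (.leaf 0xd110e0003) (.node 17585 (.leaf 0x0) (.leaf 0x110b0d0f0c0005))))) (.node 17591 (.node 17588 (.node 17587 (.leaf 0x0) (.leaf 0x0)) (.node 17589 (.leaf 0x7020108060607090008) (.node 17590 (.leaf 0x0) (.leaf 0x0)))) (.node 17594 (.node 17592 (.leaf 0x0) (.node 17593 (.leaf 0x0) (.leaf 0x20109080607090007))) (.node 17595 (.leaf 0x0) (.node 17596 (.leaf 0x0) (.leaf 0x0))))))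

def argWS_1720 : Store := (.node 17576 argWS_1718 argWS_1719)

def argWS_1721 : Store := (.node 17556 argWS_1717 argWS_1720)

def argWS_1722 : Store := (.node 17515 argWS_1714 argWS_1721)

def argWS_1723 : Store := (.node 17434 argWS_1707 argWS_1722)

def argWS_1724 : Store := (.node 17271 argWS_1692 argWS_1723)

def argWS_1725 : Store := (.node 17607 (.node 17602 (.node 17599 (.node 17598 (.leaf 0x0) (.leaf 0x8060002)) (.node 17600 (.leaf 0x0) (.node 17601 (.leaf 0x0) (.leaf 0xf100b0d0e0005)))) (.node 17604 (.node 17603 (.leaf 0x0) (.leaf 0x0)) (.node 17605 (.leaf 0x0) (.node 17606 (.leaf 0x108060003) (.leaf 0x0))))) (.node 17612 (.node 17609 (.node 17608 (.leaf 0x0) (.leaf 0xb0f0d0e0004)) (.node 17610 (.leaf 0x0) (.node 17611 (.leaf 0x0) (.leaf 0x0)))) (.node 17614 (.node 17613 (.leaf 0x100b0f0f0c0005) (.leaf 0x1070002)) (.node 17615 (.leaf 0x0) (.node 17616 (.leaf 0x0) (.leaf 0x0))))))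

def argWS_1726 : Store := (.node 17627 (.node 17622 (.node 17619 (.node 17618 (.leaf 0x701050707090006) (.leaf 0x8060002)) (.node 17620 (.leaf 0x0) (.node 17621 (.leaf 0xe0001) (.leaf 0x0)))) (.node 17624 (.node 17623 (.leaf 0x0) (.leaf 0x0)) (.node 17625 (.leaf 0x0) (.node 17626 (.leaf 0x0) (.leaf 0x701050707090006))))) (.node 17632 (.node 17629 (.node 17628 (.leaf 0x108060003) (.leaf 0x0)) (.node 17630 (.leaf 0x0) (.node 17631 (.leaf 0x0) (.leaf 0xf0001)))) (.node 17634 (.node 17633 (.leaf 0x0) (.leaf 0x20107060607090007)) (.node 17635 (.leaf 0x0) (.node 17636 (.leaf 0x0) (.leaf 0x0))))))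

def argWS_1727 : Store := (.node 17617 argWS_1725 argWS_1726)

def argWS_1728 : Store := (.node 17647 (.node 17642 (.node 17639 (.node 17638 (.leaf 0x0) (.leaf 0x0)) (.node 17640 (.leaf 0x0) (.node 17641 (.leaf 0x0) (.leaf 0xe100e0003)))) (.node 17644 (.node 17643 (.leaf 0x0) (.leaf 0xe110002)) (.node 17645 (.leaf 0x0) (.node 17646 (.leaf 0x70001) (.leaf 0x0))))) (.node 17652 (.node 17649 (.node 17648 (.leaf 0x0) (.leaf 0x0)) (.node 17650 (.leaf 0x110c0f0c0004) (.node 17651 (.leaf 0x10001) (.leaf 0x10001)))) (.node 17654 (.node 17653 (.leaf 0x0) (.leaf 0x0)) (.node 17655 (.leaf 0x0) (.node 17656 (.leaf 0xf100b0f0d0e0006) (.leaf 0x1070002))))))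

def argWS_1729 : Store := (.node 17667 (.node 17662 (.node 17659 (.node 17658 (.leaf 0x0) (.leaf 0x0)) (.node 17660 (.leaf 0x0) (.node 17661 (.leaf 0xe110002) (.leaf 0x10001)))) (.node 17664 (.node 17663 (.leaf 0x10001) (.leaf 0x0)) (.node 17665 (.leaf 0x0) (.node 17666 (.leaf 0x0) (.leaf 0xe100002))))) (.node 17672 (.node 17669 (.node 17668 (.leaf 0xc100b0d0e0005) (.leaf 0xc100b0e0004)) (.node 17670 (.leaf 0x108050003) (.node 17671 (.leaf 0x0) (.leaf 0x0)))) (.node 17675 (.node 17673 (.leaf 0x0) (.node 17674 (.leaf 0x4000905080005) (.leaf 0x0))) (.node 17676 (.leaf 0x1080002) (.node 17677 (.leaf 0x0) (.leaf 0x0))))))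

def argWS_1730 : Store := (.node 17657 argWS_1728 argWS_1729)

def argWS_1731 : Store := (.node 17637 argWS_1727 argWS_1730)

def argWS_1732 : Store := (.node 17688 (.node 17683 (.node 17680 (.node 17679 (.leaf 0x100b0d0d0e0005) (.leaf 0x0)) (.node 17681 (.leaf 0x0) (.node 17682 (.leaf 0x0) (.leaf 0x8060002)))) (.node 17685 (.node 17684 (.leaf 0x0) (.leaf 0x0)) (.node 17686 (.leaf 0xe110f0f0c0005) (.node 17687 (.leaf 0x0) (.leaf 0x0))))) (.node 17693 (.node 17690 (.node 17689 (.leaf 0x0) (.leaf 0xf100d0003)) (.node 17691 (.leaf 0x0) (.node 17692 (.leaf 0x0) (.leaf 0x0)))) (.node 17695 (.node 17694 (.leaf 0xd110f0f0c0005) (.leaf 0x0)) (.node 17696 (.leaf 0x1020705080005) (.node 17697 (.leaf 0x0) (.leaf 0x40007090004))))))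

def argWS_1733 : Store := (.node 17708 (.node 17703 (.node 17700 (.node 17699 (.leaf 0x0) (.leaf 0x40905080004)) (.node 17701 (.leaf 0x0) (.node 17702 (.leaf 0x0) (.leaf 0xd110f0f0c0005)))) (.node 17705 (.node 17704 (.leaf 0x0) (.leaf 0xe100c0003)) (.node 17706 (.leaf 0xf0001) (.node 17707 (.leaf 0x0) (.leaf 0x40709080607090007))))) (.node 17713 (.node 17710 (.node 17709 (.leaf 0x0) (.leaf 0x0)) (.node 17711 (.leaf 0xb0a0d0e0004) (.node 17712 (.leaf 0x0) (.leaf 0x0)))) (.node 17716 (.node 17714 (.leaf 0x6070002) (.node 17715 (.leaf 0xe110d0e0004) (.leaf 0x0))) (.node 17717 (.leaf 0x0) (.node 17718 (.leaf 0xb0a0d0e0004) (.leaf 0x0))))))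

def argWS_1734 : Store := (.node 17698 argWS_1732 argWS_1733)

def argWS_1735 : Store := (.node 17729 (.node 17724 (.node 17721 (.node 17720 (.leaf 0x4000507060607090008) (.leaf 0x0)) (.node 17722 (.leaf 0x0) (.node 17723 (.leaf 0x0) (.leaf 0x4000905080005)))) (.node 17726 (.node 17725 (.leaf 0x108060003) (.leaf 0x0)) (.node 17727 (.leaf 0xe100d0d0e0005) (.node 17728 (.leaf 0x0) (.leaf 0x0))))) (.node 17734 (.node 17731 (.node 17730 (.leaf 0x0) (.leaf 0x0)) (.node 17732 (.leaf 0x0) (.node 17733 (.leaf 0x4000905080005) (.leaf 0x108050003)))) (.node 17736 (.node 17735 (.leaf 0x0) (.leaf 0xe100f0c0004)) (.node 17737 (.leaf 0x0) (.node 17738 (.leaf 0x0) (.leaf 0x0))))))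

def argWS_1736 : Store := (.node 17749 (.node 17744 (.node 17741 (.node 17740 (.leaf 0x0) (.leaf 0x10001)) (.node 17742 (.leaf 0x0) (.node 17743 (.leaf 0x0) (.leaf 0x0)))) (.node 17746 (.node 17745 (.leaf 0x3090002) (.leaf 0x10607060705080007)) (.node 17747 (.leaf 0x0) (.node 17748 (.leaf 0xe110002) (.leaf 0x0))))) (.node 17754 (.node 17751 (.node 17750 (.leaf 0x0) (.leaf 0x0)) (.node 17752 (.leaf 0x0) (.node 17753 (.leaf 0x0) (.leaf 0x70201070607090007)))) (.node 17757 (.node 17755 (.leaf 0xc100b0c0004) (.node 17756 (.leaf 0xf100c0003) (.leaf 0xd110002))) (.node 17758 (.leaf 0x0) (.node 17759 (.leaf 0x204050003) (.leaf 0x0))))))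

def argWS_1737 : Store := (.node 17739 argWS_1735 argWS_1736)

def argWS_1738 : Store := (.node 17719 argWS_1734 argWS_1737)

def argWS_1739 : Store := (.node 17678 argWS_1731 argWS_1738)

def argWS_1740 : Store := (.node 17770 (.node 17765 (.node 17762 (.node 17761 (.leaf 0x0) (.leaf 0x0)) (.node 17763 (.leaf 0x6070705080006) (.node 17764 (.leaf 0x2000507050705080008) (.leaf 0x0)))) (.node 17767 (.node 17766 (.leaf 0x0) (.leaf 0x0)) (.node 17768 (.leaf 0xf0c0002) (.node 17769 (.leaf 0x0) (.leaf 0x110c0f0c0004))))) (.node 17775 (.node 17772 (.node 17771 (.leaf 0x0) (.leaf 0x10001)) (.node 17773 (.leaf 0x10001) (.node 17774 (.leaf 0x0) (.leaf 0x0)))) (.node 17777 (.node 17776 (.leaf 0x0) (.leaf 0xf0001)) (.node 17778 (.leaf 0x0) (.node 17779 (.leaf 0x0) (.leaf 0x70001))))))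

def argWS_1741 : Store := (.node 17790 (.node 17785 (.node 17782 (.node 17781 (.leaf 0x0) (.leaf 0x0)) (.node 17783 (.leaf 0x100b0c0f0c0005) (.node 17784 (.leaf 0x0) (.leaf 0x0)))) (.node 17787 (.node 17786 (.leaf 0x0) (.leaf 0x8060002)) (.node 17788 (.leaf 0x0) (.node 17789 (.leaf 0x0) (.leaf 0x0))))) (.node 17795 (.node 17792 (.node 17791 (.leaf 0xe110e0003) (.leaf 0x0)) (.node 17793 (.leaf 0x0) (.node 17794 (.leaf 0x0) (.leaf 0x0)))) (.node 17797 (.node 17796 (.leaf 0x201060003) (.leaf 0x108060003)) (.node 17798 (.leaf 0x0) (.node 17799 (.leaf 0x0) (.leaf 0x0))))))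

def argWS_1742 : Store := (.node 17780 argWS_1740 argWS_1741)

def argWS_1743 : Store := (.node 17810 (.node 17805 (.node 17802 (.node 17801 (.leaf 0xe100e0003) (.leaf 0x0)) (.node 17803 (.leaf 0x0) (.node 17804 (.leaf 0x0) (.leaf 0x0)))) (.node 17807 (.node 17806 (.leaf 0x40201060004) (.leaf 0x108050003)) (.node 17808 (.leaf 0x0) (.node 17809 (.leaf 0x0) (.leaf 0xe100002))))) (.node 17815 (.node 17812 (.node 17811 (.leaf 0x0) (.leaf 0x0)) (.node 17813 (.leaf 0x0) (.node 17814 (.leaf 0x4020607090005) (.leaf 0x0)))) (.node 17817 (.node 17816 (.leaf 0x0) (.leaf 0x0)) (.node 17818 (.leaf 0x403080003) (.node 17819 (.leaf 0x0) (.leaf 0x206070003))))))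

def argWS_1744 : Store := (.node 17830 (.node 17825 (.node 17822 (.node 17821 (.leaf 0x0) (.leaf 0x7010207090005)) (.node 17823 (.leaf 0x0) (.node 17824 (.leaf 0x0) (.leaf 0x0)))) (.node 17827 (.node 17826 (.leaf 0x40105070607090007) (.leaf 0x0)) (.node 17828 (.leaf 0x0) (.node 17829 (.leaf 0x10001) (.leaf 0x10001))))) (.node 17835 (.node 17832 (.node 17831 (.leaf 0x0) (.leaf 0x0)) (.node 17833 (.leaf 0x0) (.node 17834 (.leaf 0xc100b0d0f0c0006) (.leaf 0x0)))) (.node 17838 (.node 17836 (.leaf 0x0) (.node 17837 (.leaf 0x0) (.leaf 0x0))) (.node 17839 (.leaf 0x307090003) (.node 17840 (.leaf 0x0) (.leaf 0x0))))))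

def argWS_1745 : Store := (.node 17820 argWS_1743 argWS_1744)

def argWS_1746 : Store := (.node 17800 argWS_1742 argWS_1745)

def argWS_1747 : Store := (.node 17851 (.node 17846 (.node 17843 (.node 17842 (.leaf 0xe110e0003) (.leaf 0x0)) (.node 17844 (.leaf 0x0) (.node 17845 (.leaf 0x0) (.leaf 0x0)))) (.node 17848 (.node 17847 (.leaf 0x0) (.leaf 0x102060607090006)) (.node 17849 (.leaf 0x0) (.node 17850 (.leaf 0x0) (.leaf 0x300050707090006))))) (.node 17856 (.node 17853 (.node 17852 (.leaf 0x300050707090006) (.leaf 0x0)) (.node 17854 (.leaf 0x0) (.node 17855 (.leaf 0x0) (.leaf 0x0)))) (.node 17858 (.node 17857 (.leaf 0x0) (.leaf 0x0)) (.node 17859 (.leaf 0xb0a0f0c0004) (.node 17860 (.leaf 0x10001) (.leaf 0x10001))))))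

def argWS_1748 : Store := (.node 17871 (.node 17866 (.node 17863 (.node 17862 (.leaf 0x0) (.leaf 0x0)) (.node 17864 (.leaf 0x0) (.node 17865 (.leaf 0xf100b0f0c0005) (.leaf 0x70001)))) (.node 17868 (.node 17867 (.leaf 0x709080607090006) (.leaf 0x107050003)) (.node 17869 (.leaf 0x0) (.node 17870 (.leaf 0x0) (.leaf 0x0))))) (.node 17876 (.node 17873 (.node 17872 (.leaf 0x0) (.leaf 0xe100002)) (.node 17874 (.leaf 0xf0f0c0003) (.node 17875 (.leaf 0x0) (.leaf 0x0)))) (.node 17879 (.node 17877 (.leaf 0x400050705080006) (.node 17878 (.leaf 0x0) (.leaf 0x0))) (.node 17880 (.leaf 0x100b0d0f0c0005) (.node 17881 (.leaf 0x0) (.leaf 0x10001))))))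

def argWS_1749 : Store := (.node 17861 argWS_1747 argWS_1748)

def argWS_1750 : Store := (.node 17892 (.node 17887 (.node 17884 (.node 17883 (.leaf 0x1030707090005) (.leaf 0x0)) (.node 17885 (.leaf 0x10001) (.node 17886 (.leaf 0x0) (.leaf 0x0)))) (.node 17889 (.node 17888 (.leaf 0x0) (.leaf 0xb0a0f0f0c0005)) (.node 17890 (.leaf 0x0) (.node 17891 (.leaf 0xe110d0003) (.leaf 0x0))))) (.node 17897 (.node 17894 (.node 17893 (.leaf 0x4060607090005) (.leaf 0x0)) (.node 17895 (.leaf 0x0) (.node 17896 (.leaf 0x0) (.leaf 0x6070705080006)))) (.node 17899 (.node 17898 (.leaf 0x6070705080006) (.leaf 0x0)) (.node 17900 (.leaf 0x0) (.node 17901 (.leaf 0x0) (.leaf 0x0))))))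

def argWS_1751 : Store := (.node 17912 (.node 17907 (.node 17904 (.node 17903 (.leaf 0x10001) (.leaf 0x10001)) (.node 17905 (.leaf 0x0) (.node 17906 (.leaf 0x0) (.leaf 0x0)))) (.node 17909 (.node 17908 (.leaf 0xb0d0d0e0004) (.leaf 0x0)) (.node 17910 (.leaf 0x0) (.node 17911 (.leaf 0x0) (.leaf 0x0))))) (.node 17917 (.node 17914 (.node 17913 (.leaf 0x0) (.leaf 0x0)) (.node 17915 (.leaf 0x0) (.node 17916 (.leaf 0x201060003) (.leaf 0x0)))) (.node 17920 (.node 17918 (.leaf 0x0) (.node 17919 (.leaf 0x0) (.leaf 0x40201060004))) (.node 17921 (.leaf 0x40301050705080007) (.node 17922 (.leaf 0x0) (.leaf 0x70001))))))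

def argWS_1752 : Store := (.node 17902 argWS_1750 argWS_1751)

def argWS_1753 : Store := (.node 17882 argWS_1749 argWS_1752)

def argWS_1754 : Store := (.node 17841 argWS_1746 argWS_1753)

def argWS_1755 : Store := (.node 17760 argWS_1739 argWS_1754)

def argWS_1756 : Store := (.node 17933 (.node 17928 (.node 17925 (.node 17924 (.leaf 0x0) (.leaf 0x0)) (.node 17926 (.leaf 0x0) (.node 17927 (.leaf 0x100c0002) (.leaf 0x10001)))) (.node 17930 (.node 17929 (.leaf 0x403050705080006) (.leaf 0x0)) (.node 17931 (.leaf 0x10001) (.node 17932 (.leaf 0x0) (.leaf 0x0))))) (.node 17938 (.node 17935 (.node 17934 (.leaf 0x0) (.leaf 0xd100d0003)) (.node 17936 (.leaf 0x10001) (.node 17937 (.leaf 0x0) (.leaf 0x0)))) (.node 17940 (.node 17939 (.leaf 0xb0a0002) (.leaf 0x0)) (.node 17941 (.leaf 0x0) (.node 17942 (.leaf 0xb0001) (.leaf 0x0))))))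

def argWS_1757 : Store := (.node 17953 (.node 17948 (.node 17945 (.node 17944 (.leaf 0x10001) (.leaf 0x10001)) (.node 17946 (.leaf 0x0) (.node 17947 (.leaf 0x0) (.leaf 0x0)))) (.node 17950 (.node 17949 (.leaf 0x110001) (.leaf 0x0)) (.node 17951 (.leaf 0xf100b0d0f0c0006) (.node 17952 (.leaf 0x0) (.leaf 0xb0a0f0003))))) (.node 17958 (.node 17955 (.node 17954 (.leaf 0x0) (.leaf 0x0)) (.node 17956 (.leaf 0x0) (.node 17957 (.leaf 0x0) (.leaf 0x6070705080006)))) (.node 17960 (.node 17959 (.leaf 0x30106070607090007) (.leaf 0x0)) (.node 17961 (.leaf 0x0) (.node 17962 (.leaf 0x0) (.leaf 0xf100b0f0d0e0006))))))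

def argWS_1758 : Store := (.node 17943 argWS_1756 argWS_1757)

def argWS_1759 : Store := (.node 17973 (.node 17968 (.node 17965 (.node 17964 (.leaf 0x0) (.leaf 0x110b0f0f0c0005)) (.node 17966 (.leaf 0x0) (.node 17967 (.leaf 0x0) (.leaf 0x0)))) (.node 17970 (.node 17969 (.leaf 0x0) (.leaf 0x2030002)) (.node 17971 (.leaf 0x0) (.node 17972 (.leaf 0x0) (.leaf 0x0))))) (.node 17978 (.node 17975 (.node 17974 (.leaf 0x10207090004) (.leaf 0x0)) (.node 17976 (.leaf 0x0) (.node 17977 (.leaf 0x0) (.leaf 0x103050705080006)))) (.node 17980 (.node 17979 (.leaf 0x0) (.leaf 0x0)) (.node 17981 (.leaf 0xa0d0002) (.node 17982 (.leaf 0x0) (.leaf 0xd110f0c0004))))))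

def argWS_1760 : Store := (.node 17993 (.node 17988 (.node 17985 (.node 17984 (.leaf 0x0) (.leaf 0x0)) (.node 17986 (.leaf 0x507060607090007) (.node 17987 (.leaf 0x20406070004) (.leaf 0x0)))) (.node 17990 (.node 17989 (.leaf 0x0) (.leaf 0x0)) (.node 17991 (.leaf 0xd110d0e0004) (.node 17992 (.leaf 0x0) (.leaf 0xb0a0d0e0004))))) (.node 17998 (.node 17995 (.node 17994 (.leaf 0x0) (.leaf 0x10001)) (.node 17996 (.leaf 0x10001) (.node 17997 (.leaf 0x302010507060006) (.leaf 0x0)))) (.node 18001 (.node 17999 (.leaf 0x0) (.node 18000 (.leaf 0x0) (.leaf 0x0))) (.node 18002 (.leaf 0x0) (.node 18003 (.leaf 0x0) (.leaf 0x0))))))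

def argWS_1761 : Store := (.node 17983 argWS_1759 argWS_1760)

def argWS_1762 : Store := (.node 17963 argWS_1758 argWS_1761)

def argWS_1763 : Store := (.node 18014 (.node 18009 (.node 18006 (.node 18005 (.leaf 0x0) (.leaf 0x30109080607090007)) (.node 18007 (.leaf 0xc100c0003) (.node 18008 (.leaf 0x0) (.leaf 0x0)))) (.node 18011 (.node 18010 (.leaf 0x102090003) (.leaf 0x30407060607090007)) (.node 18012 (.leaf 0x0) (.node 18013 (.leaf 0x0) (.leaf 0x0))))) (.node 18019 (.node 18016 (.node 18015 (.leaf 0x110d0f0c0004) (.leaf 0x0)) (.node 18017 (.leaf 0x10001) (.node 18018 (.leaf 0x200050705080006) (.leaf 0x0)))) (.node 18021 (.node 18020 (.leaf 0x0) (.leaf 0x0)) (.node 18022 (.leaf 0xa0d0f0c0004) (.node 18023 (.leaf 0x0) (.leaf 0x0))))))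

def argWS_1764 : Store := (.node 18034 (.node 18029 (.node 18026 (.node 18025 (.leaf 0x0) (.leaf 0x0)) (.node 18027 (.leaf 0x40201050705080007) (.node 18028 (.leaf 0xf100b0d0f0c0006) (.leaf 0x0)))) (.node 18031 (.node 18030 (.leaf 0x0) (.leaf 0x0)) (.node 18032 (.leaf 0x0) (.node 18033 (.leaf 0x2010607090005) (.leaf 0xb0a0d0d0e0005))))) (.node 18039 (.node 18036 (.node 18035 (.leaf 0x8050002) (.leaf 0x0)) (.node 18037 (.leaf 0x0) (.node 18038 (.leaf 0x0) (.leaf 0x0)))) (.node 18042 (.node 18040 (.leaf 0x0) (.node 18041 (.leaf 0x0) (.leaf 0xc100b0e0004))) (.node 18043 (.leaf 0x108050003) (.node 18044 (.leaf 0x0) (.leaf 0x0))))))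

def argWS_1765 : Store := (.node 18024 argWS_1763 argWS_1764)

def argWS_1766 : Store := (.node 18055 (.node 18050 (.node 18047 (.node 18046 (.leaf 0x0) (.leaf 0x110b0f0d0e0005)) (.node 18048 (.leaf 0x0) (.node 18049 (.leaf 0xa0d0f0c0004) (.leaf 0x108050003)))) (.node 18052 (.node 18051 (.leaf 0x4070905080005) (.leaf 0x0)) (.node 18053 (.leaf 0x0) (.node 18054 (.leaf 0xb0a0d0d0e0005) (.leaf 0x0))))) (.node 18060 (.node 18057 (.node 18056 (.leaf 0x0) (.leaf 0x40008050004)) (.node 18058 (.leaf 0x0) (.node 18059 (.leaf 0x0) (.leaf 0x108050003)))) (.node 18062 (.node 18061 (.leaf 0x0) (.leaf 0x0)) (.node 18063 (.leaf 0x0) (.node 18064 (.leaf 0xc100b0c0f0c0006) (.leaf 0x10001))))))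

def argWS_1767 : Store := (.node 18075 (.node 18070 (.node 18067 (.node 18066 (.leaf 0x10001) (.leaf 0x0)) (.node 18068 (.leaf 0x0) (.node 18069 (.leaf 0x0) (.leaf 0x100d0f0c0004)))) (.node 18072 (.node 18071 (.leaf 0x0) (.leaf 0x0)) (.node 18073 (.leaf 0x0) (.node 18074 (.leaf 0xc100c0003) (.leaf 0x0))))) (.node 18080 (.node 18077 (.node 18076 (.leaf 0xd110f0f0c0005) (.leaf 0x0)) (.node 18078 (.leaf 0x2010607090005) (.node 18079 (.leaf 0x0) (.leaf 0x30401060705080007)))) (.node 18083 (.node 18081 (.leaf 0x0) (.node 18082 (.leaf 0x0) (.leaf 0xb0a0f0f0c0005))) (.node 18084 (.leaf 0x110d0d0e0004) (.node 18085 (.leaf 0x0) (.leaf 0xf100f0d0e0005))))))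

def argWS_1768 : Store := (.node 18065 argWS_1766 argWS_1767)

def argWS_1769 : Store := (.node 18045 argWS_1765 argWS_1768)

def argWS_1770 : Store := (.node 18004 argWS_1762 argWS_1769)

def argWS_1771 : Store := (.node 18096 (.node 18091 (.node 18088 (.node 18087 (.leaf 0x0) (.leaf 0xe110f0c0004)) (.node 18089 (.leaf 0x0) (.node 18090 (.leaf 0x0) (.leaf 0x0)))) (.node 18093 (.node 18092 (.leaf 0x0) (.leaf 0x0)) (.node 18094 (.leaf 0x7010208050705080008) (.node 18095 (.leaf 0x0) (.leaf 0x0))))) (.node 18101 (.node 18098 (.node 18097 (.leaf 0x0) (.leaf 0x905080004)) (.node 18099 (.leaf 0x7020108060607090008) (.node 18100 (.leaf 0x0) (.leaf 0x0)))) (.node 18103 (.node 18102 (.leaf 0x0) (.leaf 0x7010208050705080008)) (.node 18104 (.leaf 0xa0f0002) (.node 18105 (.leaf 0x0) (.leaf 0x701080003))))))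

def argWS_1772 : Store := (.node 18116 (.node 18111 (.node 18108 (.node 18107 (.leaf 0x403050709080006) (.leaf 0x0)) (.node 18109 (.leaf 0x0) (.node 18110 (.leaf 0x0) (.leaf 0xb0d0d0e0004)))) (.node 18113 (.node 18112 (.leaf 0x0) (.leaf 0xc100b0003)) (.node 18114 (.leaf 0x0) (.node 18115 (.leaf 0x701080003) (.leaf 0x701080003))))) (.node 18121 (.node 18118 (.node 18117 (.leaf 0x0) (.leaf 0x0)) (.node 18119 (.leaf 0x0) (.node 18120 (.leaf 0x80001) (.leaf 0x0)))) (.node 18123 (.node 18122 (.leaf 0x0) (.leaf 0x100c0f0c0004)) (.node 18124 (.leaf 0x110b0f0f0c0005) (.node 18125 (.leaf 0x1070002) (.leaf 0x0))))))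

def argWS_1773 : Store := (.node 18106 argWS_1771 argWS_1772)

def argWS_1774 : Store := (.node 18136 (.node 18131 (.node 18128 (.node 18127 (.leaf 0x0) (.leaf 0x70001)) (.node 18129 (.leaf 0x0) (.node 18130 (.leaf 0x0) (.leaf 0x0)))) (.node 18133 (.node 18132 (.leaf 0x70100050707090007) (.leaf 0x1000809080607090008)) (.node 18134 (.leaf 0x0) (.node 18135 (.leaf 0x110f0c0003) (.leaf 0x0))))) (.node 18141 (.node 18138 (.node 18137 (.leaf 0x0) (.leaf 0x0)) (.node 18139 (.leaf 0x0) (.node 18140 (.leaf 0x1080002) (.leaf 0x0)))) (.node 18143 (.node 18142 (.leaf 0x0) (.leaf 0xc100b0f0c0005)) (.node 18144 (.leaf 0xb0a0f0f0c0005) (.node 18145 (.leaf 0x70001) (.leaf 0x0))))))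

def argWS_1775 : Store := (.node 18156 (.node 18151 (.node 18148 (.node 18147 (.leaf 0x0) (.leaf 0x1070002)) (.node 18149 (.leaf 0x0) (.node 18150 (.leaf 0x0) (.leaf 0x0)))) (.node 18153 (.node 18152 (.leaf 0x70100050707090007) (.leaf 0x809080607090007)) (.node 18154 (.leaf 0x0) (.node 18155 (.leaf 0xf100b0c0004) (.leaf 0x0))))) (.node 18161 (.node 18158 (.node 18157 (.leaf 0x0) (.leaf 0x0)) (.node 18159 (.leaf 0x0) (.node 18160 (.leaf 0x1070002) (.leaf 0x0)))) (.node 18164 (.node 18162 (.leaf 0x0) (.node 18163 (.leaf 0xc0001) (.leaf 0x8050002))) (.node 18165 (.leaf 0x0) (.node 18166 (.leaf 0x0) (.leaf 0x110f0d0e0004))))))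

def argWS_1776 : Store := (.node 18146 argWS_1774 argWS_1775)

def argWS_1777 : Store := (.node 18126 argWS_1773 argWS_1776)

def argWS_1778 : Store := (.node 18177 (.node 18172 (.node 18169 (.node 18168 (.leaf 0xb0c0f0c0004) (.leaf 0x1070002)) (.node 18170 (.leaf 0x0) (.node 18171 (.leaf 0x0) (.leaf 0x108050003)))) (.node 18174 (.node 18173 (.leaf 0x0) (.leaf 0x0)) (.node 18175 (.leaf 0xd110f0f0c0005) (.node 18176 (.leaf 0xd100d0f0c0005) (.leaf 0x70001))))) (.node 18182 (.node 18179 (.node 18178 (.leaf 0x0) (.leaf 0x0)) (.node 18180 (.leaf 0x0) (.node 18181 (.leaf 0x0) (.leaf 0x10001)))) (.node 18184 (.node 18183 (.leaf 0x10001) (.leaf 0x0)) (.node 18185 (.leaf 0x0) (.node 18186 (.leaf 0x0) (.leaf 0x0))))))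

def argWS_1779 : Store := (.node 18197 (.node 18192 (.node 18189 (.node 18188 (.leaf 0x70100050707090007) (.leaf 0x201060707090006)) (.node 18190 (.leaf 0x0) (.node 18191 (.leaf 0x0) (.leaf 0x0)))) (.node 18194 (.node 18193 (.leaf 0xd100002) (.leaf 0xb0d0e0003)) (.node 18195 (.leaf 0x108050003) (.node 18196 (.leaf 0x4070905080005) (.leaf 0x0))))) (.node 18202 (.node 18199 (.node 18198 (.leaf 0x0) (.leaf 0x0)) (.node 18200 (.leaf 0xf100f0f0c0005) (.node 18201 (.leaf 0x10001) (.leaf 0x0)))) (.node 18205 (.node 18203 (.leaf 0x0) (.node 18204 (.leaf 0xe110f0c0004) (.leaf 0x0))) (.node 18206 (.leaf 0x0) (.node 18207 (.leaf 0x0) (.leaf 0x0))))))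

def argWS_1780 : Store := (.node 18187 argWS_1778 argWS_1779)

def argWS_1781 : Store := (.node 18218 (.node 18213 (.node 18210 (.node 18209 (.leaf 0x3020705080005) (.leaf 0x8050002)) (.node 18211 (.leaf 0x0) (.node 18212 (.leaf 0x0) (.leaf 0x0)))) (.node 18215 (.node 18214 (.leaf 0x102090003) (.leaf 0x10607060705080007)) (.node 18216 (.leaf 0x0) (.node 18217 (.leaf 0x100b0e0003) (.leaf 0x0))))) (.node 18223 (.node 18220 (.node 18219 (.leaf 0x0) (.leaf 0x0)) (.node 18221 (.leaf 0x0) (.node 18222 (.leaf 0x108050003) (.leaf 0x0)))) (.node 18225 (.node 18224 (.leaf 0x0) (.leaf 0xf0d0e0003)) (.node 18226 (.leaf 0x0) (.node 18227 (.leaf 0x0) (.leaf 0x0))))))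

def argWS_1782 : Store := (.node 18238 (.node 18233 (.node 18230 (.node 18229 (.leaf 0x0) (.leaf 0xf100b0c0004)) (.node 18231 (.leaf 0x0) (.node 18232 (.leaf 0x7020107060005) (.leaf 0x0)))) (.node 18235 (.node 18234 (.leaf 0x0) (.leaf 0xd100f0c0004)) (.node 18236 (.leaf 0x0) (.node 18237 (.leaf 0x0) (.leaf 0xd110c0f0c0005))))) (.node 18243 (.node 18240 (.node 18239 (.leaf 0x0) (.leaf 0x0)) (.node 18241 (.leaf 0xe110d0003) (.node 18242 (.leaf 0x10001) (.leaf 0x10001)))) (.node 18246 (.node 18244 (.leaf 0x0) (.node 18245 (.leaf 0x0) (.leaf 0x0))) (.node 18247 (.leaf 0xd0f0c0003) (.node 18248 (.leaf 0x70001) (.leaf 0x0))))))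

def argWS_1783 : Store := (.node 18228 argWS_1781 argWS_1782)

def argWS_1784 : Store := (.node 18208 argWS_1780 argWS_1783)

def argWS_1785 : Store := (.node 18167 argWS_1777 argWS_1784)

def argWS_1786 : Store := (.node 18086 argWS_1770 argWS_1785)

def argWS_1787 : Store := (.node 17923 argWS_1755 argWS_1786)

def argWS_1788 : Store := (.node 17597 argWS_1724 argWS_1787)

def argWS_1789 : Store := (.node 16945 argWS_1661 argWS_1788)

def argWS_1790 : Store := (.node 18259 (.node 18254 (.node 18251 (.node 18250 (.leaf 0x0) (.leaf 0x0)) (.node 18252 (.leaf 0x7020108050705080008) (.node 18253 (.leaf 0x3040108050705080008) (.leaf 0x0)))) (.node 18256 (.node 18255 (.leaf 0xe110f0003) (.leaf 0x0)) (.node 18257 (.leaf 0x0) (.node 18258 (.leaf 0x0) (.leaf 0x0))))) (.node 18264 (.node 18261 (.node 18260 (.leaf 0x1070002) (.leaf 0x0)) (.node 18262 (.leaf 0x0) (.node 18263 (.leaf 0x0) (.leaf 0x7020108050705080008)))) (.node 18266 (.node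 18265 (.leaf 0x30408050705080007) (.leaf 0x0)) (.node 18267 (.leaf 0xe100f0003) (.node 18268 (.leaf 0x0) (.leaf 0x0))))))

def argWS_1791 : Store := (.node 18279 (.node 18274 (.node 18271 (.node 18270 (.leaf 0x0) (.leaf 0x0)) (.node 18272 (.leaf 0x8050002) (.node 18273 (.leaf 0x0) (.leaf 0x0)))) (.node 18276 (.node 18275 (.leaf 0xd110f0003) (.leaf 0x0)) (.node 18277 (.leaf 0xc0f0c0003) (.node 18278 (.leaf 0x10001) (.leaf 0x0))))) (.node 18284 (.node 18281 (.node 18280 (.leaf 0x0) (.leaf 0x108050003)) (.node 18282 (.leaf 0x0) (.node 18283 (.leaf 0x0) (.leaf 0xf100f0c0004)))) (.node 18286 (.node 18285 (.leaf 0xe110d0e0004) (.leaf 0x0)) (.node 18287 (.leaf 0x0) (.node 18288 (.leaf 0x400060607090006) (.leaf 0x0))))))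

def argWS_1792 : Store := (.node 18269 argWS_1790 argWS_1791)

def argWS_1793 : Store := (.node 18299 (.node 18294 (.node 18291 (.node 18290 (.leaf 0x0) (.leaf 0xd100002)) (.node 18292 (.leaf 0x0) (.node 18293 (.leaf 0x0) (.leaf 0x0)))) (.node 18296 (.node 18295 (.leaf 0x0) (.leaf 0x102050003)) (.node 18297 (.leaf 0x1080002) (.node 18298 (.leaf 0x0) (.leaf 0xa0f0d0e0004))))) (.node 18304 (.node 18301 (.node 18300 (.leaf 0x0) (.leaf 0xf100f0c0004)) (.node 18302 (.leaf 0x0) (.node 18303 (.leaf 0x0) (.leaf 0x0)))) (.node 18306 (.node 18305 (.leaf 0xc100b0f0f0c0006) (.leaf 0x0)) (.node 18307 (.leaf 0x10001) (.node 18308 (.leaf 0x10001) (.leaf 0x0))))))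

def argWS_1794 : Store := (.node 18319 (.node 18314 (.node 18311 (.node 18310 (.leaf 0x0) (.leaf 0x0)) (.node 18312 (.leaf 0xc100b0f0f0c0006) (.node 18313 (.leaf 0x110f0002) (.leaf 0x0)))) (.node 18316 (.node 18315 (.leaf 0xe100f0f0c0005) (.leaf 0x0)) (.node 18317 (.leaf 0x200060705080006) (.node 18318 (.leaf 0x0) (.leaf 0x0))))) (.node 18324 (.node 18321 (.node 18320 (.leaf 0xe100f0003) (.leaf 0x0)) (.node 18322 (.leaf 0x0) (.node 18323 (.leaf 0x701080003) (.leaf 0x20408060607090007)))) (.node 18327 (.node 18325 (.leaf 0x0) (.node 18326 (.leaf 0x0) (.leaf 0x0))) (.node 18328 (.leaf 0xf100b0d0f0c0006) (.node 18329 (.leaf 0x0) (.leaf 0x0))))))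

def argWS_1795 : Store := (.node 18309 argWS_1793 argWS_1794)

def argWS_1796 : Store := (.node 18289 argWS_1792 argWS_1795)

def argWS_1797 : Store := (.node 18340 (.node 18335 (.node 18332 (.node 18331 (.leaf 0x0) (.leaf 0x70201080004)) (.node 18333 (.leaf 0x0) (.node 18334 (.leaf 0x0) (.leaf 0x0)))) (.node 18337 (.node 18336 (.leaf 0x30401050705080007) (.leaf 0x0)) (.node 18338 (.leaf 0x0) (.node 18339 (.leaf 0x0) (.leaf 0xf100b0f0004))))) (.node 18345 (.node 18342 (.node 18341 (.leaf 0x0) (.leaf 0xd100d0e0004)) (.node 18343 (.leaf 0x400050705080006) (.node 18344 (.leaf 0x0) (.leaf 0x0)))) (.node 18347 (.node 18346 (.leaf 0x100b0d0f0c0005) (.leaf 0x200060705080006)) (.node 18348 (.leaf 0x0) (.node 18349 (.leaf 0x0) (.leaf 0x0))))))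

def argWS_1798 : Store := (.node 18360 (.node 18355 (.node 18352 (.node 18351 (.leaf 0x0) (.leaf 0x70100080004)) (.node 18353 (.leaf 0x403010003) (.node 18354 (.leaf 0x0) (.leaf 0x0)))) (.node 18357 (.node 18356 (.leaf 0x100b0c0f0c0005) (.leaf 0x0)) (.node 18358 (.leaf 0x10001) (.node 18359 (.leaf 0x0) (.leaf 0x0))))) (.node 18365 (.node 18362 (.node 18361 (.leaf 0xd110d0003) (.leaf 0x1080002)) (.node 18363 (.leaf 0x0) (.node 18364 (.leaf 0x0) (.leaf 0xe110f0d0e0005)))) (.node 18368 (.node 18366 (.leaf 0x80001) (.node 18367 (.leaf 0x80001) (.leaf 0x0))) (.node 18369 (.leaf 0x0) (.node 18370 (.leaf 0x0) (.leaf 0xc100b0d0d0e0006))))))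

def argWS_1799 : Store := (.node 18350 argWS_1797 argWS_1798)

def argWS_1800 : Store := (.node 18381 (.node 18376 (.node 18373 (.node 18372 (.leaf 0x100b0d0e0004) (.leaf 0xb0a0f0f0c0005)) (.node 18374 (.leaf 0x0) (.node 18375 (.leaf 0x0) (.leaf 0x0)))) (.node 18378 (.node 18377 (.leaf 0x0) (.leaf 0x1020002)) (.node 18379 (.leaf 0x10001) (.node 18380 (.leaf 0x0) (.leaf 0x0))))) (.node 18386 (.node 18383 (.node 18382 (.leaf 0x100b0d0f0c0005) (.leaf 0x0)) (.node 18384 (.leaf 0x70001) (.node 18385 (.leaf 0x0) (.leaf 0x0)))) (.node 18388 (.node 18387 (.leaf 0xc100c0f0c0005) (.leaf 0x0)) (.node 18389 (.leaf 0x0) (.node 18390 (.leaf 0x0) (.leaf 0x0))))))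

def argWS_1801 : Store := (.node 18401 (.node 18396 (.node 18393 (.node 18392 (.leaf 0x3000709080005) (.leaf 0x8060002)) (.node 18394 (.leaf 0x0) (.node 18395 (.leaf 0x0) (.leaf 0x0)))) (.node 18398 (.node 18397 (.leaf 0x100b0c0f0c0005) (.leaf 0x8050002)) (.node 18399 (.leaf 0x0) (.node 18400 (.leaf 0x0) (.leaf 0xc100b0f0c0005))))) (.node 18406 (.node 18403 (.node 18402 (.leaf 0x108050003) (.leaf 0x0)) (.node 18404 (.leaf 0x0) (.node 18405 (.leaf 0x100c0f0c0004) (.leaf 0x0)))) (.node 18409 (.node 18407 (.leaf 0x0) (.node 18408 (.leaf 0x0) (.leaf 0x0))) (.node 18410 (.leaf 0x70201080004) (.node 18411 (.leaf 0x0) (.leaf 0x0))))))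

def argWS_1802 : Store := (.node 18391 argWS_1800 argWS_1801)

def argWS_1803 : Store := (.node 18371 argWS_1799 argWS_1802)

def argWS_1804 : Store := (.node 18330 argWS_1796 argWS_1803)

def argWS_1805 : Store := (.node 18422 (.node 18417 (.node 18414 (.node 18413 (.leaf 0x0) (.leaf 0x0)) (.node 18415 (.leaf 0x30401050705080007) (.node 18416 (.leaf 0x0) (.leaf 0x0)))) (.node 18419 (.node 18418 (.leaf 0x0) (.leaf 0x0)) (.node 18420 (.leaf 0x7050705080005) (.node 18421 (.leaf 0x0) (.leaf 0x0))))) (.node 18427 (.node 18424 (.node 18423 (.leaf 0x0) (.leaf 0x507060607090007)) (.node 18425 (.leaf 0x40607060004) (.node 18426 (.leaf 0x0) (.leaf 0x0)))) (.node 18429 (.node 18428 (.leaf 0x0) (.leaf 0xb0a0f0d0e0005)) (.node 18430 (.leaf 0x0) (.node 18431 (.leaf 0x8060002) (.leaf 0x0))))))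

def argWS_1806 : Store := (.node 18442 (.node 18437 (.node 18434 (.node 18433 (.leaf 0x0) (.leaf 0xf0d0e0003)) (.node 18435 (.leaf 0xf100d0003) (.node 18436 (.leaf 0x108050003) (.leaf 0x0)))) (.node 18439 (.node 18438 (.leaf 0x0) (.leaf 0x108060003)) (.node 18440 (.leaf 0x0) (.node 18441 (.leaf 0x0) (.leaf 0xc100f0003))))) (.node 18447 (.node 18444 (.node 18443 (.leaf 0xa0d0d0e0004) (.leaf 0x8050002)) (.node 18445 (.leaf 0x0) (.node 18446 (.leaf 0x0) (.leaf 0x302050705080006)))) (.node 18449 (.node 18448 (.leaf 0x0) (.leaf 0x0)) (.node 18450 (.leaf 0x0) (.node 18451 (.leaf 0x0) (.leaf 0x0))))))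

def argWS_1807 : Store := (.node 18432 argWS_1805 argWS_1806)

def argWS_1808 : Store := (.node 18462 (.node 18457 (.node 18454 (.node 18453 (.leaf 0x7020108060705080008) (.leaf 0x0)) (.node 18455 (.leaf 0x0) (.node 18456 (.leaf 0x0) (.leaf 0x0)))) (.node 18459 (.node 18458 (.leaf 0x3040109080005) (.leaf 0xf100002)) (.node 18460 (.leaf 0x0) (.node 18461 (.leaf 0x108050003) (.leaf 0x0))))) (.node 18467 (.node 18464 (.node 18463 (.leaf 0x100b0f0c0004) (.leaf 0x0)) (.node 18465 (.leaf 0x110b0f0003) (.node 18466 (.leaf 0x0) (.leaf 0xa0f0c0003)))) (.node 18469 (.node 18468 (.leaf 0xc100b0e0004) (.leaf 0xa0d0002)) (.node 18470 (.leaf 0x8060002) (.node 18471 (.leaf 0x0) (.leaf 0x0))))))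

def argWS_1809 : Store := (.node 18482 (.node 18477 (.node 18474 (.node 18473 (.leaf 0x0) (.leaf 0xc0f0c0003)) (.node 18475 (.leaf 0x70001) (.node 18476 (.leaf 0x0) (.leaf 0x0)))) (.node 18479 (.node 18478 (.leaf 0x0) (.leaf 0xe100f0c0004)) (.node 18480 (.leaf 0x10001) (.node 18481 (.leaf 0x10001) (.leaf 0x0))))) (.node 18487 (.node 18484 (.node 18483 (.leaf 0x0) (.leaf 0x0)) (.node 18485 (.leaf 0x110b0c0003) (.node 18486 (.leaf 0xd110d0f0c0005) (.leaf 0x0)))) (.node 18490 (.node 18488 (.leaf 0x0) (.node 18489 (.leaf 0x0) (.leaf 0x70100050707090007))) (.node 18491 (.leaf 0x200060707090006) (.node 18492 (.leaf 0x0) (.leaf 0x0))))))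

def argWS_1810 : Store := (.node 18472 argWS_1808 argWS_1809)

def argWS_1811 : Store := (.node 18452 argWS_1807 argWS_1810)

def argWS_1812 : Store := (.node 18503 (.node 18498 (.node 18495 (.node 18494 (.leaf 0x0) (.leaf 0xc100c0003)) (.node 18496 (.leaf 0x3040108050705080008) (.node 18497 (.leaf 0x0) (.leaf 0xa0d0002)))) (.node 18500 (.node 18499 (.leaf 0x110b0d0e0004) (.leaf 0x0)) (.node 18501 (.leaf 0x0) (.node 18502 (.leaf 0x100b0002) (.leaf 0x100f0002))))) (.node 18508 (.node 18505 (.node 18504 (.leaf 0x10001) (.leaf 0x10001)) (.node 18506 (.leaf 0x0) (.node 18507 (.leaf 0x0) (.leaf 0x0)))) (.node 18510 (.node 18509 (.leaf 0xe100d0003) (.leaf 0x10001)) (.node 18511 (.leaf 0x10001) (.node 18512 (.leaf 0x0) (.leaf 0x0))))))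

def argWS_1813 : Store := (.node 18523 (.node 18518 (.node 18515 (.node 18514 (.leaf 0x0) (.leaf 0xd110f0c0004)) (.node 18516 (.leaf 0x110b0d0e0004) (.node 18517 (.leaf 0x10001) (.leaf 0x10001)))) (.node 18520 (.node 18519 (.leaf 0x0) (.leaf 0x0)) (.node 18521 (.leaf 0x0) (.node 18522 (.leaf 0xe100f0f0c0005) (.leaf 0xe110f0003))))) (.node 18528 (.node 18525 (.node 18524 (.leaf 0x0) (.leaf 0x0)) (.node 18526 (.leaf 0x7010002) (.node 18527 (.leaf 0xb0a0f0003) (.leaf 0x0)))) (.node 18531 (.node 18529 (.leaf 0x0) (.node 18530 (.leaf 0x0) (.leaf 0x0))) (.node 18532 (.leaf 0x0) (.node 18533 (.leaf 0x0) (.leaf 0xc100f0c0004))))))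

def argWS_1814 : Store := (.node 18513 argWS_1812 argWS_1813)

def argWS_1815 : Store := (.node 18544 (.node 18539 (.node 18536 (.node 18535 (.leaf 0x0) (.leaf 0xf0001)) (.node 18537 (.leaf 0x0) (.node 18538 (.leaf 0x2010705080005) (.leaf 0x0)))) (.node 18541 (.node 18540 (.leaf 0x0) (.leaf 0xb0f0002)) (.node 18542 (.leaf 0x0) (.node 18543 (.leaf 0x10001) (.leaf 0x10001))))) (.node 18549 (.node 18546 (.node 18545 (.leaf 0x0) (.leaf 0x0)) (.node 18547 (.leaf 0x0) (.node 18548 (.leaf 0xe100c0003) (.leaf 0xc0f0c0003)))) (.node 18551 (.node 18550 (.leaf 0x8050002) (.leaf 0x0)) (.node 18552 (.leaf 0x0) (.node 18553 (.leaf 0x0) (.leaf 0x110b0e0003))))))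

def argWS_1816 : Store := (.node 18564 (.node 18559 (.node 18556 (.node 18555 (.leaf 0x70201060607090007) (.leaf 0x0)) (.node 18557 (.leaf 0x0) (.node 18558 (.leaf 0x0) (.leaf 0x0)))) (.node 18561 (.node 18560 (.leaf 0x0) (.leaf 0x0)) (.node 18562 (.leaf 0x403070905080006) (.node 18563 (.leaf 0x0) (.leaf 0x0))))) (.node 18569 (.node 18566 (.node 18565 (.leaf 0x30401070905080007) (.leaf 0x0)) (.node 18567 (.leaf 0x0) (.node 18568 (.leaf 0x0) (.leaf 0x70100060004)))) (.node 18572 (.node 18570 (.leaf 0x70001) (.node 18571 (.leaf 0x0) (.leaf 0x0))) (.node 18573 (.leaf 0x0) (.node 18574 (.leaf 0x8060705080006) (.leaf 0x0))))))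

def argWS_1817 : Store := (.node 18554 argWS_1815 argWS_1816)

def argWS_1818 : Store := (.node 18534 argWS_1814 argWS_1817)

def argWS_1819 : Store := (.node 18493 argWS_1811 argWS_1818)

def argWS_1820 : Store := (.node 18412 argWS_1804 argWS_1819)

def argWS_1821 : Store := (.node 18585 (.node 18580 (.node 18577 (.node 18576 (.leaf 0x0) (.leaf 0x1070905080005)) (.node 18578 (.leaf 0x30005080004) (.node 18579 (.leaf 0x0) (.leaf 0x0)))) (.node 18582 (.node 18581 (.leaf 0x0) (.leaf 0x100e0002)) (.node 18583 (.leaf 0x10001) (.node 18584 (.leaf 0x10001) (.leaf 0x0))))) (.node 18590 (.node 18587 (.node 18586 (.leaf 0x0) (.leaf 0x0)) (.node 18588 (.leaf 0x8060705080006) (.node 18589 (.leaf 0x0) (.leaf 0x0)))) (.node 18592 (.node 18591 (.leaf 0x1070905080005) (.leaf 0x30105080004)) (.node 18593 (.leaf 0x0) (.node 18594 (.leaf 0x0) (.leaf 0x0))))))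

def argWS_1822 : Store := (.node 18605 (.node 18600 (.node 18597 (.node 18596 (.leaf 0x110e0002) (.leaf 0xe110f0c0004)) (.node 18598 (.leaf 0x0) (.node 18599 (.leaf 0x0) (.leaf 0x0)))) (.node 18602 (.node 18601 (.leaf 0x4000905080005) (.leaf 0x205070003)) (.node 18603 (.leaf 0x0) (.node 18604 (.leaf 0x0) (.leaf 0x0))))) (.node 18610 (.node 18607 (.node 18606 (.leaf 0xa0e0002) (.leaf 0x10001)) (.node 18608 (.leaf 0x10001) (.node 18609 (.leaf 0x0) (.leaf 0x0)))) (.node 18612 (.node 18611 (.leaf 0x0) (.leaf 0xd100002)) (.node 18613 (.leaf 0x2050002) (.node 18614 (.leaf 0x0) (.leaf 0x0))))))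

def argWS_1823 : Store := (.node 18595 argWS_1821 argWS_1822)

def argWS_1824 : Store := (.node 18625 (.node 18620 (.node 18617 (.node 18616 (.leaf 0xe100f0003) (.leaf 0xb0a0e0003)) (.node 18618 (.leaf 0xb0f0c0003) (.node 18619 (.leaf 0x80001) (.leaf 0x0)))) (.node 18622 (.node 18621 (.leaf 0x0) (.leaf 0x100b0d0f0c0005)) (.node 18623 (.leaf 0x1080002) (.node 18624 (.leaf 0x0) (.leaf 0x0))))) (.node 18630 (.node 18627 (.node 18626 (.leaf 0xf100d0d0e0005) (.leaf 0x0)) (.node 18628 (.leaf 0x0) (.node 18629 (.leaf 0x0) (.leaf 0x0)))) (.node 18632 (.node 18631 (.leaf 0x0) (.leaf 0x705080003)) (.node 18633 (.leaf 0x0) (.node 18634 (.leaf 0x0) (.leaf 0x0))))))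

def argWS_1825 : Store := (.node 18645 (.node 18640 (.node 18637 (.node 18636 (.leaf 0x0) (.leaf 0x203060003)) (.node 18638 (.leaf 0x8060002) (.node 18639 (.leaf 0x0) (.leaf 0x0)))) (.node 18642 (.node 18641 (.leaf 0x0) (.leaf 0xa0f0d0e0004)) (.node 18643 (.leaf 0x10001) (.node 18644 (.leaf 0x10001) (.leaf 0x0))))) (.node 18650 (.node 18647 (.node 18646 (.leaf 0x0) (.leaf 0x0)) (.node 18648 (.leaf 0xf100d0e0004) (.node 18649 (.leaf 0x0) (.leaf 0x0)))) (.node 18653 (.node 18651 (.leaf 0x0) (.node 18652 (.leaf 0x0) (.leaf 0x20301060004))) (.node 18654 (.leaf 0x10001) (.node 18655 (.leaf 0x0) (.leaf 0x0))))))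

def argWS_1826 : Store := (.node 18635 argWS_1824 argWS_1825)

def argWS_1827 : Store := (.node 18615 argWS_1823 argWS_1826)

def argWS_1828 : Store := (.node 18666 (.node 18661 (.node 18658 (.node 18657 (.leaf 0x100b0f0c0004) (.leaf 0x0)) (.node 18659 (.leaf 0x0) (.node 18660 (.leaf 0x0) (.leaf 0x10001)))) (.node 18663 (.node 18662 (.leaf 0x30201050004) (.leaf 0x0)) (.node 18664 (.leaf 0x0) (.node 18665 (.leaf 0x0) (.leaf 0x70102080607090007))))) (.node 18671 (.node 18668 (.node 18667 (.leaf 0x0) (.leaf 0x0)) (.node 18669 (.leaf 0x0) (.node 18670 (.leaf 0x701080003) (.leaf 0x2000709080005)))) (.node 18673 (.node 18672 (.leaf 0x0) (.leaf 0x0)) (.node 18674 (.leaf 0x0) (.node 18675 (.leaf 0xf100002) (.leaf 0x0))))))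

def argWS_1829 : Store := (.node 18686 (.node 18681 (.node 18678 (.node 18677 (.leaf 0x0) (.leaf 0x0)) (.node 18679 (.leaf 0xb0f0002) (.node 18680 (.leaf 0x0) (.leaf 0x100b0d0003)))) (.node 18683 (.node 18682 (.leaf 0x10001) (.leaf 0x4030109080005)) (.node 18684 (.leaf 0x0) (.node 18685 (.leaf 0x10001) (.leaf 0x7010007060005))))) (.node 18691 (.node 18688 (.node 18687 (.leaf 0x0) (.leaf 0x0)) (.node 18689 (.leaf 0x0) (.node 18690 (.leaf 0x0) (.leaf 0xa0d0d0e0004)))) (.node 18694 (.node 18692 (.leaf 0x8060002) (.node 18693 (.leaf 0x0) (.leaf 0x0))) (.node 18695 (.leaf 0x0) (.node 18696 (.leaf 0x0) (.leaf 0x1000507060607090008))))))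

def argWS_1830 : Store := (.node 18676 argWS_1828 argWS_1829)

def argWS_1831 : Store := (.node 18707 (.node 18702 (.node 18699 (.node 18698 (.leaf 0x20007060004) (.leaf 0x0)) (.node 18700 (.leaf 0x0) (.node 18701 (.leaf 0x0) (.leaf 0xf100b0c0f0c0006)))) (.node 18704 (.node 18703 (.leaf 0x10001) (.leaf 0x0)) (.node 18705 (.leaf 0x0) (.node 18706 (.leaf 0x100b0d0003) (.leaf 0x0))))) (.node 18712 (.node 18709 (.node 18708 (.leaf 0x0) (.leaf 0x0)) (.node 18710 (.leaf 0x10001) (.node 18711 (.leaf 0xb0a0d0e0004) (.leaf 0xb0a0d0e0004)))) (.node 18714 (.node 18713 (.leaf 0xc100b0d0f0c0006) (.leaf 0x8060002)) (.node 18715 (.leaf 0x30001) (.node 18716 (.leaf 0x0) (.leaf 0x4010507060607090008))))))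

def argWS_1832 : Store := (.node 18727 (.node 18722 (.node 18719 (.node 18718 (.leaf 0x0) (.leaf 0x0)) (.node 18720 (.leaf 0x0) (.node 18721 (.leaf 0x0) (.leaf 0x4000905080005)))) (.node 18724 (.node 18723 (.leaf 0x302010607060607090009) (.leaf 0x0)) (.node 18725 (.leaf 0x0) (.node 18726 (.leaf 0x0) (.leaf 0xd110d0f0c0005))))) (.node 18732 (.node 18729 (.node 18728 (.leaf 0xf100d0d0e0005) (.leaf 0x100b0d0f0c0005)) (.node 18730 (.leaf 0xd110c0003) (.node 18731 (.leaf 0x10001) (.leaf 0x0)))) (.node 18735 (.node 18733 (.leaf 0x0) (.node 18734 (.leaf 0x8050002) (.leaf 0x0))) (.node 18736 (.leaf 0x0) (.node 18737 (.leaf 0x0) (.leaf 0x102090003))))))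

def argWS_1833 : Store := (.node 18717 argWS_1831 argWS_1832)

def argWS_1834 : Store := (.node 18697 argWS_1830 argWS_1833)

def argWS_1835 : Store := (.node 18656 argWS_1827 argWS_1834)

def argWS_1836 : Store := (.node 18748 (.node 18743 (.node 18740 (.node 18739 (.leaf 0x3020108050705080008) (.leaf 0x0)) (.node 18741 (.leaf 0x0) (.node 18742 (.leaf 0x0) (.leaf 0x100d0e0003)))) (.node 18745 (.node 18744 (.leaf 0x0) (.leaf 0x0)) (.node 18746 (.leaf 0x102090003) (.node 18747 (.leaf 0x108060003) (.leaf 0x0))))) (.node 18753 (.node 18750 (.node 18749 (.leaf 0xc100b0f0c0005) (.leaf 0x0)) (.node 18751 (.leaf 0x0) (.node 18752 (.leaf 0x0) (.leaf 0x0)))) (.node 18755 (.node 18754 (.leaf 0x0) (.leaf 0x206070003)) (.node 18756 (.leaf 0x0) (.node 18757 (.leaf 0x701080003) (.leaf 0x701070003))))))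

def argWS_1837 : Store := (.node 18768 (.node 18763 (.node 18760 (.node 18759 (.leaf 0x0) (.leaf 0x0)) (.node 18761 (.leaf 0x0) (.node 18762 (.leaf 0x110d0d0e0004) (.leaf 0x110d0d0e0004)))) (.node 18765 (.node 18764 (.leaf 0xd110002) (.leaf 0x8060002)) (.node 18766 (.leaf 0x709080004) (.node 18767 (.leaf 0x0) (.leaf 0x0))))) (.node 18773 (.node 18770 (.node 18769 (.leaf 0x0) (.leaf 0x0)) (.node 18771 (.leaf 0xf100d0e0004) (.node 18772 (.leaf 0x0) (.leaf 0x110f0002)))) (.node 18775 (.node 18774 (.leaf 0x0) (.leaf 0x0)) (.node 18776 (.leaf 0xc100b0d0f0c0006) (.node 18777 (.leaf 0x50705080004) (.leaf 0x0))))))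

def argWS_1838 : Store := (.node 18758 argWS_1836 argWS_1837)

def argWS_1839 : Store := (.node 18788 (.node 18783 (.node 18780 (.node 18779 (.leaf 0x0) (.leaf 0x0)) (.node 18781 (.leaf 0x0) (.node 18782 (.leaf 0x0) (.leaf 0x9080002)))) (.node 18785 (.node 18784 (.leaf 0xf0c0002) (.leaf 0x10001)) (.node 18786 (.leaf 0x0) (.node 18787 (.leaf 0x0) (.leaf 0x3090002))))) (.node 18793 (.node 18790 (.node 18789 (.leaf 0x10607060705080007) (.leaf 0x0)) (.node 18791 (.leaf 0x0) (.node 18792 (.leaf 0x0) (.leaf 0x100f0002)))) (.node 18795 (.node 18794 (.leaf 0xc100f0003) (.leaf 0x110c0f0c0004)) (.node 18796 (.leaf 0x110f0d0e0004) (.node 18797 (.leaf 0x0) (.leaf 0x1070905080005))))))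

def argWS_1840 : Store := (.node 18808 (.node 18803 (.node 18800 (.node 18799 (.leaf 0x70905080004) (.leaf 0x0)) (.node 18801 (.leaf 0x0) (.node 18802 (.leaf 0x0) (.leaf 0x110f0f0c0004)))) (.node 18805 (.node 18804 (.leaf 0x10001) (.leaf 0x10001)) (.node 18806 (.leaf 0x0) (.node 18807 (.leaf 0x0) (.leaf 0x0))))) (.node 18813 (.node 18810 (.node 18809 (.leaf 0xa0c0002) (.leaf 0x20107060607090007)) (.node 18811 (.leaf 0x0) (.node 18812 (.leaf 0x0) (.leaf 0x0)))) (.node 18816 (.node 18814 (.leaf 0x0) (.node 18815 (.leaf 0x6070705080006) (.leaf 0x10006070705080007))) (.node 18817 (.leaf 0x0) (.node 18818 (.leaf 0x0) (.leaf 0x0))))))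

def argWS_1841 : Store := (.node 18798 argWS_1839 argWS_1840)

def argWS_1842 : Store := (.node 18778 argWS_1838 argWS_1841)

def argWS_1843 : Store := (.node 18829 (.node 18824 (.node 18821 (.node 18820 (.leaf 0x100d0e0003) (.leaf 0xf100b0f0004)) (.node 18822 (.leaf 0x1070002) (.node 18823 (.leaf 0x0) (.leaf 0x0)))) (.node 18826 (.node 18825 (.leaf 0xd110f0d0e0005) (.leaf 0x8060002)) (.node 18827 (.leaf 0x0) (.node 18828 (.leaf 0x0) (.leaf 0xf100c0003))))) (.node 18834 (.node 18831 (.node 18830 (.leaf 0xc100f0c0004) (.leaf 0x2050002)) (.node 18832 (.leaf 0x0) (.node 18833 (.leaf 0xb0c0f0c0004) (.leaf 0x1080002)))) (.node 18836 (.node 18835 (.leaf 0x40308060705080007) (.leaf 0x0)) (.node 18837 (.leaf 0x0) (.node 18838 (.leaf 0x0) (.leaf 0x0))))))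

def argWS_1844 : Store := (.node 18849 (.node 18844 (.node 18841 (.node 18840 (.leaf 0xd100d0e0004) (.leaf 0x10001)) (.node 18842 (.leaf 0x10001) (.node 18843 (.leaf 0x0) (.leaf 0x0)))) (.node 18846 (.node 18845 (.leaf 0x0) (.leaf 0x100d0d0e0004)) (.node 18847 (.leaf 0x1070002) (.node 18848 (.leaf 0x40207060705080007) (.leaf 0x0))))) (.node 18854 (.node 18851 (.node 18850 (.leaf 0x0) (.leaf 0x0)) (.node 18852 (.leaf 0x0) (.node 18853 (.leaf 0xe110f0f0c0005) (.leaf 0x10001)))) (.node 18857 (.node 18855 (.leaf 0x10001) (.node 18856 (.leaf 0x0) (.leaf 0x0))) (.node 18858 (.leaf 0x0) (.node 18859 (.leaf 0xf0c0002) (.leaf 0xb0c0002))))))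

def argWS_1845 : Store := (.node 18839 argWS_1843 argWS_1844)

def argWS_1846 : Store := (.node 18870 (.node 18865 (.node 18862 (.node 18861 (.leaf 0xf100d0e0004) (.leaf 0xf100e0003)) (.node 18863 (.leaf 0xd110f0f0c0005) (.node 18864 (.leaf 0x110b0d0e0004) (.leaf 0xb0a0f0c0004)))) (.node 18867 (.node 18866 (.leaf 0x30009080004) (.leaf 0x30201050004)) (.node 18868 (.leaf 0x0) (.node 18869 (.leaf 0x0) (.leaf 0x0))))) (.node 18875 (.node 18872 (.node 18871 (.leaf 0xc0f0c0003) (.leaf 0x70201080905080007)) (.node 18873 (.leaf 0x0) (.node 18874 (.leaf 0x1070002) (.leaf 0x0)))) (.node 18877 (.node 18876 (.leaf 0x0) (.leaf 0x0)) (.node 18878 (.leaf 0x100d0f0c0004) (.node 18879 (.leaf 0x0) (.leaf 0x0))))))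

def argWS_1847 : Store := (.node 18890 (.node 18885 (.node 18882 (.node 18881 (.leaf 0x905080003) (.leaf 0x0)) (.node 18883 (.leaf 0x100c0002) (.node 18884 (.leaf 0x0) (.leaf 0x100070003)))) (.node 18887 (.node 18886 (.leaf 0x0) (.leaf 0x0)) (.node 18888 (.leaf 0xe110c0003) (.node 18889 (.leaf 0x110c0002) (.leaf 0xe100d0003))))) (.node 18895 (.node 18892 (.node 18891 (.leaf 0x110b0d0e0004) (.leaf 0xb0a0d0e0004)) (.node 18893 (.leaf 0xc100b0d0d0e0006) (.node 18894 (.leaf 0xf100f0d0e0005) (.leaf 0xd100c0f0c0005)))) (.node 18898 (.node 18896 (.leaf 0x70001) (.node 18897 (.leaf 0x0) (.leaf 0x0))) (.node 18899 (.leaf 0x0) (.node 18900 (.leaf 0xb0a0d0f0c0005) (.leaf 0x0))))))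

def argWS_1848 : Store := (.node 18880 argWS_1846 argWS_1847)

def argWS_1849 : Store := (.node 18860 argWS_1845 argWS_1848)

def argWS_1850 : Store := (.node 18819 argWS_1842 argWS_1849)

def argWS_1851 : Store := (.node 18738 argWS_1835 argWS_1850)

def argWS_1852 : Store := (.node 18575 argWS_1820 argWS_1851)

def argWS_1853 : Store := (.node 18911 (.node 18906 (.node 18903 (.node 18902 (.leaf 0x0) (.leaf 0x0)) (.node 18904 (.leaf 0x0) (.node 18905 (.leaf 0x10207090004) (.leaf 0x10001)))) (.node 18908 (.node 18907 (.leaf 0x10001) (.leaf 0x0)) (.node 18909 (.leaf 0x0) (.node 18910 (.leaf 0x0) (.leaf 0xd110f0c0004))))) (.node 18916 (.node 18913 (.node 18912 (.leaf 0x0) (.leaf 0x0)) (.node 18914 (.leaf 0x0) (.node 18915 (.leaf 0x0) (.leaf 0x30109080607090007)))) (.node 18918 (.node 18917 (.leaf 0x30208060705080007) (.leaf 0x0)) (.node 18919 (.leaf 0x0) (.node 18920 (.leaf 0x0) (.leaf 0x905080004))))))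

def argWS_1854 : Store := (.node 18931 (.node 18926 (.node 18923 (.node 18922 (.leaf 0x0) (.leaf 0x7010208050705080008)) (.node 18924 (.leaf 0x7010208050705080008) (.node 18925 (.leaf 0x0) (.leaf 0x1070002)))) (.node 18928 (.node 18927 (.leaf 0x0) (.leaf 0x0)) (.node 18929 (.leaf 0x0) (.node 18930 (.leaf 0xa0f0f0c0004) (.leaf 0x7010209080005))))) (.node 18936 (.node 18933 (.node 18932 (.leaf 0x0) (.leaf 0x10001)) (.node 18934 (.leaf 0x10001) (.node 18935 (.leaf 0x0) (.leaf 0x0)))) (.node 18938 (.node 18937 (.leaf 0x0) (.leaf 0x100f0f0c0004)) (.node 18939 (.leaf 0xe110d0e0004) (.node 18940 (.leaf 0x0) (.leaf 0x0))))))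

def argWS_1855 : Store := (.node 18921 argWS_1853 argWS_1854)

def argWS_1856 : Store := (.node 18951 (.node 18946 (.node 18943 (.node 18942 (.leaf 0x0) (.leaf 0x203050705080006)) (.node 18944 (.leaf 0x0) (.node 18945 (.leaf 0x0) (.leaf 0x0)))) (.node 18948 (.node 18947 (.leaf 0x905080003) (.leaf 0x1070002)) (.node 18949 (.leaf 0x0) (.node 18950 (.leaf 0x0) (.leaf 0x0))))) (.node 18956 (.node 18953 (.node 18952 (.leaf 0xb0f0002) (.leaf 0x10001)) (.node 18954 (.leaf 0x10001) (.node 18955 (.leaf 0x0) (.leaf 0x0)))) (.node 18958 (.node 18957 (.leaf 0x0) (.leaf 0xb0a0f0003)) (.node 18959 (.leaf 0x0) (.node 18960 (.leaf 0x0) (.leaf 0x0))))))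

def argWS_1857 : Store := (.node 18971 (.node 18966 (.node 18963 (.node 18962 (.leaf 0x702010809080006) (.leaf 0x0)) (.node 18964 (.leaf 0x0) (.node 18965 (.leaf 0x0) (.leaf 0x4050002)))) (.node 18968 (.node 18967 (.leaf 0xd110f0c0004) (.leaf 0x0)) (.node 18969 (.leaf 0x507060607090007) (.node 18970 (.leaf 0x20406070004) (.leaf 0x0))))) (.node 18976 (.node 18973 (.node 18972 (.leaf 0x0) (.leaf 0x0)) (.node 18974 (.leaf 0xd110d0e0004) (.node 18975 (.leaf 0x10001) (.leaf 0x10001)))) (.node 18979 (.node 18977 (.leaf 0x0) (.node 18978 (.leaf 0x0) (.leaf 0x0))) (.node 18980 (.leaf 0x100b0d0f0c0005) (.node 18981 (.leaf 0x8050002) (.leaf 0x0))))))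

def argWS_1858 : Store := (.node 18961 argWS_1856 argWS_1857)

def argWS_1859 : Store := (.node 18941 argWS_1855 argWS_1858)

def argWS_1860 : Store := (.node 18992 (.node 18987 (.node 18984 (.node 18983 (.leaf 0x0) (.leaf 0x0)) (.node 18985 (.leaf 0xf100b0f0c0005) (.node 18986 (.leaf 0x10001) (.leaf 0x10001)))) (.node 18989 (.node 18988 (.leaf 0x0) (.leaf 0x0)) (.node 18990 (.leaf 0x0) (.node 18991 (.leaf 0xe100c0003) (.leaf 0x1070002))))) (.node 18997 (.node 18994 (.node 18993 (.leaf 0x0) (.leaf 0x0)) (.node 18995 (.leaf 0x0) (.node 18996 (.leaf 0xf100f0d0e0005) (.leaf 0x10001)))) (.node 18999 (.node 18998 (.leaf 0x10001) (.leaf 0x0)) (.node 19000 (.leaf 0x0) (.node 19001 (.leaf 0x0) (.leaf 0x100b0c0f0c0005))))))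

def argWS_1861 : Store := (.node 19012 (.node 19007 (.node 19004 (.node 19003 (.leaf 0x7010208060705080008) (.leaf 0x0)) (.node 19005 (.leaf 0xb0f0002) (.node 19006 (.leaf 0xf100b0d0e0005) (.leaf 0x10001)))) (.node 19009 (.node 19008 (.leaf 0x10001) (.leaf 0x0)) (.node 19010 (.leaf 0x0) (.node 19011 (.leaf 0x0) (.leaf 0x110e0002))))) (.node 19017 (.node 19014 (.node 19013 (.leaf 0x70102080905080007) (.leaf 0x0)) (.node 19015 (.leaf 0x0) (.node 19016 (.leaf 0x110f0d0e0004) (.leaf 0x304010003)))) (.node 19020 (.node 19018 (.leaf 0x0) (.node 19019 (.leaf 0x201060607090006) (.leaf 0x0))) (.node 19021 (.leaf 0x110e0002) (.node 19022 (.leaf 0x110001) (.leaf 0xf0d0e0003))))))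

def argWS_1862 : Store := (.node 19002 argWS_1860 argWS_1861)

def argWS_1863 : Store := (.node 19033 (.node 19028 (.node 19025 (.node 19024 (.leaf 0xd110d0d0e0005) (.leaf 0xe100f0c0004)) (.node 19026 (.leaf 0x10001) (.node 19027 (.leaf 0x0) (.leaf 0x100b0c0f0c0005)))) (.node 19030 (.node 19029 (.leaf 0xc100002) (.leaf 0xe100f0003)) (.node 19031 (.leaf 0xf0c0002) (.node 19032 (.leaf 0x10001) (.leaf 0x0))))) (.node 19038 (.node 19035 (.node 19034 (.leaf 0x0) (.leaf 0x100f0c0003)) (.node 19036 (.leaf 0x40301060607090007) (.node 19037 (.leaf 0x0) (.leaf 0x0)))) (.node 19040 (.node 19039 (.leaf 0x0) (.leaf 0x0)) (.node 19041 (.leaf 0x0) (.node 19042 (.leaf 0x403010607090006) (.leaf 0x10001))))))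

def argWS_1864 : Store := (.node 19053 (.node 19048 (.node 19045 (.node 19044 (.leaf 0x10001) (.leaf 0x0)) (.node 19046 (.leaf 0x0) (.node 19047 (.leaf 0x0) (.leaf 0xe100f0003)))) (.node 19050 (.node 19049 (.leaf 0x10001) (.leaf 0x0)) (.node 19051 (.leaf 0x0) (.node 19052 (.leaf 0xb0a0e0003) (.leaf 0x0))))) (.node 19058 (.node 19055 (.node 19054 (.leaf 0x0) (.leaf 0x0)) (.node 19056 (.leaf 0x10001) (.node 19057 (.leaf 0xf100002) (.leaf 0x201060003)))) (.node 19061 (.node 19059 (.leaf 0x0) (.node 19060 (.leaf 0x40201060004) (.leaf 0x0))) (.node 19062 (.leaf 0xb0a0f0d0e0005) (.node 19063 (.leaf 0xd100d0d0e0005) (.leaf 0xc100c0003))))))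

def argWS_1865 : Store := (.node 19043 argWS_1863 argWS_1864)

def argWS_1866 : Store := (.node 19023 argWS_1862 argWS_1865)

def argWS_1867 : Store := (.node 18982 argWS_1859 argWS_1866)

def argWS_1868 : Store := (.node 19074 (.node 19069 (.node 19066 (.node 19065 (.leaf 0x0) (.leaf 0x2010905080005)) (.node 19067 (.leaf 0x302010507050006) (.node 19068 (.leaf 0x0) (.leaf 0x0)))) (.node 19071 (.node 19070 (.leaf 0x0) (.leaf 0xc100b0e0004)) (.node 19072 (.leaf 0x0) (.node 19073 (.leaf 0x0) (.leaf 0xb0a0f0c0004))))) (.node 19079 (.node 19076 (.node 19075 (.leaf 0x10001) (.leaf 0x10001)) (.node 19077 (.leaf 0x0) (.node 19078 (.leaf 0x0) (.leaf 0x0)))) (.node 19081 (.node 19080 (.leaf 0xd110c0f0c0005) (.leaf 0xf100b0f0d0e0006)) (.node 19082 (.leaf 0xc100b0d0f0c0006) (.node 19083 (.leaf 0xf100b0c0004) (.leaf 0x0))))))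

def argWS_1869 : Store := (.node 19094 (.node 19089 (.node 19086 (.node 19085 (.leaf 0x302060003) (.leaf 0x0)) (.node 19087 (.leaf 0x4000705080005) (.node 19088 (.leaf 0x0) (.leaf 0xf100b0d0d0e0006)))) (.node 19091 (.node 19090 (.leaf 0x0) (.leaf 0x4030709080607090008)) (.node 19092 (.leaf 0x1030709080607090008) (.node 19093 (.leaf 0x0) (.leaf 0x0))))) (.node 19099 (.node 19096 (.node 19095 (.leaf 0x0) (.leaf 0xb0a0002)) (.node 19097 (.leaf 0x201050003) (.node 19098 (.leaf 0x0) (.leaf 0x0)))) (.node 19101 (.node 19100 (.leaf 0x0) (.leaf 0x100f0c0003)) (.node 19102 (.leaf 0x0) (.node 19103 (.leaf 0x0) (.leaf 0xe100e0003))))))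

def argWS_1870 : Store := (.node 19084 argWS_1868 argWS_1869)

def argWS_1871 : Store := (.node 19114 (.node 19109 (.node 19106 (.node 19105 (.leaf 0x10001) (.leaf 0x10001)) (.node 19107 (.leaf 0x0) (.node 19108 (.leaf 0x0) (.leaf 0x0)))) (.node 19111 (.node 19110 (.leaf 0xe110e0003) (.leaf 0x0)) (.node 19112 (.leaf 0xf100b0c0004) (.node 19113 (.leaf 0x0) (.leaf 0x110d0f0c0004))))) (.node 19119 (.node 19116 (.node 19115 (.leaf 0x0) (.leaf 0x0)) (.node 19117 (.leaf 0x103050003) (.node 19118 (.leaf 0x0) (.leaf 0x0)))) (.node 19121 (.node 19120 (.leaf 0x102060003) (.leaf 0xd110d0f0c0005)) (.node 19122 (.leaf 0x10001) (.node 19123 (.leaf 0x10001) (.leaf 0x0))))))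

def argWS_1872 : Store := (.node 19134 (.node 19129 (.node 19126 (.node 19125 (.leaf 0x0) (.leaf 0x0)) (.node 19127 (.leaf 0xe110f0003) (.node 19128 (.leaf 0x407090003) (.leaf 0x0)))) (.node 19131 (.node 19130 (.leaf 0x0) (.leaf 0x0)) (.node 19132 (.leaf 0x0) (.node 19133 (.leaf 0x0) (.leaf 0x0))))) (.node 19139 (.node 19136 (.node 19135 (.leaf 0x60001) (.leaf 0x50001)) (.node 19137 (.leaf 0x0) (.node 19138 (.leaf 0x0) (.leaf 0x0)))) (.node 19142 (.node 19140 (.leaf 0x70100080004) (.node 19141 (.leaf 0x70100080004) (.leaf 0x0))) (.node 19143 (.leaf 0x0) (.node 19144 (.leaf 0x0) (.leaf 0x0))))))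

def argWS_1873 : Store := (.node 19124 argWS_1871 argWS_1872)

def argWS_1874 : Store := (.node 19104 argWS_1870 argWS_1873)

def argWS_1875 : Store := (.node 19155 (.node 19150 (.node 19147 (.node 19146 (.leaf 0x0) (.leaf 0x0)) (.node 19148 (.leaf 0x304060709080607090009) (.node 19149 (.leaf 0x1020507050705080008) (.leaf 0x0)))) (.node 19152 (.node 19151 (.leaf 0xf100f0f0c0005) (.leaf 0x0)) (.node 19153 (.leaf 0xb0a0d0e0004) (.node 19154 (.leaf 0xc0f0c0003) (.leaf 0xb0c0f0c0004))))) (.node 19160 (.node 19157 (.node 19156 (.leaf 0xf0001) (.leaf 0xb0d0f0c0004)) (.node 19158 (.leaf 0x110d0f0c0004) (.node 19159 (.leaf 0x4ad5004ad4004ad3004ad2004ad1004ad0) (.leaf 0x0)))) (.node 19162 (.node 19161 (.leaf 0x5070607090006) (.leaf 0x408050003)) (.node 19163 (.leaf 0x0) (.node 19164 (.leaf 0x0) (.leaf 0x0))))))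

def argWS_1876 : Store := (.node 19175 (.node 19170 (.node 19167 (.node 19166 (.leaf 0xb0a0e0003) (.leaf 0x0)) (.node 19168 (.leaf 0x5070607090006) (.node 19169 (.leaf 0x0) (.leaf 0xd0f0c0003)))) (.node 19172 (.node 19171 (.leaf 0x80001) (.leaf 0x0)) (.node 19173 (.leaf 0x0) (.node 19174 (.leaf 0x100b0f0003) (.leaf 0x0))))) (.node 19180 (.node 19177 (.node 19176 (.leaf 0x0) (.leaf 0x0)) (.node 19178 (.leaf 0x0) (.node 19179 (.leaf 0x70102090004) (.leaf 0x10001)))) (.node 19183 (.node 19181 (.leaf 0x0) (.node 19182 (.leaf 0x0) (.leaf 0x100f0002))) (.node 19184 (.leaf 0xa0f0f0c0004) (.node 19185 (.leaf 0x0) (.leaf 0x3040106070705080008))))))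

def argWS_1877 : Store := (.node 19165 argWS_1875 argWS_1876)

def argWS_1878 : Store := (.node 19196 (.node 19191 (.node 19188 (.node 19187 (.leaf 0x20607060705080007) (.leaf 0x0)) (.node 19189 (.leaf 0xc100f0f0c0005) (.node 19190 (.leaf 0x0) (.leaf 0xb0c0002)))) (.node 19193 (.node 19192 (.leaf 0x100b0c0003) (.leaf 0x0)) (.node 19194 (.leaf 0x10406070705080007) (.node 19195 (.leaf 0x402010607060607090009) (.leaf 0x0))))) (.node 19201 (.node 19198 (.node 19197 (.leaf 0xe100f0d0e0005) (.leaf 0x0)) (.node 19199 (.leaf 0xd100f0d0e0005) (.node 19200 (.leaf 0x110b0c0003) (.leaf 0x4aff004afe004afd004af7004af6004af5)))) (.node 19203 (.node 19202 (.leaf 0xd110c0f0c0005) (.leaf 0x0)) (.node 19204 (.leaf 0x0) (.node 19205 (.leaf 0x0) (.leaf 0x7060002))))))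

def argWS_1879 : Store := (.node 19216 (.node 19211 (.node 19208 (.node 19207 (.leaf 0x0) (.leaf 0x0)) (.node 19209 (.leaf 0xe100e0003) (.node 19210 (.leaf 0x0) (.leaf 0x10001)))) (.node 19213 (.node 19212 (.leaf 0x0) (.leaf 0x0)) (.node 19214 (.leaf 0xe110e0003) (.node 19215 (.leaf 0x0) (.leaf 0x0))))) (.node 19221 (.node 19218 (.node 19217 (.leaf 0x0) (.leaf 0x0)) (.node 19219 (.leaf 0x0) (.node 19220 (.leaf 0x200060003) (.leaf 0x0)))) (.node 19224 (.node 19222 (.leaf 0x0) (.node 19223 (.leaf 0x0) (.leaf 0x4050705080005))) (.node 19225 (.leaf 0x100b0d0003) (.node 19226 (.leaf 0x100050003) (.leaf 0x0))))))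

def argWS_1880 : Store := (.node 19206 argWS_1878 argWS_1879)

def argWS_1881 : Store := (.node 19186 argWS_1877 argWS_1880)

def argWS_1882 : Store := (.node 19145 argWS_1874 argWS_1881)

def argWS_1883 : Store := (.node 19064 argWS_1867 argWS_1882)

def argWS_1884 : Store := (.node 19237 (.node 19232 (.node 19229 (.node 19228 (.leaf 0x0) (.leaf 0xf100d0003)) (.node 19230 (.leaf 0x0) (.node 19231 (.leaf 0x0) (.leaf 0xf0001)))) (.node 19234 (.node 19233 (.leaf 0x10001) (.leaf 0x0)) (.node 19235 (.leaf 0x0) (.node 19236 (.leaf 0xc100b0d0f0c0006) (.leaf 0xf100002))))) (.node 19242 (.node 19239 (.node 19238 (.leaf 0xd0f0c0003) (.leaf 0xf100f0003)) (.node 19240 (.leaf 0x100d0e0003) (.node 19241 (.leaf 0x110c0002) (.leaf 0xb0d0f0c0004)))) (.node 19244 (.node 19243 (.leaf 0x4b29004321004b28004b27004b26004b25) (.leaf 0x100f0c0003)) (.node 19245 (.leaf 0x0) (.node 19246 (.leaf 0x0) (.leaf 0x201070003))))))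

def argWS_1885 : Store := (.node 19257 (.node 19252 (.node 19249 (.node 19248 (.leaf 0x0) (.leaf 0x301060607090006)) (.node 19250 (.leaf 0x301060607090006) (.node 19251 (.leaf 0x0) (.leaf 0xd100c0f0c0005)))) (.node 19254 (.node 19253 (.leaf 0xb0a0c0f0c0005) (.leaf 0x0)) (.node 19255 (.leaf 0x70100080004) (.node 19256 (.leaf 0x200050003) (.leaf 0x0))))) (.node 19262 (.node 19259 (.node 19258 (.leaf 0xf100b0f0f0c0006) (.leaf 0x0)) (.node 19260 (.leaf 0xb0d0e0003) (.node 19261 (.leaf 0xb0c0002) (.leaf 0x0)))) (.node 19264 (.node 19263 (.leaf 0x30105070607090007) (.leaf 0x701020707090006)) (.node 19265 (.leaf 0x0) (.node 19266 (.leaf 0xb0e0002) (.leaf 0x0))))))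

def argWS_1886 : Store := (.node 19247 argWS_1884 argWS_1885)

def argWS_1887 : Store := (.node 19277 (.node 19272 (.node 19269 (.node 19268 (.leaf 0xe110d0e0004) (.leaf 0x4b43004b42004b3c004b3b004b3a004b34)) (.node 19270 (.leaf 0x100b0f0d0e0005) (.node 19271 (.leaf 0x0) (.leaf 0x0)))) (.node 19274 (.node 19273 (.leaf 0x0) (.leaf 0x2040106070005)) (.node 19275 (.leaf 0x0) (.node 19276 (.leaf 0x0) (.leaf 0xa0d0d0e0004))))) (.node 19282 (.node 19279 (.node 19278 (.leaf 0x0) (.leaf 0x0)) (.node 19280 (.leaf 0xb0a0f0f0c0005) (.node 19281 (.leaf 0x1070002) (.leaf 0x0)))) (.node 19284 (.node 19283 (.leaf 0x0) (.leaf 0x0)) (.node 19285 (.leaf 0x110b0f0f0c0005) (.node 19286 (.leaf 0x70001) (.leaf 0x0))))))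

def argWS_1888 : Store := (.node 19297 (.node 19292 (.node 19289 (.node 19288 (.leaf 0x0) (.leaf 0x0)) (.node 19290 (.leaf 0x4010607050705080008) (.node 19291 (.leaf 0x8060002) (.leaf 0x0)))) (.node 19294 (.node 19293 (.leaf 0x100b0e0003) (.leaf 0x0)) (.node 19295 (.leaf 0x0) (.node 19296 (.leaf 0x0) (.leaf 0x0))))) (.node 19302 (.node 19299 (.node 19298 (.leaf 0x0) (.leaf 0x0)) (.node 19300 (.leaf 0x301060607090006) (.node 19301 (.leaf 0x0) (.leaf 0x0)))) (.node 19305 (.node 19303 (.leaf 0x4050705080005) (.node 19304 (.leaf 0x0) (.leaf 0x40001))) (.node 19306 (.leaf 0x40001) (.node 19307 (.leaf 0x0) (.leaf 0x10001))))))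

def argWS_1889 : Store := (.node 19287 argWS_1887 argWS_1888)

def argWS_1890 : Store := (.node 19267 argWS_1886 argWS_1889)

def argWS_1891 : Store := (.node 19318 (.node 19313 (.node 19310 (.node 19309 (.leaf 0x1040002) (.leaf 0x0)) (.node 19311 (.leaf 0x0) (.node 19312 (.leaf 0x0) (.leaf 0xe110d0003)))) (.node 19315 (.node 19314 (.leaf 0x40001) (.leaf 0x0)) (.node 19316 (.leaf 0x0) (.node 19317 (.leaf 0x40301060607090007) (.leaf 0x8050002))))) (.node 19323 (.node 19320 (.node 19319 (.leaf 0x0) (.leaf 0x0)) (.node 19321 (.leaf 0x0) (.node 19322 (.leaf 0xf100f0f0c0005) (.leaf 0x0)))) (.node 19325 (.node 19324 (.leaf 0x70100080004) (.leaf 0x100050003)) (.node 19326 (.leaf 0x0) (.node 19327 (.leaf 0xe110f0c0004) (.leaf 0x0))))))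

def argWS_1892 : Store := (.node 19338 (.node 19333 (.node 19330 (.node 19329 (.leaf 0xf100b0003) (.leaf 0x0)) (.node 19331 (.leaf 0x7010009080607090008) (.node 19332 (.leaf 0x7010006070005) (.leaf 0x0)))) (.node 19335 (.node 19334 (.leaf 0x100b0d0d0e0005) (.leaf 0x0)) (.node 19336 (.leaf 0x0) (.node 19337 (.leaf 0x70102070905080007) (.leaf 0x20108060004))))) (.node 19343 (.node 19340 (.node 19339 (.leaf 0x0) (.leaf 0xd110d0d0e0005)) (.node 19341 (.leaf 0x0) (.node 19342 (.leaf 0x0) (.leaf 0x7010009080607090008)))) (.node 19346 (.node 19344 (.leaf 0x204070905080006) (.node 19345 (.leaf 0x0) (.leaf 0xb0f0c0003))) (.node 19347 (.leaf 0x0) (.node 19348 (.leaf 0xe100d0f0c0005) (.leaf 0xf0001))))))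

def argWS_1893 : Store := (.node 19328 argWS_1891 argWS_1892)

def argWS_1894 : Store := (.node 19359 (.node 19354 (.node 19351 (.node 19350 (.leaf 0x4b94004b93004b92004b8c004b86004b80) (.leaf 0x0)) (.node 19352 (.leaf 0x70100080004) (.node 19353 (.leaf 0x3060709080005) (.leaf 0x0)))) (.node 19356 (.node 19355 (.leaf 0xd110e0003) (.leaf 0x0)) (.node 19357 (.leaf 0x0) (.node 19358 (.leaf 0x0) (.leaf 0x0))))) (.node 19364 (.node 19361 (.node 19360 (.leaf 0x0) (.leaf 0x40007090004)) (.node 19362 (.leaf 0x0) (.node 19363 (.leaf 0x0) (.leaf 0xb0a0d0e0004)))) (.node 19366 (.node 19365 (.leaf 0x0) (.leaf 0x10001)) (.node 19367 (.leaf 0x1040002) (.node 19368 (.leaf 0x0) (.leaf 0x0))))))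

def argWS_1895 : Store := (.node 19379 (.node 19374 (.node 19371 (.node 19370 (.leaf 0x0) (.leaf 0x110b0d0e0004)) (.node 19372 (.leaf 0x0) (.node 19373 (.leaf 0x0) (.leaf 0x4010607050705080008)))) (.node 19376 (.node 19375 (.leaf 0x4010607050705080008) (.leaf 0x0)) (.node 19377 (.leaf 0x0) (.node 19378 (.leaf 0x1020709080607090008) (.leaf 0x1020709080607090008))))) (.node 19384 (.node 19381 (.node 19380 (.leaf 0x0) (.leaf 0x0)) (.node 19382 (.leaf 0x0) (.node 19383 (.leaf 0xb0d0d0e0004) (.leaf 0x1070002)))) (.node 19387 (.node 19385 (.leaf 0x0) (.node 19386 (.leaf 0x0) (.leaf 0xf100b0d0004))) (.node 19388 (.leaf 0x70001) (.node 19389 (.leaf 0x0) (.leaf 0x0))))))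

def argWS_1896 : Store := (.node 19369 argWS_1894 argWS_1895)

def argWS_1897 : Store := (.node 19349 argWS_1893 argWS_1896)

def argWS_1898 : Store := (.node 19308 argWS_1890 argWS_1897)

def argWS_1899 : Store := (.node 19400 (.node 19395 (.node 19392 (.node 19391 (.leaf 0x0) (.leaf 0x0)) (.node 19393 (.leaf 0x7020108050705080008) (.node 19394 (.leaf 0x0) (.leaf 0x0)))) (.node 19397 (.node 19396 (.leaf 0x40905080004) (.leaf 0x0)) (.node 19398 (.leaf 0x40001) (.node 19399 (.leaf 0x40001) (.leaf 0x0))))) (.node 19405 (.node 19402 (.node 19401 (.leaf 0x0) (.leaf 0x100b0e0003)) (.node 19403 (.leaf 0x0) (.node 19404 (.leaf 0x304060709080607090009) (.leaf 0x305070705080006)))) (.node 19407 (.node 19406 (.leaf 0x0) (.leaf 0xd110d0d0e0005)) (.node 19408 (.leaf 0x0) (.node 19409 (.leaf 0x100c0f0c0004) (.leaf 0xc100b0f0c0005))))))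

def argWS_1900 : Store := (.node 19420 (.node 19415 (.node 19412 (.node 19411 (.leaf 0x100c0f0c0004) (.leaf 0x110b0d0003)) (.node 19413 (.leaf 0x0) (.node 19414 (.leaf 0x3090002) (.leaf 0x104050707090006)))) (.node 19417 (.node 19416 (.leaf 0x0) (.leaf 0xf100b0c0f0c0006)) (.node 19418 (.leaf 0x0) (.node 19419 (.leaf 0x4bd9004bd3004bd2004bd1004bd0004bcf) (.leaf 0xf100b0c0004))))) (.node 19425 (.node 19422 (.node 19421 (.leaf 0x0) (.leaf 0x0)) (.node 19423 (.leaf 0x0) (.node 19424 (.leaf 0x403010507060006) (.leaf 0x10001)))) (.node 19427 (.node 19426 (.leaf 0x0) (.leaf 0x0)) (.node 19428 (.leaf 0x100f0d0e0004) (.node 19429 (.leaf 0x0) (.leaf 0x0))))))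

def argWS_1901 : Store := (.node 19410 argWS_1899 argWS_1900)

def argWS_1902 : Store := (.node 19440 (.node 19435 (.node 19432 (.node 19431 (.leaf 0x0) (.leaf 0xd100f0f0c0005)) (.node 19433 (.leaf 0x30107050705080007) (.node 19434 (.leaf 0x0) (.leaf 0x0)))) (.node 19437 (.node 19436 (.leaf 0x0) (.leaf 0x0)) (.node 19438 (.leaf 0x102060003) (.node 19439 (.leaf 0x0) (.leaf 0x0))))) (.node 19445 (.node 19442 (.node 19441 (.leaf 0x204050003) (.leaf 0x403060003)) (.node 19443 (.leaf 0x0) (.node 19444 (.leaf 0x0) (.leaf 0x0)))) (.node 19447 (.node 19446 (.leaf 0x0) (.leaf 0x203010507050006)) (.node 19448 (.leaf 0x2030507060607090008) (.node 19449 (.leaf 0x0) (.leaf 0xf0001))))))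

def argWS_1903 : Store := (.node 19460 (.node 19455 (.node 19452 (.node 19451 (.leaf 0x0) (.leaf 0x100b0d0f0c0005)) (.node 19453 (.leaf 0xd0d0e0003) (.node 19454 (.leaf 0x10408050004) (.leaf 0x0)))) (.node 19457 (.node 19456 (.leaf 0x0) (.leaf 0x50707090004)) (.node 19458 (.leaf 0x1030607050705080008) (.node 19459 (.leaf 0x0) (.leaf 0xc100d0003))))) (.node 19465 (.node 19462 (.node 19461 (.leaf 0x0) (.leaf 0x0)) (.node 19463 (.leaf 0x102090003) (.node 19464 (.leaf 0x7010007090005) (.leaf 0x0)))) (.node 19468 (.node 19466 (.leaf 0xb0a0d0d0e0005) (.node 19467 (.leaf 0x0) (.leaf 0x108050003))) (.node 19469 (.leaf 0x0) (.node 19470 (.leaf 0x0) (.leaf 0x50707090004))))))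

def argWS_1904 : Store := (.node 19450 argWS_1902 argWS_1903)

def argWS_1905 : Store := (.node 19430 argWS_1901 argWS_1904)

def argWS_1906 : Store := (.node 19481 (.node 19476 (.node 19473 (.node 19472 (.leaf 0x4020607050705080008) (.leaf 0x0)) (.node 19474 (.leaf 0x100b0002) (.node 19475 (.leaf 0x0) (.leaf 0xd100e0003)))) (.node 19478 (.node 19477 (.leaf 0x4c13004c12004c0c004c04004bfe004bfb) (.leaf 0xa0001)) (.node 19479 (.leaf 0xd110e0003) (.node 19480 (.leaf 0x10409080004) (.leaf 0x0))))) (.node 19486 (.node 19483 (.node 19482 (.leaf 0xe100e0003) (.leaf 0xf100c0003)) (.node 19484 (.leaf 0x100b0d0f0c0005) (.node 19485 (.leaf 0xb0f0d0e0004) (.leaf 0xa0f0002)))) (.node 19488 (.node 19487 (.leaf 0x110f0c0003) (.leaf 0x4c1e004c1d004c1c004c1b004c1a004c19)) (.node 19489 (.leaf 0xa0c0002) (.node 19490 (.leaf 0x0) (.leaf 0x0))))))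

def argWS_1907 : Store := (.node 19501 (.node 19496 (.node 19493 (.node 19492 (.leaf 0x0) (.leaf 0x30507050004)) (.node 19494 (.leaf 0x103050003) (.node 19495 (.leaf 0x0) (.leaf 0x0)))) (.node 19498 (.node 19497 (.leaf 0x0) (.leaf 0x402070607090006)) (.node 19499 (.leaf 0x10001) (.node 19500 (.leaf 0x10001) (.leaf 0x0))))) (.node 19506 (.node 19503 (.node 19502 (.leaf 0x0) (.leaf 0x0)) (.node 19504 (.leaf 0xb0d0e0003) (.node 19505 (.leaf 0x0) (.leaf 0x0)))) (.node 19509 (.node 19507 (.leaf 0x100b0d0e0004) (.node 19508 (.leaf 0xe100c0003) (.leaf 0xd110f0003))) (.node 19510 (.leaf 0x110b0e0003) (.node 19511 (.leaf 0xc0f0c0003) (.leaf 0x0))))))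

def argWS_1908 : Store := (.node 19491 argWS_1906 argWS_1907)

def argWS_1909 : Store := (.node 19522 (.node 19517 (.node 19514 (.node 19513 (.leaf 0x70102070905080007) (.leaf 0x40008050004)) (.node 19515 (.leaf 0x0) (.node 19516 (.leaf 0xe110d0e0004) (.leaf 0x0)))) (.node 19519 (.node 19518 (.leaf 0xd100d0e0004) (.leaf 0xb0d0d0e0004)) (.node 19520 (.leaf 0x4c3e004c3d004c3c004c36004c35004c34) (.node 19521 (.leaf 0xc100b0f0c0005) (.leaf 0x0))))) (.node 19527 (.node 19524 (.node 19523 (.leaf 0x0) (.leaf 0x3020107060005)) (.node 19525 (.leaf 0x0) (.node 19526 (.leaf 0x50709080607090007) (.leaf 0x70607090005)))) (.node 19529 (.node 19528 (.leaf 0x0) (.leaf 0xa0001)) (.node 19530 (.leaf 0x0) (.node 19531 (.leaf 0xf0c0002) (.leaf 0x0))))))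

def argWS_1910 : Store := (.node 19542 (.node 19537 (.node 19534 (.node 19533 (.leaf 0x3040106070705080008) (.leaf 0x3000607050705080008)) (.node 19535 (.leaf 0x0) (.node 19536 (.leaf 0xe100002) (.leaf 0x0)))) (.node 19539 (.node 19538 (.leaf 0x0) (.leaf 0x102090003)) (.node 19540 (.leaf 0x302010809080006) (.node 19541 (.leaf 0x0) (.leaf 0xc100b0c0f0c0006))))) (.node 19547 (.node 19544 (.node 19543 (.leaf 0x0) (.leaf 0x100c0002)) (.node 19545 (.leaf 0x0) (.node 19546 (.leaf 0x102090003) (.leaf 0x20407060705080007)))) (.node 19550 (.node 19548 (.leaf 0x0) (.node 19549 (.leaf 0x100d0d0e0004) (.leaf 0x0))) (.node 19551 (.leaf 0xe100f0f0c0005) (.node 19552 (.leaf 0x4c5e004c5d004c57004c56004c50004c4a) (.leaf 0x110c0002))))))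

def argWS_1911 : Store := (.node 19532 argWS_1909 argWS_1910)

def argWS_1912 : Store := (.node 19512 argWS_1908 argWS_1911)

def argWS_1913 : Store := (.node 19471 argWS_1905 argWS_1912)

def argWS_1914 : Store := (.node 19390 argWS_1898 argWS_1913)

def argWS_1915 : Store := (.node 19227 argWS_1883 argWS_1914)

def argWS_1916 : Store := (.node 18901 argWS_1852 argWS_1915)

def argWS_1917 : Store := (.node 19563 (.node 19558 (.node 19555 (.node 19554 (.leaf 0x0) (.leaf 0xf100b0d0004)) (.node 19556 (.leaf 0x0) (.node 19557 (.leaf 0x0) (.leaf 0xf0d0e0003)))) (.node 19560 (.node 19559 (.leaf 0x1080002) (.leaf 0x0)) (.node 19561 (.leaf 0x0) (.node 19562 (.leaf 0x0) (.leaf 0x0))))) (.node 19568 (.node 19565 (.node 19564 (.leaf 0x3040109080005) (.leaf 0x110001)) (.node 19566 (.leaf 0x0) (.node 19567 (.leaf 0x203010507050006) (.leaf 0x40007060607090007)))) (.node 19570 (.node 19569 (.leaf 0x0) (.leaf 0xf100b0f0c0005)) (.node 19571 (.leaf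 0x0) (.node 19572 (.leaf 0xe110d0003) (.leaf 0xd100d0f0c0005))))))

def argWS_1918 : Store := (.node 19583 (.node 19578 (.node 19575 (.node 19574 (.leaf 0xa0c0002) (.leaf 0xe110f0f0c0005)) (.node 19576 (.leaf 0xb0e0002) (.node 19577 (.leaf 0x4c77004c76004c75004c74004c73004c72) (.leaf 0xd100d0003)))) (.node 19580 (.node 19579 (.leaf 0x0) (.leaf 0x0)) (.node 19581 (.leaf 0x102090003) (.node 19582 (.leaf 0x8050705080005) (.leaf 0x0))))) (.node 19588 (.node 19585 (.node 19584 (.leaf 0x20408060705080007) (.leaf 0x0)) (.node 19586 (.leaf 0x20408060705080007) (.node 19587 (.leaf 0x0) (.leaf 0xd110d0f0c0005)))) (.node 19590 (.node 19589 (.leaf 0xc100f0d0e0005) (.leaf 0x100d0f0c0004)) (.node 19591 (.leaf 0x100b0f0f0c0005) (.node 19592 (.leaf 0xa0c0002) (.leaf 0xc100b0f0d0e0006))))))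

def argWS_1919 : Store := (.node 19573 argWS_1917 argWS_1918)

def argWS_1920 : Store := (.node 19603 (.node 19598 (.node 19595 (.node 19594 (.leaf 0xf100b0003) (.leaf 0x307090003)) (.node 19596 (.leaf 0x0) (.node 19597 (.leaf 0x4c8b004c88004c87004c86004c85004c84) (.leaf 0xc100f0d0e0005)))) (.node 19600 (.node 19599 (.leaf 0x0) (.leaf 0x0)) (.node 19601 (.leaf 0x7010208050705080008) (.node 19602 (.leaf 0x3020809080607090008) (.leaf 0x0))))) (.node 19608 (.node 19605 (.node 19604 (.leaf 0x0) (.leaf 0x0)) (.node 19606 (.leaf 0x100b0e0003) (.node 19607 (.leaf 0x0) (.leaf 0x30107050705080007)))) (.node 19610 (.node 19609 (.leaf 0x20306070905080007) (.leaf 0x0)) (.node 19611 (.leaf 0xc100b0d0e0005) (.node 19612 (.leaf 0x0) (.leaf 0xe100c0f0c0005))))))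

def argWS_1921 : Store := (.node 19623 (.node 19618 (.node 19615 (.node 19614 (.leaf 0xd100d0f0c0005) (.leaf 0x0)) (.node 19616 (.leaf 0x304070905080006) (.node 19617 (.leaf 0x104050707090006) (.leaf 0x0)))) (.node 19620 (.node 19619 (.leaf 0xe110f0003) (.leaf 0x0)) (.node 19621 (.leaf 0xf100b0d0d0e0006) (.node 19622 (.leaf 0x100d0d0e0004) (.leaf 0xe100002))))) (.node 19628 (.node 19625 (.node 19624 (.leaf 0x4ca6004ca5004ca4004ca3004c9d004c9c) (.leaf 0x102060003)) (.node 19626 (.leaf 0x0) (.node 19627 (.leaf 0x0) (.leaf 0x403060003)))) (.node 19631 (.node 19629 (.leaf 0x2040108060607090008) (.node 19630 (.leaf 0x0) (.leaf 0x0))) (.node 19632 (.leaf 0x0) (.node 19633 (.leaf 0xf100d0f0c0005) (.leaf 0x0))))))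

def argWS_1922 : Store := (.node 19613 argWS_1920 argWS_1921)

def argWS_1923 : Store := (.node 19593 argWS_1919 argWS_1922)

def argWS_1924 : Store := (.node 19644 (.node 19639 (.node 19636 (.node 19635 (.leaf 0xf100d0e0004) (.leaf 0x0)) (.node 19637 (.leaf 0x0) (.node 19638 (.leaf 0x70001) (.leaf 0x0)))) (.node 19641 (.node 19640 (.leaf 0x102060003) (.leaf 0x102060003)) (.node 19642 (.leaf 0x0) (.node 19643 (.leaf 0x103070607090006) (.leaf 0x0))))) (.node 19649 (.node 19646 (.node 19645 (.leaf 0x103070607090006) (.leaf 0x0)) (.node 19647 (.leaf 0x0) (.node 19648 (.leaf 0x3040108050705080008) (.leaf 0x70100070607090007)))) (.node 19651 (.node 19650 (.leaf 0x0) (.leaf 0x100d0f0c0004)) (.node 19652 (.leaf 0x0) (.node 19653 (.leaf 0xe100d0003) (.leaf 0xc100b0d0f0c0006))))))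

def argWS_1925 : Store := (.node 19664 (.node 19659 (.node 19656 (.node 19655 (.leaf 0xd100f0c0004) (.leaf 0xc100b0d0e0005)) (.node 19657 (.leaf 0x0) (.node 19658 (.leaf 0x701080003) (.leaf 0x3060709080607090008)))) (.node 19661 (.node 19660 (.leaf 0x0) (.leaf 0x110b0c0f0c0005)) (.node 19662 (.leaf 0x0) (.node 19663 (.leaf 0xb0a0d0e0004) (.leaf 0x70100090004))))) (.node 19669 (.node 19666 (.node 19665 (.leaf 0x0) (.leaf 0x4cd0004ccd004cc7004cc6004cc5004cc4)) (.node 19667 (.leaf 0x100f0f0c0004) (.node 19668 (.leaf 0x0) (.leaf 0xb0a0002)))) (.node 19672 (.node 19670 (.leaf 0x0) (.node 19671 (.leaf 0x203060709080607090009) (.leaf 0x40007050705080007))) (.node 19673 (.leaf 0x0) (.node 19674 (.leaf 0x110b0002) (.leaf 0x0))))))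

def argWS_1926 : Store := (.node 19654 argWS_1924 argWS_1925)

def argWS_1927 : Store := (.node 19685 (.node 19680 (.node 19677 (.node 19676 (.leaf 0x0) (.leaf 0x304060709080607090009)) (.node 19678 (.leaf 0x401070705080006) (.node 19679 (.leaf 0x0) (.leaf 0xf100b0c0f0c0006)))) (.node 19682 (.node 19681 (.leaf 0x0) (.leaf 0xf100d0d0e0005)) (.node 19683 (.leaf 0x0) (.node 19684 (.leaf 0x1000507060607090008) (.leaf 0x3050709080607090008))))) (.node 19690 (.node 19687 (.node 19686 (.leaf 0x0) (.leaf 0xc100d0d0e0005)) (.node 19688 (.leaf 0x0) (.node 19689 (.leaf 0x0) (.leaf 0x6070705080006)))) (.node 19692 (.node 19691 (.leaf 0x40301070607090007) (.leaf 0x0)) (.node 19693 (.leaf 0xc100b0c0f0c0006) (.node 19694 (.leaf 0x0) (.leaf 0xe110f0f0c0005))))))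

def argWS_1928 : Store := (.node 19705 (.node 19700 (.node 19697 (.node 19696 (.leaf 0xb0a0d0003) (.leaf 0x4cef004cee004ced004ce7004ce1004ce0)) (.node 19698 (.leaf 0xa0f0f0c0004) (.node 19699 (.leaf 0x0) (.leaf 0x0)))) (.node 19702 (.node 19701 (.leaf 0xe100f0d0e0005) (.leaf 0x70001)) (.node 19703 (.leaf 0x0) (.node 19704 (.leaf 0x0) (.leaf 0xd100e0003))))) (.node 19710 (.node 19707 (.node 19706 (.leaf 0x70001) (.leaf 0x0)) (.node 19708 (.leaf 0x0) (.node 19709 (.leaf 0xc100b0003) (.leaf 0x70001)))) (.node 19713 (.node 19711 (.leaf 0x0) (.node 19712 (.leaf 0x0) (.leaf 0x0))) (.node 19714 (.leaf 0x0) (.node 19715 (.leaf 0x7090002) (.leaf 0x0))))))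

def argWS_1929 : Store := (.node 19695 argWS_1927 argWS_1928)

def argWS_1930 : Store := (.node 19675 argWS_1926 argWS_1929)

def argWS_1931 : Store := (.node 19634 argWS_1923 argWS_1930)

def argWS_1932 : Store := (.node 19726 (.node 19721 (.node 19718 (.node 19717 (.leaf 0x0) (.leaf 0x7090003)) (.node 19719 (.leaf 0x0) (.node 19720 (.leaf 0x0) (.leaf 0x3040107090005)))) (.node 19723 (.node 19722 (.leaf 0xc100d0003) (.leaf 0x0)) (.node 19724 (.leaf 0x204070607090006) (.node 19725 (.leaf 0x103050709080607090009) (.leaf 0x0))))) (.node 19731 (.node 19728 (.node 19727 (.leaf 0x110001) (.leaf 0x0)) (.node 19729 (.leaf 0x0) (.node 19730 (.leaf 0x304060709080607090009) (.leaf 0x401070705080006)))) (.node 19733 (.node 19732 (.leaf 0x0) (.leaf 0xf100b0c0f0c0006)) (.node 19734 (.leaf 0x0) (.node 19735 (.leaf 0xc100c0f0c0005) (.leaf 0x110b0f0c0004))))))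

def argWS_1933 : Store := (.node 19746 (.node 19741 (.node 19738 (.node 19737 (.leaf 0xf100d0d0e0005) (.leaf 0xb0001)) (.node 19739 (.leaf 0x4d19004d18004d17004d16004d15004d0f) (.node 19740 (.leaf 0x110b0f0d0e0005) (.leaf 0x0)))) (.node 19743 (.node 19742 (.leaf 0x0) (.leaf 0x103090003)) (.node 19744 (.leaf 0x0) (.node 19745 (.leaf 0x9080003) (.leaf 0x9080003))))) (.node 19751 (.node 19748 (.node 19747 (.leaf 0x0) (.leaf 0x8060705080006)) (.node 19749 (.leaf 0x0) (.node 19750 (.leaf 0x8050705080006) (.leaf 0x0)))) (.node 19753 (.node 19752 (.leaf 0x40205080004) (.leaf 0x0)) (.node 19754 (.leaf 0x0) (.node 19755 (.leaf 0x507050003) (.leaf 0x50707090005))))))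

def argWS_1934 : Store := (.node 19736 argWS_1932 argWS_1933)

def argWS_1935 : Store := (.node 19766 (.node 19761 (.node 19758 (.node 19757 (.leaf 0x0) (.leaf 0xa0f0c0003)) (.node 19759 (.leaf 0x0) (.node 19760 (.leaf 0x0) (.leaf 0x203010507050006)))) (.node 19763 (.node 19762 (.leaf 0x1000507060607090008) (.leaf 0x0)) (.node 19764 (.leaf 0xd110f0d0e0005) (.node 19765 (.leaf 0x0) (.leaf 0xd110d0f0c0005))))) (.node 19771 (.node 19768 (.node 19767 (.leaf 0x0) (.leaf 0x102090003)) (.node 19769 (.leaf 0x203010707090006) (.node 19770 (.leaf 0x0) (.leaf 0xa0d0d0e0004)))) (.node 19773 (.node 19772 (.leaf 0x0) (.leaf 0x0)) (.node 19774 (.leaf 0x7020108050705080008) (.node 19775 (.leaf 0x2000507050705080008) (.leaf 0x0))))))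

def argWS_1936 : Store := (.node 19786 (.node 19781 (.node 19778 (.node 19777 (.leaf 0xf100f0f0c0005) (.leaf 0x0)) (.node 19779 (.leaf 0xf100f0d0e0005) (.node 19780 (.leaf 0xd100c0003) (.leaf 0x4d43004d42004d41004d3b004d35004d34)))) (.node 19783 (.node 19782 (.leaf 0xf100f0f0c0005) (.leaf 0x0)) (.node 19784 (.leaf 0x0) (.node 19785 (.leaf 0xd0001) (.leaf 0x108050003))))) (.node 19791 (.node 19788 (.node 19787 (.leaf 0x0) (.leaf 0x0)) (.node 19789 (.leaf 0x110d0e0003) (.node 19790 (.leaf 0x108050003) (.leaf 0x0)))) (.node 19794 (.node 19792 (.leaf 0x0) (.node 19793 (.leaf 0x0) (.leaf 0x0))) (.node 19795 (.leaf 0x50001) (.node 19796 (.leaf 0x0) (.leaf 0x0))))))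

def argWS_1937 : Store := (.node 19776 argWS_1935 argWS_1936)

def argWS_1938 : Store := (.node 19756 argWS_1934 argWS_1937)

def argWS_1939 : Store := (.node 19807 (.node 19802 (.node 19799 (.node 19798 (.leaf 0x301060003) (.leaf 0x301060003)) (.node 19800 (.leaf 0x0) (.node 19801 (.leaf 0x50001) (.leaf 0x0)))) (.node 19804 (.node 19803 (.leaf 0x50001) (.leaf 0x0)) (.node 19805 (.leaf 0x110d0e0003) (.node 19806 (.leaf 0x0) (.leaf 0x40309080004))))) (.node 19812 (.node 19809 (.node 19808 (.leaf 0x100060705080006) (.leaf 0x0)) (.node 19810 (.leaf 0xb0f0c0003) (.node 19811 (.leaf 0x0) (.leaf 0x0)))) (.node 19814 (.node 19813 (.leaf 0x203010507050006) (.leaf 0x7020107050005)) (.node 19815 (.leaf 0x0) (.node 19816 (.leaf 0xb0f0002) (.leaf 0x0))))))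

def argWS_1940 : Store := (.node 19827 (.node 19822 (.node 19819 (.node 19818 (.leaf 0x110b0d0f0c0005) (.leaf 0x0)) (.node 19820 (.leaf 0x102090003) (.node 19821 (.leaf 0x701070003) (.leaf 0x0)))) (.node 19824 (.node 19823 (.leaf 0xb0a0f0f0c0005) (.leaf 0x0)) (.node 19825 (.leaf 0xf100b0d0004) (.node 19826 (.leaf 0x110b0c0003) (.leaf 0x4d71004d70004d6f004d69004d68004d62))))) (.node 19832 (.node 19829 (.node 19828 (.leaf 0xc100b0003) (.leaf 0x0)) (.node 19830 (.leaf 0x0) (.node 19831 (.leaf 0x701020709080607090009) (.leaf 0x0)))) (.node 19835 (.node 19833 (.leaf 0x3010002) (.node 19834 (.leaf 0x3010002) (.leaf 0x0))) (.node 19836 (.leaf 0x103050709080607090009) (.node 19837 (.leaf 0x0) (.leaf 0x1030507050705080008))))))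

def argWS_1941 : Store := (.node 19817 argWS_1939 argWS_1940)

def argWS_1942 : Store := (.node 19848 (.node 19843 (.node 19840 (.node 19839 (.leaf 0x0) (.leaf 0x0)) (.node 19841 (.leaf 0x4010607050705080008) (.node 19842 (.leaf 0x1000607050705080008) (.leaf 0x0)))) (.node 19845 (.node 19844 (.leaf 0xb0a0002) (.leaf 0x0)) (.node 19846 (.leaf 0xf100b0c0004) (.node 19847 (.leaf 0xf100b0f0c0005) (.leaf 0x0))))) (.node 19853 (.node 19850 (.node 19849 (.leaf 0x50705080004) (.leaf 0x40307050705080007)) (.node 19851 (.leaf 0x0) (.node 19852 (.leaf 0xf100b0e0004) (.leaf 0x0)))) (.node 19855 (.node 19854 (.leaf 0xa0d0002) (.leaf 0xd0d0e0003)) (.node 19856 (.leaf 0xb0a0d0003) (.node 19857 (.leaf 0x4d8f004d8e004d8d004d8c004d86004d85) (.leaf 0xf100d0d0e0005))))))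

def argWS_1943 : Store := (.node 19868 (.node 19863 (.node 19860 (.node 19859 (.leaf 0x0) (.leaf 0x0)) (.node 19861 (.leaf 0xc0001) (.node 19862 (.leaf 0x8050002) (.leaf 0x0)))) (.node 19865 (.node 19864 (.leaf 0x0) (.leaf 0xa0c0002)) (.node 19866 (.leaf 0x8050002) (.node 19867 (.leaf 0x0) (.leaf 0x0))))) (.node 19873 (.node 19870 (.node 19869 (.leaf 0x110c0002) (.leaf 0x8050002)) (.node 19871 (.leaf 0x0) (.node 19872 (.leaf 0x0) (.leaf 0xa0c0f0c0004)))) (.node 19876 (.node 19874 (.leaf 0x8050002) (.node 19875 (.leaf 0x0) (.leaf 0x0))) (.node 19877 (.leaf 0x0) (.node 19878 (.leaf 0x0) (.leaf 0x60001))))))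

def argWS_1944 : Store := (.node 19858 argWS_1942 argWS_1943)

def argWS_1945 : Store := (.node 19838 argWS_1941 argWS_1944)

def argWS_1946 : Store := (.node 19797 argWS_1938 argWS_1945)

def argWS_1947 : Store := (.node 19716 argWS_1931 argWS_1946)

def argWS_1948 : Store := (.node 19889 (.node 19884 (.node 19881 (.node 19880 (.leaf 0x0) (.leaf 0x0)) (.node 19882 (.leaf 0x4060002) (.node 19883 (.leaf 0x0) (.leaf 0x0)))) (.node 19886 (.node 19885 (.leaf 0x10209080607090007) (.leaf 0x0)) (.node 19887 (.leaf 0x0) (.node 19888 (.leaf 0x2010905080005) (.leaf 0x60001))))) (.node 19894 (.node 19891 (.node 19890 (.leaf 0x0) (.leaf 0x60001)) (.node 19892 (.leaf 0x0) (.node 19893 (.leaf 0x2010905080005) (.leaf 0x0)))) (.node 19896 (.node 19895 (.leaf 0x4020107090005) (.leaf 0x0)) (.node 19897 (.leaf 0x30209080607090007) (.node 19898 (.leaf 0x0) (.leaf 0x60001))))))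

def argWS_1949 : Store := (.node 19909 (.node 19904 (.node 19901 (.node 19900 (.leaf 0x0) (.leaf 0x2010905080005)) (.node 19902 (.leaf 0x0) (.node 19903 (.leaf 0x4020107090005) (.leaf 0x0)))) (.node 19906 (.node 19905 (.leaf 0x4060002) (.leaf 0x0)) (.node 19907 (.leaf 0x50001) (.node 19908 (.leaf 0x0) (.leaf 0x60001))))) (.node 19914 (.node 19911 (.node 19910 (.leaf 0x0) (.leaf 0x70102080607090007)) (.node 19912 (.leaf 0x0) (.node 19913 (.leaf 0x50001) (.leaf 0x0)))) (.node 19916 (.node 19915 (.leaf 0x0) (.leaf 0x10209080607090007)) (.node 19917 (.leaf 0x0) (.node 19918 (.leaf 0x103060003) (.leaf 0x0))))))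

def argWS_1950 : Store := (.node 19899 argWS_1948 argWS_1949)

def argWS_1951 : Store := (.node 19929 (.node 19924 (.node 19921 (.node 19920 (.leaf 0x4020107090005) (.leaf 0x0)) (.node 19922 (.leaf 0x3010607090005) (.node 19923 (.leaf 0x0) (.leaf 0x10209080607090007)))) (.node 19926 (.node 19925 (.leaf 0x0) (.leaf 0x3020905080005)) (.node 19927 (.leaf 0x0) (.node 19928 (.leaf 0x4020107090005) (.leaf 0x0))))) (.node 19934 (.node 19931 (.node 19930 (.leaf 0x3010607090005) (.leaf 0x0)) (.node 19932 (.leaf 0x4060002) (.node 19933 (.leaf 0x0) (.leaf 0x4050002)))) (.node 19936 (.node 19935 (.leaf 0x0) (.leaf 0x0)) (.node 19937 (.leaf 0x60001) (.node 19938 (.leaf 0x0) (.leaf 0x60001))))))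

def argWS_1952 : Store := (.node 19949 (.node 19944 (.node 19941 (.node 19940 (.leaf 0x0) (.leaf 0x102060607090006)) (.node 19942 (.leaf 0x0) (.node 19943 (.leaf 0x60001) (.leaf 0x0)))) (.node 19946 (.node 19945 (.leaf 0x201050003) (.leaf 0x0)) (.node 19947 (.leaf 0x102060607090006) (.node 19948 (.leaf 0x0) (.leaf 0x30401050705080007))))) (.node 19954 (.node 19951 (.node 19950 (.leaf 0x0) (.leaf 0x30401050705080007)) (.node 19952 (.leaf 0x0) (.node 19953 (.leaf 0x40201060607090007) (.leaf 0x0)))) (.node 19957 (.node 19955 (.leaf 0x4020107090005) (.node 19956 (.leaf 0x0) (.leaf 0x400050705080006))) (.node 19958 (.leaf 0x0) (.node 19959 (.leaf 0x4060002) (.leaf 0x0))))))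

def argWS_1953 : Store := (.node 19939 argWS_1951 argWS_1952)

def argWS_1954 : Store := (.node 19919 argWS_1950 argWS_1953)

def argWS_1955 : Store := (.node 19970 (.node 19965 (.node 19962 (.node 19961 (.leaf 0x20401060607090007) (.leaf 0x0)) (.node 19963 (.leaf 0x201050003) (.node 19964 (.leaf 0x0) (.leaf 0x70102080607090007)))) (.node 19967 (.node 19966 (.leaf 0x0) (.leaf 0x4050002)) (.node 19968 (.leaf 0x0) (.node 19969 (.leaf 0x1030607090005) (.leaf 0x0))))) (.node 19975 (.node 19972 (.node 19971 (.leaf 0x70102080607090007) (.leaf 0x0)) (.node 19973 (.leaf 0x4000705080005) (.node 19974 (.leaf 0x0) (.leaf 0x4000705080005)))) (.node 19977 (.node 19976 (.leaf 0x0) (.leaf 0x40009080004)) (.node 19978 (.leaf 0x0) (.node 19979 (.leaf 0x70102080607090007) (.leaf 0x0))))))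

def argWS_1956 : Store := (.node 19990 (.node 19985 (.node 19982 (.node 19981 (.leaf 0x7010208050705080008) (.leaf 0x0)) (.node 19983 (.leaf 0x1030607090005) (.node 19984 (.leaf 0x0) (.leaf 0x3040109080607090008)))) (.node 19987 (.node 19986 (.leaf 0x0) (.leaf 0x3040109080607090008)) (.node 19988 (.leaf 0x0) (.node 19989 (.leaf 0x20401060705080007) (.leaf 0x0))))) (.node 19995 (.node 19992 (.node 19991 (.leaf 0x103060003) (.leaf 0x0)) (.node 19993 (.leaf 0x403010905080006) (.node 19994 (.leaf 0x0) (.leaf 0x7010208050705080008)))) (.node 19998 (.node 19996 (.leaf 0x0) (.node 19997 (.leaf 0x1030607090005) (.leaf 0x0))) (.node 19999 (.leaf 0x40009080004) (.node 20000 (.leaf 0x0) (.leaf 0x7020108050005))))))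

def argWS_1957 : Store := (.node 19980 argWS_1955 argWS_1956)

def argWS_1958 : Store := (.node 20011 (.node 20006 (.node 20003 (.node 20002 (.leaf 0x0) (.leaf 0x201050003)) (.node 20004 (.leaf 0x0) (.node 20005 (.leaf 0x10307090004) (.leaf 0x0)))) (.node 20008 (.node 20007 (.leaf 0x0) (.leaf 0x4030107090005)) (.node 20009 (.leaf 0x4030107090005) (.node 20010 (.leaf 0x0) (.leaf 0x110f0f0c0004))))) (.node 20016 (.node 20013 (.node 20012 (.leaf 0x0) (.leaf 0x2040108060705080008)) (.node 20014 (.leaf 0x70100070607090007) (.node 20015 (.leaf 0x0) (.leaf 0xd110c0f0c0005)))) (.node 20018 (.node 20017 (.leaf 0x0) (.leaf 0x0)) (.node 20019 (.leaf 0x203060709080607090009) (.node 20020 (.leaf 0x3020507050705080008) (.leaf 0x0))))))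

def argWS_1959 : Store := (.node 20031 (.node 20026 (.node 20023 (.node 20022 (.leaf 0x100c0002) (.leaf 0x0)) (.node 20024 (.leaf 0xd100c0f0c0005) (.node 20025 (.leaf 0x0) (.leaf 0x5070607090006)))) (.node 20028 (.node 20027 (.leaf 0x507060705080006) (.leaf 0x0)) (.node 20029 (.leaf 0xa0e0002) (.node 20030 (.leaf 0x0) (.leaf 0xd110c0f0c0005))))) (.node 20036 (.node 20033 (.node 20032 (.leaf 0x100b0f0f0c0005) (.leaf 0x4e3f004e3e004e3d004e37004e36004e30)) (.node 20034 (.leaf 0xd0001) (.node 20035 (.leaf 0x0) (.leaf 0x0)))) (.node 20039 (.node 20037 (.leaf 0x20107060004) (.node 20038 (.leaf 0x0) (.leaf 0x2010905080005))) (.node 20040 (.leaf 0x2010905080005) (.node 20041 (.leaf 0x0) (.leaf 0x0))))))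

def argWS_1960 : Store := (.node 20021 argWS_1958 argWS_1959)

def argWS_1961 : Store := (.node 20001 argWS_1957 argWS_1960)

def argWS_1962 : Store := (.node 19960 argWS_1954 argWS_1961)

def argWS_1963 : Store := (.node 20052 (.node 20047 (.node 20044 (.node 20043 (.leaf 0x0) (.leaf 0xc100f0f0c0005)) (.node 20045 (.leaf 0x0) (.node 20046 (.leaf 0x8060705080006) (.leaf 0x400070003)))) (.node 20049 (.node 20048 (.leaf 0x0) (.leaf 0xb0d0f0c0004)) (.node 20050 (.leaf 0x0) (.node 20051 (.leaf 0x0) (.leaf 0x204050003))))) (.node 20057 (.node 20054 (.node 20053 (.leaf 0x4010002) (.leaf 0x0)) (.node 20055 (.leaf 0x110c0002) (.node 20056 (.leaf 0x0) (.leaf 0xd100c0f0c0005)))) (.node 20059 (.node 20058 (.leaf 0x30401060004) (.leaf 0x0)) (.node 20060 (.leaf 0x0) (.node 20061 (.leaf 0x905080003) (.leaf 0x701060003))))))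

def argWS_1964 : Store := (.node 20072 (.node 20067 (.node 20064 (.node 20063 (.leaf 0x0) (.leaf 0xd0f0c0003)) (.node 20065 (.leaf 0x0) (.node 20066 (.leaf 0x0) (.leaf 0x5070607090006)))) (.node 20069 (.node 20068 (.leaf 0x40507060705080007) (.leaf 0x0)) (.node 20070 (.leaf 0xb0a0e0003) (.node 20071 (.leaf 0x0) (.leaf 0xd110c0f0c0005))))) (.node 20077 (.node 20074 (.node 20073 (.leaf 0x4e67004e66004e60004e5a004e57004e51) (.leaf 0x110b0f0f0c0005)) (.node 20075 (.leaf 0x0) (.node 20076 (.leaf 0x0) (.leaf 0x0)))) (.node 20079 (.node 20078 (.leaf 0x102070003) (.leaf 0x0)) (.node 20080 (.leaf 0x0) (.node 20081 (.leaf 0xb0a0f0d0e0005) (.leaf 0x0))))))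

def argWS_1965 : Store := (.node 20062 argWS_1963 argWS_1964)

def argWS_1966 : Store := (.node 20092 (.node 20087 (.node 20084 (.node 20083 (.leaf 0xf0c0002) (.leaf 0x70001)) (.node 20085 (.leaf 0x0) (.node 20086 (.leaf 0x0) (.leaf 0xf100b0c0f0c0006)))) (.node 20089 (.node 20088 (.leaf 0x70001) (.leaf 0x0)) (.node 20090 (.leaf 0x0) (.node 20091 (.leaf 0xc100b0c0004) (.leaf 0x70001))))) (.node 20097 (.node 20094 (.node 20093 (.leaf 0x0) (.leaf 0x0)) (.node 20095 (.leaf 0x0) (.node 20096 (.leaf 0x0) (.leaf 0x40201060705080007)))) (.node 20099 (.node 20098 (.leaf 0x0) (.leaf 0x0)) (.node 20100 (.leaf 0x2010705080005) (.node 20101 (.leaf 0x2010705080005) (.leaf 0x0))))))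

def argWS_1967 : Store := (.node 20112 (.node 20107 (.node 20104 (.node 20103 (.leaf 0x2010705080005) (.leaf 0x0)) (.node 20105 (.leaf 0x403010607090006) (.node 20106 (.leaf 0x0) (.leaf 0x2010705080005)))) (.node 20109 (.node 20108 (.leaf 0x0) (.leaf 0x403010607090006)) (.node 20110 (.leaf 0x0) (.node 20111 (.leaf 0x403010607090006) (.leaf 0x0))))) (.node 20117 (.node 20114 (.node 20113 (.leaf 0x0) (.leaf 0x40201060705080007)) (.node 20115 (.leaf 0x0) (.node 20116 (.leaf 0x302060607090006) (.leaf 0x0)))) (.node 20120 (.node 20118 (.leaf 0x40201060705080007) (.node 20119 (.leaf 0x0) (.leaf 0x701020809080607090009))) (.node 20121 (.leaf 0x0) (.node 20122 (.leaf 0x2010705080005) (.leaf 0x0))))))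

def argWS_1968 : Store := (.node 20102 argWS_1966 argWS_1967)

def argWS_1969 : Store := (.node 20082 argWS_1965 argWS_1968)

def argWS_1970 : Store := (.node 20133 (.node 20128 (.node 20125 (.node 20124 (.leaf 0x2010705080005) (.leaf 0x0)) (.node 20126 (.leaf 0x701020809080607090009) (.node 20127 (.leaf 0x0) (.leaf 0x301060003)))) (.node 20130 (.node 20129 (.leaf 0x0) (.leaf 0x40201060705080007)) (.node 20131 (.leaf 0x0) (.node 20132 (.leaf 0x0) (.leaf 0x301060003))))) (.node 20138 (.node 20135 (.node 20134 (.leaf 0x0) (.leaf 0x7010208060607090008)) (.node 20136 (.leaf 0x0) (.node 20137 (.leaf 0x40201060705080007) (.leaf 0x0)))) (.node 20140 (.node 20139 (.leaf 0x701020809080607090009) (.leaf 0x0)) (.node 20141 (.leaf 0x0) (.node 20142 (.leaf 0x7010208060607090008) (.leaf 0x0))))))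

def argWS_1971 : Store := (.node 20153 (.node 20148 (.node 20145 (.node 20144 (.leaf 0x301060003) (.leaf 0x0)) (.node 20146 (.leaf 0x301060003) (.node 20147 (.leaf 0x0) (.leaf 0x302060607090006)))) (.node 20150 (.node 20149 (.leaf 0x0) (.leaf 0x2010705080005)) (.node 20151 (.leaf 0x0) (.node 20152 (.leaf 0x0) (.leaf 0x403010607090006))))) (.node 20158 (.node 20155 (.node 20154 (.leaf 0x0) (.leaf 0x7010208060607090008)) (.node 20156 (.leaf 0x0) (.node 20157 (.leaf 0x407090003) (.leaf 0x0)))) (.node 20161 (.node 20159 (.leaf 0x407090003) (.node 20160 (.leaf 0x0) (.leaf 0x201050705080006))) (.node 20162 (.leaf 0x0) (.node 20163 (.leaf 0x7010208060607090008) (.leaf 0x0))))))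

def argWS_1972 : Store := (.node 20143 argWS_1970 argWS_1971)

def argWS_1973 : Store := (.node 20174 (.node 20169 (.node 20166 (.node 20165 (.leaf 0x201060705080006) (.leaf 0x0)) (.node 20167 (.leaf 0x40201060705080007) (.node 20168 (.leaf 0x0) (.leaf 0x40301060004)))) (.node 20171 (.node 20170 (.leaf 0x0) (.leaf 0x403010607090006)) (.node 20172 (.leaf 0x0) (.node 20173 (.leaf 0x0) (.leaf 0x201050705080006))))) (.node 20179 (.node 20176 (.node 20175 (.leaf 0x0) (.leaf 0x701020809080607090009)) (.node 20177 (.leaf 0x0) (.node 20178 (.leaf 0x201050705080006) (.leaf 0x0)))) (.node 20181 (.node 20180 (.leaf 0x201050705080006) (.leaf 0x0)) (.node 20182 (.leaf 0x40201060705080007) (.node 20183 (.leaf 0x0) (.leaf 0x409080003))))))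

def argWS_1974 : Store := (.node 20194 (.node 20189 (.node 20186 (.node 20185 (.leaf 0x0) (.leaf 0x701020809080607090009)) (.node 20187 (.leaf 0x0) (.node 20188 (.leaf 0x0) (.leaf 0x40301060004)))) (.node 20191 (.node 20190 (.leaf 0x0) (.leaf 0x40201060705080007)) (.node 20192 (.leaf 0x0) (.node 20193 (.leaf 0x0) (.leaf 0x201050705080006))))) (.node 20199 (.node 20196 (.node 20195 (.leaf 0x0) (.leaf 0x201060705080006)) (.node 20197 (.leaf 0x0) (.node 20198 (.leaf 0x7010208050005) (.leaf 0x0)))) (.node 20202 (.node 20200 (.leaf 0x40201060705080007) (.node 20201 (.leaf 0x0) (.leaf 0x2010705080005))) (.node 20203 (.leaf 0x0) (.node 20204 (.leaf 0x40201060705080007) (.leaf 0x0))))))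

def argWS_1975 : Store := (.node 20184 argWS_1973 argWS_1974)

def argWS_1976 : Store := (.node 20164 argWS_1972 argWS_1975)

def argWS_1977 : Store := (.node 20123 argWS_1969 argWS_1976)

def argWS_1978 : Store := (.node 20042 argWS_1962 argWS_1977)

def argWS_1979 : Store := (.node 19879 argWS_1947 argWS_1978)

def argWS_1980 : Store := (.node 20215 (.node 20210 (.node 20207 (.node 20206 (.leaf 0x302060607090006) (.leaf 0x0)) (.node 20208 (.leaf 0x302060607090006) (.node 20209 (.leaf 0x0) (.leaf 0x40301060004)))) (.node 20212 (.node 20211 (.leaf 0x0) (.leaf 0x7090002)) (.node 20213 (.leaf 0x0) (.node 20214 (.leaf 0x0) (.leaf 0x0))))) (.node 20220 (.node 20217 (.node 20216 (.leaf 0x402010607090006) (.leaf 0x0)) (.node 20218 (.leaf 0x701020809080607090009) (.node 20219 (.leaf 0x701020809080607090009) (.leaf 0x0)))) (.node 20222 (.node 20221 (.leaf 0x0) (.leaf 0x7090002)) (.node 20223 (.leaf 0x7090002) (.node 20224 (.leaf 0x0) (.leaf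 0x0))))))

def argWS_1981 : Store := (.node 20235 (.node 20230 (.node 20227 (.node 20226 (.leaf 0x0) (.leaf 0xd110d0e0004)) (.node 20228 (.leaf 0x110b0002) (.node 20229 (.leaf 0x4f03) (.leaf 0xf0f0c0003)))) (.node 20232 (.node 20231 (.leaf 0x0) (.leaf 0x0)) (.node 20233 (.leaf 0x0) (.node 20234 (.leaf 0x0) (.leaf 0x10001))))) (.node 20240 (.node 20237 (.node 20236 (.leaf 0x0) (.leaf 0x0)) (.node 20238 (.leaf 0xc100002) (.node 20239 (.leaf 0x0) (.leaf 0x103050709080607090009)))) (.node 20242 (.node 20241 (.leaf 0x0) (.leaf 0x1030507050705080008)) (.node 20243 (.leaf 0x0) (.node 20244 (.leaf 0x0) (.leaf 0x0))))))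

def argWS_1982 : Store := (.node 20225 argWS_1980 argWS_1981)

def argWS_1983 : Store := (.node 20255 (.node 20250 (.node 20247 (.node 20246 (.leaf 0x2010705080005) (.leaf 0x0)) (.node 20248 (.leaf 0x0) (.node 20249 (.leaf 0x40307090004) (.leaf 0x2030109080005)))) (.node 20252 (.node 20251 (.leaf 0x0) (.leaf 0x0)) (.node 20253 (.leaf 0x0) (.node 20254 (.leaf 0x0) (.leaf 0x402010607090006))))) (.node 20260 (.node 20257 (.node 20256 (.leaf 0x0) (.leaf 0x0)) (.node 20258 (.leaf 0x0) (.node 20259 (.leaf 0x0) (.leaf 0x40307090004)))) (.node 20262 (.node 20261 (.leaf 0x10308050705080007) (.leaf 0x0)) (.node 20263 (.leaf 0xe100f0c0004) (.node 20264 (.leaf 0x0) (.leaf 0xe110f0d0e0005))))))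

def argWS_1984 : Store := (.node 20275 (.node 20270 (.node 20267 (.node 20266 (.leaf 0x4f28) (.leaf 0xf100b0f0004)) (.node 20268 (.leaf 0x0) (.node 20269 (.leaf 0x0) (.leaf 0x100050003)))) (.node 20272 (.node 20271 (.leaf 0x7010607050005) (.leaf 0x0)) (.node 20273 (.leaf 0xf100b0f0f0c0006) (.node 20274 (.leaf 0x0) (.leaf 0x0))))) (.node 20280 (.node 20277 (.node 20276 (.leaf 0x0) (.leaf 0x0)) (.node 20278 (.leaf 0x10001) (.node 20279 (.leaf 0x0) (.leaf 0x0)))) (.node 20283 (.node 20281 (.leaf 0xf100f0003) (.node 20282 (.leaf 0x0) (.leaf 0x40307090004))) (.node 20284 (.leaf 0x200060003) (.node 20285 (.leaf 0x0) (.leaf 0x100b0d0e0004))))))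

def argWS_1985 : Store := (.node 20265 argWS_1983 argWS_1984)

def argWS_1986 : Store := (.node 20245 argWS_1982 argWS_1985)

def argWS_1987 : Store := (.node 20296 (.node 20291 (.node 20288 (.node 20287 (.leaf 0x0) (.leaf 0x0)) (.node 20289 (.leaf 0x4010607050705080008) (.node 20290 (.leaf 0x2040607050705080008) (.leaf 0x0)))) (.node 20293 (.node 20292 (.leaf 0x110001) (.leaf 0x0)) (.node 20294 (.leaf 0x0) (.node 20295 (.leaf 0x3040107060005) (.leaf 0x40709080004))))) (.node 20301 (.node 20298 (.node 20297 (.leaf 0x0) (.leaf 0x110b0d0f0c0005)) (.node 20299 (.leaf 0x0) (.node 20300 (.leaf 0xe100e0003) (.leaf 0x0)))) (.node 20303 (.node 20302 (.leaf 0x50705080004) (.leaf 0x3020607050705080008)) (.node 20304 (.leaf 0x0) (.node 20305 (.leaf 0xd100002) (.leaf 0x0))))))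

def argWS_1988 : Store := (.node 20316 (.node 20311 (.node 20308 (.node 20307 (.leaf 0xb0d0d0e0004) (.leaf 0xb0d0002)) (.node 20309 (.leaf 0x4f53004f52004f51004f4b004f4a004f44) (.node 20310 (.leaf 0xa0f0d0e0004) (.leaf 0x0)))) (.node 20313 (.node 20312 (.leaf 0x0) (.leaf 0x108060705080006)) (.node 20314 (.leaf 0x0) (.node 20315 (.leaf 0x20301050705080007) (.leaf 0x20301050705080007))))) (.node 20321 (.node 20318 (.node 20317 (.leaf 0x0) (.leaf 0x0)) (.node 20319 (.leaf 0x40108060705080007) (.node 20320 (.leaf 0x0) (.leaf 0x0)))) (.node 20324 (.node 20322 (.leaf 0x10407060004) (.node 20323 (.leaf 0x80001) (.leaf 0x0))) (.node 20325 (.leaf 0xf100b0d0f0c0006) (.node 20326 (.leaf 0x0) (.leaf 0x0))))))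

def argWS_1989 : Store := (.node 20306 argWS_1987 argWS_1988)

def argWS_1990 : Store := (.node 20337 (.node 20332 (.node 20329 (.node 20328 (.leaf 0x0) (.leaf 0x0)) (.node 20330 (.leaf 0x10001) (.node 20331 (.leaf 0x100060003) (.leaf 0x0)))) (.node 20334 (.node 20333 (.leaf 0x0) (.leaf 0x0)) (.node 20335 (.leaf 0xa0d0e0003) (.node 20336 (.leaf 0x0) (.leaf 0x0))))) (.node 20342 (.node 20339 (.node 20338 (.leaf 0x10001) (.leaf 0x80001)) (.node 20340 (.leaf 0x0) (.node 20341 (.leaf 0x10001) (.leaf 0x80001)))) (.node 20344 (.node 20343 (.leaf 0x0) (.leaf 0x10001)) (.node 20345 (.leaf 0x80001) (.node 20346 (.leaf 0x70001) (.leaf 0x8060002))))))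

def argWS_1991 : Store := (.node 20357 (.node 20352 (.node 20349 (.node 20348 (.leaf 0x108060003) (.leaf 0x0)) (.node 20350 (.leaf 0x10001) (.node 20351 (.leaf 0x80001) (.leaf 0x70001)))) (.node 20354 (.node 20353 (.leaf 0x1080002) (.leaf 0x1070002)) (.node 20355 (.leaf 0x8060002) (.node 20356 (.leaf 0x8050002) (.leaf 0x108060003))))) (.node 20362 (.node 20359 (.node 20358 (.leaf 0x108050003) (.leaf 0x0)) (.node 20360 (.leaf 0x10001) (.node 20361 (.leaf 0x80001) (.leaf 0x70001)))) (.node 20365 (.node 20363 (.leaf 0x1080002) (.node 20364 (.leaf 0x1070002) (.leaf 0x8060002))) (.node 20366 (.leaf 0x8050002) (.node 20367 (.leaf 0x108060003) (.leaf 0x108050003))))))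

def argWS_1992 : Store := (.node 20347 argWS_1990 argWS_1991)

def argWS_1993 : Store := (.node 20327 argWS_1989 argWS_1992)

def argWS_1994 : Store := (.node 20286 argWS_1986 argWS_1993)

def argWS_1995 : Store := (.node 20378 (.node 20373 (.node 20370 (.node 20369 (.leaf 0x0) (.leaf 0x10001)) (.node 20371 (.leaf 0x80001) (.node 20372 (.leaf 0x70001) (.leaf 0x0)))) (.node 20375 (.node 20374 (.leaf 0x10001) (.leaf 0x70001)) (.node 20376 (.leaf 0x1070002) (.node 20377 (.leaf 0x0) (.leaf 0x10001))))) (.node 20383 (.node 20380 (.node 20379 (.leaf 0x80001) (.leaf 0x70001)) (.node 20381 (.leaf 0x1080002) (.node 20382 (.leaf 0x1070002) (.leaf 0x8060002)))) (.node 20385 (.node 20384 (.leaf 0x8050002) (.leaf 0x108060003)) (.node 20386 (.leaf 0x108050003) (.node 20387 (.leaf 0x0) (.leaf 0x10001))))))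

def argWS_1996 : Store := (.node 20398 (.node 20393 (.node 20390 (.node 20389 (.leaf 0x80001) (.leaf 0x70001)) (.node 20391 (.leaf 0x1080002) (.node 20392 (.leaf 0x1070002) (.leaf 0x8060002)))) (.node 20395 (.node 20394 (.leaf 0x8050002) (.leaf 0x108060003)) (.node 20396 (.leaf 0x108050003) (.node 20397 (.leaf 0x0) (.leaf 0x10001))))) (.node 20403 (.node 20400 (.node 20399 (.leaf 0x80001) (.leaf 0x70001)) (.node 20401 (.leaf 0x1080002) (.node 20402 (.leaf 0x1070002) (.leaf 0x8060002)))) (.node 20405 (.node 20404 (.leaf 0x8050002) (.leaf 0x108060003)) (.node 20406 (.leaf 0x108050003) (.node 20407 (.leaf 0x0) (.leaf 0x10001))))))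

def argWS_1997 : Store := (.node 20388 argWS_1995 argWS_1996)

def argWS_1998 : Store := (.node 20418 (.node 20413 (.node 20410 (.node 20409 (.leaf 0x80001) (.leaf 0x70001)) (.node 20411 (.leaf 0x1080002) (.node 20412 (.leaf 0x1070002) (.leaf 0x8060002)))) (.node 20415 (.node 20414 (.leaf 0x8050002) (.leaf 0x108060003)) (.node 20416 (.leaf 0x108050003) (.node 20417 (.leaf 0x0) (.leaf 0x10001))))) (.node 20423 (.node 20420 (.node 20419 (.leaf 0x80001) (.leaf 0x70001)) (.node 20421 (.leaf 0x8050002) (.node 20422 (.leaf 0x108050003) (.leaf 0x0)))) (.node 20425 (.node 20424 (.leaf 0x80001) (.leaf 0x70001)) (.node 20426 (.leaf 0x1070002) (.node 20427 (.leaf 0x8060002) (.leaf 0x8050002))))))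

def argWS_1999 : Store := (.node 20438 (.node 20433 (.node 20430 (.node 20429 (.leaf 0x0) (.leaf 0x10001)) (.node 20431 (.leaf 0x70001) (.node 20432 (.leaf 0x1070002) (.leaf 0x8060002)))) (.node 20435 (.node 20434 (.leaf 0x8050002) (.leaf 0x0)) (.node 20436 (.leaf 0x10001) (.node 20437 (.leaf 0x80001) (.leaf 0x70001))))) (.node 20443 (.node 20440 (.node 20439 (.leaf 0x1080002) (.leaf 0x1070002)) (.node 20441 (.leaf 0x8060002) (.node 20442 (.leaf 0x8050002) (.leaf 0x108060003)))) (.node 20446 (.node 20444 (.leaf 0x108050003) (.node 20445 (.leaf 0x0) (.leaf 0x10001))) (.node 20447 (.leaf 0x80001) (.node 20448 (.leaf 0x70001) (.leaf 0x1080002))))))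

def argWS_2000 : Store := (.node 20428 argWS_1998 argWS_1999)

def argWS_2001 : Store := (.node 20408 argWS_1997 argWS_2000)

def argWS_2002 : Store := (.node 20459 (.node 20454 (.node 20451 (.node 20450 (.leaf 0x1070002) (.leaf 0x8060002)) (.node 20452 (.leaf 0x8050002) (.node 20453 (.leaf 0x108060003) (.leaf 0x108050003)))) (.node 20456 (.node 20455 (.leaf 0x0) (.leaf 0x10001)) (.node 20457 (.leaf 0x80001) (.node 20458 (.leaf 0x1080002) (.leaf 0x8050002))))) (.node 20464 (.node 20461 (.node 20460 (.leaf 0x108050003) (.leaf 0x0)) (.node 20462 (.leaf 0x10001) (.node 20463 (.leaf 0x70001) (.leaf 0x1070002)))) (.node 20466 (.node 20465 (.leaf 0x8050002) (.leaf 0x108050003)) (.node 20467 (.leaf 0x0) (.node 20468 (.leaf 0x10001) (.leaf 0x80001))))))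

def argWS_2003 : Store := (.node 20479 (.node 20474 (.node 20471 (.node 20470 (.leaf 0x70001) (.leaf 0x1080002)) (.node 20472 (.leaf 0x1070002) (.node 20473 (.leaf 0x0) (.leaf 0x10001)))) (.node 20476 (.node 20475 (.leaf 0x80001) (.leaf 0x70001)) (.node 20477 (.leaf 0x1080002) (.node 20478 (.leaf 0x1070002) (.leaf 0x8060002))))) (.node 20484 (.node 20481 (.node 20480 (.leaf 0x8050002) (.leaf 0x108060003)) (.node 20482 (.leaf 0x108050003) (.node 20483 (.leaf 0x0) (.leaf 0x10001)))) (.node 20487 (.node 20485 (.leaf 0x80001) (.node 20486 (.leaf 0x0) (.leaf 0x1080002))) (.node 20488 (.leaf 0x8050002) (.node 20489 (.leaf 0x108050003) (.leaf 0x0))))))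

def argWS_2004 : Store := (.node 20469 argWS_2002 argWS_2003)

def argWS_2005 : Store := (.node 20500 (.node 20495 (.node 20492 (.node 20491 (.leaf 0x10001) (.leaf 0x80001)) (.node 20493 (.leaf 0x70001) (.node 20494 (.leaf 0x1080002) (.leaf 0x1070002)))) (.node 20497 (.node 20496 (.leaf 0x0) (.leaf 0x10001)) (.node 20498 (.leaf 0x80001) (.node 20499 (.leaf 0x70001) (.leaf 0x1080002))))) (.node 20505 (.node 20502 (.node 20501 (.leaf 0x1070002) (.leaf 0x0)) (.node 20503 (.leaf 0x10001) (.node 20504 (.leaf 0x80001) (.leaf 0x1080002)))) (.node 20507 (.node 20506 (.leaf 0x8060002) (.leaf 0x8050002)) (.node 20508 (.leaf 0x0) (.node 20509 (.leaf 0x10001) (.leaf 0x8050002))))))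

def argWS_2006 : Store := (.node 20520 (.node 20515 (.node 20512 (.node 20511 (.leaf 0x108050003) (.leaf 0x0)) (.node 20513 (.leaf 0x10001) (.node 20514 (.leaf 0x80001) (.leaf 0x70001)))) (.node 20517 (.node 20516 (.leaf 0x1080002) (.leaf 0x1070002)) (.node 20518 (.leaf 0x8060002) (.node 20519 (.leaf 0x8050002) (.leaf 0x108060003))))) (.node 20525 (.node 20522 (.node 20521 (.leaf 0x108050003) (.leaf 0x0)) (.node 20523 (.leaf 0x10001) (.node 20524 (.leaf 0x80001) (.leaf 0x70001)))) (.node 20528 (.node 20526 (.leaf 0x1080002) (.node 20527 (.leaf 0x1070002) (.leaf 0x8060002))) (.node 20529 (.leaf 0x8050002) (.node 20530 (.leaf 0x108060003) (.leaf 0x108050003))))))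

def argWS_2007 : Store := (.node 20510 argWS_2005 argWS_2006)

def argWS_2008 : Store := (.node 20490 argWS_2004 argWS_2007)

def argWS_2009 : Store := (.node 20449 argWS_2001 argWS_2008)

def argWS_2010 : Store := (.node 20368 argWS_1994 argWS_2009)

def argWS_2011 : Store := (.node 20541 (.node 20536 (.node 20533 (.node 20532 (.leaf 0x0) (.leaf 0x10001)) (.node 20534 (.leaf 0x80001) (.node 20535 (.leaf 0x70001) (.leaf 0x1080002)))) (.node 20538 (.node 20537 (.leaf 0x1070002) (.leaf 0x8060002)) (.node 20539 (.leaf 0x8050002) (.node 20540 (.leaf 0x108060003) (.leaf 0x108050003))))) (.node 20546 (.node 20543 (.node 20542 (.leaf 0x0) (.leaf 0x10001)) (.node 20544 (.leaf 0x70001) (.node 20545 (.leaf 0x1070002) (.leaf 0x8060002)))) (.node 20548 (.node 20547 (.leaf 0x108060003) (.leaf 0x0)) (.node 20549 (.leaf 0x10001) (.node 20550 (.leaf 0x80001) (.leaf 0x70001))))))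

def argWS_2012 : Store := (.node 20561 (.node 20556 (.node 20553 (.node 20552 (.leaf 0x1080002) (.leaf 0x1070002)) (.node 20554 (.leaf 0x8060002) (.node 20555 (.leaf 0x8050002) (.leaf 0x108060003)))) (.node 20558 (.node 20557 (.leaf 0x108050003) (.leaf 0x0)) (.node 20559 (.leaf 0x10001) (.node 20560 (.leaf 0x80001) (.leaf 0x70001))))) (.node 20566 (.node 20563 (.node 20562 (.leaf 0x1080002) (.leaf 0x1070002)) (.node 20564 (.leaf 0x8060002) (.node 20565 (.leaf 0x8050002) (.leaf 0x108060003)))) (.node 20568 (.node 20567 (.leaf 0x108050003) (.leaf 0x0)) (.node 20569 (.leaf 0x10001) (.node 20570 (.leaf 0x80001) (.leaf 0x70001))))))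

def argWS_2013 : Store := (.node 20551 argWS_2011 argWS_2012)

def argWS_2014 : Store := (.node 20581 (.node 20576 (.node 20573 (.node 20572 (.leaf 0x1080002) (.leaf 0x1070002)) (.node 20574 (.leaf 0x8060002) (.node 20575 (.leaf 0x8050002) (.leaf 0x108060003)))) (.node 20578 (.node 20577 (.leaf 0x108050003) (.leaf 0x0)) (.node 20579 (.leaf 0x10001) (.node 20580 (.leaf 0x80001) (.leaf 0x70001))))) (.node 20586 (.node 20583 (.node 20582 (.leaf 0x100050003) (.leaf 0x0)) (.node 20584 (.leaf 0x1080002) (.node 20585 (.leaf 0x1070002) (.leaf 0x0)))) (.node 20588 (.node 20587 (.leaf 0x10001) (.leaf 0x80001)) (.node 20589 (.leaf 0x70001) (.node 20590 (.leaf 0x1080002) (.leaf 0x1070002))))))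

def argWS_2015 : Store := (.node 20601 (.node 20596 (.node 20593 (.node 20592 (.leaf 0x8060002) (.leaf 0x8050002)) (.node 20594 (.leaf 0x108060003) (.node 20595 (.leaf 0x108050003) (.leaf 0x0)))) (.node 20598 (.node 20597 (.leaf 0x10001) (.leaf 0x80001)) (.node 20599 (.leaf 0x1080002) (.node 20600 (.leaf 0x8060002) (.leaf 0x8050002))))) (.node 20606 (.node 20603 (.node 20602 (.leaf 0x0) (.leaf 0x10001)) (.node 20604 (.leaf 0x80001) (.node 20605 (.leaf 0x70001) (.leaf 0x1080002)))) (.node 20609 (.node 20607 (.leaf 0x1070002) (.node 20608 (.leaf 0x0) (.leaf 0x10001))) (.node 20610 (.leaf 0x80001) (.node 20611 (.leaf 0x70001) (.leaf 0x1080002))))))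

def argWS_2016 : Store := (.node 20591 argWS_2014 argWS_2015)

def argWS_2017 : Store := (.node 20571 argWS_2013 argWS_2016)

def argWS_2018 : Store := (.node 20622 (.node 20617 (.node 20614 (.node 20613 (.leaf 0x1070002) (.leaf 0x8060002)) (.node 20615 (.leaf 0x8050002) (.node 20616 (.leaf 0x108060003) (.leaf 0x108050003)))) (.node 20619 (.node 20618 (.leaf 0x0) (.leaf 0x10001)) (.node 20620 (.leaf 0x80001) (.node 20621 (.leaf 0x70001) (.leaf 0x1080002))))) (.node 20627 (.node 20624 (.node 20623 (.leaf 0x1070002) (.leaf 0x8060002)) (.node 20625 (.leaf 0x8050002) (.node 20626 (.leaf 0x108060003) (.leaf 0x108050003)))) (.node 20629 (.node 20628 (.leaf 0x0) (.leaf 0x10001)) (.node 20630 (.leaf 0x80001) (.node 20631 (.leaf 0x1080002) (.leaf 0x8060002))))))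

def argWS_2019 : Store := (.node 20642 (.node 20637 (.node 20634 (.node 20633 (.leaf 0x8050002) (.leaf 0x0)) (.node 20635 (.leaf 0x10001) (.node 20636 (.leaf 0x80001) (.leaf 0x70001)))) (.node 20639 (.node 20638 (.leaf 0x1080002) (.leaf 0x1070002)) (.node 20640 (.leaf 0x0) (.node 20641 (.leaf 0x10001) (.leaf 0x80001))))) (.node 20647 (.node 20644 (.node 20643 (.leaf 0x70001) (.leaf 0x1080002)) (.node 20645 (.leaf 0x1070002) (.node 20646 (.leaf 0x8060002) (.leaf 0x8050002)))) (.node 20650 (.node 20648 (.leaf 0x108060003) (.node 20649 (.leaf 0x108050003) (.leaf 0x0))) (.node 20651 (.leaf 0x10001) (.node 20652 (.leaf 0x80001) (.leaf 0x70001))))))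

def argWS_2020 : Store := (.node 20632 argWS_2018 argWS_2019)

def argWS_2021 : Store := (.node 20663 (.node 20658 (.node 20655 (.node 20654 (.leaf 0x1080002) (.leaf 0x1070002)) (.node 20656 (.leaf 0x8060002) (.node 20657 (.leaf 0x8050002) (.leaf 0x108060003)))) (.node 20660 (.node 20659 (.leaf 0x108050003) (.leaf 0x0)) (.node 20661 (.leaf 0x10001) (.node 20662 (.leaf 0x80001) (.leaf 0x70001))))) (.node 20668 (.node 20665 (.node 20664 (.leaf 0x1080002) (.leaf 0x1070002)) (.node 20666 (.leaf 0x0) (.node 20667 (.leaf 0x10001) (.leaf 0x8050002)))) (.node 20670 (.node 20669 (.leaf 0x607090003) (.leaf 0x0)) (.node 20671 (.leaf 0x0) (.node 20672 (.leaf 0x108050003) (.leaf 0x201050003))))))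

def argWS_2022 : Store := (.node 20683 (.node 20678 (.node 20675 (.node 20674 (.leaf 0x0) (.leaf 0x0)) (.node 20676 (.leaf 0x0) (.node 20677 (.leaf 0x10001) (.leaf 0x80001)))) (.node 20680 (.node 20679 (.leaf 0x70001) (.leaf 0x1080002)) (.node 20681 (.leaf 0x1070002) (.node 20682 (.leaf 0x8060002) (.leaf 0x8050002))))) (.node 20688 (.node 20685 (.node 20684 (.leaf 0x108060003) (.leaf 0x108050003)) (.node 20686 (.leaf 0x0) (.node 20687 (.leaf 0x10001) (.leaf 0x70001)))) (.node 20691 (.node 20689 (.leaf 0x1070002) (.node 20690 (.leaf 0x8060002) (.leaf 0x108060003))) (.node 20692 (.leaf 0x2030709080005) (.node 20693 (.leaf 0x0) (.leaf 0x0))))))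

def argWS_2023 : Store := (.node 20673 argWS_2021 argWS_2022)

def argWS_2024 : Store := (.node 20653 argWS_2020 argWS_2023)

def argWS_2025 : Store := (.node 20612 argWS_2017 argWS_2024)

def argWS_2026 : Store := (.node 20704 (.node 20699 (.node 20696 (.node 20695 (.leaf 0x50001) (.leaf 0x0)) (.node 20697 (.leaf 0x10001) (.node 20698 (.leaf 0x70001) (.leaf 0x1070002)))) (.node 20701 (.node 20700 (.leaf 0x8060002) (.leaf 0x108060003)) (.node 20702 (.leaf 0x0) (.node 20703 (.leaf 0x70001) (.leaf 0x1070002))))) (.node 20709 (.node 20706 (.node 20705 (.leaf 0x0) (.leaf 0x10001)) (.node 20707 (.leaf 0x80001) (.node 20708 (.leaf 0x70001) (.leaf 0x1080002)))) (.node 20711 (.node 20710 (.leaf 0x1070002) (.leaf 0x0)) (.node 20712 (.leaf 0x10001) (.node 20713 (.leaf 0x80001) (.leaf 0x70001))))))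

def argWS_2027 : Store := (.node 20724 (.node 20719 (.node 20716 (.node 20715 (.leaf 0x1080002) (.leaf 0x206070705080006)) (.node 20717 (.leaf 0x0) (.node 20718 (.leaf 0x1070002) (.leaf 0x0)))) (.node 20721 (.node 20720 (.leaf 0x10001) (.leaf 0x80001)) (.node 20722 (.leaf 0x70001) (.node 20723 (.leaf 0x8050002) (.leaf 0x108050003))))) (.node 20729 (.node 20726 (.node 20725 (.leaf 0x0) (.leaf 0x10001)) (.node 20727 (.leaf 0x80001) (.node 20728 (.leaf 0x1080002) (.leaf 0x8060002)))) (.node 20731 (.node 20730 (.leaf 0x8050002) (.leaf 0x0)) (.node 20732 (.leaf 0x10001) (.node 20733 (.leaf 0x80001) (.leaf 0x70001))))))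

def argWS_2028 : Store := (.node 20714 argWS_2026 argWS_2027)

def argWS_2029 : Store := (.node 20744 (.node 20739 (.node 20736 (.node 20735 (.leaf 0x1080002) (.leaf 0x1070002)) (.node 20737 (.leaf 0x30201050004) (.node 20738 (.leaf 0x0) (.leaf 0x0)))) (.node 20741 (.node 20740 (.leaf 0x10001) (.leaf 0x80001)) (.node 20742 (.leaf 0x70001) (.node 20743 (.leaf 0x1080002) (.leaf 0x1070002))))) (.node 20749 (.node 20746 (.node 20745 (.leaf 0x0) (.leaf 0x10001)) (.node 20747 (.leaf 0x70001) (.node 20748 (.leaf 0x1070002) (.leaf 0x8060002)))) (.node 20751 (.node 20750 (.leaf 0x108060003) (.leaf 0x0)) (.node 20752 (.leaf 0x10001) (.node 20753 (.leaf 0x80001) (.leaf 0x70001))))))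

def argWS_2030 : Store := (.node 20764 (.node 20759 (.node 20756 (.node 20755 (.leaf 0x8060002) (.leaf 0x8050002)) (.node 20757 (.leaf 0x0) (.node 20758 (.leaf 0x10001) (.leaf 0x80001)))) (.node 20761 (.node 20760 (.leaf 0x70001) (.leaf 0x1080002)) (.node 20762 (.leaf 0x1070002) (.node 20763 (.leaf 0x0) (.leaf 0x10001))))) (.node 20769 (.node 20766 (.node 20765 (.leaf 0x80001) (.leaf 0x70001)) (.node 20767 (.leaf 0x1080002) (.node 20768 (.leaf 0x1070002) (.leaf 0x0)))) (.node 20772 (.node 20770 (.leaf 0x80001) (.node 20771 (.leaf 0x70001) (.leaf 0x1070002))) (.node 20773 (.leaf 0x8060002) (.node 20774 (.leaf 0x8050002) (.leaf 0x0))))))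

def argWS_2031 : Store := (.node 20754 argWS_2029 argWS_2030)

def argWS_2032 : Store := (.node 20734 argWS_2028 argWS_2031)

def argWS_2033 : Store := (.node 20785 (.node 20780 (.node 20777 (.node 20776 (.leaf 0x80001) (.leaf 0x70001)) (.node 20778 (.leaf 0x1070002) (.node 20779 (.leaf 0x8060002) (.leaf 0x8050002)))) (.node 20782 (.node 20781 (.leaf 0x0) (.leaf 0x10001)) (.node 20783 (.leaf 0x80001) (.node 20784 (.leaf 0x1080002) (.leaf 0x0))))) (.node 20790 (.node 20787 (.node 20786 (.leaf 0x10001) (.leaf 0x70001)) (.node 20788 (.leaf 0x1070002) (.node 20789 (.leaf 0x0) (.leaf 0x8060002)))) (.node 20792 (.node 20791 (.leaf 0x108060003) (.leaf 0x0)) (.node 20793 (.leaf 0x10001) (.node 20794 (.leaf 0x80001) (.leaf 0x0))))))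

def argWS_2034 : Store := (.node 20805 (.node 20800 (.node 20797 (.node 20796 (.leaf 0x1080002) (.leaf 0x0)) (.node 20798 (.leaf 0x8060002) (.node 20799 (.leaf 0x8050002) (.leaf 0x4010607050705080008)))) (.node 20802 (.node 20801 (.leaf 0x0) (.leaf 0x0)) (.node 20803 (.leaf 0x10001) (.node 20804 (.leaf 0x80001) (.leaf 0x70001))))) (.node 20810 (.node 20807 (.node 20806 (.leaf 0x1080002) (.leaf 0x1070002)) (.node 20808 (.leaf 0x0) (.node 20809 (.leaf 0x10001) (.leaf 0x0)))) (.node 20813 (.node 20811 (.leaf 0x10001) (.node 20812 (.leaf 0x80001) (.leaf 0x1080002))) (.node 20814 (.leaf 0x8050002) (.node 20815 (.leaf 0x108050003) (.leaf 0x0))))))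

def argWS_2035 : Store := (.node 20795 argWS_2033 argWS_2034)

def argWS_2036 : Store := (.node 20826 (.node 20821 (.node 20818 (.node 20817 (.leaf 0x10001) (.leaf 0x0)) (.node 20819 (.leaf 0x10001) (.node 20820 (.leaf 0x80001) (.leaf 0x1080002)))) (.node 20823 (.node 20822 (.leaf 0x209080003) (.leaf 0x0)) (.node 20824 (.leaf 0x0) (.node 20825 (.leaf 0x10001) (.leaf 0x80001))))) (.node 20831 (.node 20828 (.node 20827 (.leaf 0x0) (.leaf 0x10001)) (.node 20829 (.leaf 0x80001) (.node 20830 (.leaf 0x0) (.leaf 0x10001)))) (.node 20833 (.node 20832 (.leaf 0x70001) (.leaf 0x1070002)) (.node 20834 (.leaf 0x0) (.node 20835 (.leaf 0x10001) (.leaf 0x0))))))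

def argWS_2037 : Store := (.node 20846 (.node 20841 (.node 20838 (.node 20837 (.leaf 0x10001) (.leaf 0x80001)) (.node 20839 (.leaf 0x1080002) (.node 20840 (.leaf 0x0) (.leaf 0x10001)))) (.node 20843 (.node 20842 (.leaf 0x70001) (.leaf 0x1070002)) (.node 20844 (.leaf 0x0) (.node 20845 (.leaf 0x70001) (.leaf 0x1070002))))) (.node 20851 (.node 20848 (.node 20847 (.leaf 0x0) (.leaf 0x8050002)) (.node 20849 (.leaf 0x108050003) (.node 20850 (.leaf 0x0) (.leaf 0x8050002)))) (.node 20854 (.node 20852 (.leaf 0x108050003) (.node 20853 (.leaf 0x0) (.leaf 0x70001))) (.node 20855 (.leaf 0x1070002) (.node 20856 (.leaf 0x0) (.leaf 0x0))))))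

def argWS_2038 : Store := (.node 20836 argWS_2036 argWS_2037)

def argWS_2039 : Store := (.node 20816 argWS_2035 argWS_2038)

def argWS_2040 : Store := (.node 20775 argWS_2032 argWS_2039)

def argWS_2041 : Store := (.node 20694 argWS_2025 argWS_2040)

def argWS_2042 : Store := (.node 20531 argWS_2010 argWS_2041)

def argWS_2043 : Store := (.node 20205 argWS_1979 argWS_2042)

def argWS_2044 : Store := (.node 19553 argWS_1916 argWS_2043)

def argWS_2045 : Store := (.node 18249 argWS_1789 argWS_2044)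

def argWS_2046 : Store := (.node 15642 argWS_1534 argWS_2045)

def argWS : Store := (.node 10428 argWS_1023 argWS_2046)

def nodeSrcS : Store := (.node 5 (.node 2 (.node 1 (.leaf 0x15001500150015001500140014001400140013001300130013001300130013001200120012001200120012001200120011001100110011001100110011001100100010001000100010001000100010000f000f000f000f000f000f000f000f000e000e000e000e000d000d000d000d000d000d000d000d000c000c000c000c000c000c000c000c000b000b000b000b000b000b000b000b000a000a000a000a000a000a000a000a00090009000900090009000900090009000800080008000800080008000800080007000700060006000500050005000500050005000500050004000400040004000400040004000400030003000300030002000100000000) (.leaf 0x2a002a00290029002900290029002900290029002800280028002800280028002700270027002700270027002700270026002600260026002600260025002500250025002500250025002500240024002400240024002400240023002300230023002300230023002300220022002200220022002200210021002100210021002100210021002000200020002000200020001f001f001f001f001f001f001f001f001e001e001e001e001e001e001e001e001d001d001d001d001d001d001d001d001c001c001c001c001c001c001c001c001b001b001a001a0019001900190018001800170017001700170017001700170016001600160016001500150015))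 (.node 3 (.leaf 0x3c003c003c003c003c003c003c003b003b003b003b003b003b003b003a003a003a003a003a003a003a003a0039003900390038003800380038003800380038003800370037003700370037003700360036003600360036003600360035003500350035003500350034003400340034003400340034003400330033003300330033003300330033003200320032003200320032003100310031003100310031003100310030003000300030003000300030002f002f002f002f002f002f002f002f002e002e002e002e002e002e002d002d002d002d002d002d002d002d002c002c002c002c002c002c002b002b002b002b002b002b002b002a002a002a002a) (.node 4 (.leaf 0x56005500550055005500550055005500550054005400540054005400540054005300530053005300530053005300520052005200520052005200510051005100510051005100510051005000500050005000500050004f004f004f004f004f004f004f004f004e004e004e004e004e004e004e004d004d004d004d004c004c004c004c004b004b004b004b004b004b004b00490049004900490049004900490049004700470047004700470047004700470046004600460046004600460046004500450045004500450045004500450044004400440044004400440044004400430043004300430041004100410041003d003d003d003d003d003d003d003c)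 (.leaf 0x6800680068006800680068006700670067006700670067006700670066006600660066006600660066006600650065006500650065006500650065006400640064006400640064006400640063006300630063006300630063006300620062006200620062006200610061006100610061006100610061006000600060006000600060005f005f005f005f005f005f005e005e005e005e005e005e005e005e005d005d005d005d005c005c005c005c005c005c005c005c005b005b005b005b005b005b005b005b005a005a005a005a005a005a0059005900590059005900590059005900570057005700570057005700570056005600560056005600560056)))) (.node 7 (.node 6 (.leaf 0x8000800080008000800080007f007f007f007f007f007f007f007d007d007d007d007d007d007c007c007c007c007c007b007b007b007b007a007a007a007a0079007900790079007900790079007900780078007800770077007700770077007700770076007600760076007600760076007400740074007400740074007400730073007300730073007300730072007200720072007200720072007200710071007100710071007100700070007000700070007000700070006f006f006f006f006f006f006f006f006d006d006d006d006d006d006d006c006c006c006c006c006b006b006b006b006b006b006b006a006a006a006a006a006a006a0068)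 (.leaf 0x9e009c009c009c009c00980098009800980098009800970097009700970097009700960096009600960096009600950095009500950094009400940094009400940093009300930093009200920092009200920092009100910091009100910091008f008f008f008f008f008e008e008e008e008e008d008d008d008d008d008b008b008b008b008b008b008a008a008a008a008a008a008a008900890089008900890089008900880088008800880088008800880087008700870087008700870086008600860085008500850084008400840084008400840083008300830083008300820082008200820082008200820081008100810081008100810080)) (.node 8 (.leaf 0xb200b200b200b100b100b100b100b000b000b000b000b000b000af00af00af00af00af00af00af00af00ae00ae00ae00ae00ae00ae00ae00ae00ad00ad00ad00ad00ad00ac00ac00ac00ac00ac00ac00ac00ab00ab00ab00ab00ab00ab00aa00aa00aa00aa00aa00aa00aa00aa00a800a800a800a800a800a800a800a800a700a700a700a700a700a700a600a600a600a600a600a600a600a600a500a500a500a500a500a500a400a400a400a400a400a400a400a400a300a300a300a300a300a300a200a200a200a200a200a200a200a200a100a100a100a100a100a000a000a000a000a000a000a000a0009f009f009f009f009f009f009f009e009e009e)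 (.node 9 (.leaf 0xc300c300c300c300c200c200c200c200c200c200c200c200c100c100c100c100c100c100c000c000c000c000c000c000c000c000bf00bf00bf00bf00bf00bf00bf00bf00be00be00be00be00be00be00be00be00bd00bd00bd00bd00bd00bd00bd00bd00bc00bc00bc00bc00bc00bc00bc00bc00bb00bb00bb00bb00bb00bb00bb00bb00ba00ba00ba00ba00ba00ba00ba00ba00b900b900b900b900b900b900b800b800b800b800b800b800b800b800b700b700b700b700b700b700b700b700b600b600b600b600b600b600b600b500b500b500b500b500b500b500b500b400b400b400b400b400b400b300b300b300b300b300b300b300b300b200b200b2) (.leaf 0x4ca04c804c804c504c404c404c303b7013100cd00cd00cd00cd00cd00cd00cc00cc00cc00cc00cc00cc00cc00cc00cb00cb00cb00cb00cb00cb00ca00ca00ca00ca00ca00c900c900c900c900c900c900c900c900c800c800c800c800c800c800c800c800c700c700c700c700c700c700c700c700c600c600c600c600c600c600c500c500c500c500c500c500c400c400c400c400c300c3)))))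

noncomputable def nodeSrc : Nat → Nat := get16 nodeSrcS

def nodeWS_1 : Store := (.node 9 (.node 4 (.node 2 (.node 1 (.leaf 0x0) (.leaf 0x0)) (.node 3 (.leaf 0x80001) (.leaf 0x80001))) (.node 6 (.node 5 (.leaf 0x80001) (.leaf 0x70001)) (.node 7 (.leaf 0x8060002) (.node 8 (.leaf 0x108060003) (.leaf 0x80001))))) (.node 14 (.node 11 (.node 10 (.leaf 0x70001) (.leaf 0x1080002)) (.node 12 (.leaf 0x1070002) (.node 13 (.leaf 0x8060002) (.leaf 0x8050002)))) (.node 16 (.node 15 (.leaf 0x108060003) (.leaf 0x108050003)) (.node 17 (.leaf 0x80001) (.node 18 (.leaf 0x70001) (.leaf 0x1080002))))))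

def nodeWS_2 : Store := (.node 28 (.node 23 (.node 21 (.node 20 (.leaf 0x1070002) (.leaf 0x8060002)) (.node 22 (.leaf 0x8050002) (.leaf 0x108060003))) (.node 25 (.node 24 (.leaf 0x108050003) (.leaf 0x80001)) (.node 26 (.leaf 0x70001) (.node 27 (.leaf 0x70001) (.leaf 0x1070002))))) (.node 33 (.node 30 (.node 29 (.leaf 0x80001) (.leaf 0x70001)) (.node 31 (.leaf 0x1080002) (.node 32 (.leaf 0x1070002) (.leaf 0x8060002)))) (.node 35 (.node 34 (.leaf 0x8050002) (.leaf 0x108060003)) (.node 36 (.leaf 0x108050003) (.node 37 (.leaf 0x80001) (.leaf 0x70001))))))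

def nodeWS_3 : Store := (.node 19 nodeWS_1 nodeWS_2)

def nodeWS_4 : Store := (.node 47 (.node 42 (.node 40 (.node 39 (.leaf 0x1080002) (.leaf 0x1070002)) (.node 41 (.leaf 0x8060002) (.leaf 0x8050002))) (.node 44 (.node 43 (.leaf 0x108060003) (.leaf 0x108050003)) (.node 45 (.leaf 0x80001) (.node 46 (.leaf 0x70001) (.leaf 0x1080002))))) (.node 52 (.node 49 (.node 48 (.leaf 0x1070002) (.leaf 0x8060002)) (.node 50 (.leaf 0x8050002) (.node 51 (.leaf 0x108060003) (.leaf 0x108050003)))) (.node 54 (.node 53 (.leaf 0x80001) (.leaf 0x70001)) (.node 55 (.leaf 0x1080002) (.node 56 (.leaf 0x1070002) (.leaf 0x8060002))))))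

def nodeWS_5 : Store := (.node 66 (.node 61 (.node 59 (.node 58 (.leaf 0x8050002) (.leaf 0x108060003)) (.node 60 (.leaf 0x108050003) (.leaf 0x80001))) (.node 63 (.node 62 (.leaf 0x70001) (.leaf 0x1080002)) (.node 64 (.leaf 0x1070002) (.node 65 (.leaf 0x8060002) (.leaf 0x8050002))))) (.node 71 (.node 68 (.node 67 (.leaf 0x108060003) (.leaf 0x108050003)) (.node 69 (.leaf 0x80001) (.node 70 (.leaf 0x70001) (.leaf 0x1080002)))) (.node 73 (.node 72 (.leaf 0x1070002) (.leaf 0x8060002)) (.node 74 (.leaf 0x8050002) (.node 75 (.leaf 0x108060003) (.leaf 0x108050003))))))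

def nodeWS_6 : Store := (.node 57 nodeWS_4 nodeWS_5)

def nodeWS_7 : Store := (.node 38 nodeWS_3 nodeWS_6)

def nodeWS_8 : Store := (.node 85 (.node 80 (.node 78 (.node 77 (.leaf 0x70001) (.leaf 0x1070002)) (.node 79 (.leaf 0x8060002) (.leaf 0x8050002))) (.node 82 (.node 81 (.leaf 0x80001) (.leaf 0x70001)) (.node 83 (.leaf 0x1080002) (.node 84 (.leaf 0x1070002) (.leaf 0x8060002))))) (.node 90 (.node 87 (.node 86 (.leaf 0x8050002) (.leaf 0x108060003)) (.node 88 (.leaf 0x108050003) (.node 89 (.leaf 0x80001) (.leaf 0x70001)))) (.node 92 (.node 91 (.leaf 0x1080002) (.leaf 0x1070002)) (.node 93 (.leaf 0x8060002) (.node 94 (.leaf 0x8050002) (.leaf 0x108060003))))))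

def nodeWS_9 : Store := (.node 104 (.node 99 (.node 97 (.node 96 (.leaf 0x108050003) (.leaf 0x80001)) (.node 98 (.leaf 0x70001) (.leaf 0x1080002))) (.node 101 (.node 100 (.leaf 0x1070002) (.leaf 0x8060002)) (.node 102 (.leaf 0x8050002) (.node 103 (.leaf 0x108060003) (.leaf 0x108050003))))) (.node 109 (.node 106 (.node 105 (.leaf 0x80001) (.leaf 0x70001)) (.node 107 (.leaf 0x1080002) (.node 108 (.leaf 0x1070002) (.leaf 0x8060002)))) (.node 111 (.node 110 (.leaf 0x8050002) (.leaf 0x108060003)) (.node 112 (.leaf 0x108050003) (.node 113 (.leaf 0x80001) (.leaf 0x70001))))))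

def nodeWS_10 : Store := (.node 95 nodeWS_8 nodeWS_9)

def nodeWS_11 : Store := (.node 123 (.node 118 (.node 116 (.node 115 (.leaf 0x1080002) (.leaf 0x1070002)) (.node 117 (.leaf 0x8060002) (.leaf 0x8050002))) (.node 120 (.node 119 (.leaf 0x108060003) (.leaf 0x80001)) (.node 121 (.leaf 0x70001) (.node 122 (.leaf 0x1080002) (.leaf 0x1070002))))) (.node 128 (.node 125 (.node 124 (.leaf 0x80001) (.leaf 0x70001)) (.node 126 (.leaf 0x1080002) (.node 127 (.leaf 0x1070002) (.leaf 0x8060002)))) (.node 130 (.node 129 (.leaf 0x8050002) (.leaf 0x108060003)) (.node 131 (.leaf 0x108050003) (.node 132 (.leaf 0x80001) (.leaf 0x1080002))))))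

def nodeWS_12 : Store := (.node 143 (.node 138 (.node 135 (.node 134 (.leaf 0x8050002) (.leaf 0x108050003)) (.node 136 (.leaf 0x80001) (.node 137 (.leaf 0x70001) (.leaf 0x1080002)))) (.node 140 (.node 139 (.leaf 0x1070002) (.leaf 0x8060002)) (.node 141 (.leaf 0x8050002) (.node 142 (.leaf 0x108050003) (.leaf 0x70001))))) (.node 148 (.node 145 (.node 144 (.leaf 0x1070002) (.leaf 0x80001)) (.node 146 (.leaf 0x70001) (.node 147 (.leaf 0x1070002) (.leaf 0x80001)))) (.node 150 (.node 149 (.leaf 0x1080002) (.leaf 0x80001)) (.node 151 (.leaf 0x1080002) (.node 152 (.leaf 0x80001) (.leaf 0x70001))))))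

def nodeWS_13 : Store := (.node 133 nodeWS_11 nodeWS_12)

def nodeWS_14 : Store := (.node 114 nodeWS_10 nodeWS_13)

def nodeWS_15 : Store := (.node 76 nodeWS_7 nodeWS_14)

def nodeWS_16 : Store := (.node 162 (.node 157 (.node 155 (.node 154 (.leaf 0x1080002) (.leaf 0x1070002)) (.node 156 (.leaf 0x8060002) (.leaf 0x8050002))) (.node 159 (.node 158 (.leaf 0x108060003) (.leaf 0x108050003)) (.node 160 (.leaf 0x80001) (.node 161 (.leaf 0x70001) (.leaf 0x1080002))))) (.node 167 (.node 164 (.node 163 (.leaf 0x1070002) (.leaf 0x8060002)) (.node 165 (.leaf 0x8050002) (.node 166 (.leaf 0x108060003) (.leaf 0x108050003)))) (.node 169 (.node 168 (.leaf 0x80001) (.leaf 0x70001)) (.node 170 (.leaf 0x1080002) (.node 171 (.leaf 0x1070002) (.leaf 0x8060002))))))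

def nodeWS_17 : Store := (.node 181 (.node 176 (.node 174 (.node 173 (.leaf 0x8050002) (.leaf 0x108060003)) (.node 175 (.leaf 0x108050003) (.leaf 0x80001))) (.node 178 (.node 177 (.leaf 0x70001) (.leaf 0x1080002)) (.node 179 (.leaf 0x1070002) (.node 180 (.leaf 0x8060002) (.leaf 0x8050002))))) (.node 186 (.node 183 (.node 182 (.leaf 0x108060003) (.leaf 0x108050003)) (.node 184 (.leaf 0x80001) (.node 185 (.leaf 0x70001) (.leaf 0x1080002)))) (.node 188 (.node 187 (.leaf 0x1070002) (.leaf 0x8050002)) (.node 189 (.leaf 0x108050003) (.node 190 (.leaf 0x80001) (.leaf 0x70001))))))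

def nodeWS_18 : Store := (.node 172 nodeWS_16 nodeWS_17)

def nodeWS_19 : Store := (.node 200 (.node 195 (.node 193 (.node 192 (.leaf 0x1080002) (.leaf 0x1070002)) (.node 194 (.leaf 0x8060002) (.leaf 0x8050002))) (.node 197 (.node 196 (.leaf 0x108060003) (.leaf 0x108050003)) (.node 198 (.leaf 0x70001) (.node 199 (.leaf 0x1070002) (.leaf 0x8060002))))) (.node 205 (.node 202 (.node 201 (.leaf 0x8050002) (.leaf 0x108060003)) (.node 203 (.leaf 0x108050003) (.node 204 (.leaf 0x80001) (.leaf 0x70001)))) (.node 207 (.node 206 (.leaf 0x1080002) (.leaf 0x1070002)) (.node 208 (.leaf 0x8060002) (.node 209 (.leaf 0x8050002) (.leaf 0x108060003))))))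

def nodeWS_20 : Store := (.node 220 (.node 215 (.node 212 (.node 211 (.leaf 0x108050003) (.leaf 0x80001)) (.node 213 (.leaf 0x70001) (.node 214 (.leaf 0x1070002) (.leaf 0x8060002)))) (.node 217 (.node 216 (.leaf 0x8050002) (.leaf 0x108060003)) (.node 218 (.leaf 0x108050003) (.node 219 (.leaf 0x80001) (.leaf 0x70001))))) (.node 225 (.node 222 (.node 221 (.leaf 0x1080002) (.leaf 0x1070002)) (.node 223 (.leaf 0x8060002) (.node 224 (.leaf 0x8050002) (.leaf 0x108060003)))) (.node 227 (.node 226 (.leaf 0x108050003) (.leaf 0x80001)) (.node 228 (.leaf 0x70001) (.node 229 (.leaf 0x1080002) (.leaf 0x1070002))))))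

def nodeWS_21 : Store := (.node 210 nodeWS_19 nodeWS_20)

def nodeWS_22 : Store := (.node 191 nodeWS_18 nodeWS_21)

def nodeWS_23 : Store := (.node 239 (.node 234 (.node 232 (.node 231 (.leaf 0x8050002) (.leaf 0x108050003)) (.node 233 (.leaf 0x80001) (.leaf 0x70001))) (.node 236 (.node 235 (.leaf 0x1080002) (.leaf 0x1070002)) (.node 237 (.leaf 0x8060002) (.node 238 (.leaf 0x8050002) (.leaf 0x108060003))))) (.node 244 (.node 241 (.node 240 (.leaf 0x108050003) (.leaf 0x80001)) (.node 242 (.leaf 0x70001) (.node 243 (.leaf 0x1080002) (.leaf 0x1070002)))) (.node 246 (.node 245 (.leaf 0x8060002) (.leaf 0x108060003)) (.node 247 (.leaf 0x80001) (.node 248 (.leaf 0x70001) (.leaf 0x1080002))))))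

def nodeWS_24 : Store := (.node 258 (.node 253 (.node 251 (.node 250 (.leaf 0x1070002) (.leaf 0x8060002)) (.node 252 (.leaf 0x8050002) (.leaf 0x108060003))) (.node 255 (.node 254 (.leaf 0x108050003) (.leaf 0x80001)) (.node 256 (.leaf 0x1080002) (.node 257 (.leaf 0x8060002) (.leaf 0x8050002))))) (.node 263 (.node 260 (.node 259 (.leaf 0x108060003) (.leaf 0x108050003)) (.node 261 (.leaf 0x80001) (.node 262 (.leaf 0x70001) (.leaf 0x1080002)))) (.node 265 (.node 264 (.leaf 0x1070002) (.leaf 0x8060002)) (.node 266 (.leaf 0x8050002) (.node 267 (.leaf 0x108050003) (.leaf 0x80001))))))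

def nodeWS_25 : Store := (.node 249 nodeWS_23 nodeWS_24)

def nodeWS_26 : Store := (.node 277 (.node 272 (.node 270 (.node 269 (.leaf 0x70001) (.leaf 0x1080002)) (.node 271 (.leaf 0x1070002) (.leaf 0x8050002))) (.node 274 (.node 273 (.leaf 0x108050003) (.leaf 0x80001)) (.node 275 (.leaf 0x70001) (.node 276 (.leaf 0x1080002) (.leaf 0x1070002))))) (.node 282 (.node 279 (.node 278 (.leaf 0x8060002) (.leaf 0x8050002)) (.node 280 (.leaf 0x108060003) (.node 281 (.leaf 0x108050003) (.leaf 0x70001)))) (.node 284 (.node 283 (.leaf 0x1070002) (.leaf 0x8060002)) (.node 285 (.leaf 0x8050002) (.node 286 (.leaf 0x108060003) (.leaf 0x108050003))))))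

def nodeWS_27 : Store := (.node 297 (.node 292 (.node 289 (.node 288 (.leaf 0x80001) (.leaf 0x70001)) (.node 290 (.leaf 0x1080002) (.node 291 (.leaf 0x1070002) (.leaf 0x8060002)))) (.node 294 (.node 293 (.leaf 0x8050002) (.leaf 0x108060003)) (.node 295 (.leaf 0x108050003) (.node 296 (.leaf 0x80001) (.leaf 0x70001))))) (.node 302 (.node 299 (.node 298 (.leaf 0x1080002) (.leaf 0x1070002)) (.node 300 (.leaf 0x8050002) (.node 301 (.leaf 0x108060003) (.leaf 0x108050003)))) (.node 304 (.node 303 (.leaf 0x80001) (.leaf 0x70001)) (.node 305 (.leaf 0x1080002) (.node 306 (.leaf 0x1070002) (.leaf 0x8060002))))))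

def nodeWS_28 : Store := (.node 287 nodeWS_26 nodeWS_27)

def nodeWS_29 : Store := (.node 268 nodeWS_25 nodeWS_28)

def nodeWS_30 : Store := (.node 230 nodeWS_22 nodeWS_29)

def nodeWS_31 : Store := (.node 153 nodeWS_15 nodeWS_30)

def nodeWS_32 : Store := (.node 316 (.node 311 (.node 309 (.node 308 (.leaf 0x8050002) (.leaf 0x108060003)) (.node 310 (.leaf 0x108050003) (.leaf 0x70001))) (.node 313 (.node 312 (.leaf 0x1070002) (.leaf 0x8060002)) (.node 314 (.leaf 0x8050002) (.node 315 (.leaf 0x108060003) (.leaf 0x108050003))))) (.node 321 (.node 318 (.node 317 (.leaf 0x80001) (.leaf 0x70001)) (.node 319 (.leaf 0x1080002) (.node 320 (.leaf 0x1070002) (.leaf 0x8060002)))) (.node 323 (.node 322 (.leaf 0x8050002) (.leaf 0x108060003)) (.node 324 (.leaf 0x108050003) (.node 325 (.leaf 0x80001) (.leaf 0x70001))))))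

def nodeWS_33 : Store := (.node 335 (.node 330 (.node 328 (.node 327 (.leaf 0x1080002) (.leaf 0x1070002)) (.node 329 (.leaf 0x8060002) (.leaf 0x8050002))) (.node 332 (.node 331 (.leaf 0x108060003) (.leaf 0x108050003)) (.node 333 (.leaf 0x70001) (.node 334 (.leaf 0x1070002) (.leaf 0x8060002))))) (.node 340 (.node 337 (.node 336 (.leaf 0x8050002) (.leaf 0x108060003)) (.node 338 (.leaf 0x108050003) (.node 339 (.leaf 0x80001) (.leaf 0x70001)))) (.node 342 (.node 341 (.leaf 0x1080002) (.leaf 0x8060002)) (.node 343 (.leaf 0x8050002) (.node 344 (.leaf 0x108060003) (.leaf 0x108050003))))))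

def nodeWS_34 : Store := (.node 326 nodeWS_32 nodeWS_33)

def nodeWS_35 : Store := (.node 354 (.node 349 (.node 347 (.node 346 (.leaf 0x80001) (.leaf 0x70001)) (.node 348 (.leaf 0x1080002) (.leaf 0x1070002))) (.node 351 (.node 350 (.leaf 0x8060002) (.leaf 0x108060003)) (.node 352 (.leaf 0x80001) (.node 353 (.leaf 0x70001) (.leaf 0x1080002))))) (.node 359 (.node 356 (.node 355 (.leaf 0x1070002) (.leaf 0x8060002)) (.node 357 (.leaf 0x8050002) (.node 358 (.leaf 0x108060003) (.leaf 0x108050003)))) (.node 361 (.node 360 (.leaf 0x1080002) (.leaf 0x8050002)) (.node 362 (.leaf 0x108050003) (.node 363 (.leaf 0x80001) (.leaf 0x70001))))))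

def nodeWS_36 : Store := (.node 373 (.node 368 (.node 366 (.node 365 (.leaf 0x1080002) (.leaf 0x1070002)) (.node 367 (.leaf 0x8060002) (.leaf 0x8050002))) (.node 370 (.node 369 (.leaf 0x108060003) (.leaf 0x108050003)) (.node 371 (.leaf 0x80001) (.node 372 (.leaf 0x70001) (.leaf 0x1080002))))) (.node 378 (.node 375 (.node 374 (.leaf 0x1070002) (.leaf 0x8060002)) (.node 376 (.leaf 0x8050002) (.node 377 (.leaf 0x108060003) (.leaf 0x80001)))) (.node 380 (.node 379 (.leaf 0x70001) (.leaf 0x1080002)) (.node 381 (.leaf 0x1070002) (.node 382 (.leaf 0x8060002) (.leaf 0x8050002))))))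

def nodeWS_37 : Store := (.node 364 nodeWS_35 nodeWS_36)

def nodeWS_38 : Store := (.node 345 nodeWS_34 nodeWS_37)

def nodeWS_39 : Store := (.node 392 (.node 387 (.node 385 (.node 384 (.leaf 0x108060003) (.leaf 0x108050003)) (.node 386 (.leaf 0x80001) (.leaf 0x70001))) (.node 389 (.node 388 (.leaf 0x1080002) (.leaf 0x1070002)) (.node 390 (.leaf 0x8050002) (.node 391 (.leaf 0x108060003) (.leaf 0x108050003))))) (.node 397 (.node 394 (.node 393 (.leaf 0x80001) (.leaf 0x70001)) (.node 395 (.leaf 0x1080002) (.node 396 (.leaf 0x1070002) (.leaf 0x80001)))) (.node 399 (.node 398 (.leaf 0x1080002) (.leaf 0x8060002)) (.node 400 (.leaf 0x108060003) (.node 401 (.leaf 0x80001) (.leaf 0x70001))))))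

def nodeWS_40 : Store := (.node 411 (.node 406 (.node 404 (.node 403 (.leaf 0x1080002) (.leaf 0x1070002)) (.node 405 (.leaf 0x8060002) (.leaf 0x8050002))) (.node 408 (.node 407 (.leaf 0x108060003) (.leaf 0x108050003)) (.node 409 (.leaf 0x80001) (.node 410 (.leaf 0x70001) (.leaf 0x1080002))))) (.node 416 (.node 413 (.node 412 (.leaf 0x1070002) (.leaf 0x8060002)) (.node 414 (.leaf 0x8050002) (.node 415 (.leaf 0x108060003) (.leaf 0x108050003)))) (.node 418 (.node 417 (.leaf 0x80001) (.leaf 0x70001)) (.node 419 (.leaf 0x1070002) (.node 420 (.leaf 0x8060002) (.leaf 0x8050002))))))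

def nodeWS_41 : Store := (.node 402 nodeWS_39 nodeWS_40)

def nodeWS_42 : Store := (.node 430 (.node 425 (.node 423 (.node 422 (.leaf 0x108060003) (.leaf 0x108050003)) (.node 424 (.leaf 0x80001) (.leaf 0x70001))) (.node 427 (.node 426 (.leaf 0x1080002) (.leaf 0x1070002)) (.node 428 (.leaf 0x8060002) (.node 429 (.leaf 0x8050002) (.leaf 0x108060003))))) (.node 435 (.node 432 (.node 431 (.leaf 0x108050003) (.leaf 0x80001)) (.node 433 (.leaf 0x70001) (.node 434 (.leaf 0x1080002) (.leaf 0x1070002)))) (.node 437 (.node 436 (.leaf 0x8060002) (.leaf 0x8050002)) (.node 438 (.leaf 0x108060003) (.node 439 (.leaf 0x108050003) (.leaf 0x80001))))))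

def nodeWS_43 : Store := (.node 450 (.node 445 (.node 442 (.node 441 (.leaf 0x70001) (.leaf 0x1070002)) (.node 443 (.leaf 0x8060002) (.node 444 (.leaf 0x8050002) (.leaf 0x108060003)))) (.node 447 (.node 446 (.leaf 0x108050003) (.leaf 0x80001)) (.node 448 (.leaf 0x1080002) (.node 449 (.leaf 0x8060002) (.leaf 0x8050002))))) (.node 455 (.node 452 (.node 451 (.leaf 0x80001) (.leaf 0x70001)) (.node 453 (.leaf 0x1080002) (.node 454 (.leaf 0x1070002) (.leaf 0x80001)))) (.node 457 (.node 456 (.leaf 0x70001) (.leaf 0x1070002)) (.node 458 (.leaf 0x8060002) (.node 459 (.leaf 0x8050002) (.leaf 0x108060003))))))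

def nodeWS_44 : Store := (.node 440 nodeWS_42 nodeWS_43)

def nodeWS_45 : Store := (.node 421 nodeWS_41 nodeWS_44)

def nodeWS_46 : Store := (.node 383 nodeWS_38 nodeWS_45)

def nodeWS_47 : Store := (.node 469 (.node 464 (.node 462 (.node 461 (.leaf 0x108050003) (.leaf 0x80001)) (.node 463 (.leaf 0x70001) (.leaf 0x1080002))) (.node 466 (.node 465 (.leaf 0x1070002) (.leaf 0x8060002)) (.node 467 (.leaf 0x8050002) (.node 468 (.leaf 0x108060003) (.leaf 0x108050003))))) (.node 474 (.node 471 (.node 470 (.leaf 0x80001) (.leaf 0x70001)) (.node 472 (.leaf 0x1080002) (.node 473 (.leaf 0x1070002) (.leaf 0x8050002)))) (.node 476 (.node 475 (.leaf 0x108050003) (.leaf 0x80001)) (.node 477 (.leaf 0x70001) (.node 478 (.leaf 0x1080002) (.leaf 0x1070002))))))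

def nodeWS_48 : Store := (.node 488 (.node 483 (.node 481 (.node 480 (.leaf 0x8060002) (.leaf 0x8050002)) (.node 482 (.leaf 0x108060003) (.leaf 0x108050003))) (.node 485 (.node 484 (.leaf 0x70001) (.leaf 0x1070002)) (.node 486 (.leaf 0x8060002) (.node 487 (.leaf 0x8050002) (.leaf 0x108060003))))) (.node 493 (.node 490 (.node 489 (.leaf 0x108050003) (.leaf 0x80001)) (.node 491 (.leaf 0x70001) (.node 492 (.leaf 0x1080002) (.leaf 0x8060002)))) (.node 495 (.node 494 (.leaf 0x8050002) (.leaf 0x108060003)) (.node 496 (.leaf 0x108050003) (.node 497 (.leaf 0x80001) (.leaf 0x70001))))))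

def nodeWS_49 : Store := (.node 479 nodeWS_47 nodeWS_48)

def nodeWS_50 : Store := (.node 507 (.node 502 (.node 500 (.node 499 (.leaf 0x1080002) (.leaf 0x1070002)) (.node 501 (.leaf 0x8050002) (.leaf 0x108060003))) (.node 504 (.node 503 (.leaf 0x108050003) (.leaf 0x80001)) (.node 505 (.leaf 0x70001) (.node 506 (.leaf 0x1080002) (.leaf 0x1070002))))) (.node 512 (.node 509 (.node 508 (.leaf 0x8060002) (.leaf 0x8050002)) (.node 510 (.leaf 0x108060003) (.node 511 (.leaf 0x108050003) (.leaf 0x80001)))) (.node 514 (.node 513 (.leaf 0x70001) (.leaf 0x1080002)) (.node 515 (.leaf 0x1070002) (.node 516 (.leaf 0x8060002) (.leaf 0x8050002))))))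

def nodeWS_51 : Store := (.node 527 (.node 522 (.node 519 (.node 518 (.leaf 0x108060003) (.leaf 0x108050003)) (.node 520 (.leaf 0x70001) (.node 521 (.leaf 0x1080002) (.leaf 0x1070002)))) (.node 524 (.node 523 (.leaf 0x8060002) (.leaf 0x8050002)) (.node 525 (.leaf 0x108060003) (.node 526 (.leaf 0x108050003) (.leaf 0x80001))))) (.node 532 (.node 529 (.node 528 (.leaf 0x70001) (.leaf 0x1080002)) (.node 530 (.leaf 0x1070002) (.node 531 (.leaf 0x8060002) (.leaf 0x8050002)))) (.node 534 (.node 533 (.leaf 0x108060003) (.leaf 0x108050003)) (.node 535 (.leaf 0x70001) (.node 536 (.leaf 0x1070002) (.leaf 0x8060002))))))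

def nodeWS_52 : Store := (.node 517 nodeWS_50 nodeWS_51)

def nodeWS_53 : Store := (.node 498 nodeWS_49 nodeWS_52)

def nodeWS_54 : Store := (.node 546 (.node 541 (.node 539 (.node 538 (.leaf 0x8050002) (.leaf 0x108060003)) (.node 540 (.leaf 0x108050003) (.leaf 0x80001))) (.node 543 (.node 542 (.leaf 0x70001) (.leaf 0x1080002)) (.node 544 (.leaf 0x1070002) (.node 545 (.leaf 0x8060002) (.leaf 0x8050002))))) (.node 551 (.node 548 (.node 547 (.leaf 0x108060003) (.leaf 0x108050003)) (.node 549 (.leaf 0x80001) (.node 550 (.leaf 0x70001) (.leaf 0x1080002)))) (.node 553 (.node 552 (.leaf 0x1070002) (.leaf 0x8060002)) (.node 554 (.leaf 0x8050002) (.node 555 (.leaf 0x108060003) (.leaf 0x108050003))))))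

def nodeWS_55 : Store := (.node 565 (.node 560 (.node 558 (.node 557 (.leaf 0x80001) (.leaf 0x70001)) (.node 559 (.leaf 0x8050002) (.leaf 0x108050003))) (.node 562 (.node 561 (.leaf 0x80001) (.leaf 0x70001)) (.node 563 (.leaf 0x1080002) (.node 564 (.leaf 0x1070002) (.leaf 0x8060002))))) (.node 570 (.node 567 (.node 566 (.leaf 0x8050002) (.leaf 0x108060003)) (.node 568 (.leaf 0x108050003) (.node 569 (.leaf 0x70001) (.leaf 0x1070002)))) (.node 572 (.node 571 (.leaf 0x8060002) (.leaf 0x8050002)) (.node 573 (.leaf 0x108060003) (.node 574 (.leaf 0x108050003) (.leaf 0x70001))))))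

def nodeWS_56 : Store := (.node 556 nodeWS_54 nodeWS_55)

def nodeWS_57 : Store := (.node 584 (.node 579 (.node 577 (.node 576 (.leaf 0x1070002) (.leaf 0x8060002)) (.node 578 (.leaf 0x8050002) (.leaf 0x108060003))) (.node 581 (.node 580 (.leaf 0x108050003) (.leaf 0x80001)) (.node 582 (.leaf 0x70001) (.node 583 (.leaf 0x1080002) (.leaf 0x1070002))))) (.node 589 (.node 586 (.node 585 (.leaf 0x8060002) (.leaf 0x8050002)) (.node 587 (.leaf 0x108060003) (.node 588 (.leaf 0x108050003) (.leaf 0x80001)))) (.node 591 (.node 590 (.leaf 0x70001) (.leaf 0x1080002)) (.node 592 (.leaf 0x1070002) (.node 593 (.leaf 0x8050002) (.leaf 0x108050003))))))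

def nodeWS_58 : Store := (.node 604 (.node 599 (.node 596 (.node 595 (.leaf 0x80001) (.leaf 0x70001)) (.node 597 (.leaf 0x1080002) (.node 598 (.leaf 0x1070002) (.leaf 0x8060002)))) (.node 601 (.node 600 (.leaf 0x8050002) (.leaf 0x108060003)) (.node 602 (.leaf 0x108050003) (.node 603 (.leaf 0x80001) (.leaf 0x70001))))) (.node 609 (.node 606 (.node 605 (.leaf 0x1080002) (.leaf 0x1070002)) (.node 607 (.leaf 0x8060002) (.node 608 (.leaf 0x8050002) (.leaf 0x108060003)))) (.node 611 (.node 610 (.leaf 0x108050003) (.leaf 0x80001)) (.node 612 (.leaf 0x70001) (.node 613 (.leaf 0x1080002) (.leaf 0x1070002))))))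

def nodeWS_59 : Store := (.node 594 nodeWS_57 nodeWS_58)

def nodeWS_60 : Store := (.node 575 nodeWS_56 nodeWS_59)

def nodeWS_61 : Store := (.node 537 nodeWS_53 nodeWS_60)

def nodeWS_62 : Store := (.node 460 nodeWS_46 nodeWS_61)

def nodeWS_63 : Store := (.node 307 nodeWS_31 nodeWS_62)

def nodeWS_64 : Store := (.node 623 (.node 618 (.node 616 (.node 615 (.leaf 0x8060002) (.leaf 0x8050002)) (.node 617 (.leaf 0x108060003) (.leaf 0x108050003))) (.node 620 (.node 619 (.leaf 0x80001) (.leaf 0x70001)) (.node 621 (.leaf 0x1080002) (.node 622 (.leaf 0x1070002) (.leaf 0x8060002))))) (.node 628 (.node 625 (.node 624 (.leaf 0x8050002) (.leaf 0x108060003)) (.node 626 (.leaf 0x108050003) (.node 627 (.leaf 0x80001) (.leaf 0x70001)))) (.node 630 (.node 629 (.leaf 0x1080002) (.leaf 0x1070002)) (.node 631 (.leaf 0x8060002) (.node 632 (.leaf 0x8050002) (.leaf 0x108060003))))))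

def nodeWS_65 : Store := (.node 642 (.node 637 (.node 635 (.node 634 (.leaf 0x108050003) (.leaf 0x80001)) (.node 636 (.leaf 0x70001) (.leaf 0x1080002))) (.node 639 (.node 638 (.leaf 0x1070002) (.leaf 0x8050002)) (.node 640 (.leaf 0x108060003) (.node 641 (.leaf 0x108050003) (.leaf 0x70001))))) (.node 647 (.node 644 (.node 643 (.leaf 0x1080002) (.leaf 0x1070002)) (.node 645 (.leaf 0x8060002) (.node 646 (.leaf 0x8050002) (.leaf 0x108060003)))) (.node 649 (.node 648 (.leaf 0x108050003) (.leaf 0x80001)) (.node 650 (.leaf 0x70001) (.node 651 (.leaf 0x1080002) (.leaf 0x8060002))))))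

def nodeWS_66 : Store := (.node 633 nodeWS_64 nodeWS_65)

def nodeWS_67 : Store := (.node 661 (.node 656 (.node 654 (.node 653 (.leaf 0x8050002) (.leaf 0x108060003)) (.node 655 (.leaf 0x108050003) (.leaf 0x80001))) (.node 658 (.node 657 (.leaf 0x70001) (.leaf 0x1080002)) (.node 659 (.leaf 0x1070002) (.node 660 (.leaf 0x108050003) (.leaf 0x80001))))) (.node 666 (.node 663 (.node 662 (.leaf 0x70001) (.leaf 0x1080002)) (.node 664 (.leaf 0x1070002) (.node 665 (.leaf 0x8060002) (.leaf 0x8050002)))) (.node 668 (.node 667 (.leaf 0x108050003) (.leaf 0x80001)) (.node 669 (.leaf 0x70001) (.node 670 (.leaf 0x1080002) (.leaf 0x1070002))))))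

def nodeWS_68 : Store := (.node 680 (.node 675 (.node 673 (.node 672 (.leaf 0x8060002) (.leaf 0x8050002)) (.node 674 (.leaf 0x108060003) (.leaf 0x108050003))) (.node 677 (.node 676 (.leaf 0x80001) (.leaf 0x70001)) (.node 678 (.leaf 0x1080002) (.node 679 (.leaf 0x1070002) (.leaf 0x8060002))))) (.node 685 (.node 682 (.node 681 (.leaf 0x8050002) (.leaf 0x108060003)) (.node 683 (.leaf 0x108050003) (.node 684 (.leaf 0x70001) (.leaf 0x1070002)))) (.node 687 (.node 686 (.leaf 0x8060002) (.leaf 0x8050002)) (.node 688 (.leaf 0x108060003) (.node 689 (.leaf 0x108050003) (.leaf 0x80001))))))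

def nodeWS_69 : Store := (.node 671 nodeWS_67 nodeWS_68)

def nodeWS_70 : Store := (.node 652 nodeWS_66 nodeWS_69)

def nodeWS_71 : Store := (.node 699 (.node 694 (.node 692 (.node 691 (.leaf 0x70001) (.leaf 0x1080002)) (.node 693 (.leaf 0x1070002) (.leaf 0x8060002))) (.node 696 (.node 695 (.leaf 0x8050002) (.leaf 0x108060003)) (.node 697 (.leaf 0x108050003) (.node 698 (.leaf 0x80001) (.leaf 0x70001))))) (.node 704 (.node 701 (.node 700 (.leaf 0x1080002) (.leaf 0x1070002)) (.node 702 (.leaf 0x8060002) (.node 703 (.leaf 0x108060003) (.leaf 0x108050003)))) (.node 706 (.node 705 (.leaf 0x80001) (.leaf 0x70001)) (.node 707 (.leaf 0x1080002) (.node 708 (.leaf 0x1070002) (.leaf 0x8060002))))))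

def nodeWS_72 : Store := (.node 718 (.node 713 (.node 711 (.node 710 (.leaf 0x108060003) (.leaf 0x108050003)) (.node 712 (.leaf 0x80001) (.leaf 0x1080002))) (.node 715 (.node 714 (.leaf 0x1070002) (.leaf 0x8060002)) (.node 716 (.leaf 0x8050002) (.node 717 (.leaf 0x108060003) (.leaf 0x108050003))))) (.node 723 (.node 720 (.node 719 (.leaf 0x80001) (.leaf 0x70001)) (.node 721 (.leaf 0x1070002) (.node 722 (.leaf 0x8060002) (.leaf 0x8050002)))) (.node 725 (.node 724 (.leaf 0x108060003) (.leaf 0x108050003)) (.node 726 (.leaf 0x80001) (.node 727 (.leaf 0x1080002) (.leaf 0x1070002))))))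

def nodeWS_73 : Store := (.node 709 nodeWS_71 nodeWS_72)

def nodeWS_74 : Store := (.node 737 (.node 732 (.node 730 (.node 729 (.leaf 0x80001) (.leaf 0x70001)) (.node 731 (.leaf 0x1080002) (.leaf 0x1070002))) (.node 734 (.node 733 (.leaf 0x8060002) (.leaf 0x8050002)) (.node 735 (.leaf 0x108060003) (.node 736 (.leaf 0x108050003) (.leaf 0x80001))))) (.node 742 (.node 739 (.node 738 (.leaf 0x70001) (.leaf 0x1080002)) (.node 740 (.leaf 0x1070002) (.node 741 (.leaf 0x80001) (.leaf 0x70001)))) (.node 744 (.node 743 (.leaf 0x1080002) (.leaf 0x1070002)) (.node 745 (.leaf 0x80001) (.node 746 (.leaf 0x1080002) (.leaf 0x1070002))))))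

def nodeWS_75 : Store := (.node 757 (.node 752 (.node 749 (.node 748 (.leaf 0x8050002) (.leaf 0x108050003)) (.node 750 (.leaf 0x70001) (.node 751 (.leaf 0x1070002) (.leaf 0x8060002)))) (.node 754 (.node 753 (.leaf 0x8050002) (.leaf 0x108060003)) (.node 755 (.leaf 0x108050003) (.node 756 (.leaf 0x80001) (.leaf 0x70001))))) (.node 762 (.node 759 (.node 758 (.leaf 0x1080002) (.leaf 0x1070002)) (.node 760 (.leaf 0x8050002) (.node 761 (.leaf 0x108060003) (.leaf 0x108050003)))) (.node 764 (.node 763 (.leaf 0x80001) (.leaf 0x70001)) (.node 765 (.leaf 0x1080002) (.node 766 (.leaf 0x1070002) (.leaf 0x8050002))))))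

def nodeWS_76 : Store := (.node 747 nodeWS_74 nodeWS_75)

def nodeWS_77 : Store := (.node 728 nodeWS_73 nodeWS_76)

def nodeWS_78 : Store := (.node 690 nodeWS_70 nodeWS_77)

def nodeWS_79 : Store := (.node 776 (.node 771 (.node 769 (.node 768 (.leaf 0x108060003) (.leaf 0x108050003)) (.node 770 (.leaf 0x70001) (.leaf 0x1070002))) (.node 773 (.node 772 (.leaf 0x8060002) (.leaf 0x8050002)) (.node 774 (.leaf 0x108060003) (.node 775 (.leaf 0x108050003) (.leaf 0x70001))))) (.node 781 (.node 778 (.node 777 (.leaf 0x1080002) (.leaf 0x1070002)) (.node 779 (.leaf 0x8060002) (.node 780 (.leaf 0x8050002) (.leaf 0x108060003)))) (.node 783 (.node 782 (.leaf 0x108050003) (.leaf 0x80001)) (.node 784 (.leaf 0x1080002) (.node 785 (.leaf 0x8050002) (.leaf 0x108060003))))))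

def nodeWS_80 : Store := (.node 795 (.node 790 (.node 788 (.node 787 (.leaf 0x108050003) (.leaf 0x80001)) (.node 789 (.leaf 0x1080002) (.leaf 0x8060002))) (.node 792 (.node 791 (.leaf 0x8050002) (.leaf 0x108060003)) (.node 793 (.leaf 0x108050003) (.node 794 (.leaf 0x80001) (.leaf 0x70001))))) (.node 800 (.node 797 (.node 796 (.leaf 0x1080002) (.leaf 0x1080002)) (.node 798 (.leaf 0x8060002) (.node 799 (.leaf 0x8050002) (.leaf 0x80001)))) (.node 802 (.node 801 (.leaf 0x70001) (.leaf 0x1080002)) (.node 803 (.leaf 0x1070002) (.node 804 (.leaf 0x8050002) (.leaf 0x108050003))))))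

def nodeWS_81 : Store := (.node 786 nodeWS_79 nodeWS_80)

def nodeWS_82 : Store := (.node 814 (.node 809 (.node 807 (.node 806 (.leaf 0x80001) (.leaf 0x70001)) (.node 808 (.leaf 0x1080002) (.leaf 0x1070002))) (.node 811 (.node 810 (.leaf 0x8060002) (.leaf 0x8050002)) (.node 812 (.leaf 0x108050003) (.node 813 (.leaf 0x80001) (.leaf 0x70001))))) (.node 819 (.node 816 (.node 815 (.leaf 0x1070002) (.leaf 0x8060002)) (.node 817 (.leaf 0x8050002) (.node 818 (.leaf 0x108060003) (.leaf 0x108050003)))) (.node 821 (.node 820 (.leaf 0x80001) (.leaf 0x1080002)) (.node 822 (.leaf 0x1070002) (.node 823 (.leaf 0x8060002) (.leaf 0x8050002))))))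

def nodeWS_83 : Store := (.node 834 (.node 829 (.node 826 (.node 825 (.leaf 0x108060003) (.leaf 0x108050003)) (.node 827 (.leaf 0x70001) (.node 828 (.leaf 0x1080002) (.leaf 0x1070002)))) (.node 831 (.node 830 (.leaf 0x8060002) (.leaf 0x8050002)) (.node 832 (.leaf 0x108050003) (.node 833 (.leaf 0x70001) (.leaf 0x8060002))))) (.node 839 (.node 836 (.node 835 (.leaf 0x8050002) (.leaf 0x108060003)) (.node 837 (.leaf 0x108050003) (.node 838 (.leaf 0x70001) (.leaf 0x1070002)))) (.node 841 (.node 840 (.leaf 0x8050002) (.leaf 0x108060003)) (.node 842 (.leaf 0x108050003) (.node 843 (.leaf 0x80001) (.leaf 0x1080002))))))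

def nodeWS_84 : Store := (.node 824 nodeWS_82 nodeWS_83)

def nodeWS_85 : Store := (.node 805 nodeWS_81 nodeWS_84)

def nodeWS_86 : Store := (.node 853 (.node 848 (.node 846 (.node 845 (.leaf 0x1070002) (.leaf 0x8060002)) (.node 847 (.leaf 0x108060003) (.leaf 0x70001))) (.node 850 (.node 849 (.leaf 0x1070002) (.leaf 0x8060002)) (.node 851 (.leaf 0x8050002) (.node 852 (.leaf 0x108060003) (.leaf 0x108050003))))) (.node 858 (.node 855 (.node 854 (.leaf 0x80001) (.leaf 0x70001)) (.node 856 (.leaf 0x1080002) (.node 857 (.leaf 0x1070002) (.leaf 0x8060002)))) (.node 860 (.node 859 (.leaf 0x108060003) (.leaf 0x8060002)) (.node 861 (.leaf 0x8050002) (.node 862 (.leaf 0x108060003) (.leaf 0x108050003))))))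

def nodeWS_87 : Store := (.node 872 (.node 867 (.node 865 (.node 864 (.leaf 0x80001) (.leaf 0x70001)) (.node 866 (.leaf 0x1080002) (.leaf 0x1070002))) (.node 869 (.node 868 (.leaf 0x8050002) (.leaf 0x108050003)) (.node 870 (.leaf 0x8060002) (.node 871 (.leaf 0x8050002) (.leaf 0x108060003))))) (.node 877 (.node 874 (.node 873 (.leaf 0x108050003) (.leaf 0x80001)) (.node 875 (.leaf 0x70001) (.node 876 (.leaf 0x1080002) (.leaf 0x1070002)))) (.node 879 (.node 878 (.leaf 0x8060002) (.leaf 0x108060003)) (.node 880 (.leaf 0x80001) (.node 881 (.leaf 0x70001) (.leaf 0x1080002))))))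

def nodeWS_88 : Store := (.node 863 nodeWS_86 nodeWS_87)

def nodeWS_89 : Store := (.node 891 (.node 886 (.node 884 (.node 883 (.leaf 0x1070002) (.leaf 0x8050002)) (.node 885 (.leaf 0x108050003) (.leaf 0x80001))) (.node 888 (.node 887 (.leaf 0x1070002) (.leaf 0x8060002)) (.node 889 (.leaf 0x8050002) (.node 890 (.leaf 0x108060003) (.leaf 0x108050003))))) (.node 896 (.node 893 (.node 892 (.leaf 0x80001) (.leaf 0x70001)) (.node 894 (.leaf 0x1080002) (.node 895 (.leaf 0x1070002) (.leaf 0x80001)))) (.node 898 (.node 897 (.leaf 0x1080002) (.leaf 0x8060002)) (.node 899 (.leaf 0x108060003) (.node 900 (.leaf 0x80001) (.leaf 0x70001))))))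

def nodeWS_90 : Store := (.node 911 (.node 906 (.node 903 (.node 902 (.leaf 0x1070002) (.leaf 0x8060002)) (.node 904 (.leaf 0x8050002) (.node 905 (.leaf 0x108060003) (.leaf 0x108050003)))) (.node 908 (.node 907 (.leaf 0x80001) (.leaf 0x70001)) (.node 909 (.leaf 0x1080002) (.node 910 (.leaf 0x1070002) (.leaf 0x8060002))))) (.node 916 (.node 913 (.node 912 (.leaf 0x8050002) (.leaf 0x108060003)) (.node 914 (.leaf 0x108050003) (.node 915 (.leaf 0x80001) (.leaf 0x1080002)))) (.node 918 (.node 917 (.leaf 0x1070002) (.leaf 0x8050002)) (.node 919 (.leaf 0x108050003) (.node 920 (.leaf 0x80001) (.leaf 0x70001))))))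

def nodeWS_91 : Store := (.node 901 nodeWS_89 nodeWS_90)

def nodeWS_92 : Store := (.node 882 nodeWS_88 nodeWS_91)

def nodeWS_93 : Store := (.node 844 nodeWS_85 nodeWS_92)

def nodeWS_94 : Store := (.node 767 nodeWS_78 nodeWS_93)

def nodeWS_95 : Store := (.node 930 (.node 925 (.node 923 (.node 922 (.leaf 0x1080002) (.leaf 0x1070002)) (.node 924 (.leaf 0x8060002) (.leaf 0x8050002))) (.node 927 (.node 926 (.leaf 0x108060003) (.leaf 0x108050003)) (.node 928 (.leaf 0x80001) (.node 929 (.leaf 0x70001) (.leaf 0x1080002))))) (.node 935 (.node 932 (.node 931 (.leaf 0x1070002) (.leaf 0x8060002)) (.node 933 (.leaf 0x108060003) (.node 934 (.leaf 0x80001) (.leaf 0x70001)))) (.node 937 (.node 936 (.leaf 0x1080002) (.leaf 0x1070002)) (.node 938 (.leaf 0x8060002) (.node 939 (.leaf 0x8050002) (.leaf 0x108060003))))))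

def nodeWS_96 : Store := (.node 949 (.node 944 (.node 942 (.node 941 (.leaf 0x108050003) (.leaf 0x80001)) (.node 943 (.leaf 0x1080002) (.leaf 0x8060002))) (.node 946 (.node 945 (.leaf 0x8050002) (.leaf 0x108060003)) (.node 947 (.leaf 0x108050003) (.node 948 (.leaf 0x80001) (.leaf 0x70001))))) (.node 954 (.node 951 (.node 950 (.leaf 0x1080002) (.leaf 0x1070002)) (.node 952 (.leaf 0x8060002) (.node 953 (.leaf 0x8050002) (.leaf 0x108060003)))) (.node 956 (.node 955 (.leaf 0x108050003) (.leaf 0x80001)) (.node 957 (.leaf 0x70001) (.node 958 (.leaf 0x1080002) (.leaf 0x1070002))))))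

def nodeWS_97 : Store := (.node 940 nodeWS_95 nodeWS_96)

def nodeWS_98 : Store := (.node 968 (.node 963 (.node 961 (.node 960 (.leaf 0x8050002) (.leaf 0x108050003)) (.node 962 (.leaf 0x80001) (.leaf 0x70001))) (.node 965 (.node 964 (.leaf 0x1080002) (.leaf 0x1070002)) (.node 966 (.leaf 0x8060002) (.node 967 (.leaf 0x8050002) (.leaf 0x108060003))))) (.node 973 (.node 970 (.node 969 (.leaf 0x108050003) (.leaf 0x80001)) (.node 971 (.leaf 0x70001) (.node 972 (.leaf 0x1080002) (.leaf 0x1070002)))) (.node 975 (.node 974 (.leaf 0x8060002) (.leaf 0x8050002)) (.node 976 (.leaf 0x108060003) (.node 977 (.leaf 0x108050003) (.leaf 0x80001))))))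

def nodeWS_99 : Store := (.node 987 (.node 982 (.node 980 (.node 979 (.leaf 0x70001) (.leaf 0x1080002)) (.node 981 (.leaf 0x8050002) (.leaf 0x108060003))) (.node 984 (.node 983 (.leaf 0x108050003) (.leaf 0x80001)) (.node 985 (.leaf 0x70001) (.node 986 (.leaf 0x1070002) (.leaf 0x8060002))))) (.node 992 (.node 989 (.node 988 (.leaf 0x8050002) (.leaf 0x108060003)) (.node 990 (.leaf 0x108050003) (.node 991 (.leaf 0x70001) (.leaf 0x1070002)))) (.node 994 (.node 993 (.leaf 0x8060002) (.leaf 0x8050002)) (.node 995 (.leaf 0x108050003) (.node 996 (.leaf 0x80001) (.leaf 0x70001))))))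

def nodeWS_100 : Store := (.node 978 nodeWS_98 nodeWS_99)

def nodeWS_101 : Store := (.node 959 nodeWS_97 nodeWS_100)

def nodeWS_102 : Store := (.node 1006 (.node 1001 (.node 999 (.node 998 (.leaf 0x1080002) (.leaf 0x1070002)) (.node 1000 (.leaf 0x8060002) (.leaf 0x8050002))) (.node 1003 (.node 1002 (.leaf 0x108060003) (.leaf 0x108050003)) (.node 1004 (.leaf 0x80001) (.node 1005 (.leaf 0x70001) (.leaf 0x1080002))))) (.node 1011 (.node 1008 (.node 1007 (.leaf 0x1070002) (.leaf 0x8060002)) (.node 1009 (.leaf 0x8050002) (.node 1010 (.leaf 0x108060003) (.leaf 0x108050003)))) (.node 1013 (.node 1012 (.leaf 0x70001) (.leaf 0x1070002)) (.node 1014 (.leaf 0x8060002) (.node 1015 (.leaf 0x8050002) (.leaf 0x108060003))))))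

def nodeWS_103 : Store := (.node 1025 (.node 1020 (.node 1018 (.node 1017 (.leaf 0x108050003) (.leaf 0x80001)) (.node 1019 (.leaf 0x1080002) (.leaf 0x8060002))) (.node 1022 (.node 1021 (.leaf 0x108060003) (.leaf 0x80001)) (.node 1023 (.leaf 0x70001) (.node 1024 (.leaf 0x1080002) (.leaf 0x1070002))))) (.node 1030 (.node 1027 (.node 1026 (.leaf 0x8060002) (.leaf 0x108060003)) (.node 1028 (.leaf 0x80001) (.node 1029 (.leaf 0x70001) (.leaf 0x1080002)))) (.node 1032 (.node 1031 (.leaf 0x1070002) (.leaf 0x8060002)) (.node 1033 (.leaf 0x8050002) (.node 1034 (.leaf 0x108060003) (.leaf 0x108050003))))))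

def nodeWS_104 : Store := (.node 1016 nodeWS_102 nodeWS_103)

def nodeWS_105 : Store := (.node 1044 (.node 1039 (.node 1037 (.node 1036 (.leaf 0x80001) (.leaf 0x1080002)) (.node 1038 (.leaf 0x8060002) (.leaf 0x8050002))) (.node 1041 (.node 1040 (.leaf 0x108060003) (.leaf 0x108050003)) (.node 1042 (.leaf 0x80001) (.node 1043 (.leaf 0x70001) (.leaf 0x1080002))))) (.node 1049 (.node 1046 (.node 1045 (.leaf 0x1070002) (.leaf 0x8060002)) (.node 1047 (.leaf 0x8050002) (.node 1048 (.leaf 0x108060003) (.leaf 0x108050003)))) (.node 1051 (.node 1050 (.leaf 0x80001) (.leaf 0x70001)) (.node 1052 (.leaf 0x1080002) (.node 1053 (.leaf 0x1070002) (.leaf 0x8060002))))))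

def nodeWS_106 : Store := (.node 1064 (.node 1059 (.node 1056 (.node 1055 (.leaf 0x8050002) (.leaf 0x108060003)) (.node 1057 (.leaf 0x80001) (.node 1058 (.leaf 0x70001) (.leaf 0x1080002)))) (.node 1061 (.node 1060 (.leaf 0x1070002) (.leaf 0x8060002)) (.node 1062 (.leaf 0x8050002) (.node 1063 (.leaf 0x108060003) (.leaf 0x108050003))))) (.node 1069 (.node 1066 (.node 1065 (.leaf 0x80001) (.leaf 0x70001)) (.node 1067 (.leaf 0x1080002) (.node 1068 (.leaf 0x1070002) (.leaf 0x8060002)))) (.node 1071 (.node 1070 (.leaf 0x8050002) (.leaf 0x108060003)) (.node 1072 (.leaf 0x108050003) (.node 1073 (.leaf 0x80001) (.leaf 0x1080002))))))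

def nodeWS_107 : Store := (.node 1054 nodeWS_105 nodeWS_106)

def nodeWS_108 : Store := (.node 1035 nodeWS_104 nodeWS_107)

def nodeWS_109 : Store := (.node 997 nodeWS_101 nodeWS_108)

def nodeWS_110 : Store := (.node 1083 (.node 1078 (.node 1076 (.node 1075 (.leaf 0x8060002) (.leaf 0x8050002)) (.node 1077 (.leaf 0x108060003) (.leaf 0x108050003))) (.node 1080 (.node 1079 (.leaf 0x80001) (.leaf 0x70001)) (.node 1081 (.leaf 0x1080002) (.node 1082 (.leaf 0x1070002) (.leaf 0x8060002))))) (.node 1088 (.node 1085 (.node 1084 (.leaf 0x8050002) (.leaf 0x108060003)) (.node 1086 (.leaf 0x108050003) (.node 1087 (.leaf 0x80001) (.leaf 0x70001)))) (.node 1090 (.node 1089 (.leaf 0x1080002) (.leaf 0x1070002)) (.node 1091 (.leaf 0x8060002) (.node 1092 (.leaf 0x8050002) (.leaf 0x108060003))))))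

def nodeWS_111 : Store := (.node 1102 (.node 1097 (.node 1095 (.node 1094 (.leaf 0x108050003) (.leaf 0x80001)) (.node 1096 (.leaf 0x70001) (.leaf 0x1080002))) (.node 1099 (.node 1098 (.leaf 0x1070002) (.leaf 0x8060002)) (.node 1100 (.leaf 0x8050002) (.node 1101 (.leaf 0x108060003) (.leaf 0x108050003))))) (.node 1107 (.node 1104 (.node 1103 (.leaf 0x80001) (.leaf 0x70001)) (.node 1105 (.leaf 0x1080002) (.node 1106 (.leaf 0x1070002) (.leaf 0x8060002)))) (.node 1109 (.node 1108 (.leaf 0x8050002) (.leaf 0x108060003)) (.node 1110 (.leaf 0x108050003) (.node 1111 (.leaf 0x80001) (.leaf 0x70001))))))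

def nodeWS_112 : Store := (.node 1093 nodeWS_110 nodeWS_111)

def nodeWS_113 : Store := (.node 1121 (.node 1116 (.node 1114 (.node 1113 (.leaf 0x1080002) (.leaf 0x1070002)) (.node 1115 (.leaf 0x8060002) (.leaf 0x8050002))) (.node 1118 (.node 1117 (.leaf 0x108060003) (.leaf 0x108050003)) (.node 1119 (.leaf 0x80001) (.node 1120 (.leaf 0x70001) (.leaf 0x1080002))))) (.node 1126 (.node 1123 (.node 1122 (.leaf 0x1070002) (.leaf 0x8060002)) (.node 1124 (.leaf 0x8050002) (.node 1125 (.leaf 0x108060003) (.leaf 0x108050003)))) (.node 1128 (.node 1127 (.leaf 0x80001) (.leaf 0x70001)) (.node 1129 (.leaf 0x1080002) (.node 1130 (.leaf 0x1070002) (.leaf 0x8060002))))))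

def nodeWS_114 : Store := (.node 1141 (.node 1136 (.node 1133 (.node 1132 (.leaf 0x8050002) (.leaf 0x108060003)) (.node 1134 (.leaf 0x108050003) (.node 1135 (.leaf 0x80001) (.leaf 0x70001)))) (.node 1138 (.node 1137 (.leaf 0x1080002) (.leaf 0x1070002)) (.node 1139 (.leaf 0x8050002) (.node 1140 (.leaf 0x108050003) (.leaf 0x80001))))) (.node 1146 (.node 1143 (.node 1142 (.leaf 0x70001) (.leaf 0x1080002)) (.node 1144 (.leaf 0x1070002) (.node 1145 (.leaf 0x8060002) (.leaf 0x8050002)))) (.node 1148 (.node 1147 (.leaf 0x108060003) (.leaf 0x108050003)) (.node 1149 (.leaf 0x70001) (.node 1150 (.leaf 0x1070002) (.leaf 0x8060002))))))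

def nodeWS_115 : Store := (.node 1131 nodeWS_113 nodeWS_114)

def nodeWS_116 : Store := (.node 1112 nodeWS_112 nodeWS_115)

def nodeWS_117 : Store := (.node 1160 (.node 1155 (.node 1153 (.node 1152 (.leaf 0x8050002) (.leaf 0x108060003)) (.node 1154 (.leaf 0x108050003) (.leaf 0x70001))) (.node 1157 (.node 1156 (.leaf 0x1070002) (.leaf 0x8060002)) (.node 1158 (.leaf 0x108060003) (.node 1159 (.leaf 0x80001) (.leaf 0x70001))))) (.node 1165 (.node 1162 (.node 1161 (.leaf 0x1080002) (.leaf 0x1070002)) (.node 1163 (.leaf 0x8060002) (.node 1164 (.leaf 0x108060003) (.leaf 0x80001)))) (.node 1167 (.node 1166 (.leaf 0x70001) (.leaf 0x1080002)) (.node 1168 (.leaf 0x1070002) (.node 1169 (.leaf 0x8050002) (.leaf 0x108050003))))))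

def nodeWS_118 : Store := (.node 1179 (.node 1174 (.node 1172 (.node 1171 (.leaf 0x80001) (.leaf 0x70001)) (.node 1173 (.leaf 0x1080002) (.leaf 0x1070002))) (.node 1176 (.node 1175 (.leaf 0x8060002) (.leaf 0x8050002)) (.node 1177 (.leaf 0x108060003) (.node 1178 (.leaf 0x108050003) (.leaf 0x80001))))) (.node 1184 (.node 1181 (.node 1180 (.leaf 0x70001) (.leaf 0x1080002)) (.node 1182 (.leaf 0x1070002) (.node 1183 (.leaf 0x8060002) (.leaf 0x8050002)))) (.node 1186 (.node 1185 (.leaf 0x108060003) (.leaf 0x108050003)) (.node 1187 (.leaf 0x80001) (.node 1188 (.leaf 0x70001) (.leaf 0x1080002))))))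

def nodeWS_119 : Store := (.node 1170 nodeWS_117 nodeWS_118)

def nodeWS_120 : Store := (.node 1198 (.node 1193 (.node 1191 (.node 1190 (.leaf 0x1070002) (.leaf 0x8060002)) (.node 1192 (.leaf 0x8050002) (.leaf 0x108060003))) (.node 1195 (.node 1194 (.leaf 0x108050003) (.leaf 0x70001)) (.node 1196 (.leaf 0x1080002) (.node 1197 (.leaf 0x1070002) (.leaf 0x8050002))))) (.node 1203 (.node 1200 (.node 1199 (.leaf 0x108050003) (.leaf 0x80001)) (.node 1201 (.leaf 0x70001) (.node 1202 (.leaf 0x1080002) (.leaf 0x1070002)))) (.node 1205 (.node 1204 (.leaf 0x8050002) (.leaf 0x108050003)) (.node 1206 (.leaf 0x80001) (.node 1207 (.leaf 0x70001) (.leaf 0x1080002))))))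

def nodeWS_121 : Store := (.node 1218 (.node 1213 (.node 1210 (.node 1209 (.leaf 0x1070002) (.leaf 0x8060002)) (.node 1211 (.leaf 0x8050002) (.node 1212 (.leaf 0x108060003) (.leaf 0x108050003)))) (.node 1215 (.node 1214 (.leaf 0x70001) (.leaf 0x1070002)) (.node 1216 (.leaf 0x8060002) (.node 1217 (.leaf 0x8050002) (.leaf 0x108060003))))) (.node 1223 (.node 1220 (.node 1219 (.leaf 0x108050003) (.leaf 0x1080002)) (.node 1221 (.leaf 0x70001) (.node 1222 (.leaf 0x108050003) (.leaf 0x8050002)))) (.node 1225 (.node 1224 (.leaf 0x108050003) (.leaf 0x70001)) (.node 1226 (.leaf 0x10001) (.node 1227 (.leaf 0x80001) (.leaf 0x10001))))))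

def nodeWS_122 : Store := (.node 1208 nodeWS_120 nodeWS_121)

def nodeWS_123 : Store := (.node 1189 nodeWS_119 nodeWS_122)

def nodeWS_124 : Store := (.node 1151 nodeWS_116 nodeWS_123)

def nodeWS_125 : Store := (.node 1074 nodeWS_109 nodeWS_124)

def nodeWS_126 : Store := (.node 921 nodeWS_94 nodeWS_125)

def nodeWS : Store := (.node 614 nodeWS_63 nodeWS_126)

def nodeTS : Store := (.node 5 (.node 2 (.node 1 (.leaf 0x10001000100010001000100010001000100010001000100010001000100010001000100010001000100010001000100010001000100010001000100010001000100010001000100010001000100010001000100010001000100010001000100010001000100010001000100010001000100010001000100010001000100010001000100010001000100010001000100010001000100010001000100010001000100010001000100010001000100010001000100010001000100010001000100010001000100010001000100010001000100010001000100010001000100010001000100010001000100010001000100010001000100010001000100010000) (.leaf 0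x10001000100010001000100010001000100010001000100010001000100010001000100010001000100010001000100010001000100010001000100010001000100010001000100010001000100010001000100010001000100010001000100010001000100010001000100010001000100010001000100010001000100010001000100010001000100010001000100010001000100010001000100010001000100010001000100010001000100010001000100010001000100010001000100010001000100010001000100010001000100010001000100010001000100010001000100010001000100010001000100010001000100010001000100010001)) (.node 3 (.leaf 0x10001000100010001000100010001000100010001000100010001000100010001000100010001000100010001000100010001000100010001000100010001000100010001000100010001000100010001000100010001000100010001000100010001000100010001000100010001000100010001000100010001000100010001000100010001000100010001000100010001000100010001000100010001000100010001000100010001000100010001000100010001000100010001000100010001000100010001000100010001000100010001000100010001000100010001000100010001000100010001000100010001000100010001000100010001)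 (.node 4 (.leaf 0x10001000100010001000100010001000100010001000100010001000100010001000100010001000100010001000100010001000100010001000100010001000100010001000100010001000100010001000100010001000100010001000100010001000100010001000100010001000100010001000100010001000100010001000100010001000100010001000100010001000100010001000100010001000100010001000100010001000100010001000100010001000100010001000100010001000100010001000100010001000100010001000100010001000100010001000100010001000100010001000100010001000100010001000100010001) (.leaf 0x10001000100010001000100010001000100010001000100010001000100010001000100010001000100010001000100010001000100010001000100010001000100010001000100010001000100010001000100010001000100010001000100010001000100010001000100010001000100010001000100010001000100010001000100010001000100010001000100010001000100010001000100010001000100010001000100010001000100010001000100010001000100010001000100010001000100010001000100010001000100010001000100010001000100010001000100010001000100010001000100010001000100010001000100010001))))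 (.node 7 (.node 6 (.leaf 0x10001000100010001000100010001000100010001000100010001000100010001000100010001000100010001000100010001000100010001000100010001000100010001000100010001000100010001000100010001000100010001000100010001000100010001000100010001000100010001000100010001000100010001000100010001000100010001000100010001000100010001000100010001000100010001000100010001000100010001000100010001000100010001000100010001000100010001000100010001000100010001000100010001000100010001000100010001000100010001000100010001000100010001000100010001) (.leaf 0x10001000100010001000100010001000100010001000100010001000100010001000100010001000100010001000100010001000100010001000100010001000100010001000100010001000100010001000100010001000100010001000100010001000100010001000100010001000100010001000100010001000100010001000100010001000100010001000100010001000100010001000100010001000100010001000100010001000100010001000100010001000100010001000100010001000100010001000100010001000100010001000100010001000100010001000100010001000100010001000100010001000100010001000100010001))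 (.node 8 (.leaf 0x10001000100010001000100010001000100010001000100010001000100010001000100010001000100010001000100010001000100010001000100010001000100010001000100010001000100010001000100010001000100010001000100010001000100010001000100010001000100010001000100010001000100010001000100010001000100010001000100010001000100010001000100010001000100010001000100010001000100010001000100010001000100010001000100010001000100010001000100010001000100010001000100010001000100010001000100010001000100010001000100010001000100010001000100010001) (.node 9 (.leaf 0x10001000100010001000100010001000100010001000100010001000100010001000100010001000100010001000100010001000100010001000100010001000100010001000100010001000100010001000100010001000100010001000100010001000100010001000100010001000100010001000100010001000100010001000100010001000100010001000100010001000100010001000100010001000100010001000100010001000100010001000100010001000100010001000100010001000100010001000100010001000100010001000100010001000100010001000100010001000100010001000100010001000100010001000100010001)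 (.leaf 0x1000100010001000100010001000100010001000100010001000100010001000100010001000100010001000100010001000100010001000100010001000100010001000100010001000100010001000100010001000100010001000100010001000100010001000100010001000100010001000100010001000100010001000100010001000100010001000100010001000100010001)))))

noncomputable def nodeT : Nat → Nat := get16 nodeTS


end Cfsg.Agent.JThreeUniq.Cert0
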