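import Cfsg.Agent.DCoset.Emit

/-! Generated by tools/dcoset/emit.py: the permutation table. -/

set_option Elab.async false

namespace Cfsg.Agent.JThreeUniq.Cert0

open Cfsg.Agent.DCoset Cfsg.Agent.CosetCert

def actS : Store := (.node 1 (.leaf 0x1d001c001f001e00090008000b000a00050004000700060011001000130012000d000c000f000e00190018001b001a00150014001700160001000000030002000b000a00090008000f000e000d000c00130012001100100017001600150014001b001a00190018001f001e001d001c0003000200010000000700060005000400170016001500140013001200110010001f001e001d001c001b001a0019001800070006000500040003000200010000000f000e000d000c000b000a00090008000f000e000d000c000b000a0009000800070006000500040003000200010000001f001e001d001c001b001a0019001800170016001500140013001200110010) (.node 2 (.leaf 0x110003001500070009001b000d001f001e001c001a0018001600140012001000010013000500170019000b001d000f000e000c000a00080006000400020000001f001e00170016000d000c00150014000b000a001300120019001800110010000f000e00070006001d001c00050004001b001a000300020009000800010000001f001e000b000a0007000600130012001d001c001900180015001400110010000f000e001b001a0017001600030002000d000c000900080005000400010000000e000f001c001d001a001b0008000900160017000400050002000300100011001e001f000c000d000a000b0018001900060007001400150012001300000001) (.leaf 0x11000e0013000c00090016000b00140015001a00170018001d0012001f00100001001e0003001c00190006001b00040005000a00070008000d0002000f00000018001700090016001a0015000b0014000c0013001d0012000e0011001f00100008000700190006000a0005001b0004001c0003000d0002001e0001000f0000)))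

/-- The letters as permutations of 32 points, and the base. -/
noncomputable def tab : Tab where
  k := 4
  nL := 10
  act g p := get16 actS (Nat.add (Nat.mul g 32) p)
  base := 0x4000200010000

theorem tab_act_lt (g p : Nat) : tab.act g p < 65536 := get16_lt _ _

end Cfsg.Agent.JThreeUniq.Cert0
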